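import Cfsg.Agent.Lib.FischerPresented.Out23Tr

/-!
Computing in the presented Fi23 with words and coset numbers.
-/

set_option autoImplicit false
set_option maxRecDepth 100000

namespace Cfsg.Agent.Fi23Local

open Cfsg.Agent.CosetCert
open Cfsg.Agent.CosetData
open Cfsg.Agent.FischerPresented
open Cfsg.Agent.FischerPresented.Out23 (hm tr tr_hom tr_gpt gpt fix_iff hom_mul_apply)

/-- The presented Fi23. -/
abbrev GG := Setup.G Fi23A.setup

/-- The generators. -/
noncomputable abbrev gn (x : ℕ) : GG := Setup.gen Fi23A.setup x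

/-- All letters of a word are below nine. -/
def wok (w : List ℕ) : Bool := w.all fun x => Nat.blt x 10

/-- The element of a word, acting from the left letter first. -/
noncomputable def el (w : List ℕ) : GG := wprod gn w.reverse

/-- The action of a word on coset numbers. -/
noncomputable def act (w : List ℕ) (p : ℕ) : ℕ := tact Fi23A.P w p

/-- The action of an element on coset numbers. -/
noncomputable def apt (g : GG) (p : ℕ) : ℕ :=
  if h : p < 31671 then (hm g ⟨p, h⟩ : ℕ) else p

theorem apt_of_lt (g : GG) {p : ℕ} (h : p < 31671) : apt g p = (hm g ⟨p, h⟩ : ℕ) := dif_pos h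

theorem apt_lt (g : GG) {p : ℕ} (h : p < 31671) : apt g p < 31671 := by
  rw [apt_of_lt g h]; exact Fin.isLt _

theorem apt_one (p : ℕ) : apt 1 p = p := by
  unfold apt
  split
  · rw [show hm (1 : GG) = 1 from map_one hm]; rfl
  · rfl

theorem apt_mul (g h : GG) (p : ℕ) : apt (g * h) p = apt g (apt h p) := by
  by_cases hp : p < 31671
  · rw [apt_of_lt _ hp, apt_of_lt h hp, apt_of_lt g (Fin.isLt _), hom_mul_apply]
  · rw [show ∀ k : GG, apt k p = p from fun k => dif_neg hp,
      show ∀ k : GG, apt k p = p from fun k => dif_neg hp, show apt g p = p from dif_neg hp]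

theorem apt_injective (g : GG) {p q : ℕ} (h : apt g p = apt g q) : p = q := by
  have := congrArg (apt g⁻¹) h
  rwa [← apt_mul, ← apt_mul, inv_mul_cancel, apt_one, apt_one] at this

theorem apt_el {w : List ℕ} (hw : wok w = true) {p : ℕ} (hp : p < 31671) : apt (el w) p = act w p := by
  have hv : (w.reverse.all fun x => Nat.blt x 10) = true := by
    rw [List.all_eq_true]
    exact fun x hx => List.all_eq_true.1 hw x (List.mem_reverse.1 hx)
  rw [apt_of_lt _ hp, el, Out23.hom_word hv, List.reverse_reverse]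
  rfl

theorem el_nil : el [] = 1 := rfl

theorem el_append (u v : List ℕ) : el (u ++ v) = el v * el u := by
  rw [el, List.reverse_append, wprod_append]
  rfl

theorem el_rep (m : ℕ) (w : List ℕ) : el (rep m w) = el w ^ m := by
  induction m with
  | zero => rw [pow_zero]; exact el_nil
  | succ m ih =>
    rw [show rep (m + 1) w = w ++ rep m w from rfl, el_append, ih, pow_succ]

/-- Two words with the same images of the base points. -/
noncomputable def sameW (u v : List ℕ) : Bool :=
  wok u && (wok v && Fi23.pts.all fun p => Nat.blt p 31671 && Nat.beq (act u p) (act v p))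

theorem eq_of_apt {g h : GG} (hgh : ∀ p ∈ Fi23.pts, apt g p = apt h p) : g = h := by
  refine inv_mul_eq_one.1 ((Fi23.facts_of Fi23A.levels_ok Fi23A.levels_size).2.2.2 (h⁻¹ * g) ?_) |>.symm
  intro p hp
  show hm (h⁻¹ * g) p = p
  refine Fin.ext ?_
  rw [← apt_of_lt _ p.2, apt_mul, hgh _ hp, ← apt_mul, inv_mul_cancel, apt_one]

theorem el_eq {u v : List ℕ} (h : sameW u v = true) : el u = el v := by
  simp only [sameW, Bool.and_eq_true, List.all_eq_true, Nat.blt_eq, Nat.beq_eq] at h
  obtain ⟨hu, hv, hp⟩ := h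
  refine eq_of_apt fun p hpm => ?_
  obtain ⟨hlt, he⟩ := hp p hpm
  rw [apt_el hu hlt, apt_el hv hlt, he]

/-! ### Transpositions -/

/-- The transposition of a coset number. -/
noncomputable def trN (p : ℕ) : GG := if h : p < 31671 then tr ⟨p, h⟩ else 1

theorem trN_eq {p : ℕ} (hp : p < 31671) : trN p = tr ⟨p, hp⟩ := dif_pos hp

/-- The action of the transposition of `a` on `b`. -/
noncomputable def tapp (a b : ℕ) : ℕ := apt (trN a) b

theorem tapp_lt (a : ℕ) {b : ℕ} (hb : b < 31671) : tapp a b < 31671 := apt_lt _ hb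

theorem trN_apt (g : GG) {p : ℕ} (hp : p < 31671) : trN (apt g p) = g * trN p * g⁻¹ := by
  rw [trN_eq (apt_lt g hp), trN_eq hp, ← tr_hom]
  exact congrArg tr (Fin.ext (apt_of_lt g hp))

theorem apt_tapp (g : GG) {a b : ℕ} (ha : a < 31671) :
    apt g (tapp a b) = tapp (apt g a) (apt g b) := by
  simp only [tapp, trN_apt g ha, apt_mul]
  rw [← apt_mul g⁻¹ g, inv_mul_cancel, apt_one]

theorem trN_mem {p : ℕ} (hp : p < 31671) : trN p ∈ Fi23.D := trN_eq hp ▸ Out23.tr_mem _

theorem exists_trN {d : GG} (hd : d ∈ Fi23.D) : ∃ p, p < 31671 ∧ trN p = d := by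
  obtain ⟨p, rfl⟩ := Out23.exists_tr hd
  exact ⟨p, p.2, trN_eq p.2⟩

theorem trN_inv {p : ℕ} (hp : p < 31671) : (trN p)⁻¹ = trN p := by
  obtain ⟨g, hg⟩ := Fi23.mem_D.1 (trN_mem hp)
  rw [← hg]
  simp only [mul_inv_rev, inv_inv, mul_assoc, inv_eq_of_mul_eq_one_right Fi23.z_sq]

theorem apt_fix_iff (g : GG) {p : ℕ} (hp : p < 31671) : apt g p = p ↔ Commute g (trN p) := by
  rw [trN_eq hp, ← fix_iff, apt_of_lt g hp, Fin.ext_iff]

theorem trN_injective {p q : ℕ} (hp : p < 31671) (hq : q < 31671) (h : trN p = trN q) : p = q := by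
  rw [trN_eq hp, trN_eq hq] at h
  exact congrArg Fin.val (Out23.tr_injective h)

/-! ### Named cosets -/

/-- A coset named by a generator and a word. -/
noncomputable def pe (e : ℕ × List ℕ) : ℕ := act e.2 (gpt e.1)

/-- The word of its transposition. -/
def tW (e : ℕ × List ℕ) : List ℕ := e.2.reverse ++ ([e.1] ++ e.2)

/-- Valid names. -/
def pok (e : ℕ × List ℕ) : Bool := Nat.blt e.1 10 && wok e.2

/-- A coset with a word of its transposition. -/
def Good (t : ℕ × List ℕ) : Prop := t.1 < 31671 ∧ wok t.2 = true ∧ el t.2 = trN t.1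

theorem wok_append {u v : List ℕ} : wok (u ++ v) = true ↔ wok u = true ∧ wok v = true := by
  simp [wok, List.all_append]

theorem wok_reverse {u : List ℕ} (h : wok u = true) : wok u.reverse = true := by
  rw [wok, List.all_reverse]; exact h

theorem wok_rep {u : List ℕ} (h : wok u = true) : ∀ m, wok (rep m u) = true
  | 0 => rfl
  | m + 1 => wok_append.2 ⟨h, wok_rep h m⟩

theorem gn_inv (x : ℕ) : (gn x)⁻¹ = gn x := inv_eq_of_mul_eq_one_right (Setup.gen_invol Fi23A.setup x)

theorem el_reverse (v : List ℕ) : el v.reverse = (el v)⁻¹ := by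
  rw [el, el, List.reverse_reverse, wprod_reverse (Setup.gen_invol Fi23A.setup), inv_inv]

theorem good_conj {t : ℕ × List ℕ} (h : Good t) {v : List ℕ} (hv : wok v = true) :
    Good (act v t.1, v.reverse ++ (t.2 ++ v)) := by
  obtain ⟨h1, h2, h3⟩ := h
  have e : act v t.1 = apt (el v) t.1 := (apt_el hv h1).symm
  refine ⟨e ▸ apt_lt _ h1, wok_append.2 ⟨wok_reverse hv, wok_append.2 ⟨h2, hv⟩⟩, ?_⟩
  show el _ = trN (act v t.1)
  rw [e, trN_apt _ h1, el_append, el_append, el_reverse, h3]

theorem good_gpt {x : ℕ} (hx : x < 10) : Good (gpt x, [x]) := by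
  obtain ⟨hlt, e⟩ := tr_gpt hx
  refine ⟨hlt, by simp [wok, hx], ?_⟩
  rw [trN_eq hlt, e]
  exact mul_one _

theorem good_pe {e : ℕ × List ℕ} (h : pok e = true) : Good (pe e, tW e) := by
  simp only [pok, Bool.and_eq_true, Nat.blt_eq] at h
  exact good_conj (good_gpt h.1) h.2

theorem Good.apt_eq {a : ℕ × List ℕ} (ha : Good a) {b : ℕ} (hb : b < 31671) :
    act a.2 b = tapp a.1 b := by
  rw [← apt_el ha.2.1 hb, ha.2.2]
  rfl

theorem Good.step {a b : ℕ × List ℕ} (ha : Good a) (hb : Good b) :
    Good (act a.2 b.1, a.2 ++ (b.2 ++ a.2)) := by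
  obtain ⟨h1, h2, h3⟩ := good_conj hb ha.2.1
  refine ⟨h1, wok_append.2 ⟨ha.2.1, wok_append.2 ⟨hb.2.1, ha.2.1⟩⟩, ?_⟩
  rw [← h3, el_append, el_append, el_append a.2.reverse, el_append b.2, el_reverse, ha.2.2, trN_inv ha.1]

theorem good_default : Good (gpt 0, [0]) := good_gpt (by norm_num)

/-- An element is determined by the images of the base points. -/
theorem eq_one_of_base {g : GG} (h : ∀ p ∈ Fi23.pts, apt g p = p) : g = 1 :=
  eq_of_apt fun p hp => by rw [apt_one]; exact h p hp

end Cfsg.Agent.Fi23Local
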