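/-! Certificate data for the elements of order 5 of the presented Fi23. -/

set_option autoImplicit false
set_option maxRecDepth 100000

namespace Cfsg.Agent.Fi23Local.P5

/-- The word of the element. -/
def xw : List Nat :=
  [7, 4, 3, 2, 3, 2, 1, 4]

/-- A normalising word. -/
def yw : List Nat :=
  [4, 7, 3, 2, 7, 3, 4]

/-- The fixed cosets. -/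
def fixs : List (Nat × List Nat) :=
  [(1, [2, 3, 4, 5, 6, 7, 3, 2, 4, 3, 5, 4, 7, 3, 2, 1, 9, 6, 5, 4, 3, 2, 7, 3, 4, 5, 6, 9]),
    (9, []),
    (0, [1, 2, 3, 4, 5, 6, 7, 3, 2, 1, 4, 3, 2, 7, 3, 9]),
    (6, [9]),
    (1, [2, 3, 4, 5, 7, 3, 2, 8, 7, 3, 4, 5, 6, 9]),
    (4, [5, 6, 9]),
    (1, [2, 3, 4, 5, 6, 7, 3, 2, 4, 3, 5, 4, 7, 3, 2, 1, 9, 6, 5, 4, 3, 2, 7, 3, 4, 5, 6]),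
    (0, [1, 2, 3, 4, 5, 6, 7, 3, 2, 1, 4, 3, 2, 5, 4, 3, 9, 6, 5]),
    (1, [2, 3, 4, 5, 6, 7, 3, 2, 4, 3, 5, 4, 7, 3, 2, 1, 9, 6, 5, 4, 3, 2, 7, 3, 4, 5]),
    (1, [2, 3, 4, 5, 6, 7, 3, 2, 4, 3, 5, 4, 8, 7, 3, 2, 1, 9, 6, 5, 4, 3, 2, 7, 3]),
    (1, [2, 3, 4, 5, 6, 7, 3, 2, 4, 3, 5, 4, 7, 3, 2, 1, 9, 6, 5, 4, 3, 2, 7, 3]),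
    (0, [1, 2, 3, 4, 5, 6, 7, 3, 2, 1, 4, 3, 2, 7, 3]),
    (6, []),
    (1, [2, 3, 4, 5, 7, 3, 2, 8, 7, 3, 4, 5, 6]),
    (4, [5, 6]),
    (0, [1, 2, 3, 4, 5, 7, 3, 2, 1, 4, 3, 2, 7, 3]),
    (0, [1, 2, 3, 4, 7, 8]),
    (0, [1, 2, 3, 4, 5, 7, 3, 2, 1, 4, 3, 2, 7, 3, 4, 5]),
    (1, [2, 3, 4, 5, 7, 3, 2, 8, 7, 3, 4, 5]),
    (4, [5]),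
    (1, [2, 3, 4, 7, 3, 2, 8, 7, 3])]

/-- The pinned ones. -/
def chI : List Nat :=
  [0, 6, 11, 15, 18, 20]

/-- Part 0 of the cycles. -/
def reps0 : List ((Nat × List Nat) × Nat × Nat) :=
  [
    ((3, []), 11, 0),
    ((2, []), 2, 0),
    ((7, []), 9, 0),
    ((5, []), 11, 0),
    ((8, []), 8, 0),
    ((0, []), 11, 0),
    ((2, [3]), 2, 0),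
    ((5, [6]), 11, 0),
    ((3, [7, 8]), 11, 0),
    ((5, [6, 9]), 11, 0),
    ((2, [3, 4, 5]), 2, 0),
    ((0, [1, 2, 3]), 10, 0),
    ((2, [3, 4, 5, 6]), 2, 0),
    ((3, [4, 5, 7, 8]), 11, 0),
    ((1, [2, 3, 7, 8]), 2, 0),
    ((2, [3, 4, 5, 7, 3]), 0, 0),
    ((2, [3, 4, 5, 6, 9]), 2, 0),
    ((0, [1, 2, 3, 4, 5]), 1001, 0),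
    ((3, [4, 5, 6, 7, 8]), 1001, 0),
    ((0, [1, 2, 3, 7, 8]), 10, 0),
    ((2, [3, 4, 5, 7, 3, 8]), 2, 0),
    ((2, [3, 4, 5, 6, 7, 3]), 10, 0),
    ((1, [2, 3, 4, 5, 7, 8]), 1001, 0),
    ((0, [1, 2, 3, 4, 5, 6]), 1001, 0),
    ((3, [4, 5, 6, 7, 8, 9]), 1001, 0),
    ((0, [1, 2, 3, 4, 5, 7, 3]), 1001, 0),
    ((1, [2, 3, 4, 5, 7, 3, 8]), 2, 0),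
    ((2, [3, 4, 5, 6, 7, 3, 8]), 2, 0),
    ((2, [3, 4, 5, 6, 7, 3, 9]), 901, 0),
    ((1, [2, 3, 4, 5, 6, 7, 8]), 1001, 0),
    ((0, [1, 2, 3, 4, 5, 7, 8]), 1001, 0),
    ((0, [1, 2, 3, 4, 5, 6, 9]), 1001, 0),
    ((0, [1, 2, 3, 4, 5, 6, 7, 3]), 1001, 0),
    ((1, [2, 3, 4, 5, 6, 7, 3, 8]), 2, 0),
    ((1, [2, 3, 4, 5, 7, 3, 2, 8]), 701, 0),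
    ((0, [1, 2, 3, 4, 5, 7, 3, 8]), 1001, 0),
    ((1, [2, 3, 4, 5, 7, 3, 8, 7]), 701, 0),
    ((2, [3, 4, 5, 6, 7, 3, 8, 9]), 2, 0),
    ((2, [3, 4, 5, 6, 7, 3, 4, 5]), 1001, 0),
    ((1, [2, 3, 4, 5, 6, 7, 8, 9]), 1001, 0),
    ((0, [1, 2, 3, 4, 5, 6, 7, 8]), 1001, 0),
    ((0, [1, 2, 3, 4, 7, 3, 2, 8]), 2, 0),
    ((0, [1, 2, 3, 4, 5, 6, 7, 3, 9]), 1001, 0),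
    ((1, [2, 3, 4, 5, 6, 7, 3, 8, 9]), 901, 0),
    ((1, [2, 3, 4, 5, 6, 7, 3, 2, 8]), 901, 0),
    ((0, [1, 2, 3, 4, 5, 6, 7, 3, 8]), 1001, 0),
    ((1, [2, 3, 4, 5, 6, 7, 3, 8, 7]), 901, 0),
    ((0, [1, 2, 3, 4, 5, 7, 3, 2, 8]), 1001, 0),
    ((0, [1, 2, 3, 4, 5, 7, 3, 2, 1]), 1001, 0),
    ((0, [1, 2, 3, 4, 5, 7, 3, 8, 7]), 1001, 0),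
    ((2, [3, 4, 5, 6, 7, 3, 4, 5, 8]), 1001, 0),
    ((2, [3, 4, 5, 6, 7, 3, 4, 5, 9]), 1001, 0),
    ((0, [1, 2, 3, 4, 5, 6, 7, 8, 9]), 1001, 0),
    ((2, [3, 4, 5, 6, 7, 3, 4, 5, 8, 7]), 1001, 0),
    ((0, [1, 2, 3, 4, 5, 7, 3, 2, 4, 8]), 1001, 0),
    ((0, [1, 2, 3, 4, 5, 6, 7, 3, 4, 5]), 1001, 0),
    ((1, [2, 3, 4, 5, 6, 7, 3, 2, 8, 9]), 901, 0),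
    ((0, [1, 2, 3, 4, 5, 6, 7, 3, 8, 9]), 1001, 0),
    ((0, [1, 2, 3, 4, 5, 6, 7, 3, 2, 8]), 1001, 0),
    ((0, [1, 2, 3, 4, 5, 6, 7, 3, 2, 1]), 1001, 0),
    ((0, [1, 2, 3, 4, 5, 6, 7, 3, 8, 7]), 1001, 0),
    ((1, [2, 3, 4, 5, 6, 7, 3, 8, 7, 9]), 901, 0),
    ((0, [1, 2, 3, 4, 5, 7, 3, 2, 1, 8]), 1001, 0),
    ((2, [3, 4, 5, 6, 7, 3, 4, 5, 8, 9]), 1001, 0),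
    ((2, [3, 4, 5, 6, 7, 3, 4, 5, 9, 6]), 1001, 0),
    ((1, [2, 3, 4, 5, 7, 3, 2, 8, 7, 3]), 1001, 0),
    ((0, [1, 2, 3, 4, 7, 3, 2, 8, 7, 3]), 1001, 0),
    ((1, [2, 3, 4, 5, 6, 7, 3, 2, 4, 3, 5]), 1001, 0),
    ((2, [3, 4, 5, 6, 7, 3, 4, 5, 8, 7, 3]), 1001, 0),
    ((1, [2, 3, 4, 5, 6, 7, 3, 2, 4, 5, 8]), 1001, 0),
    ((0, [1, 2, 3, 4, 5, 6, 7, 3, 2, 4, 8]), 1001, 0),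
    ((2, [3, 4, 5, 6, 7, 3, 4, 5, 8, 7, 9]), 1001, 0),
    ((1, [2, 3, 4, 5, 6, 7, 3, 4, 5, 8, 7]), 1001, 0),
    ((1, [2, 3, 4, 5, 7, 3, 2, 4, 3, 7, 8]), 801, 0),
    ((0, [1, 2, 3, 4, 5, 7, 3, 2, 4, 3, 8]), 1001, 0),
    ((0, [1, 2, 3, 4, 5, 6, 7, 3, 4, 5, 9]), 1001, 0),
    ((0, [1, 2, 3, 4, 5, 6, 7, 3, 4, 5, 8]), 1001, 0),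
    ((0, [1, 2, 3, 4, 5, 6, 7, 3, 2, 8, 9]), 1001, 0),
    ((0, [1, 2, 3, 4, 5, 6, 7, 3, 2, 1, 9]), 1001, 0),
    ((0, [1, 2, 3, 4, 5, 6, 7, 3, 2, 1, 8]), 1001, 0),
    ((0, [1, 2, 3, 4, 5, 6, 7, 3, 8, 7, 9]), 1001, 0),
    ((2, [3, 4, 5, 6, 7, 3, 4, 5, 8, 9, 6]), 1001, 0),
    ((1, [2, 3, 4, 5, 6, 7, 3, 2, 8, 7, 3]), 1001, 0),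
    ((0, [1, 2, 3, 4, 5, 7, 3, 2, 8, 7, 3]), 901, 0),
    ((1, [2, 3, 4, 7, 3, 2, 8, 7, 3, 4, 5]), 1001, 0),
    ((1, [2, 3, 4, 5, 6, 7, 3, 2, 4, 3, 5, 9]), 1001, 0),
    ((2, [3, 4, 5, 6, 7, 3, 4, 5, 8, 7, 3, 9]), 1001, 0),
    ((0, [1, 2, 3, 4, 5, 6, 7, 3, 2, 4, 3, 5]), 1001, 0),
    ((2, [3, 4, 5, 6, 7, 3, 4, 5, 8, 7, 3, 2]), 1001, 0),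
    ((1, [2, 3, 4, 5, 6, 7, 3, 2, 4, 3, 5, 8]), 1001, 0),
    ((1, [2, 3, 4, 5, 6, 7, 3, 2, 4, 3, 7, 8]), 901, 0),
    ((0, [1, 2, 3, 4, 5, 6, 7, 3, 2, 4, 3, 8]), 1001, 0),
    ((1, [2, 3, 4, 5, 6, 7, 3, 2, 4, 5, 8, 9]), 1001, 0),
    ((0, [1, 2, 3, 4, 5, 6, 7, 3, 2, 4, 8, 9]), 1001, 0),
    ((0, [1, 2, 3, 4, 5, 6, 7, 3, 2, 4, 5, 8]), 1001, 0),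
    ((0, [1, 2, 3, 4, 5, 6, 7, 3, 2, 1, 4, 5]), 1001, 0),
    ((2, [3, 4, 5, 6, 7, 3, 4, 5, 8, 7, 9, 6]), 1001, 0),
    ((1, [2, 3, 4, 5, 6, 7, 3, 4, 5, 8, 7, 9]), 1001, 0),
    ((0, [1, 2, 3, 4, 5, 7, 3, 2, 4, 3, 7, 8]), 1001, 0),
    ((1, [2, 3, 4, 5, 7, 3, 2, 4, 3, 8, 7, 3]), 1001, 0),
    ((0, [1, 2, 3, 4, 5, 6, 7, 3, 4, 5, 9, 6]), 1001, 0),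
    ((0, [1, 2, 3, 4, 5, 6, 7, 3, 4, 5, 8, 9]), 1001, 0),
    ((0, [1, 2, 3, 4, 5, 6, 7, 3, 4, 5, 8, 7]), 1001, 0),
    ((0, [1, 2, 3, 4, 5, 7, 3, 2, 4, 8, 7, 3]), 901, 0),
    ((0, [1, 2, 3, 4, 5, 6, 7, 3, 2, 1, 8, 9]), 1001, 0),
    ((2, [3, 4, 5, 7, 3, 4, 8, 7, 3, 2, 1, 0]), 1001, 0),
    ((1, [2, 3, 4, 5, 6, 7, 3, 2, 8, 7, 3, 9]), 1001, 0),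
    ((0, [1, 2, 3, 4, 5, 6, 7, 3, 2, 8, 7, 3]), 901, 0),
    ((0, [1, 2, 3, 4, 5, 7, 3, 2, 1, 8, 7, 3]), 901, 0),
    ((0, [1, 2, 3, 4, 7, 3, 2, 8, 7, 3, 4, 5]), 1001, 0),
    ((1, [2, 3, 4, 7, 3, 2, 8, 7, 3, 4, 5, 6]), 1001, 0),
    ((1, [2, 3, 4, 5, 6, 7, 3, 2, 4, 3, 5, 9, 6]), 1001, 0),
    ((0, [1, 2, 3, 4, 5, 6, 7, 3, 2, 4, 3, 5, 9]), 1001, 0),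
    ((2, [3, 4, 5, 6, 7, 3, 4, 5, 8, 7, 3, 9, 6]), 1001, 0),
    ((2, [3, 4, 5, 6, 7, 3, 4, 5, 8, 7, 3, 2, 9]), 1001, 0),
    ((2, [3, 4, 5, 6, 7, 3, 4, 5, 8, 7, 3, 2, 1]), 1001, 0),
    ((1, [2, 3, 4, 5, 6, 7, 3, 2, 4, 3, 5, 8, 9]), 1001, 0),
    ((0, [1, 2, 3, 4, 5, 6, 7, 3, 2, 4, 3, 5, 8]), 1001, 0),
    ((1, [2, 3, 4, 5, 6, 7, 3, 2, 4, 3, 7, 8, 9]), 901, 0),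
    ((0, [1, 2, 3, 4, 5, 6, 7, 3, 2, 4, 3, 7, 8]), 1001, 0)]

/-- Part 1 of the cycles. -/
def reps1 : List ((Nat × List Nat) × Nat × Nat) :=
  [
    ((0, [1, 2, 3, 4, 5, 6, 7, 3, 2, 4, 3, 8, 9]), 1001, 0),
    ((1, [2, 3, 4, 5, 6, 7, 3, 2, 4, 5, 8, 9, 6]), 1001, 0),
    ((0, [1, 2, 3, 4, 5, 6, 7, 3, 2, 4, 5, 8, 9]), 1001, 0),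
    ((0, [1, 2, 3, 4, 5, 6, 7, 3, 2, 1, 4, 5, 9]), 1001, 0),
    ((0, [1, 2, 3, 4, 5, 6, 7, 3, 2, 1, 4, 5, 8]), 1001, 0),
    ((1, [2, 3, 4, 5, 6, 7, 3, 2, 4, 3, 8, 7, 3]), 1001, 0),
    ((1, [2, 3, 4, 5, 6, 7, 3, 4, 5, 8, 7, 9, 6]), 1001, 0),
    ((2, [3, 4, 5, 6, 7, 3, 4, 8, 7, 3, 2, 1, 0]), 1001, 0),
    ((0, [1, 2, 3, 4, 5, 7, 3, 2, 1, 4, 3, 7, 8]), 1001, 0),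
    ((0, [1, 2, 3, 4, 5, 7, 3, 2, 1, 4, 3, 8, 7]), 1001, 0),
    ((0, [1, 2, 3, 4, 5, 7, 3, 2, 4, 3, 8, 7, 3]), 901, 0),
    ((0, [1, 2, 3, 4, 5, 6, 7, 3, 4, 5, 8, 9, 6]), 1001, 0),
    ((0, [1, 2, 3, 4, 5, 6, 7, 3, 4, 5, 8, 7, 9]), 1001, 0),
    ((1, [2, 3, 4, 5, 6, 7, 3, 2, 4, 5, 8, 7, 3]), 901, 0),
    ((0, [1, 2, 3, 4, 5, 6, 7, 3, 2, 4, 8, 7, 3]), 901, 0),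
    ((0, [1, 2, 3, 4, 5, 7, 3, 2, 4, 8, 7, 3, 2]), 901, 0),
    ((0, [1, 2, 3, 4, 5, 6, 7, 3, 4, 5, 8, 7, 3]), 701, 0),
    ((0, [1, 2, 3, 4, 5, 6, 7, 3, 2, 8, 7, 3, 9]), 901, 0),
    ((0, [1, 2, 3, 4, 5, 6, 7, 3, 2, 1, 8, 7, 3]), 901, 0),
    ((1, [2, 3, 4, 5, 6, 7, 3, 2, 8, 7, 3, 4, 5]), 901, 0),
    ((0, [1, 2, 3, 4, 5, 7, 3, 2, 8, 7, 3, 4, 5]), 901, 0),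
    ((0, [1, 2, 3, 4, 7, 3, 2, 1, 8, 7, 3, 4, 5]), 1001, 0),
    ((0, [1, 2, 3, 4, 7, 3, 2, 8, 7, 3, 4, 5, 6]), 1001, 0),
    ((1, [2, 3, 4, 7, 3, 2, 8, 7, 3, 4, 5, 6, 9]), 1001, 0),
    ((0, [1, 2, 3, 4, 5, 6, 7, 3, 2, 4, 3, 5, 9, 6]), 1001, 0),
    ((2, [3, 4, 5, 6, 7, 3, 4, 5, 8, 7, 3, 2, 9, 6]), 1001, 0),
    ((2, [3, 4, 5, 6, 7, 3, 4, 5, 8, 7, 3, 2, 1, 9]), 1001, 0),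
    ((2, [3, 4, 5, 6, 7, 3, 4, 5, 8, 7, 3, 2, 4, 3]), 1001, 0),
    ((1, [2, 3, 4, 5, 6, 7, 3, 2, 4, 3, 5, 4, 7, 8]), 1001, 0),
    ((0, [1, 2, 3, 4, 5, 6, 7, 3, 2, 4, 3, 5, 7, 8]), 1001, 0),
    ((0, [1, 2, 3, 4, 5, 6, 7, 3, 2, 1, 4, 3, 5, 7]), 1001, 0),
    ((2, [3, 4, 5, 6, 7, 3, 4, 5, 8, 7, 3, 2, 1, 0]), 1001, 0),
    ((1, [2, 3, 4, 5, 6, 7, 3, 2, 4, 3, 5, 8, 9, 6]), 1001, 0),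
    ((0, [1, 2, 3, 4, 5, 6, 7, 3, 2, 4, 3, 5, 8, 9]), 1001, 0),
    ((0, [1, 2, 3, 4, 5, 6, 7, 3, 2, 4, 3, 5, 4, 8]), 1001, 0),
    ((0, [1, 2, 3, 4, 5, 6, 7, 3, 2, 4, 3, 5, 8, 7]), 1001, 0),
    ((0, [1, 2, 3, 4, 5, 6, 7, 3, 2, 4, 3, 7, 8, 9]), 1001, 0),
    ((0, [1, 2, 3, 4, 5, 6, 7, 3, 2, 1, 4, 3, 7, 8]), 1001, 0),
    ((0, [1, 2, 3, 4, 5, 6, 7, 3, 2, 1, 4, 3, 8, 7]), 1001, 0),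
    ((0, [1, 2, 3, 4, 5, 6, 7, 3, 2, 4, 5, 8, 9, 6]), 1001, 0),
    ((0, [1, 2, 3, 4, 5, 6, 7, 3, 2, 1, 4, 5, 9, 6]), 1001, 0),
    ((0, [1, 2, 3, 4, 5, 6, 7, 3, 2, 1, 4, 5, 8, 9]), 1001, 0),
    ((1, [2, 3, 4, 5, 6, 7, 3, 2, 4, 3, 8, 7, 3, 9]), 1001, 0),
    ((1, [2, 3, 4, 5, 6, 7, 3, 2, 4, 3, 5, 8, 7, 3]), 901, 0),
    ((0, [1, 2, 3, 4, 5, 6, 7, 3, 2, 4, 3, 8, 7, 3]), 901, 0),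
    ((2, [3, 4, 5, 6, 7, 3, 4, 8, 7, 3, 2, 1, 0, 9]), 1001, 0),
    ((1, [2, 3, 4, 5, 6, 7, 3, 2, 4, 5, 8, 7, 3, 2]), 901, 0),
    ((0, [1, 2, 3, 4, 5, 7, 3, 2, 1, 4, 3, 7, 8, 7]), 1001, 0),
    ((0, [1, 2, 3, 4, 5, 7, 3, 2, 1, 4, 3, 2, 7, 8]), 1001, 0),
    ((0, [1, 2, 3, 4, 5, 7, 3, 2, 4, 3, 7, 8, 7, 3]), 901, 0),
    ((1, [2, 3, 4, 5, 6, 7, 3, 2, 4, 5, 8, 7, 3, 9]), 901, 0),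
    ((0, [1, 2, 3, 4, 5, 6, 7, 3, 4, 5, 8, 7, 9, 6]), 1001, 0),
    ((0, [1, 2, 3, 4, 5, 6, 7, 3, 2, 4, 8, 7, 3, 9]), 901, 0),
    ((0, [1, 2, 3, 4, 5, 6, 7, 3, 2, 4, 5, 8, 7, 3]), 1001, 0),
    ((0, [1, 2, 3, 4, 5, 6, 7, 3, 2, 4, 8, 7, 3, 2]), 901, 0),
    ((1, [2, 3, 4, 5, 6, 7, 3, 2, 4, 8, 7, 3, 4, 5]), 1001, 0),
    ((0, [1, 2, 3, 4, 5, 6, 7, 3, 4, 5, 8, 7, 3, 9]), 701, 0),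
    ((1, [2, 3, 4, 5, 7, 3, 2, 4, 8, 7, 3, 2, 1, 0]), 1001, 0),
    ((0, [1, 2, 3, 4, 5, 7, 3, 4, 8, 7, 3, 2, 1, 0]), 1001, 0),
    ((0, [1, 2, 3, 4, 5, 6, 7, 3, 2, 1, 8, 7, 3, 9]), 901, 0),
    ((1, [2, 3, 4, 5, 6, 7, 3, 2, 8, 7, 3, 4, 5, 9]), 901, 0),
    ((0, [1, 2, 3, 4, 5, 6, 7, 3, 2, 8, 7, 3, 4, 5]), 1001, 0),
    ((1, [2, 3, 4, 5, 6, 7, 3, 2, 8, 7, 3, 4, 5, 6]), 901, 0),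
    ((1, [2, 3, 4, 5, 7, 3, 2, 4, 3, 8, 7, 3, 4, 5]), 1001, 0),
    ((0, [1, 2, 3, 4, 5, 7, 3, 2, 4, 8, 7, 3, 4, 5]), 1001, 0),
    ((0, [1, 2, 3, 4, 5, 7, 3, 2, 8, 7, 3, 4, 5, 6]), 801, 0),
    ((0, [1, 2, 3, 4, 7, 3, 2, 1, 8, 7, 3, 4, 5, 6]), 1001, 0),
    ((0, [1, 2, 3, 4, 7, 3, 2, 8, 7, 3, 4, 5, 6, 9]), 1001, 0),
    ((2, [3, 4, 5, 6, 7, 3, 4, 5, 8, 7, 3, 2, 4, 3, 9]), 1001, 0),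
    ((1, [2, 3, 4, 5, 6, 7, 3, 2, 4, 3, 5, 4, 7, 8, 9]), 1001, 0),
    ((1, [2, 3, 4, 5, 6, 7, 3, 2, 4, 3, 5, 4, 9, 6, 5]), 901, 0),
    ((0, [1, 2, 3, 4, 5, 6, 7, 3, 2, 4, 3, 5, 7, 8, 9]), 1001, 0),
    ((0, [1, 2, 3, 4, 5, 6, 7, 3, 2, 1, 4, 3, 5, 7, 9]), 1001, 0),
    ((2, [3, 4, 5, 6, 7, 3, 4, 5, 8, 7, 3, 4, 9, 6, 5]), 901, 0),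
    ((2, [3, 4, 5, 6, 7, 3, 4, 5, 8, 7, 3, 2, 1, 9, 6]), 1001, 0),
    ((2, [3, 4, 5, 6, 7, 3, 4, 5, 8, 7, 3, 2, 1, 0, 9]), 1001, 0),
    ((0, [1, 2, 3, 4, 5, 6, 7, 3, 2, 4, 3, 5, 4, 7, 8]), 1001, 0),
    ((2, [3, 4, 5, 6, 7, 3, 4, 5, 8, 7, 3, 2, 1, 0, 4]), 901, 0),
    ((0, [1, 2, 3, 4, 5, 6, 7, 3, 2, 1, 4, 3, 5, 7, 8]), 1001, 0),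
    ((0, [1, 2, 3, 4, 5, 6, 7, 3, 2, 4, 3, 5, 7, 8, 7]), 1001, 0),
    ((0, [1, 2, 3, 4, 5, 6, 7, 3, 2, 4, 3, 5, 8, 9, 6]), 1001, 0),
    ((0, [1, 2, 3, 4, 5, 6, 7, 3, 2, 4, 3, 5, 4, 8, 9]), 1001, 0),
    ((0, [1, 2, 3, 4, 5, 6, 7, 3, 2, 4, 3, 5, 8, 7, 9]), 1001, 0),
    ((0, [1, 2, 3, 4, 5, 6, 7, 3, 2, 1, 4, 3, 5, 8, 7]), 1001, 0),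
    ((0, [1, 2, 3, 4, 5, 6, 7, 3, 2, 1, 4, 3, 2, 5, 8]), 1001, 0),
    ((0, [1, 2, 3, 4, 5, 6, 7, 3, 2, 1, 4, 3, 7, 8, 9]), 1001, 0),
    ((0, [1, 2, 3, 4, 5, 6, 7, 3, 2, 1, 4, 3, 7, 8, 7]), 1001, 0),
    ((0, [1, 2, 3, 4, 5, 6, 7, 3, 2, 1, 4, 3, 8, 7, 9]), 1001, 0),
    ((0, [1, 2, 3, 4, 5, 6, 7, 3, 2, 1, 4, 3, 2, 7, 8]), 1001, 0),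
    ((0, [1, 2, 3, 4, 5, 6, 7, 3, 2, 1, 4, 5, 8, 9, 6]), 1001, 0),
    ((1, [2, 3, 4, 5, 6, 7, 3, 2, 4, 3, 5, 8, 7, 3, 9]), 901, 0),
    ((0, [1, 2, 3, 4, 5, 6, 7, 3, 2, 4, 3, 8, 7, 3, 9]), 901, 0),
    ((0, [1, 2, 3, 4, 5, 6, 7, 3, 2, 4, 3, 5, 8, 7, 3]), 1001, 0),
    ((0, [1, 2, 3, 4, 5, 6, 7, 3, 2, 4, 3, 7, 8, 7, 3]), 901, 0),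
    ((1, [2, 3, 4, 5, 6, 7, 3, 4, 5, 8, 7, 3, 2, 4, 3]), 901, 0),
    ((0, [1, 2, 3, 4, 5, 6, 7, 3, 4, 8, 7, 3, 2, 1, 0]), 1001, 0),
    ((1, [2, 3, 4, 5, 6, 7, 3, 2, 4, 5, 8, 7, 3, 2, 9]), 901, 0),
    ((1, [2, 3, 4, 5, 6, 7, 3, 2, 4, 5, 8, 7, 3, 2, 1]), 901, 0),
    ((1, [2, 3, 4, 5, 6, 7, 3, 2, 4, 8, 7, 3, 2, 1, 0]), 1001, 0),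
    ((0, [1, 2, 3, 4, 5, 7, 3, 2, 1, 4, 3, 7, 8, 7, 3]), 901, 0),
    ((0, [1, 2, 3, 4, 5, 7, 3, 2, 1, 4, 3, 2, 8, 7, 3]), 1001, 0),
    ((1, [2, 3, 4, 5, 6, 7, 3, 2, 4, 5, 8, 7, 3, 9, 6]), 901, 0),
    ((0, [1, 2, 3, 4, 5, 6, 7, 3, 2, 4, 5, 8, 7, 3, 9]), 1001, 0),
    ((0, [1, 2, 3, 4, 5, 6, 7, 3, 2, 1, 4, 5, 8, 7, 3]), 1001, 0),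
    ((0, [1, 2, 3, 4, 5, 6, 7, 3, 2, 4, 8, 7, 3, 2, 9]), 901, 0),
    ((0, [1, 2, 3, 4, 5, 6, 7, 3, 2, 4, 5, 8, 7, 3, 2]), 1001, 0),
    ((1, [2, 3, 4, 5, 6, 7, 3, 2, 4, 3, 8, 7, 3, 4, 5]), 1001, 0),
    ((1, [2, 3, 4, 5, 6, 7, 3, 2, 4, 8, 7, 3, 4, 5, 9]), 1001, 0),
    ((0, [1, 2, 3, 4, 5, 6, 7, 3, 2, 4, 8, 7, 3, 4, 5]), 1001, 0),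
    ((1, [2, 3, 4, 5, 6, 7, 3, 2, 4, 8, 7, 3, 2, 4, 5]), 1001, 0),
    ((0, [1, 2, 3, 4, 5, 6, 7, 3, 4, 5, 8, 7, 3, 9, 6]), 901, 0),
    ((0, [1, 2, 3, 4, 5, 6, 7, 3, 4, 5, 8, 7, 3, 2, 1]), 701, 0),
    ((0, [1, 2, 3, 4, 5, 7, 3, 2, 4, 8, 7, 3, 2, 1, 0]), 1001, 0),
    ((0, [1, 2, 3, 4, 5, 7, 3, 2, 4, 3, 8, 7, 3, 2, 1]), 901, 0),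
    ((1, [2, 3, 4, 5, 6, 7, 3, 2, 4, 8, 7, 3, 4, 5, 6]), 1001, 0),
    ((0, [1, 2, 3, 4, 5, 6, 7, 3, 2, 8, 7, 3, 4, 5, 9]), 1001, 0),
    ((0, [1, 2, 3, 4, 5, 6, 7, 3, 2, 1, 8, 7, 3, 4, 5]), 1001, 0),
    ((1, [2, 3, 4, 5, 6, 7, 3, 2, 8, 7, 3, 4, 5, 9, 6]), 701, 0),
    ((0, [1, 2, 3, 4, 5, 6, 7, 3, 2, 8, 7, 3, 4, 5, 6]), 1001, 0),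
    ((0, [1, 2, 3, 4, 5, 7, 3, 2, 4, 3, 8, 7, 3, 4, 5]), 1001, 0)]

/-- Part 2 of the cycles. -/
def reps2 : List ((Nat × List Nat) × Nat × Nat) :=
  [
    ((1, [2, 3, 4, 5, 7, 3, 2, 4, 3, 8, 7, 3, 4, 5, 6]), 1001, 0),
    ((0, [1, 2, 3, 4, 5, 7, 3, 2, 4, 8, 7, 3, 4, 5, 6]), 1001, 0),
    ((0, [1, 2, 3, 4, 5, 7, 3, 2, 4, 8, 7, 3, 2, 4, 5]), 1001, 0),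
    ((1, [2, 3, 4, 5, 6, 7, 3, 2, 8, 7, 3, 4, 5, 6, 9]), 901, 0),
    ((0, [1, 2, 3, 4, 5, 7, 3, 2, 8, 7, 3, 4, 5, 6, 9]), 801, 0),
    ((0, [1, 2, 3, 4, 7, 3, 2, 1, 8, 7, 3, 4, 5, 6, 9]), 1001, 0),
    ((2, [3, 4, 5, 6, 7, 3, 4, 5, 8, 7, 3, 2, 4, 3, 9, 6]), 1001, 0),
    ((1, [2, 3, 4, 5, 6, 7, 3, 2, 4, 3, 5, 4, 7, 8, 9, 6]), 1001, 0),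
    ((2, [3, 4, 5, 6, 7, 3, 4, 5, 8, 7, 3, 2, 4, 9, 6, 5]), 901, 0),
    ((0, [1, 2, 3, 4, 5, 6, 7, 3, 2, 4, 3, 5, 4, 7, 8, 9]), 1001, 0),
    ((2, [3, 4, 5, 6, 7, 3, 4, 5, 8, 7, 3, 2, 1, 0, 4, 9]), 901, 0),
    ((0, [1, 2, 3, 4, 5, 6, 7, 3, 2, 4, 3, 5, 4, 9, 6, 5]), 1001, 0),
    ((0, [1, 2, 3, 4, 5, 6, 7, 3, 2, 4, 3, 5, 7, 8, 9, 6]), 1001, 0),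
    ((0, [1, 2, 3, 4, 5, 6, 7, 3, 2, 1, 4, 3, 5, 7, 9, 6]), 1001, 0),
    ((0, [1, 2, 3, 4, 5, 6, 7, 3, 2, 1, 4, 3, 5, 7, 8, 9]), 1001, 0),
    ((0, [1, 2, 3, 4, 5, 6, 7, 3, 2, 4, 3, 5, 7, 8, 7, 9]), 1001, 0),
    ((2, [3, 4, 5, 6, 7, 3, 4, 5, 8, 7, 3, 2, 1, 0, 9, 6]), 1001, 0),
    ((0, [1, 2, 3, 4, 5, 6, 7, 3, 2, 1, 4, 3, 5, 4, 7, 8]), 1001, 0),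
    ((0, [1, 2, 3, 4, 5, 6, 7, 3, 2, 1, 4, 3, 5, 7, 8, 7]), 1001, 0),
    ((1, [2, 3, 4, 5, 6, 7, 3, 2, 4, 3, 5, 4, 8, 9, 6, 5]), 901, 0),
    ((0, [1, 2, 3, 4, 5, 6, 7, 3, 2, 4, 3, 5, 4, 8, 9, 6]), 1001, 0),
    ((0, [1, 2, 3, 4, 5, 6, 7, 3, 2, 4, 3, 5, 8, 7, 9, 6]), 1001, 0),
    ((0, [1, 2, 3, 4, 5, 6, 7, 3, 2, 1, 4, 3, 5, 8, 7, 9]), 1001, 0),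
    ((0, [1, 2, 3, 4, 5, 6, 7, 3, 2, 1, 4, 3, 2, 5, 8, 9]), 1001, 0),
    ((0, [1, 2, 3, 4, 5, 6, 7, 3, 2, 1, 4, 3, 5, 4, 8, 7]), 1001, 0),
    ((0, [1, 2, 3, 4, 5, 6, 7, 3, 2, 4, 3, 5, 4, 8, 7, 3]), 1001, 0),
    ((0, [1, 2, 3, 4, 5, 6, 7, 3, 2, 1, 4, 3, 7, 8, 7, 9]), 1001, 0),
    ((0, [1, 2, 3, 4, 5, 6, 7, 3, 2, 1, 4, 3, 2, 7, 8, 9]), 1001, 0),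
    ((1, [2, 3, 4, 5, 6, 7, 3, 2, 4, 3, 5, 8, 7, 3, 9, 6]), 901, 0),
    ((0, [1, 2, 3, 4, 5, 6, 7, 3, 2, 4, 3, 5, 8, 7, 3, 9]), 1001, 0),
    ((0, [1, 2, 3, 4, 5, 6, 7, 3, 2, 4, 3, 7, 8, 7, 3, 9]), 901, 0),
    ((0, [1, 2, 3, 4, 5, 6, 7, 3, 2, 4, 3, 5, 7, 8, 7, 3]), 1001, 0),
    ((0, [1, 2, 3, 4, 5, 6, 7, 3, 2, 1, 4, 3, 5, 8, 7, 3]), 1001, 0),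
    ((0, [1, 2, 3, 4, 5, 6, 7, 3, 2, 1, 4, 3, 7, 8, 7, 3]), 901, 0),
    ((0, [1, 2, 3, 4, 5, 6, 7, 3, 2, 1, 4, 3, 2, 8, 7, 3]), 1001, 0),
    ((1, [2, 3, 4, 5, 6, 7, 3, 4, 5, 8, 7, 3, 2, 4, 3, 9]), 901, 0),
    ((0, [1, 2, 3, 4, 5, 6, 7, 3, 4, 8, 7, 3, 2, 1, 0, 9]), 1001, 0),
    ((1, [2, 3, 4, 5, 6, 7, 3, 2, 4, 5, 8, 7, 3, 2, 9, 6]), 901, 0),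
    ((1, [2, 3, 4, 5, 6, 7, 3, 2, 4, 5, 8, 7, 3, 2, 1, 9]), 901, 0),
    ((1, [2, 3, 4, 5, 6, 7, 3, 2, 4, 8, 7, 3, 2, 1, 0, 9]), 1001, 0),
    ((1, [2, 3, 4, 5, 6, 7, 3, 2, 4, 5, 8, 7, 3, 2, 1, 0]), 1001, 0),
    ((0, [1, 2, 3, 4, 5, 6, 7, 3, 2, 4, 8, 7, 3, 2, 1, 0]), 1001, 0),
    ((1, [2, 3, 4, 5, 6, 7, 3, 2, 4, 5, 8, 7, 3, 2, 4, 5]), 901, 0),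
    ((0, [1, 2, 3, 4, 5, 7, 3, 2, 1, 4, 3, 2, 7, 8, 7, 3]), 1001, 0),
    ((0, [1, 2, 3, 4, 5, 6, 7, 3, 2, 4, 5, 8, 7, 3, 9, 6]), 1001, 0),
    ((0, [1, 2, 3, 4, 5, 6, 7, 3, 2, 1, 4, 5, 8, 7, 3, 9]), 1001, 0),
    ((0, [1, 2, 3, 4, 5, 6, 7, 3, 2, 4, 5, 8, 7, 3, 4, 5]), 1001, 0),
    ((0, [1, 2, 3, 4, 5, 6, 7, 3, 2, 4, 5, 8, 7, 3, 2, 9]), 1001, 0),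
    ((1, [2, 3, 4, 5, 6, 7, 3, 2, 4, 3, 8, 7, 3, 4, 5, 9]), 1001, 0),
    ((0, [1, 2, 3, 4, 5, 6, 7, 3, 2, 4, 3, 8, 7, 3, 4, 5]), 1001, 0),
    ((0, [1, 2, 3, 4, 5, 6, 7, 3, 2, 4, 8, 7, 3, 4, 5, 9]), 1001, 0),
    ((0, [1, 2, 3, 4, 5, 6, 7, 3, 2, 4, 8, 7, 3, 2, 4, 5]), 1001, 0),
    ((0, [1, 2, 3, 4, 5, 6, 7, 3, 2, 1, 4, 8, 7, 3, 4, 5]), 1001, 0),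
    ((1, [2, 3, 4, 5, 6, 7, 3, 2, 4, 8, 7, 3, 2, 4, 5, 9]), 1001, 0),
    ((0, [1, 2, 3, 4, 5, 6, 7, 3, 4, 5, 8, 7, 3, 2, 1, 9]), 701, 0),
    ((0, [1, 2, 3, 4, 5, 6, 7, 3, 4, 5, 8, 7, 3, 2, 4, 3]), 1001, 0),
    ((0, [1, 2, 3, 4, 5, 6, 7, 3, 2, 4, 5, 8, 7, 3, 2, 1]), 1001, 0),
    ((0, [1, 2, 3, 4, 5, 6, 7, 3, 2, 4, 3, 8, 7, 3, 2, 1]), 901, 0),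
    ((0, [1, 2, 3, 4, 5, 7, 3, 2, 4, 3, 8, 7, 3, 2, 1, 0]), 1001, 0),
    ((0, [1, 2, 3, 4, 5, 7, 3, 2, 1, 4, 8, 7, 3, 2, 1, 0]), 1001, 0),
    ((1, [2, 3, 4, 5, 6, 7, 3, 2, 4, 8, 7, 3, 2, 1, 4, 5]), 1001, 0),
    ((1, [2, 3, 4, 5, 6, 7, 3, 2, 4, 8, 7, 3, 4, 5, 9, 6]), 1001, 0),
    ((1, [2, 3, 4, 5, 6, 7, 3, 2, 4, 3, 8, 7, 3, 4, 5, 6]), 1001, 0),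
    ((0, [1, 2, 3, 4, 5, 6, 7, 3, 2, 4, 8, 7, 3, 4, 5, 6]), 1001, 0),
    ((1, [2, 3, 4, 5, 6, 7, 3, 2, 4, 8, 7, 3, 2, 4, 5, 6]), 1001, 0),
    ((0, [1, 2, 3, 4, 5, 6, 7, 3, 2, 1, 8, 7, 3, 4, 5, 9]), 1001, 0),
    ((0, [1, 2, 3, 4, 5, 6, 7, 3, 2, 8, 7, 3, 4, 5, 9, 6]), 1001, 0),
    ((0, [1, 2, 3, 4, 5, 6, 7, 3, 2, 1, 8, 7, 3, 4, 5, 6]), 1001, 0),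
    ((0, [1, 2, 3, 4, 5, 7, 3, 2, 4, 3, 7, 8, 7, 3, 2, 1]), 901, 0),
    ((0, [1, 2, 3, 4, 5, 7, 3, 2, 4, 3, 8, 7, 3, 4, 5, 6]), 1001, 0),
    ((0, [1, 2, 3, 4, 5, 7, 3, 2, 4, 8, 7, 3, 2, 4, 5, 6]), 1001, 0),
    ((0, [1, 2, 3, 4, 7, 3, 2, 1, 8, 7, 3, 2, 4, 5, 6, 9]), 1001, 0),
    ((1, [2, 3, 4, 5, 6, 7, 3, 2, 4, 8, 7, 3, 4, 5, 6, 9]), 1001, 0),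
    ((1, [2, 3, 4, 5, 7, 3, 2, 4, 3, 8, 7, 3, 4, 5, 6, 9]), 1001, 0),
    ((1, [2, 3, 4, 5, 6, 7, 3, 2, 8, 7, 3, 4, 5, 6, 9, 6]), 3, 0),
    ((0, [1, 2, 3, 4, 5, 6, 7, 3, 2, 8, 7, 3, 4, 5, 6, 9]), 1001, 0),
    ((1, [2, 3, 4, 5, 6, 7, 3, 2, 4, 3, 5, 4, 7, 3, 9, 6, 5]), 1001, 0),
    ((2, [3, 4, 5, 6, 7, 3, 4, 5, 8, 7, 3, 2, 4, 3, 9, 6, 5]), 1001, 0),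
    ((0, [1, 2, 3, 4, 5, 6, 7, 3, 2, 4, 3, 5, 4, 7, 8, 9, 6]), 1001, 0),
    ((2, [3, 4, 5, 6, 7, 3, 4, 5, 8, 7, 3, 2, 1, 4, 9, 6, 5]), 901, 0),
    ((2, [3, 4, 5, 6, 7, 3, 4, 5, 8, 7, 3, 2, 1, 0, 4, 9, 6]), 701, 0),
    ((0, [1, 2, 3, 4, 5, 6, 7, 3, 2, 1, 4, 3, 5, 4, 7, 8, 9]), 1001, 0),
    ((0, [1, 2, 3, 4, 5, 6, 7, 3, 2, 1, 4, 3, 5, 7, 8, 9, 6]), 1001, 0),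
    ((0, [1, 2, 3, 4, 5, 6, 7, 3, 2, 4, 3, 5, 7, 8, 7, 9, 6]), 1001, 0),
    ((0, [1, 2, 3, 4, 5, 6, 7, 3, 2, 1, 4, 3, 5, 7, 8, 7, 9]), 1001, 0),
    ((0, [1, 2, 3, 4, 5, 6, 7, 3, 2, 4, 3, 5, 4, 7, 3, 2, 8]), 1001, 0),
    ((1, [2, 3, 4, 5, 6, 7, 3, 2, 4, 3, 5, 4, 7, 3, 8, 7, 3]), 901, 0),
    ((0, [1, 2, 3, 4, 5, 6, 7, 3, 2, 1, 4, 3, 5, 4, 7, 8, 7]), 1001, 0),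
    ((0, [1, 2, 3, 4, 5, 6, 7, 3, 2, 4, 3, 5, 4, 7, 8, 7, 3]), 1001, 0),
    ((0, [1, 2, 3, 4, 5, 6, 7, 3, 2, 1, 4, 3, 2, 5, 4, 7, 8]), 1001, 0),
    ((1, [2, 3, 4, 5, 6, 7, 3, 4, 5, 8, 7, 3, 2, 1, 0, 4, 3]), 1001, 0),
    ((0, [1, 2, 3, 4, 5, 6, 7, 3, 2, 4, 3, 5, 4, 8, 9, 6, 5]), 1001, 0),
    ((0, [1, 2, 3, 4, 5, 6, 7, 3, 2, 1, 4, 3, 5, 8, 7, 9, 6]), 1001, 0),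
    ((0, [1, 2, 3, 4, 5, 6, 7, 3, 2, 1, 4, 3, 5, 4, 8, 7, 9]), 1001, 0),
    ((0, [1, 2, 3, 4, 5, 6, 7, 3, 2, 4, 3, 5, 4, 8, 7, 3, 9]), 1001, 0),
    ((0, [1, 2, 3, 4, 5, 6, 7, 3, 2, 1, 4, 3, 2, 5, 8, 9, 6]), 1001, 0),
    ((0, [1, 2, 3, 4, 5, 6, 7, 3, 2, 4, 3, 5, 7, 8, 7, 3, 9]), 1001, 0),
    ((0, [1, 2, 3, 4, 5, 6, 7, 3, 2, 4, 3, 5, 8, 7, 3, 9, 6]), 1001, 0),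
    ((0, [1, 2, 3, 4, 5, 6, 7, 3, 2, 1, 4, 3, 5, 8, 7, 3, 9]), 1001, 0),
    ((0, [1, 2, 3, 4, 5, 6, 7, 3, 2, 1, 4, 3, 7, 8, 7, 3, 9]), 901, 0),
    ((0, [1, 2, 3, 4, 5, 6, 7, 3, 2, 1, 4, 3, 2, 8, 7, 3, 9]), 1001, 0),
    ((0, [1, 2, 3, 4, 5, 6, 7, 3, 2, 1, 4, 3, 2, 5, 8, 7, 3]), 901, 0),
    ((0, [1, 2, 3, 4, 5, 6, 7, 3, 2, 1, 4, 3, 2, 7, 8, 7, 3]), 1001, 0),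
    ((1, [2, 3, 4, 5, 6, 7, 3, 4, 5, 8, 7, 3, 2, 4, 3, 9, 6]), 901, 0),
    ((0, [1, 2, 3, 4, 5, 6, 7, 3, 4, 5, 8, 7, 3, 2, 1, 0, 4]), 901, 0),
    ((1, [2, 3, 4, 5, 6, 7, 3, 2, 4, 5, 8, 7, 3, 2, 1, 9, 6]), 901, 0),
    ((1, [2, 3, 4, 5, 6, 7, 3, 2, 4, 5, 8, 7, 3, 2, 1, 0, 9]), 1001, 0),
    ((0, [1, 2, 3, 4, 5, 6, 7, 3, 2, 4, 8, 7, 3, 2, 1, 0, 9]), 1001, 0),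
    ((1, [2, 3, 4, 5, 6, 7, 3, 2, 4, 5, 8, 7, 3, 2, 4, 3, 5]), 1001, 0),
    ((1, [2, 3, 4, 5, 6, 7, 3, 2, 4, 5, 8, 7, 3, 2, 4, 5, 9]), 901, 0),
    ((0, [1, 2, 3, 4, 5, 6, 7, 3, 2, 4, 3, 5, 8, 7, 3, 4, 5]), 1001, 0),
    ((0, [1, 2, 3, 4, 5, 6, 7, 3, 2, 1, 4, 5, 8, 7, 3, 9, 6]), 1001, 0),
    ((1, [2, 3, 4, 5, 6, 7, 3, 2, 4, 5, 8, 7, 3, 4, 9, 6, 5]), 1001, 0),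
    ((0, [1, 2, 3, 4, 5, 6, 7, 3, 2, 4, 5, 8, 7, 3, 4, 5, 9]), 1001, 0),
    ((0, [1, 2, 3, 4, 5, 6, 7, 3, 2, 4, 3, 5, 7, 8, 7, 3, 2]), 1001, 0),
    ((0, [1, 2, 3, 4, 5, 6, 7, 3, 2, 4, 5, 8, 7, 3, 2, 9, 6]), 1001, 0),
    ((0, [1, 2, 3, 4, 5, 6, 7, 3, 2, 4, 5, 8, 7, 3, 2, 4, 5]), 1001, 0),
    ((0, [1, 2, 3, 4, 5, 6, 7, 3, 2, 4, 3, 8, 7, 3, 4, 5, 9]), 1001, 0),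
    ((0, [1, 2, 3, 4, 5, 6, 7, 3, 2, 4, 3, 7, 8, 7, 3, 4, 5]), 1001, 0),
    ((0, [1, 2, 3, 4, 5, 6, 7, 3, 2, 1, 4, 3, 8, 7, 3, 4, 5]), 1001, 0)]

/-- Part 3 of the cycles. -/
def reps3 : List ((Nat × List Nat) × Nat × Nat) :=
  [
    ((0, [1, 2, 3, 4, 5, 6, 7, 3, 2, 4, 8, 7, 3, 2, 4, 5, 9]), 1001, 0),
    ((0, [1, 2, 3, 4, 5, 6, 7, 3, 2, 1, 4, 8, 7, 3, 4, 5, 9]), 1001, 0),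
    ((0, [1, 2, 3, 4, 5, 6, 7, 3, 2, 1, 4, 8, 7, 3, 2, 4, 5]), 1001, 0),
    ((0, [1, 2, 3, 4, 5, 6, 7, 3, 4, 5, 8, 7, 3, 4, 9, 6, 5]), 1001, 0),
    ((0, [1, 2, 3, 4, 5, 6, 7, 3, 4, 5, 8, 7, 3, 2, 1, 9, 6]), 901, 0),
    ((0, [1, 2, 3, 4, 5, 6, 7, 3, 4, 5, 8, 7, 3, 2, 4, 3, 9]), 1001, 0),
    ((0, [1, 2, 3, 4, 5, 6, 7, 3, 2, 4, 5, 8, 7, 3, 2, 1, 9]), 1001, 0),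
    ((1, [2, 3, 4, 5, 6, 7, 3, 2, 4, 3, 5, 8, 7, 3, 2, 1, 0]), 1001, 0),
    ((0, [1, 2, 3, 4, 5, 6, 7, 3, 2, 4, 3, 8, 7, 3, 2, 1, 0]), 1001, 0),
    ((0, [1, 2, 3, 4, 5, 6, 7, 3, 2, 4, 3, 8, 7, 3, 2, 1, 9]), 901, 0),
    ((0, [1, 2, 3, 4, 5, 6, 7, 3, 2, 4, 3, 5, 8, 7, 3, 2, 1]), 1001, 0),
    ((0, [1, 2, 3, 4, 5, 6, 7, 3, 2, 1, 4, 5, 8, 7, 3, 2, 1]), 1001, 0),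
    ((0, [1, 2, 3, 4, 5, 6, 7, 3, 2, 1, 4, 8, 7, 3, 2, 1, 0]), 1001, 0),
    ((1, [2, 3, 4, 5, 6, 7, 3, 2, 4, 8, 7, 3, 2, 1, 4, 5, 9]), 1001, 0),
    ((1, [2, 3, 4, 5, 6, 7, 3, 2, 4, 8, 7, 3, 2, 1, 0, 4, 5]), 1001, 0),
    ((0, [1, 2, 3, 4, 5, 6, 7, 3, 2, 4, 8, 7, 3, 2, 1, 4, 5]), 1001, 0),
    ((1, [2, 3, 4, 5, 6, 7, 3, 2, 4, 3, 8, 7, 3, 4, 5, 9, 6]), 1001, 0),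
    ((0, [1, 2, 3, 4, 5, 6, 7, 3, 2, 4, 8, 7, 3, 4, 5, 9, 6]), 1001, 0),
    ((1, [2, 3, 4, 5, 6, 7, 3, 2, 4, 8, 7, 3, 2, 4, 5, 9, 6]), 1001, 0),
    ((1, [2, 3, 4, 5, 6, 7, 3, 2, 4, 5, 8, 7, 3, 2, 4, 5, 6]), 901, 0),
    ((1, [2, 3, 4, 5, 6, 7, 3, 2, 4, 8, 7, 3, 2, 1, 4, 5, 6]), 1001, 0),
    ((0, [1, 2, 3, 4, 5, 6, 7, 3, 2, 4, 3, 8, 7, 3, 4, 5, 6]), 1001, 0),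
    ((0, [1, 2, 3, 4, 5, 6, 7, 3, 2, 4, 5, 8, 7, 3, 4, 5, 6]), 1001, 0),
    ((0, [1, 2, 3, 4, 5, 6, 7, 3, 2, 1, 4, 8, 7, 3, 4, 5, 6]), 1001, 0),
    ((0, [1, 2, 3, 4, 5, 6, 7, 3, 2, 4, 8, 7, 3, 2, 4, 5, 6]), 1001, 0),
    ((0, [1, 2, 3, 4, 5, 6, 7, 3, 2, 1, 8, 7, 3, 4, 5, 9, 6]), 1001, 0),
    ((0, [1, 2, 3, 4, 5, 6, 7, 3, 2, 4, 3, 7, 8, 7, 3, 2, 1]), 901, 0),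
    ((0, [1, 2, 3, 4, 5, 7, 3, 2, 1, 4, 3, 7, 8, 7, 3, 2, 1]), 901, 0),
    ((0, [1, 2, 3, 4, 5, 7, 3, 2, 1, 4, 3, 2, 8, 7, 3, 2, 1]), 1001, 0),
    ((0, [1, 2, 3, 4, 5, 7, 3, 2, 4, 3, 8, 7, 3, 2, 4, 3, 5]), 1001, 0),
    ((0, [1, 2, 3, 4, 5, 7, 3, 2, 1, 4, 3, 2, 8, 7, 3, 4, 5]), 901, 0),
    ((1, [2, 3, 4, 5, 6, 7, 3, 2, 4, 3, 8, 7, 3, 4, 5, 6, 9]), 1001, 0),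
    ((1, [2, 3, 4, 5, 6, 7, 3, 2, 4, 8, 7, 3, 4, 5, 6, 9, 6]), 1001, 0),
    ((0, [1, 2, 3, 4, 5, 6, 7, 3, 2, 4, 8, 7, 3, 4, 5, 6, 9]), 1001, 0),
    ((1, [2, 3, 4, 5, 6, 7, 3, 2, 4, 8, 7, 3, 2, 4, 5, 6, 9]), 1001, 0),
    ((0, [1, 2, 3, 4, 5, 7, 3, 2, 4, 3, 8, 7, 3, 4, 5, 6, 9]), 1001, 0),
    ((0, [1, 2, 3, 4, 5, 6, 7, 3, 2, 8, 7, 3, 4, 5, 6, 9, 6]), 1001, 0),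
    ((0, [1, 2, 3, 4, 5, 6, 7, 3, 2, 1, 8, 7, 3, 4, 5, 6, 9]), 1001, 0),
    ((0, [1, 2, 3, 4, 5, 7, 3, 2, 4, 8, 7, 3, 2, 4, 5, 6, 9]), 1001, 0),
    ((0, [1, 2, 3, 4, 5, 6, 7, 3, 2, 1, 8, 7, 3, 2, 4, 3, 5]), 1001, 0),
    ((0, [1, 2, 3, 4, 5, 6, 7, 3, 2, 4, 3, 5, 4, 7, 3, 9, 6, 5]), 1001, 0),
    ((2, [3, 4, 5, 6, 7, 3, 4, 5, 8, 7, 3, 2, 4, 3, 9, 6, 5, 4]), 901, 0),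
    ((0, [1, 2, 3, 4, 5, 6, 7, 3, 2, 4, 3, 5, 4, 7, 8, 9, 6, 5]), 1001, 0),
    ((0, [1, 2, 3, 4, 5, 6, 7, 3, 2, 1, 4, 3, 5, 4, 7, 9, 6, 5]), 1001, 0),
    ((0, [1, 2, 3, 4, 5, 6, 7, 3, 2, 1, 4, 3, 5, 4, 7, 8, 9, 6]), 1001, 0),
    ((2, [3, 4, 5, 6, 7, 3, 4, 5, 8, 7, 3, 2, 1, 0, 4, 9, 6, 5]), 1001, 0),
    ((0, [1, 2, 3, 4, 5, 6, 7, 3, 2, 4, 3, 5, 4, 7, 3, 2, 8, 9]), 1001, 0),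
    ((1, [2, 3, 4, 5, 6, 7, 3, 2, 4, 3, 5, 4, 7, 3, 8, 7, 3, 9]), 901, 0),
    ((0, [1, 2, 3, 4, 5, 6, 7, 3, 2, 1, 4, 3, 5, 7, 8, 7, 9, 6]), 1001, 0),
    ((0, [1, 2, 3, 4, 5, 6, 7, 3, 2, 4, 3, 5, 4, 7, 8, 7, 3, 9]), 1001, 0),
    ((0, [1, 2, 3, 4, 5, 6, 7, 3, 2, 1, 4, 3, 5, 4, 7, 8, 7, 9]), 1001, 0),
    ((0, [1, 2, 3, 4, 5, 6, 7, 3, 2, 1, 4, 3, 2, 5, 4, 7, 8, 9]), 1001, 0),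
    ((1, [2, 3, 4, 5, 6, 7, 3, 4, 5, 8, 7, 3, 2, 1, 0, 4, 3, 9]), 1001, 0),
    ((0, [1, 2, 3, 4, 5, 6, 7, 3, 2, 4, 3, 5, 4, 7, 3, 8, 7, 3]), 1001, 0),
    ((0, [1, 2, 3, 4, 5, 6, 7, 3, 2, 4, 3, 5, 4, 7, 8, 7, 3, 2]), 1001, 0),
    ((0, [1, 2, 3, 4, 5, 6, 7, 3, 2, 4, 3, 5, 4, 8, 7, 9, 6, 5]), 1001, 0),
    ((0, [1, 2, 3, 4, 5, 6, 7, 3, 2, 1, 4, 3, 5, 4, 8, 7, 9, 6]), 1001, 0),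
    ((1, [2, 3, 4, 5, 6, 7, 3, 2, 4, 3, 5, 4, 8, 7, 3, 9, 6, 5]), 1001, 0),
    ((0, [1, 2, 3, 4, 5, 6, 7, 3, 2, 4, 3, 5, 4, 8, 7, 3, 9, 6]), 1001, 0),
    ((0, [1, 2, 3, 4, 5, 6, 7, 3, 2, 4, 3, 5, 7, 8, 7, 3, 9, 6]), 1001, 0),
    ((0, [1, 2, 3, 4, 5, 6, 7, 3, 2, 1, 4, 3, 5, 8, 7, 3, 9, 6]), 1001, 0),
    ((0, [1, 2, 3, 4, 5, 6, 7, 3, 2, 1, 4, 3, 2, 5, 4, 8, 7, 3]), 901, 0),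
    ((0, [1, 2, 3, 4, 5, 6, 7, 3, 2, 1, 4, 3, 2, 5, 8, 7, 3, 9]), 901, 0),
    ((0, [1, 2, 3, 4, 5, 6, 7, 3, 2, 1, 4, 3, 2, 7, 8, 7, 3, 9]), 1001, 0),
    ((0, [1, 2, 3, 4, 5, 6, 7, 3, 2, 1, 4, 3, 2, 5, 7, 8, 7, 3]), 901, 0),
    ((1, [2, 3, 4, 5, 6, 7, 3, 4, 5, 8, 7, 3, 2, 4, 3, 9, 6, 5]), 1001, 0),
    ((0, [1, 2, 3, 4, 5, 6, 7, 3, 4, 5, 8, 7, 3, 2, 1, 0, 4, 9]), 901, 0),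
    ((0, [1, 2, 3, 4, 5, 6, 7, 3, 2, 4, 3, 5, 4, 8, 7, 3, 2, 1]), 1001, 0),
    ((1, [2, 3, 4, 5, 6, 7, 3, 2, 4, 5, 8, 7, 3, 2, 1, 0, 9, 6]), 1001, 0),
    ((1, [2, 3, 4, 5, 6, 7, 3, 2, 4, 5, 8, 7, 3, 2, 4, 9, 6, 5]), 1001, 0),
    ((1, [2, 3, 4, 5, 6, 7, 3, 2, 4, 3, 5, 8, 7, 3, 4, 9, 6, 5]), 1001, 0),
    ((1, [2, 3, 4, 5, 6, 7, 3, 2, 4, 5, 8, 7, 3, 2, 4, 3, 5, 9]), 1001, 0),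
    ((1, [2, 3, 4, 5, 6, 7, 3, 2, 4, 5, 8, 7, 3, 2, 1, 0, 4, 5]), 1001, 0),
    ((0, [1, 2, 3, 4, 5, 6, 7, 3, 2, 4, 3, 5, 7, 8, 7, 3, 4, 5]), 1001, 0),
    ((0, [1, 2, 3, 4, 5, 6, 7, 3, 2, 4, 3, 5, 8, 7, 3, 4, 5, 9]), 1001, 0),
    ((0, [1, 2, 3, 4, 5, 6, 7, 3, 2, 4, 5, 8, 7, 3, 4, 9, 6, 5]), 1001, 0),
    ((0, [1, 2, 3, 4, 5, 6, 7, 3, 2, 4, 3, 5, 7, 8, 7, 3, 2, 9]), 1001, 0),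
    ((0, [1, 2, 3, 4, 5, 6, 7, 3, 2, 4, 5, 8, 7, 3, 2, 4, 5, 9]), 1001, 0),
    ((0, [1, 2, 3, 4, 5, 6, 7, 3, 2, 4, 3, 7, 8, 7, 3, 4, 5, 9]), 1001, 0),
    ((0, [1, 2, 3, 4, 5, 6, 7, 3, 2, 4, 3, 7, 8, 7, 3, 2, 4, 5]), 1001, 0),
    ((0, [1, 2, 3, 4, 5, 6, 7, 3, 2, 1, 4, 3, 8, 7, 3, 4, 5, 9]), 1001, 0),
    ((0, [1, 2, 3, 4, 5, 6, 7, 3, 2, 1, 4, 3, 7, 8, 7, 3, 4, 5]), 1001, 0),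
    ((0, [1, 2, 3, 4, 5, 6, 7, 3, 2, 1, 4, 8, 7, 3, 2, 4, 5, 9]), 1001, 0),
    ((0, [1, 2, 3, 4, 5, 6, 7, 3, 4, 5, 8, 7, 3, 2, 4, 3, 9, 6]), 1001, 0),
    ((0, [1, 2, 3, 4, 5, 6, 7, 3, 2, 4, 5, 8, 7, 3, 2, 1, 9, 6]), 1001, 0),
    ((0, [1, 2, 3, 4, 5, 6, 7, 3, 4, 5, 8, 7, 3, 2, 1, 4, 3, 7]), 1001, 0),
    ((0, [1, 2, 3, 4, 5, 6, 7, 3, 4, 5, 8, 7, 3, 2, 4, 3, 7, 8]), 1001, 0),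
    ((0, [1, 2, 3, 4, 5, 6, 7, 3, 2, 4, 5, 8, 7, 3, 2, 4, 3, 5]), 1001, 0),
    ((1, [2, 3, 4, 5, 6, 7, 3, 2, 4, 3, 5, 8, 7, 3, 2, 1, 0, 9]), 1001, 0),
    ((0, [1, 2, 3, 4, 5, 6, 7, 3, 2, 4, 3, 8, 7, 3, 2, 1, 0, 9]), 1001, 0),
    ((0, [1, 2, 3, 4, 5, 6, 7, 3, 2, 4, 3, 5, 8, 7, 3, 2, 1, 0]), 1001, 0),
    ((0, [1, 2, 3, 4, 5, 6, 7, 3, 2, 4, 3, 5, 8, 7, 3, 2, 1, 9]), 1001, 0),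
    ((0, [1, 2, 3, 4, 5, 6, 7, 3, 2, 1, 4, 5, 8, 7, 3, 2, 1, 9]), 1001, 0),
    ((0, [1, 2, 3, 4, 5, 6, 7, 3, 2, 1, 4, 8, 7, 3, 2, 1, 0, 9]), 1001, 0),
    ((0, [1, 2, 3, 4, 5, 6, 7, 3, 2, 1, 4, 5, 8, 7, 3, 2, 1, 0]), 1001, 0),
    ((1, [2, 3, 4, 5, 6, 7, 3, 2, 4, 8, 7, 3, 2, 1, 0, 4, 5, 9]), 1001, 0),
    ((1, [2, 3, 4, 5, 6, 7, 3, 2, 4, 3, 8, 7, 3, 2, 1, 0, 4, 5]), 1001, 0),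
    ((0, [1, 2, 3, 4, 5, 6, 7, 3, 2, 4, 8, 7, 3, 2, 1, 0, 4, 5]), 1001, 0),
    ((0, [1, 2, 3, 4, 5, 6, 7, 3, 2, 4, 8, 7, 3, 2, 1, 4, 5, 9]), 1001, 0),
    ((0, [1, 2, 3, 4, 5, 6, 7, 3, 2, 4, 3, 8, 7, 3, 2, 1, 4, 5]), 1001, 0),
    ((0, [1, 2, 3, 4, 5, 6, 7, 3, 2, 1, 4, 8, 7, 3, 2, 1, 4, 5]), 1001, 0),
    ((1, [2, 3, 4, 5, 6, 7, 3, 2, 4, 5, 8, 7, 3, 2, 4, 5, 9, 6]), 701, 0),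
    ((1, [2, 3, 4, 5, 6, 7, 3, 2, 4, 8, 7, 3, 2, 1, 4, 5, 9, 6]), 1001, 0),
    ((0, [1, 2, 3, 4, 5, 6, 7, 3, 2, 4, 3, 8, 7, 3, 4, 5, 9, 6]), 1001, 0),
    ((1, [2, 3, 4, 5, 6, 7, 3, 2, 4, 5, 8, 7, 3, 4, 5, 9, 6, 5]), 1001, 0),
    ((0, [1, 2, 3, 4, 5, 6, 7, 3, 2, 4, 5, 8, 7, 3, 4, 5, 9, 6]), 1001, 0),
    ((0, [1, 2, 3, 4, 5, 6, 7, 3, 2, 1, 4, 8, 7, 3, 4, 5, 9, 6]), 1001, 0),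
    ((0, [1, 2, 3, 4, 5, 6, 7, 3, 2, 4, 8, 7, 3, 2, 4, 5, 9, 6]), 1001, 0),
    ((1, [2, 3, 4, 5, 6, 7, 3, 2, 4, 5, 8, 7, 3, 2, 4, 3, 5, 6]), 1001, 0),
    ((0, [1, 2, 3, 4, 5, 6, 7, 3, 2, 4, 3, 5, 8, 7, 3, 4, 5, 6]), 1001, 0),
    ((0, [1, 2, 3, 4, 5, 6, 7, 3, 2, 4, 5, 8, 7, 3, 2, 4, 5, 6]), 1001, 0),
    ((1, [2, 3, 4, 5, 6, 7, 3, 2, 4, 8, 7, 3, 2, 1, 0, 4, 5, 6]), 1001, 0),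
    ((0, [1, 2, 3, 4, 5, 6, 7, 3, 2, 4, 8, 7, 3, 2, 1, 4, 5, 6]), 1001, 0),
    ((0, [1, 2, 3, 4, 5, 6, 7, 3, 2, 4, 3, 7, 8, 7, 3, 4, 5, 6]), 1001, 0),
    ((0, [1, 2, 3, 4, 5, 6, 7, 3, 2, 1, 4, 3, 8, 7, 3, 4, 5, 6]), 1001, 0),
    ((0, [1, 2, 3, 4, 5, 6, 7, 3, 2, 1, 4, 8, 7, 3, 2, 4, 5, 6]), 1001, 0),
    ((0, [1, 2, 3, 4, 5, 6, 7, 3, 2, 4, 3, 7, 8, 7, 3, 2, 1, 9]), 901, 0),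
    ((0, [1, 2, 3, 4, 5, 6, 7, 3, 2, 1, 4, 3, 7, 8, 7, 3, 2, 1]), 901, 0),
    ((0, [1, 2, 3, 4, 5, 6, 7, 3, 2, 1, 4, 3, 2, 8, 7, 3, 2, 1]), 1001, 0),
    ((0, [1, 2, 3, 4, 5, 6, 7, 3, 2, 4, 3, 8, 7, 3, 2, 4, 3, 5]), 1001, 0)]

/-- Part 4 of the cycles. -/
def reps4 : List ((Nat × List Nat) × Nat × Nat) :=
  [
    ((0, [1, 2, 3, 4, 5, 7, 3, 2, 4, 3, 8, 7, 3, 2, 4, 3, 5, 6]), 1001, 0),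
    ((0, [1, 2, 3, 4, 5, 6, 7, 3, 2, 1, 4, 8, 7, 3, 2, 4, 3, 5]), 1001, 0),
    ((0, [1, 2, 3, 4, 5, 6, 7, 3, 2, 1, 4, 3, 2, 8, 7, 3, 4, 5]), 1001, 0),
    ((0, [1, 2, 3, 4, 5, 6, 7, 3, 2, 1, 8, 7, 3, 2, 4, 3, 5, 6]), 1001, 0),
    ((0, [1, 2, 3, 4, 5, 6, 7, 3, 2, 1, 8, 7, 3, 2, 4, 5, 6, 9]), 1001, 0),
    ((1, [2, 3, 4, 5, 6, 7, 3, 2, 4, 3, 5, 7, 8, 7, 3, 2, 1, 0]), 1001, 0),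
    ((1, [2, 3, 4, 5, 6, 7, 3, 2, 4, 5, 8, 7, 3, 2, 4, 5, 6, 9]), 901, 0),
    ((1, [2, 3, 4, 5, 6, 7, 3, 2, 4, 8, 7, 3, 2, 1, 4, 5, 6, 9]), 1001, 0),
    ((1, [2, 3, 4, 5, 6, 7, 3, 2, 4, 3, 8, 7, 3, 4, 5, 6, 9, 6]), 1001, 0),
    ((0, [1, 2, 3, 4, 5, 6, 7, 3, 2, 4, 3, 8, 7, 3, 4, 5, 6, 9]), 1001, 0),
    ((0, [1, 2, 3, 4, 5, 6, 7, 3, 2, 4, 8, 7, 3, 4, 5, 6, 9, 6]), 1001, 0),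
    ((0, [1, 2, 3, 4, 5, 6, 7, 3, 2, 1, 4, 8, 7, 3, 4, 5, 6, 9]), 1001, 0),
    ((1, [2, 3, 4, 5, 6, 7, 3, 2, 4, 8, 7, 3, 2, 4, 5, 6, 9, 6]), 1001, 0),
    ((0, [1, 2, 3, 4, 5, 6, 7, 3, 2, 4, 8, 7, 3, 2, 4, 5, 6, 9]), 1001, 0),
    ((0, [1, 2, 3, 4, 5, 6, 7, 3, 2, 1, 8, 7, 3, 4, 5, 6, 9, 6]), 1001, 0),
    ((0, [1, 2, 3, 4, 5, 6, 7, 3, 2, 1, 8, 7, 3, 2, 4, 3, 5, 9]), 1001, 0),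
    ((0, [1, 2, 3, 4, 5, 6, 7, 3, 2, 1, 8, 7, 3, 2, 4, 3, 5, 7]), 1001, 0),
    ((0, [1, 2, 3, 4, 5, 6, 7, 3, 2, 1, 8, 7, 3, 2, 4, 3, 7, 8]), 901, 0),
    ((1, [2, 3, 4, 5, 6, 7, 3, 2, 4, 3, 5, 4, 7, 3, 2, 1, 9, 6, 5]), 1001, 0),
    ((1, [2, 3, 4, 5, 6, 7, 3, 2, 4, 3, 5, 4, 7, 3, 2, 8, 9, 6, 5]), 1001, 0),
    ((0, [1, 2, 3, 4, 5, 6, 7, 3, 2, 4, 3, 5, 4, 7, 3, 8, 9, 6, 5]), 1001, 0),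
    ((0, [1, 2, 3, 4, 5, 6, 7, 3, 2, 4, 3, 5, 4, 7, 3, 2, 8, 9, 6]), 1001, 0),
    ((0, [1, 2, 3, 4, 5, 6, 7, 3, 2, 1, 4, 3, 5, 4, 7, 8, 9, 6, 5]), 1001, 0),
    ((1, [2, 3, 4, 5, 6, 7, 3, 2, 4, 3, 5, 4, 7, 3, 8, 7, 3, 9, 6]), 901, 0),
    ((0, [1, 2, 3, 4, 5, 6, 7, 3, 2, 4, 3, 5, 4, 7, 3, 8, 7, 3, 9]), 1001, 0),
    ((0, [1, 2, 3, 4, 5, 6, 7, 3, 2, 4, 3, 5, 4, 7, 8, 7, 9, 6, 5]), 1001, 0),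
    ((0, [1, 2, 3, 4, 5, 6, 7, 3, 2, 4, 3, 5, 4, 7, 8, 7, 3, 9, 6]), 1001, 0),
    ((0, [1, 2, 3, 4, 5, 6, 7, 3, 2, 1, 4, 3, 5, 4, 7, 8, 7, 9, 6]), 1001, 0),
    ((0, [1, 2, 3, 4, 5, 6, 7, 3, 2, 1, 4, 3, 2, 5, 4, 7, 8, 9, 6]), 1001, 0),
    ((1, [2, 3, 4, 5, 6, 7, 3, 4, 5, 8, 7, 3, 2, 1, 0, 4, 3, 9, 6]), 1001, 0),
    ((0, [1, 2, 3, 4, 5, 6, 7, 3, 2, 4, 3, 5, 4, 7, 8, 7, 3, 2, 9]), 1001, 0),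
    ((0, [1, 2, 3, 4, 5, 6, 7, 3, 2, 1, 4, 3, 5, 4, 8, 7, 9, 6, 5]), 1001, 0),
    ((0, [1, 2, 3, 4, 5, 6, 7, 3, 2, 4, 3, 5, 4, 8, 7, 3, 9, 6, 5]), 901, 0),
    ((0, [1, 2, 3, 4, 5, 6, 7, 3, 2, 1, 4, 3, 2, 5, 4, 8, 9, 6, 5]), 1001, 0),
    ((0, [1, 2, 3, 4, 5, 6, 7, 3, 2, 1, 4, 3, 2, 5, 4, 8, 7, 3, 9]), 901, 0),
    ((0, [1, 2, 3, 4, 5, 6, 7, 3, 2, 1, 4, 3, 2, 5, 4, 7, 8, 7, 3]), 901, 0),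
    ((0, [1, 2, 3, 4, 5, 6, 7, 3, 2, 1, 4, 3, 2, 5, 4, 8, 7, 3, 2]), 901, 0),
    ((0, [1, 2, 3, 4, 5, 6, 7, 3, 2, 1, 4, 3, 2, 5, 7, 8, 7, 3, 9]), 901, 0),
    ((0, [1, 2, 3, 4, 5, 6, 7, 3, 2, 1, 4, 3, 2, 5, 8, 7, 3, 9, 6]), 901, 0),
    ((0, [1, 2, 3, 4, 5, 6, 7, 3, 4, 5, 8, 7, 3, 2, 1, 0, 4, 9, 6]), 701, 0),
    ((0, [1, 2, 3, 4, 5, 6, 7, 3, 2, 4, 3, 5, 4, 8, 7, 3, 2, 1, 9]), 1001, 0),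
    ((0, [1, 2, 3, 4, 5, 6, 7, 3, 4, 5, 8, 7, 3, 2, 1, 0, 4, 3, 2]), 1001, 0),
    ((0, [1, 2, 3, 4, 5, 6, 7, 3, 2, 4, 3, 5, 4, 7, 8, 7, 3, 2, 1]), 1001, 0),
    ((1, [2, 3, 4, 5, 6, 7, 3, 2, 4, 5, 8, 7, 3, 2, 4, 3, 9, 6, 5]), 901, 0),
    ((1, [2, 3, 4, 5, 6, 7, 3, 2, 4, 5, 8, 7, 3, 2, 1, 4, 9, 6, 5]), 1001, 0),
    ((1, [2, 3, 4, 5, 6, 7, 3, 2, 4, 3, 5, 4, 8, 7, 3, 4, 9, 6, 5]), 901, 0),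
    ((0, [1, 2, 3, 4, 5, 6, 7, 3, 2, 4, 3, 5, 8, 7, 3, 4, 9, 6, 5]), 1001, 0),
    ((1, [2, 3, 4, 5, 6, 7, 3, 2, 4, 3, 5, 4, 7, 3, 8, 7, 3, 4, 5]), 1001, 0),
    ((1, [2, 3, 4, 5, 6, 7, 3, 2, 4, 5, 8, 7, 3, 2, 1, 0, 4, 5, 9]), 1001, 0),
    ((0, [1, 2, 3, 4, 5, 6, 7, 3, 2, 4, 5, 8, 7, 3, 2, 1, 0, 4, 5]), 1001, 0),
    ((0, [1, 2, 3, 4, 5, 6, 7, 3, 2, 4, 3, 5, 7, 8, 7, 3, 4, 5, 9]), 1001, 0),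
    ((0, [1, 2, 3, 4, 5, 6, 7, 3, 2, 1, 4, 3, 5, 7, 8, 7, 3, 4, 5]), 1001, 0),
    ((0, [1, 2, 3, 4, 5, 6, 7, 3, 2, 1, 4, 5, 8, 7, 3, 4, 9, 6, 5]), 1001, 0),
    ((0, [1, 2, 3, 4, 5, 6, 7, 3, 2, 4, 3, 5, 7, 8, 7, 3, 2, 9, 6]), 1001, 0),
    ((0, [1, 2, 3, 4, 5, 6, 7, 3, 2, 4, 3, 5, 8, 7, 3, 2, 4, 3, 5]), 1001, 0),
    ((0, [1, 2, 3, 4, 5, 6, 7, 3, 2, 4, 5, 8, 7, 3, 2, 4, 9, 6, 5]), 1001, 0),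
    ((0, [1, 2, 3, 4, 5, 6, 7, 3, 2, 1, 4, 3, 2, 5, 7, 8, 7, 3, 2]), 901, 0),
    ((0, [1, 2, 3, 4, 5, 6, 7, 3, 2, 1, 4, 3, 5, 8, 7, 3, 2, 4, 3]), 901, 0),
    ((0, [1, 2, 3, 4, 5, 6, 7, 3, 2, 4, 3, 7, 8, 7, 3, 2, 4, 5, 9]), 1001, 0),
    ((0, [1, 2, 3, 4, 5, 6, 7, 3, 2, 1, 4, 3, 7, 8, 7, 3, 4, 5, 9]), 1001, 0),
    ((0, [1, 2, 3, 4, 5, 6, 7, 3, 4, 5, 8, 7, 3, 2, 1, 4, 9, 6, 5]), 1001, 0),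
    ((0, [1, 2, 3, 4, 5, 6, 7, 3, 4, 5, 8, 7, 3, 2, 4, 3, 9, 6, 5]), 1001, 0),
    ((0, [1, 2, 3, 4, 5, 6, 7, 3, 4, 5, 8, 7, 3, 2, 1, 4, 3, 7, 9]), 1001, 0),
    ((0, [1, 2, 3, 4, 5, 6, 7, 3, 4, 5, 8, 7, 3, 2, 4, 3, 7, 8, 9]), 1001, 0),
    ((0, [1, 2, 3, 4, 5, 6, 7, 3, 2, 4, 3, 5, 4, 8, 7, 3, 2, 1, 0]), 1001, 0),
    ((0, [1, 2, 3, 4, 5, 6, 7, 3, 2, 4, 5, 8, 7, 3, 2, 4, 3, 7, 8]), 701, 0),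
    ((0, [1, 2, 3, 4, 5, 6, 7, 3, 2, 4, 5, 8, 7, 3, 2, 4, 3, 5, 9]), 1001, 0),
    ((1, [2, 3, 4, 5, 6, 7, 3, 2, 4, 3, 5, 8, 7, 3, 2, 1, 0, 9, 6]), 1001, 0),
    ((0, [1, 2, 3, 4, 5, 6, 7, 3, 2, 4, 3, 5, 8, 7, 3, 2, 1, 0, 9]), 1001, 0),
    ((0, [1, 2, 3, 4, 5, 6, 7, 3, 2, 4, 3, 5, 8, 7, 3, 2, 1, 9, 6]), 1001, 0),
    ((0, [1, 2, 3, 4, 5, 6, 7, 3, 2, 4, 3, 5, 8, 7, 3, 2, 1, 4, 5]), 1001, 0),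
    ((0, [1, 2, 3, 4, 5, 6, 7, 3, 2, 1, 4, 5, 8, 7, 3, 2, 1, 9, 6]), 1001, 0),
    ((0, [1, 2, 3, 4, 5, 6, 7, 3, 2, 1, 4, 5, 8, 7, 3, 2, 1, 0, 9]), 1001, 0),
    ((1, [2, 3, 4, 5, 6, 7, 3, 2, 4, 3, 8, 7, 3, 2, 1, 0, 4, 5, 9]), 1001, 0),
    ((0, [1, 2, 3, 4, 5, 6, 7, 3, 2, 4, 8, 7, 3, 2, 1, 0, 4, 5, 9]), 1001, 0),
    ((0, [1, 2, 3, 4, 5, 6, 7, 3, 2, 4, 3, 8, 7, 3, 2, 1, 0, 4, 5]), 1001, 0),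
    ((0, [1, 2, 3, 4, 5, 6, 7, 3, 2, 4, 3, 8, 7, 3, 2, 1, 4, 5, 9]), 1001, 0),
    ((0, [1, 2, 3, 4, 5, 6, 7, 3, 2, 1, 4, 8, 7, 3, 2, 1, 0, 4, 5]), 1001, 0),
    ((0, [1, 2, 3, 4, 5, 6, 7, 3, 2, 1, 4, 8, 7, 3, 2, 1, 4, 5, 9]), 1001, 0),
    ((1, [2, 3, 4, 5, 6, 7, 3, 2, 4, 5, 8, 7, 3, 2, 4, 3, 5, 9, 6]), 1001, 0),
    ((1, [2, 3, 4, 5, 6, 7, 3, 2, 4, 5, 8, 7, 3, 2, 4, 5, 9, 6, 5]), 1001, 0),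
    ((1, [2, 3, 4, 5, 6, 7, 3, 2, 4, 3, 5, 8, 7, 3, 4, 5, 9, 6, 5]), 1001, 0),
    ((0, [1, 2, 3, 4, 5, 6, 7, 3, 2, 4, 3, 5, 8, 7, 3, 4, 5, 9, 6]), 1001, 0),
    ((0, [1, 2, 3, 4, 5, 6, 7, 3, 2, 4, 5, 8, 7, 3, 2, 4, 5, 9, 6]), 1001, 0),
    ((1, [2, 3, 4, 5, 6, 7, 3, 2, 4, 8, 7, 3, 2, 1, 0, 4, 5, 9, 6]), 1001, 0),
    ((0, [1, 2, 3, 4, 5, 6, 7, 3, 2, 4, 8, 7, 3, 2, 1, 4, 5, 9, 6]), 1001, 0),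
    ((0, [1, 2, 3, 4, 5, 6, 7, 3, 2, 4, 3, 7, 8, 7, 3, 4, 5, 9, 6]), 1001, 0),
    ((0, [1, 2, 3, 4, 5, 6, 7, 3, 2, 1, 4, 3, 8, 7, 3, 4, 5, 9, 6]), 1001, 0),
    ((0, [1, 2, 3, 4, 5, 6, 7, 3, 2, 4, 5, 8, 7, 3, 4, 5, 9, 6, 5]), 1001, 0),
    ((0, [1, 2, 3, 4, 5, 6, 7, 3, 2, 1, 4, 8, 7, 3, 2, 4, 5, 9, 6]), 1001, 0),
    ((1, [2, 3, 4, 5, 6, 7, 3, 2, 4, 5, 8, 7, 3, 2, 1, 0, 4, 5, 6]), 1001, 0),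
    ((0, [1, 2, 3, 4, 5, 6, 7, 3, 2, 4, 3, 5, 7, 8, 7, 3, 4, 5, 6]), 1001, 0),
    ((0, [1, 2, 3, 4, 5, 6, 7, 3, 2, 4, 5, 8, 7, 3, 2, 4, 3, 5, 6]), 1001, 0),
    ((0, [1, 2, 3, 4, 5, 6, 7, 3, 2, 4, 8, 7, 3, 2, 1, 0, 4, 5, 6]), 1001, 0),
    ((0, [1, 2, 3, 4, 5, 6, 7, 3, 2, 4, 3, 7, 8, 7, 3, 2, 4, 3, 5]), 1001, 0),
    ((0, [1, 2, 3, 4, 5, 6, 7, 3, 2, 4, 3, 8, 7, 3, 2, 1, 4, 5, 6]), 1001, 0),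
    ((0, [1, 2, 3, 4, 5, 6, 7, 3, 2, 1, 4, 8, 7, 3, 2, 1, 4, 5, 6]), 1001, 0),
    ((0, [1, 2, 3, 4, 5, 6, 7, 3, 2, 1, 4, 3, 7, 8, 7, 3, 4, 5, 6]), 1001, 0),
    ((0, [1, 2, 3, 4, 5, 6, 7, 3, 2, 4, 3, 7, 8, 7, 3, 2, 4, 5, 6]), 1001, 0),
    ((0, [1, 2, 3, 4, 5, 6, 7, 3, 2, 1, 4, 3, 7, 8, 7, 3, 2, 1, 9]), 901, 0),
    ((0, [1, 2, 3, 4, 5, 6, 7, 3, 2, 1, 4, 3, 2, 8, 7, 3, 2, 1, 9]), 1001, 0),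
    ((0, [1, 2, 3, 4, 5, 6, 7, 3, 2, 1, 4, 5, 8, 7, 3, 2, 4, 3, 5]), 1001, 0),
    ((1, [2, 3, 4, 5, 6, 7, 3, 2, 4, 3, 7, 8, 7, 3, 2, 4, 3, 5, 9]), 1001, 0),
    ((0, [1, 2, 3, 4, 5, 6, 7, 3, 2, 4, 3, 8, 7, 3, 2, 4, 3, 5, 9]), 1001, 0),
    ((0, [1, 2, 3, 4, 5, 6, 7, 3, 2, 4, 3, 8, 7, 3, 2, 4, 3, 5, 6]), 1001, 0),
    ((0, [1, 2, 3, 4, 5, 6, 7, 3, 2, 4, 3, 8, 7, 3, 2, 1, 4, 3, 5]), 1001, 0),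
    ((0, [1, 2, 3, 4, 5, 6, 7, 3, 2, 1, 4, 3, 8, 7, 3, 2, 4, 3, 5]), 1001, 0),
    ((0, [1, 2, 3, 4, 5, 7, 3, 2, 1, 4, 3, 7, 8, 7, 3, 2, 4, 3, 5]), 901, 0),
    ((0, [1, 2, 3, 4, 5, 6, 7, 3, 2, 1, 4, 8, 7, 3, 2, 4, 3, 5, 9]), 1001, 0),
    ((0, [1, 2, 3, 4, 5, 6, 7, 3, 2, 1, 4, 8, 7, 3, 2, 4, 3, 5, 6]), 1001, 0),
    ((0, [1, 2, 3, 4, 5, 6, 7, 3, 2, 1, 4, 3, 2, 5, 8, 7, 3, 4, 5]), 1001, 0),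
    ((0, [1, 2, 3, 4, 5, 6, 7, 3, 2, 1, 4, 3, 2, 8, 7, 3, 4, 5, 9]), 1001, 0),
    ((0, [1, 2, 3, 4, 5, 6, 7, 3, 2, 1, 4, 3, 2, 7, 8, 7, 3, 4, 5]), 1001, 0),
    ((0, [1, 2, 3, 4, 5, 6, 7, 3, 2, 1, 4, 3, 2, 8, 7, 3, 2, 4, 5]), 1001, 0),
    ((0, [1, 2, 3, 4, 5, 6, 7, 3, 2, 1, 8, 7, 3, 2, 4, 3, 5, 6, 9]), 1001, 0),
    ((0, [1, 2, 3, 4, 5, 6, 7, 3, 2, 1, 4, 8, 7, 3, 2, 4, 5, 6, 9]), 1001, 0),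
    ((1, [2, 3, 4, 5, 6, 7, 3, 2, 4, 3, 5, 7, 8, 7, 3, 2, 1, 0, 9]), 1001, 0),
    ((0, [1, 2, 3, 4, 5, 6, 7, 3, 2, 4, 3, 5, 7, 8, 7, 3, 2, 1, 0]), 1001, 0),
    ((1, [2, 3, 4, 5, 6, 7, 3, 2, 4, 3, 5, 7, 8, 7, 3, 2, 1, 0, 4]), 901, 0),
    ((0, [1, 2, 3, 4, 5, 7, 3, 2, 4, 3, 8, 7, 3, 2, 4, 3, 5, 6, 9]), 1001, 0)]

/-- Part 5 of the cycles. -/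
def reps5 : List ((Nat × List Nat) × Nat × Nat) :=
  [
    ((0, [1, 2, 3, 4, 5, 6, 7, 3, 2, 1, 4, 8, 7, 3, 2, 1, 4, 3, 5]), 1001, 0),
    ((1, [2, 3, 4, 5, 6, 7, 3, 2, 4, 5, 8, 7, 3, 2, 4, 5, 6, 9, 6]), 2, 0),
    ((0, [1, 2, 3, 4, 5, 6, 7, 3, 2, 4, 3, 5, 8, 7, 3, 4, 5, 6, 9]), 1001, 0),
    ((0, [1, 2, 3, 4, 5, 6, 7, 3, 2, 4, 5, 8, 7, 3, 2, 4, 5, 6, 9]), 1001, 0),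
    ((1, [2, 3, 4, 5, 6, 7, 3, 2, 4, 8, 7, 3, 2, 1, 4, 5, 6, 9, 6]), 1001, 0),
    ((1, [2, 3, 4, 5, 6, 7, 3, 2, 4, 8, 7, 3, 2, 1, 0, 4, 5, 6, 9]), 1001, 0),
    ((0, [1, 2, 3, 4, 5, 6, 7, 3, 2, 4, 8, 7, 3, 2, 1, 4, 5, 6, 9]), 1001, 0),
    ((0, [1, 2, 3, 4, 5, 6, 7, 3, 2, 4, 3, 8, 7, 3, 4, 5, 6, 9, 6]), 1001, 0),
    ((0, [1, 2, 3, 4, 5, 6, 7, 3, 2, 4, 3, 7, 8, 7, 3, 4, 5, 6, 9]), 1001, 0),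
    ((0, [1, 2, 3, 4, 5, 6, 7, 3, 2, 1, 4, 3, 8, 7, 3, 4, 5, 6, 9]), 1001, 0),
    ((1, [2, 3, 4, 5, 6, 7, 3, 2, 4, 5, 8, 7, 3, 4, 5, 6, 9, 6, 5]), 1001, 0),
    ((0, [1, 2, 3, 4, 5, 6, 7, 3, 2, 4, 5, 8, 7, 3, 4, 5, 6, 9, 6]), 1001, 0),
    ((0, [1, 2, 3, 4, 5, 6, 7, 3, 2, 1, 4, 8, 7, 3, 4, 5, 6, 9, 6]), 1001, 0),
    ((0, [1, 2, 3, 4, 5, 6, 7, 3, 2, 4, 8, 7, 3, 2, 4, 5, 6, 9, 6]), 1001, 0),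
    ((0, [1, 2, 3, 4, 5, 6, 7, 3, 2, 1, 8, 7, 3, 2, 4, 3, 5, 9, 6]), 1001, 0),
    ((0, [1, 2, 3, 4, 5, 6, 7, 3, 2, 1, 8, 7, 3, 2, 4, 3, 5, 7, 9]), 1001, 0),
    ((0, [1, 2, 3, 4, 5, 6, 7, 3, 2, 1, 4, 3, 2, 8, 7, 3, 4, 5, 6]), 1001, 0),
    ((0, [1, 2, 3, 4, 5, 6, 7, 3, 2, 1, 8, 7, 3, 2, 4, 3, 7, 8, 9]), 901, 0),
    ((0, [1, 2, 3, 4, 5, 6, 7, 3, 2, 4, 3, 5, 4, 7, 3, 2, 8, 9, 6, 5]), 1001, 0),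
    ((1, [2, 3, 4, 5, 6, 7, 3, 2, 4, 3, 5, 4, 7, 3, 8, 7, 3, 9, 6, 5]), 1001, 0),
    ((0, [1, 2, 3, 4, 5, 6, 7, 3, 2, 4, 3, 5, 4, 7, 3, 8, 7, 3, 9, 6]), 1001, 0),
    ((0, [1, 2, 3, 4, 5, 6, 7, 3, 2, 4, 3, 5, 4, 7, 8, 7, 3, 9, 6, 5]), 901, 0),
    ((0, [1, 2, 3, 4, 5, 6, 7, 3, 2, 1, 4, 3, 5, 4, 7, 8, 7, 9, 6, 5]), 1001, 0),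
    ((1, [2, 3, 4, 5, 6, 7, 3, 4, 5, 8, 7, 3, 2, 1, 0, 4, 3, 9, 6, 5]), 901, 0),
    ((0, [1, 2, 3, 4, 5, 6, 7, 3, 2, 4, 3, 5, 4, 7, 8, 7, 3, 2, 9, 6]), 1001, 0),
    ((0, [1, 2, 3, 4, 5, 6, 7, 3, 2, 1, 4, 3, 5, 4, 8, 7, 3, 9, 6, 5]), 901, 0),
    ((0, [1, 2, 3, 4, 5, 6, 7, 3, 2, 1, 4, 3, 2, 5, 4, 3, 8, 9, 6, 5]), 801, 0),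
    ((0, [1, 2, 3, 4, 5, 6, 7, 3, 2, 1, 4, 3, 2, 5, 4, 8, 7, 3, 9, 6]), 901, 0),
    ((0, [1, 2, 3, 4, 5, 6, 7, 3, 2, 1, 4, 3, 2, 5, 4, 7, 8, 7, 3, 9]), 901, 0),
    ((0, [1, 2, 3, 4, 5, 6, 7, 3, 2, 1, 4, 3, 2, 5, 4, 8, 7, 3, 2, 9]), 901, 0),
    ((0, [1, 2, 3, 4, 5, 6, 7, 3, 2, 1, 4, 3, 2, 5, 7, 8, 7, 3, 9, 6]), 901, 0),
    ((1, [2, 3, 4, 5, 6, 7, 3, 2, 4, 3, 5, 4, 8, 7, 3, 2, 1, 9, 6, 5]), 1001, 0),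
    ((0, [1, 2, 3, 4, 5, 6, 7, 3, 4, 5, 8, 7, 3, 2, 1, 0, 4, 3, 2, 9]), 1001, 0),
    ((0, [1, 2, 3, 4, 5, 6, 7, 3, 2, 4, 3, 5, 4, 7, 8, 7, 3, 2, 1, 9]), 1001, 0),
    ((0, [1, 2, 3, 4, 5, 6, 7, 3, 2, 4, 3, 5, 4, 8, 7, 3, 2, 1, 9, 6]), 1001, 0),
    ((0, [1, 2, 3, 4, 5, 6, 7, 3, 2, 1, 4, 3, 2, 5, 4, 8, 7, 3, 2, 1]), 901, 0),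
    ((1, [2, 3, 4, 5, 6, 7, 3, 2, 4, 5, 8, 7, 3, 2, 4, 3, 9, 6, 5, 4]), 1001, 0),
    ((1, [2, 3, 4, 5, 6, 7, 3, 2, 4, 5, 8, 7, 3, 2, 1, 0, 4, 9, 6, 5]), 1001, 0),
    ((0, [1, 2, 3, 4, 5, 6, 7, 3, 2, 4, 3, 5, 4, 8, 7, 3, 4, 9, 6, 5]), 1001, 0),
    ((0, [1, 2, 3, 4, 5, 6, 7, 3, 2, 4, 3, 5, 7, 8, 7, 3, 4, 9, 6, 5]), 1001, 0),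
    ((0, [1, 2, 3, 4, 5, 6, 7, 3, 2, 1, 4, 3, 5, 8, 7, 3, 4, 9, 6, 5]), 1001, 0),
    ((1, [2, 3, 4, 5, 6, 7, 3, 2, 4, 3, 5, 4, 7, 3, 8, 7, 3, 4, 5, 9]), 1001, 0),
    ((0, [1, 2, 3, 4, 5, 6, 7, 3, 2, 4, 3, 5, 4, 7, 3, 8, 7, 3, 4, 5]), 1001, 0),
    ((0, [1, 2, 3, 4, 5, 6, 7, 3, 2, 4, 3, 5, 4, 7, 8, 7, 3, 2, 4, 5]), 1001, 0),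
    ((0, [1, 2, 3, 4, 5, 6, 7, 3, 2, 4, 5, 8, 7, 3, 2, 1, 0, 4, 5, 9]), 1001, 0),
    ((0, [1, 2, 3, 4, 5, 6, 7, 3, 2, 1, 4, 3, 5, 7, 8, 7, 3, 4, 5, 9]), 1001, 0),
    ((0, [1, 2, 3, 4, 5, 6, 7, 3, 2, 4, 3, 5, 4, 8, 7, 3, 2, 1, 4, 5]), 1001, 0),
    ((0, [1, 2, 3, 4, 5, 6, 7, 3, 2, 4, 3, 5, 4, 8, 7, 3, 2, 4, 3, 5]), 1001, 0),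
    ((0, [1, 2, 3, 4, 5, 6, 7, 3, 2, 1, 4, 3, 5, 4, 8, 7, 3, 2, 4, 3]), 901, 0),
    ((1, [2, 3, 4, 5, 6, 7, 3, 2, 4, 3, 5, 8, 7, 3, 2, 4, 3, 9, 6, 5]), 1001, 0),
    ((0, [1, 2, 3, 4, 5, 6, 7, 3, 2, 4, 3, 5, 8, 7, 3, 2, 4, 3, 5, 9]), 1001, 0),
    ((0, [1, 2, 3, 4, 5, 6, 7, 3, 2, 4, 3, 5, 7, 8, 7, 3, 2, 4, 3, 5]), 1001, 0),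
    ((0, [1, 2, 3, 4, 5, 6, 7, 3, 2, 1, 4, 3, 2, 5, 7, 8, 7, 3, 2, 9]), 901, 0),
    ((0, [1, 2, 3, 4, 5, 6, 7, 3, 2, 1, 4, 3, 5, 8, 7, 3, 2, 4, 3, 9]), 901, 0),
    ((0, [1, 2, 3, 4, 5, 6, 7, 3, 2, 1, 4, 3, 5, 7, 8, 7, 3, 2, 4, 3]), 901, 0),
    ((0, [1, 2, 3, 4, 5, 6, 7, 3, 2, 1, 4, 3, 5, 8, 7, 3, 2, 4, 3, 5]), 1001, 0),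
    ((0, [1, 2, 3, 4, 5, 6, 7, 3, 2, 1, 4, 5, 8, 7, 3, 2, 4, 9, 6, 5]), 1001, 0),
    ((0, [1, 2, 3, 4, 5, 6, 7, 3, 4, 5, 8, 7, 3, 2, 1, 4, 3, 9, 6, 5]), 1001, 0),
    ((0, [1, 2, 3, 4, 5, 6, 7, 3, 4, 5, 8, 7, 3, 2, 1, 4, 3, 7, 9, 6]), 1001, 0),
    ((0, [1, 2, 3, 4, 5, 6, 7, 3, 2, 4, 5, 8, 7, 3, 2, 4, 3, 9, 6, 5]), 1001, 0),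
    ((0, [1, 2, 3, 4, 5, 6, 7, 3, 2, 4, 5, 8, 7, 3, 2, 1, 4, 9, 6, 5]), 1001, 0),
    ((0, [1, 2, 3, 4, 5, 6, 7, 3, 4, 5, 8, 7, 3, 2, 4, 3, 7, 8, 9, 6]), 1001, 0),
    ((0, [1, 2, 3, 4, 5, 6, 7, 3, 2, 4, 3, 5, 4, 8, 7, 3, 2, 1, 0, 9]), 1001, 0),
    ((0, [1, 2, 3, 4, 5, 6, 7, 3, 2, 4, 5, 8, 7, 3, 2, 4, 3, 7, 8, 9]), 501, 0),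
    ((0, [1, 2, 3, 4, 5, 6, 7, 3, 2, 4, 5, 8, 7, 3, 2, 1, 4, 3, 5, 7]), 1001, 0),
    ((0, [1, 2, 3, 4, 5, 6, 7, 3, 2, 4, 5, 8, 7, 3, 2, 4, 3, 5, 7, 8]), 1001, 0),
    ((0, [1, 2, 3, 4, 5, 6, 7, 3, 2, 4, 3, 5, 8, 7, 3, 2, 4, 3, 5, 7]), 1001, 0),
    ((0, [1, 2, 3, 4, 5, 6, 7, 3, 4, 5, 8, 7, 3, 2, 1, 4, 3, 2, 7, 3]), 1001, 0),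
    ((0, [1, 2, 3, 4, 5, 6, 7, 3, 2, 4, 3, 5, 8, 7, 3, 2, 1, 0, 9, 6]), 1001, 0),
    ((1, [2, 3, 4, 5, 6, 7, 3, 2, 4, 3, 5, 8, 7, 3, 2, 1, 0, 4, 3, 5]), 1001, 0),
    ((0, [1, 2, 3, 4, 5, 6, 7, 3, 2, 4, 3, 5, 8, 7, 3, 2, 1, 4, 5, 9]), 1001, 0),
    ((0, [1, 2, 3, 4, 5, 6, 7, 3, 2, 1, 4, 5, 8, 7, 3, 2, 1, 0, 9, 6]), 1001, 0),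
    ((0, [1, 2, 3, 4, 5, 6, 7, 3, 2, 1, 4, 5, 8, 7, 3, 2, 1, 0, 4, 5]), 1001, 0),
    ((0, [1, 2, 3, 4, 5, 6, 7, 3, 2, 4, 3, 8, 7, 3, 2, 1, 0, 4, 5, 9]), 1001, 0),
    ((0, [1, 2, 3, 4, 5, 6, 7, 3, 2, 1, 4, 8, 7, 3, 2, 1, 0, 4, 5, 9]), 1001, 0),
    ((1, [2, 3, 4, 5, 6, 7, 3, 2, 4, 5, 8, 7, 3, 2, 4, 3, 5, 9, 6, 5]), 701, 0),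
    ((1, [2, 3, 4, 5, 6, 7, 3, 2, 4, 5, 8, 7, 3, 2, 1, 4, 5, 9, 6, 5]), 1001, 0),
    ((1, [2, 3, 4, 5, 6, 7, 3, 2, 4, 5, 8, 7, 3, 2, 1, 0, 4, 5, 9, 6]), 1001, 0),
    ((1, [2, 3, 4, 5, 6, 7, 3, 2, 4, 3, 5, 4, 8, 7, 3, 4, 5, 9, 6, 5]), 601, 0),
    ((0, [1, 2, 3, 4, 5, 6, 7, 3, 2, 4, 3, 5, 7, 8, 7, 3, 4, 5, 9, 6]), 1001, 0),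
    ((0, [1, 2, 3, 4, 5, 6, 7, 3, 2, 4, 3, 5, 8, 7, 3, 4, 5, 9, 6, 5]), 1001, 0),
    ((0, [1, 2, 3, 4, 5, 6, 7, 3, 2, 4, 5, 8, 7, 3, 2, 4, 3, 5, 9, 6]), 1001, 0),
    ((0, [1, 2, 3, 4, 5, 6, 7, 3, 2, 4, 5, 8, 7, 3, 2, 4, 5, 9, 6, 5]), 1001, 0),
    ((0, [1, 2, 3, 4, 5, 6, 7, 3, 2, 4, 8, 7, 3, 2, 1, 0, 4, 5, 9, 6]), 1001, 0),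
    ((1, [2, 3, 4, 5, 6, 7, 3, 2, 4, 3, 8, 7, 3, 2, 1, 0, 4, 5, 9, 6]), 1001, 0),
    ((0, [1, 2, 3, 4, 5, 6, 7, 3, 2, 4, 3, 8, 7, 3, 2, 1, 4, 5, 9, 6]), 1001, 0),
    ((0, [1, 2, 3, 4, 5, 6, 7, 3, 2, 1, 4, 8, 7, 3, 2, 1, 4, 5, 9, 6]), 1001, 0),
    ((0, [1, 2, 3, 4, 5, 6, 7, 3, 2, 1, 4, 3, 7, 8, 7, 3, 4, 5, 9, 6]), 1001, 0),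
    ((0, [1, 2, 3, 4, 5, 6, 7, 3, 2, 4, 3, 7, 8, 7, 3, 2, 4, 5, 9, 6]), 1001, 0),
    ((0, [1, 2, 3, 4, 5, 6, 7, 3, 2, 1, 4, 5, 8, 7, 3, 4, 5, 9, 6, 5]), 1001, 0),
    ((1, [2, 3, 4, 5, 6, 7, 3, 2, 4, 3, 5, 4, 7, 3, 8, 7, 3, 4, 5, 6]), 1001, 0),
    ((0, [1, 2, 3, 4, 5, 6, 7, 3, 2, 4, 5, 8, 7, 3, 2, 1, 0, 4, 5, 6]), 1001, 0),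
    ((0, [1, 2, 3, 4, 5, 6, 7, 3, 2, 4, 3, 5, 8, 7, 3, 2, 1, 4, 5, 6]), 1001, 0),
    ((0, [1, 2, 3, 4, 5, 6, 7, 3, 2, 4, 3, 5, 8, 7, 3, 2, 4, 3, 5, 6]), 1001, 0),
    ((0, [1, 2, 3, 4, 5, 6, 7, 3, 2, 1, 4, 3, 2, 5, 7, 8, 7, 3, 2, 1]), 901, 0),
    ((0, [1, 2, 3, 4, 5, 6, 7, 3, 2, 1, 4, 5, 8, 7, 3, 2, 4, 3, 5, 9]), 1001, 0),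
    ((0, [1, 2, 3, 4, 5, 6, 7, 3, 2, 1, 4, 5, 8, 7, 3, 2, 4, 3, 5, 6]), 1001, 0),
    ((0, [1, 2, 3, 4, 5, 6, 7, 3, 2, 4, 3, 7, 8, 7, 3, 2, 4, 3, 5, 9]), 1001, 0),
    ((1, [2, 3, 4, 5, 6, 7, 3, 2, 4, 3, 7, 8, 7, 3, 2, 4, 3, 5, 9, 6]), 1001, 0),
    ((0, [1, 2, 3, 4, 5, 6, 7, 3, 2, 4, 3, 8, 7, 3, 2, 4, 3, 5, 9, 6]), 1001, 0),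
    ((0, [1, 2, 3, 4, 5, 6, 7, 3, 2, 4, 3, 8, 7, 3, 2, 1, 4, 3, 5, 9]), 1001, 0),
    ((0, [1, 2, 3, 4, 5, 6, 7, 3, 2, 4, 3, 7, 8, 7, 3, 2, 1, 0, 4, 5]), 1001, 0),
    ((0, [1, 2, 3, 4, 5, 6, 7, 3, 2, 1, 4, 3, 8, 7, 3, 2, 4, 3, 5, 9]), 1001, 0),
    ((0, [1, 2, 3, 4, 5, 6, 7, 3, 2, 1, 4, 3, 7, 8, 7, 3, 2, 4, 3, 5]), 1001, 0),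
    ((0, [1, 2, 3, 4, 5, 6, 7, 3, 2, 1, 4, 3, 8, 7, 3, 2, 1, 4, 3, 5]), 1001, 0),
    ((0, [1, 2, 3, 4, 5, 6, 7, 3, 2, 1, 4, 3, 8, 7, 3, 2, 4, 3, 5, 6]), 1001, 0),
    ((0, [1, 2, 3, 4, 5, 7, 3, 2, 1, 4, 3, 7, 8, 7, 3, 2, 4, 3, 5, 6]), 901, 0),
    ((0, [1, 2, 3, 4, 5, 6, 7, 3, 2, 1, 4, 8, 7, 3, 2, 4, 3, 5, 9, 6]), 1001, 0),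
    ((0, [1, 2, 3, 4, 5, 6, 7, 3, 2, 1, 4, 3, 2, 5, 8, 7, 3, 4, 5, 9]), 1001, 0),
    ((0, [1, 2, 3, 4, 5, 6, 7, 3, 2, 1, 4, 3, 2, 7, 8, 7, 3, 4, 5, 9]), 1001, 0),
    ((0, [1, 2, 3, 4, 5, 6, 7, 3, 2, 1, 4, 3, 2, 8, 7, 3, 2, 4, 5, 9]), 1001, 0),
    ((0, [1, 2, 3, 4, 5, 6, 7, 3, 2, 1, 4, 8, 7, 3, 2, 4, 3, 5, 6, 9]), 1001, 0),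
    ((0, [1, 2, 3, 4, 5, 6, 7, 3, 2, 1, 4, 3, 2, 8, 7, 3, 2, 1, 4, 5]), 1001, 0),
    ((0, [1, 2, 3, 4, 5, 6, 7, 3, 2, 1, 4, 8, 7, 3, 2, 1, 4, 3, 5, 6]), 1001, 0),
    ((0, [1, 2, 3, 4, 5, 6, 7, 3, 2, 1, 4, 3, 2, 8, 7, 3, 2, 4, 3, 5]), 1001, 0),
    ((0, [1, 2, 3, 4, 5, 6, 7, 3, 2, 1, 4, 8, 7, 3, 2, 1, 4, 5, 6, 9]), 1001, 0),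
    ((1, [2, 3, 4, 5, 6, 7, 3, 2, 4, 3, 5, 7, 8, 7, 3, 2, 1, 0, 9, 6]), 1001, 0),
    ((0, [1, 2, 3, 4, 5, 6, 7, 3, 2, 4, 3, 5, 7, 8, 7, 3, 2, 1, 0, 9]), 1001, 0),
    ((1, [2, 3, 4, 5, 6, 7, 3, 2, 4, 3, 5, 7, 8, 7, 3, 2, 1, 0, 4, 9]), 901, 0),
    ((0, [1, 2, 3, 4, 5, 6, 7, 3, 2, 4, 3, 8, 7, 3, 2, 4, 3, 5, 6, 9]), 1001, 0)]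

/-- Part 6 of the cycles. -/
def reps6 : List ((Nat × List Nat) × Nat × Nat) :=
  [
    ((0, [1, 2, 3, 4, 5, 6, 7, 3, 2, 1, 4, 3, 2, 5, 8, 7, 3, 2, 1, 0]), 1001, 0),
    ((0, [1, 2, 3, 4, 5, 6, 7, 3, 2, 4, 3, 7, 8, 7, 3, 2, 4, 5, 6, 9]), 1001, 0),
    ((0, [1, 2, 3, 4, 5, 6, 7, 3, 2, 4, 3, 8, 7, 3, 2, 1, 4, 5, 6, 9]), 1001, 0),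
    ((0, [1, 2, 3, 4, 5, 6, 7, 3, 2, 1, 4, 8, 7, 3, 2, 1, 4, 3, 5, 9]), 1001, 0),
    ((0, [1, 2, 3, 4, 5, 6, 7, 3, 2, 1, 4, 8, 7, 3, 2, 1, 0, 4, 3, 5]), 701, 0),
    ((1, [2, 3, 4, 5, 6, 7, 3, 2, 4, 5, 8, 7, 3, 2, 4, 5, 6, 9, 6, 5]), 1001, 0),
    ((1, [2, 3, 4, 5, 6, 7, 3, 2, 4, 3, 5, 8, 7, 3, 4, 5, 6, 9, 6, 5]), 1001, 0),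
    ((0, [1, 2, 3, 4, 5, 6, 7, 3, 2, 4, 3, 5, 8, 7, 3, 4, 5, 6, 9, 6]), 1001, 0),
    ((0, [1, 2, 3, 4, 5, 6, 7, 3, 2, 4, 5, 8, 7, 3, 2, 4, 5, 6, 9, 6]), 1001, 0),
    ((1, [2, 3, 4, 5, 6, 7, 3, 2, 4, 5, 8, 7, 3, 2, 1, 0, 4, 5, 6, 9]), 1001, 0),
    ((0, [1, 2, 3, 4, 5, 6, 7, 3, 2, 4, 3, 5, 7, 8, 7, 3, 4, 5, 6, 9]), 1001, 0),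
    ((0, [1, 2, 3, 4, 5, 6, 7, 3, 2, 4, 5, 8, 7, 3, 2, 4, 3, 5, 6, 9]), 1001, 0),
    ((1, [2, 3, 4, 5, 6, 7, 3, 2, 4, 8, 7, 3, 2, 1, 0, 4, 5, 6, 9, 6]), 1001, 0),
    ((0, [1, 2, 3, 4, 5, 6, 7, 3, 2, 4, 8, 7, 3, 2, 1, 4, 5, 6, 9, 6]), 1001, 0),
    ((0, [1, 2, 3, 4, 5, 6, 7, 3, 2, 4, 8, 7, 3, 2, 1, 0, 4, 5, 6, 9]), 1001, 0),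
    ((0, [1, 2, 3, 4, 5, 6, 7, 3, 2, 4, 3, 7, 8, 7, 3, 4, 5, 6, 9, 6]), 1001, 0),
    ((0, [1, 2, 3, 4, 5, 6, 7, 3, 2, 1, 4, 3, 8, 7, 3, 4, 5, 6, 9, 6]), 1001, 0),
    ((0, [1, 2, 3, 4, 5, 6, 7, 3, 2, 1, 4, 3, 7, 8, 7, 3, 4, 5, 6, 9]), 1001, 0),
    ((0, [1, 2, 3, 4, 5, 6, 7, 3, 2, 4, 5, 8, 7, 3, 4, 5, 6, 9, 6, 5]), 1001, 0),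
    ((0, [1, 2, 3, 4, 5, 6, 7, 3, 2, 1, 4, 8, 7, 3, 2, 4, 5, 6, 9, 6]), 1001, 0),
    ((0, [1, 2, 3, 4, 5, 6, 7, 3, 2, 1, 4, 5, 8, 7, 3, 2, 4, 3, 7, 8]), 1001, 0),
    ((0, [1, 2, 3, 4, 5, 6, 7, 3, 2, 1, 8, 7, 3, 2, 4, 3, 5, 6, 9, 6]), 1001, 0),
    ((0, [1, 2, 3, 4, 5, 6, 7, 3, 2, 1, 4, 3, 8, 7, 3, 2, 4, 3, 5, 7]), 1001, 0),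
    ((0, [1, 2, 3, 4, 5, 6, 7, 3, 2, 1, 8, 7, 3, 2, 4, 3, 5, 7, 9, 6]), 1001, 0),
    ((0, [1, 2, 3, 4, 5, 6, 7, 3, 2, 1, 4, 3, 2, 8, 7, 3, 4, 5, 9, 6]), 1001, 0),
    ((0, [1, 2, 3, 4, 5, 6, 7, 3, 2, 1, 4, 3, 2, 5, 8, 7, 3, 4, 5, 6]), 1001, 0),
    ((0, [1, 2, 3, 4, 5, 6, 7, 3, 2, 1, 4, 3, 2, 8, 7, 3, 2, 4, 5, 6]), 1001, 0),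
    ((0, [1, 2, 3, 4, 5, 6, 7, 3, 2, 1, 4, 3, 2, 8, 7, 3, 4, 5, 6, 9]), 1001, 0),
    ((0, [1, 2, 3, 4, 5, 6, 7, 3, 2, 4, 3, 5, 4, 7, 3, 2, 8, 9, 6, 5, 4]), 1001, 0),
    ((0, [1, 2, 3, 4, 5, 6, 7, 3, 2, 4, 3, 5, 4, 7, 3, 8, 7, 3, 9, 6, 5]), 901, 0),
    ((0, [1, 2, 3, 4, 5, 6, 7, 3, 2, 4, 3, 5, 4, 7, 8, 7, 3, 2, 9, 6, 5]), 901, 0),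
    ((0, [1, 2, 3, 4, 5, 6, 7, 3, 2, 1, 4, 3, 2, 5, 4, 7, 8, 7, 3, 9, 6]), 901, 0),
    ((0, [1, 2, 3, 4, 5, 6, 7, 3, 2, 1, 4, 3, 2, 5, 4, 8, 7, 3, 9, 6, 5]), 1001, 0),
    ((0, [1, 2, 3, 4, 5, 6, 7, 3, 2, 1, 4, 3, 2, 5, 4, 8, 7, 3, 2, 9, 6]), 901, 0),
    ((0, [1, 2, 3, 4, 5, 6, 7, 3, 4, 5, 8, 7, 3, 2, 1, 0, 4, 3, 2, 9, 6]), 1001, 0),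
    ((0, [1, 2, 3, 4, 5, 6, 7, 3, 2, 4, 3, 5, 4, 7, 8, 7, 3, 2, 1, 9, 6]), 1001, 0),
    ((0, [1, 2, 3, 4, 5, 6, 7, 3, 2, 4, 3, 5, 4, 8, 7, 3, 2, 1, 9, 6, 5]), 901, 0),
    ((0, [1, 2, 3, 4, 5, 6, 7, 3, 2, 1, 4, 3, 2, 5, 4, 8, 7, 3, 2, 1, 9]), 901, 0),
    ((0, [1, 2, 3, 4, 5, 6, 7, 3, 2, 1, 4, 3, 2, 5, 4, 7, 8, 7, 3, 2, 1]), 901, 0),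
    ((1, [2, 3, 4, 5, 6, 7, 3, 2, 4, 3, 5, 4, 7, 3, 8, 7, 3, 4, 9, 6, 5]), 901, 0),
    ((1, [2, 3, 4, 5, 6, 7, 3, 2, 4, 5, 8, 7, 3, 2, 1, 0, 4, 3, 9, 6, 5]), 1001, 0),
    ((0, [1, 2, 3, 4, 5, 6, 7, 3, 2, 4, 3, 5, 4, 7, 8, 7, 3, 4, 9, 6, 5]), 1001, 0),
    ((0, [1, 2, 3, 4, 5, 6, 7, 3, 2, 4, 5, 8, 7, 3, 2, 1, 0, 4, 9, 6, 5]), 1001, 0),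
    ((0, [1, 2, 3, 4, 5, 6, 7, 3, 2, 1, 4, 3, 5, 4, 8, 7, 3, 4, 9, 6, 5]), 1001, 0),
    ((1, [2, 3, 4, 5, 6, 7, 3, 2, 4, 3, 5, 4, 8, 7, 3, 2, 1, 4, 9, 6, 5]), 901, 0),
    ((0, [1, 2, 3, 4, 5, 6, 7, 3, 2, 1, 4, 3, 5, 7, 8, 7, 3, 4, 9, 6, 5]), 1001, 0),
    ((0, [1, 2, 3, 4, 5, 6, 7, 3, 2, 4, 3, 5, 4, 7, 3, 8, 7, 3, 4, 5, 9]), 1001, 0),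
    ((0, [1, 2, 3, 4, 5, 6, 7, 3, 2, 4, 3, 5, 4, 7, 8, 7, 3, 2, 4, 5, 9]), 1001, 0),
    ((0, [1, 2, 3, 4, 5, 6, 7, 3, 2, 4, 3, 5, 4, 7, 8, 7, 3, 2, 1, 4, 5]), 1001, 0),
    ((0, [1, 2, 3, 4, 5, 6, 7, 3, 2, 4, 3, 5, 4, 8, 7, 3, 2, 1, 4, 5, 9]), 1001, 0),
    ((0, [1, 2, 3, 4, 5, 6, 7, 3, 2, 4, 5, 8, 7, 3, 2, 1, 0, 4, 3, 2, 5]), 1001, 0),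
    ((1, [2, 3, 4, 5, 6, 7, 3, 2, 4, 3, 5, 8, 7, 3, 2, 4, 3, 7, 9, 6, 5]), 1001, 0),
    ((0, [1, 2, 3, 4, 5, 6, 7, 3, 2, 4, 3, 5, 4, 8, 7, 3, 2, 4, 3, 5, 9]), 1001, 0),
    ((0, [1, 2, 3, 4, 5, 6, 7, 3, 2, 4, 3, 5, 4, 7, 8, 7, 3, 2, 4, 3, 5]), 1001, 0),
    ((0, [1, 2, 3, 4, 5, 6, 7, 3, 2, 1, 4, 3, 5, 4, 8, 7, 3, 2, 4, 3, 9]), 901, 0),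
    ((0, [1, 2, 3, 4, 5, 6, 7, 3, 2, 1, 4, 3, 5, 4, 8, 7, 3, 2, 4, 3, 5]), 1001, 0),
    ((0, [1, 2, 3, 4, 5, 6, 7, 3, 2, 4, 3, 5, 7, 8, 7, 3, 2, 4, 9, 6, 5]), 1001, 0),
    ((0, [1, 2, 3, 4, 5, 6, 7, 3, 2, 4, 3, 5, 8, 7, 3, 2, 4, 3, 9, 6, 5]), 1001, 0),
    ((0, [1, 2, 3, 4, 5, 6, 7, 3, 2, 4, 3, 5, 7, 8, 7, 3, 2, 4, 3, 5, 9]), 1001, 0),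
    ((0, [1, 2, 3, 4, 5, 6, 7, 3, 2, 1, 4, 3, 2, 5, 7, 8, 7, 3, 2, 9, 6]), 901, 0),
    ((0, [1, 2, 3, 4, 5, 6, 7, 3, 2, 1, 4, 3, 5, 7, 8, 7, 3, 2, 4, 3, 9]), 901, 0),
    ((0, [1, 2, 3, 4, 5, 6, 7, 3, 2, 1, 4, 3, 5, 8, 7, 3, 2, 4, 3, 9, 6]), 901, 0),
    ((0, [1, 2, 3, 4, 5, 6, 7, 3, 2, 1, 4, 3, 5, 8, 7, 3, 2, 4, 3, 5, 9]), 1001, 0),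
    ((0, [1, 2, 3, 4, 5, 6, 7, 3, 2, 1, 4, 3, 5, 7, 8, 7, 3, 2, 4, 3, 5]), 1001, 0),
    ((0, [1, 2, 3, 4, 5, 6, 7, 3, 4, 5, 8, 7, 3, 2, 1, 4, 3, 7, 9, 6, 5]), 1001, 0),
    ((0, [1, 2, 3, 4, 5, 6, 7, 3, 4, 5, 8, 7, 3, 2, 1, 4, 3, 2, 9, 6, 5]), 1001, 0),
    ((0, [1, 2, 3, 4, 5, 6, 7, 3, 2, 4, 5, 8, 7, 3, 2, 4, 3, 9, 6, 5, 4]), 1001, 0),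
    ((0, [1, 2, 3, 4, 5, 6, 7, 3, 2, 4, 5, 8, 7, 3, 2, 1, 4, 3, 9, 6, 5]), 1001, 0),
    ((0, [1, 2, 3, 4, 5, 6, 7, 3, 2, 4, 3, 5, 4, 8, 7, 3, 2, 1, 0, 9, 6]), 1001, 0),
    ((0, [1, 2, 3, 4, 5, 6, 7, 3, 2, 4, 5, 8, 7, 3, 2, 4, 3, 7, 8, 9, 6]), 901, 0),
    ((0, [1, 2, 3, 4, 5, 6, 7, 3, 2, 4, 5, 8, 7, 3, 2, 1, 4, 3, 5, 7, 9]), 1001, 0),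
    ((0, [1, 2, 3, 4, 5, 6, 7, 3, 2, 4, 5, 8, 7, 3, 2, 4, 3, 5, 7, 8, 9]), 1001, 0),
    ((0, [1, 2, 3, 4, 5, 6, 7, 3, 2, 4, 3, 5, 8, 7, 3, 2, 4, 3, 5, 7, 9]), 1001, 0),
    ((0, [1, 2, 3, 4, 5, 6, 7, 3, 4, 5, 8, 7, 3, 2, 1, 4, 3, 2, 7, 3, 9]), 1001, 0),
    ((0, [1, 2, 3, 4, 5, 6, 7, 3, 2, 1, 4, 3, 2, 5, 4, 8, 7, 3, 2, 1, 0]), 1001, 0),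
    ((0, [1, 2, 3, 4, 5, 6, 7, 3, 2, 1, 4, 5, 8, 7, 3, 2, 1, 4, 3, 2, 5]), 1001, 0),
    ((1, [2, 3, 4, 5, 6, 7, 3, 2, 4, 3, 5, 8, 7, 3, 2, 1, 0, 4, 9, 6, 5]), 1001, 0),
    ((1, [2, 3, 4, 5, 6, 7, 3, 2, 4, 3, 5, 8, 7, 3, 2, 1, 4, 3, 9, 6, 5]), 1001, 0),
    ((1, [2, 3, 4, 5, 6, 7, 3, 2, 4, 3, 5, 8, 7, 3, 2, 1, 0, 4, 3, 5, 9]), 1001, 0),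
    ((0, [1, 2, 3, 4, 5, 6, 7, 3, 2, 4, 3, 5, 8, 7, 3, 2, 1, 4, 9, 6, 5]), 1001, 0),
    ((0, [1, 2, 3, 4, 5, 6, 7, 3, 2, 4, 3, 5, 7, 8, 7, 3, 2, 4, 3, 5, 7]), 1001, 0),
    ((0, [1, 2, 3, 4, 5, 6, 7, 3, 2, 1, 4, 5, 8, 7, 3, 2, 1, 4, 9, 6, 5]), 1001, 0),
    ((0, [1, 2, 3, 4, 5, 6, 7, 3, 2, 1, 4, 5, 8, 7, 3, 2, 1, 0, 4, 5, 9]), 1001, 0),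
    ((0, [1, 2, 3, 4, 5, 6, 7, 3, 2, 1, 4, 5, 8, 7, 3, 2, 1, 0, 4, 3, 5]), 701, 0),
    ((1, [2, 3, 4, 5, 6, 7, 3, 2, 4, 5, 8, 7, 3, 2, 4, 3, 5, 9, 6, 5, 4]), 1001, 0),
    ((1, [2, 3, 4, 5, 6, 7, 3, 2, 4, 3, 5, 4, 7, 3, 8, 7, 3, 4, 5, 9, 6]), 1001, 0),
    ((1, [2, 3, 4, 5, 6, 7, 3, 2, 4, 5, 8, 7, 3, 2, 1, 0, 4, 5, 9, 6, 5]), 1001, 0),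
    ((0, [1, 2, 3, 4, 5, 6, 7, 3, 2, 4, 5, 8, 7, 3, 2, 1, 0, 4, 5, 9, 6]), 1001, 0),
    ((0, [1, 2, 3, 4, 5, 6, 7, 3, 2, 4, 3, 5, 4, 8, 7, 3, 4, 5, 9, 6, 5]), 1001, 0),
    ((0, [1, 2, 3, 4, 5, 6, 7, 3, 2, 4, 3, 5, 7, 8, 7, 3, 4, 5, 9, 6, 5]), 1001, 0),
    ((0, [1, 2, 3, 4, 5, 6, 7, 3, 2, 1, 4, 3, 5, 7, 8, 7, 3, 4, 5, 9, 6]), 1001, 0),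
    ((0, [1, 2, 3, 4, 5, 6, 7, 3, 2, 1, 4, 3, 5, 8, 7, 3, 4, 5, 9, 6, 5]), 1001, 0),
    ((0, [1, 2, 3, 4, 5, 6, 7, 3, 2, 4, 5, 8, 7, 3, 2, 4, 3, 5, 9, 6, 5]), 1001, 0),
    ((0, [1, 2, 3, 4, 5, 6, 7, 3, 2, 4, 5, 8, 7, 3, 2, 1, 4, 5, 9, 6, 5]), 1001, 0),
    ((0, [1, 2, 3, 4, 5, 6, 7, 3, 2, 4, 3, 5, 8, 7, 3, 2, 1, 4, 5, 9, 6]), 1001, 0),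
    ((0, [1, 2, 3, 4, 5, 6, 7, 3, 2, 4, 3, 8, 7, 3, 2, 1, 0, 4, 5, 9, 6]), 1001, 0),
    ((0, [1, 2, 3, 4, 5, 6, 7, 3, 2, 1, 4, 8, 7, 3, 2, 1, 0, 4, 5, 9, 6]), 1001, 0),
    ((1, [2, 3, 4, 5, 6, 7, 3, 2, 4, 3, 5, 8, 7, 3, 2, 4, 3, 5, 9, 6, 5]), 1001, 0),
    ((0, [1, 2, 3, 4, 5, 6, 7, 3, 2, 4, 3, 5, 8, 7, 3, 2, 4, 3, 5, 9, 6]), 1001, 0),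
    ((0, [1, 2, 3, 4, 5, 6, 7, 3, 2, 1, 4, 5, 8, 7, 3, 2, 4, 5, 9, 6, 5]), 1001, 0),
    ((0, [1, 2, 3, 4, 5, 6, 7, 3, 2, 4, 3, 5, 4, 7, 3, 8, 7, 3, 4, 5, 6]), 1001, 0),
    ((0, [1, 2, 3, 4, 5, 6, 7, 3, 2, 4, 3, 5, 4, 7, 8, 7, 3, 2, 4, 5, 6]), 1001, 0),
    ((0, [1, 2, 3, 4, 5, 6, 7, 3, 2, 4, 3, 5, 4, 8, 7, 3, 2, 1, 4, 5, 6]), 1001, 0),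
    ((0, [1, 2, 3, 4, 5, 6, 7, 3, 2, 4, 3, 5, 4, 8, 7, 3, 2, 4, 3, 5, 6]), 1001, 0),
    ((0, [1, 2, 3, 4, 5, 6, 7, 3, 2, 4, 5, 8, 7, 3, 2, 1, 4, 3, 5, 6, 7]), 1001, 0),
    ((0, [1, 2, 3, 4, 5, 6, 7, 3, 2, 4, 5, 8, 7, 3, 2, 4, 3, 5, 6, 7, 8]), 1001, 0),
    ((0, [1, 2, 3, 4, 5, 6, 7, 3, 2, 4, 3, 5, 8, 7, 3, 2, 4, 3, 5, 6, 7]), 1001, 0),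
    ((0, [1, 2, 3, 4, 5, 6, 7, 3, 2, 1, 4, 3, 5, 8, 7, 3, 2, 4, 3, 5, 6]), 1001, 0),
    ((0, [1, 2, 3, 4, 5, 6, 7, 3, 2, 4, 3, 5, 4, 8, 7, 3, 2, 4, 3, 7, 8]), 1001, 0),
    ((0, [1, 2, 3, 4, 5, 6, 7, 3, 2, 4, 3, 5, 7, 8, 7, 3, 2, 4, 3, 7, 8]), 1001, 0),
    ((0, [1, 2, 3, 4, 5, 6, 7, 3, 2, 4, 3, 5, 8, 7, 3, 2, 4, 3, 5, 6, 9]), 1001, 0),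
    ((0, [1, 2, 3, 4, 5, 6, 7, 3, 2, 1, 4, 3, 5, 8, 7, 3, 2, 4, 3, 5, 7]), 1001, 0),
    ((0, [1, 2, 3, 4, 5, 6, 7, 3, 2, 1, 4, 3, 2, 5, 7, 8, 7, 3, 2, 1, 9]), 901, 0),
    ((0, [1, 2, 3, 4, 5, 6, 7, 3, 2, 1, 4, 5, 8, 7, 3, 2, 4, 3, 9, 6, 5]), 2, 0),
    ((0, [1, 2, 3, 4, 5, 6, 7, 3, 2, 1, 4, 5, 8, 7, 3, 2, 4, 3, 5, 9, 6]), 1001, 0),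
    ((0, [1, 2, 3, 4, 5, 6, 7, 3, 2, 4, 3, 7, 8, 7, 3, 2, 4, 3, 5, 4, 9]), 1001, 0),
    ((0, [1, 2, 3, 4, 5, 6, 7, 3, 2, 4, 3, 7, 8, 7, 3, 2, 4, 3, 5, 9, 6]), 1001, 0),
    ((0, [1, 2, 3, 4, 5, 6, 7, 3, 2, 4, 3, 8, 7, 3, 2, 1, 4, 3, 5, 9, 6]), 1001, 0),
    ((0, [1, 2, 3, 4, 5, 6, 7, 3, 2, 1, 4, 3, 7, 8, 7, 3, 2, 4, 3, 5, 9]), 1001, 0),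
    ((0, [1, 2, 3, 4, 5, 6, 7, 3, 2, 1, 4, 3, 8, 7, 3, 2, 1, 4, 3, 5, 9]), 1001, 0)]

/-- Part 7 of the cycles. -/
def reps7 : List ((Nat × List Nat) × Nat × Nat) :=
  [
    ((0, [1, 2, 3, 4, 5, 6, 7, 3, 2, 1, 4, 3, 7, 8, 7, 3, 2, 1, 4, 3, 5]), 1001, 0),
    ((0, [1, 2, 3, 4, 5, 6, 7, 3, 2, 1, 4, 3, 8, 7, 3, 2, 4, 3, 5, 9, 6]), 1001, 0),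
    ((0, [1, 2, 3, 4, 5, 6, 7, 3, 2, 1, 4, 3, 7, 8, 7, 3, 2, 4, 3, 5, 6]), 1001, 0),
    ((0, [1, 2, 3, 4, 5, 6, 7, 3, 2, 1, 4, 3, 8, 7, 3, 2, 1, 4, 3, 5, 6]), 1001, 0),
    ((0, [1, 2, 3, 4, 5, 6, 7, 3, 2, 1, 4, 3, 2, 5, 8, 7, 3, 4, 9, 6, 5]), 1001, 0),
    ((0, [1, 2, 3, 4, 5, 6, 7, 3, 2, 1, 4, 3, 2, 5, 7, 8, 7, 3, 4, 5, 9]), 1001, 0),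
    ((0, [1, 2, 3, 4, 5, 6, 7, 3, 2, 1, 4, 3, 2, 5, 4, 8, 7, 3, 2, 4, 5]), 1001, 0),
    ((0, [1, 2, 3, 4, 5, 6, 7, 3, 2, 1, 4, 3, 2, 5, 8, 7, 3, 2, 4, 3, 5]), 1001, 0),
    ((0, [1, 2, 3, 4, 5, 6, 7, 3, 2, 1, 4, 3, 2, 5, 8, 7, 3, 2, 1, 4, 5]), 1001, 0),
    ((0, [1, 2, 3, 4, 5, 6, 7, 3, 2, 1, 4, 3, 2, 8, 7, 3, 2, 1, 4, 5, 9]), 1001, 0),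
    ((0, [1, 2, 3, 4, 5, 6, 7, 3, 2, 1, 4, 8, 7, 3, 2, 1, 4, 3, 5, 6, 9]), 1001, 0),
    ((0, [1, 2, 3, 4, 5, 6, 7, 3, 2, 1, 4, 3, 2, 8, 7, 3, 2, 4, 3, 5, 9]), 1001, 0),
    ((0, [1, 2, 3, 4, 5, 6, 7, 3, 2, 1, 4, 3, 2, 7, 8, 7, 3, 2, 4, 3, 5]), 1001, 0),
    ((0, [1, 2, 3, 4, 5, 6, 7, 3, 2, 1, 4, 3, 2, 8, 7, 3, 2, 1, 4, 3, 5]), 1001, 0),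
    ((0, [1, 2, 3, 4, 5, 6, 7, 3, 2, 4, 3, 5, 7, 8, 7, 3, 2, 1, 0, 9, 6]), 1001, 0),
    ((1, [2, 3, 4, 5, 6, 7, 3, 2, 4, 3, 5, 7, 8, 7, 3, 2, 1, 0, 4, 9, 6]), 601, 0),
    ((0, [1, 2, 3, 4, 5, 6, 7, 3, 2, 4, 3, 7, 8, 7, 3, 2, 1, 0, 4, 5, 9]), 1001, 0),
    ((0, [1, 2, 3, 4, 5, 6, 7, 3, 2, 4, 3, 8, 7, 3, 2, 4, 3, 5, 6, 9, 6]), 1001, 0),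
    ((0, [1, 2, 3, 4, 5, 6, 7, 3, 2, 1, 4, 3, 2, 5, 8, 7, 3, 2, 1, 0, 9]), 1001, 0),
    ((0, [1, 2, 3, 4, 5, 6, 7, 3, 2, 1, 4, 3, 2, 5, 7, 8, 7, 3, 2, 1, 0]), 1001, 0),
    ((0, [1, 2, 3, 4, 5, 6, 7, 3, 2, 4, 3, 7, 8, 7, 3, 2, 4, 5, 6, 9, 6]), 1001, 0),
    ((0, [1, 2, 3, 4, 5, 6, 7, 3, 2, 4, 3, 8, 7, 3, 2, 1, 4, 5, 6, 9, 6]), 1001, 0),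
    ((0, [1, 2, 3, 4, 5, 6, 7, 3, 2, 1, 4, 8, 7, 3, 2, 1, 0, 4, 3, 5, 9]), 501, 0),
    ((0, [1, 2, 3, 4, 5, 6, 7, 3, 2, 1, 4, 8, 7, 3, 2, 1, 4, 3, 5, 9, 6]), 1001, 0),
    ((0, [1, 2, 3, 4, 5, 6, 7, 3, 2, 1, 4, 8, 7, 3, 2, 1, 0, 4, 3, 5, 6]), 901, 0),
    ((0, [1, 2, 3, 4, 5, 6, 7, 3, 2, 1, 4, 3, 8, 7, 3, 2, 1, 0, 4, 3, 5]), 1001, 0),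
    ((0, [1, 2, 3, 4, 5, 6, 7, 3, 2, 1, 4, 3, 8, 7, 3, 2, 1, 4, 3, 2, 5]), 1001, 0),
    ((1, [2, 3, 4, 5, 6, 7, 3, 2, 4, 5, 8, 7, 3, 2, 4, 3, 5, 6, 9, 6, 5]), 701, 0),
    ((1, [2, 3, 4, 5, 6, 7, 3, 2, 4, 5, 8, 7, 3, 2, 1, 4, 5, 6, 9, 6, 5]), 1001, 0),
    ((1, [2, 3, 4, 5, 6, 7, 3, 2, 4, 5, 8, 7, 3, 2, 1, 0, 4, 5, 6, 9, 6]), 1001, 0),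
    ((1, [2, 3, 4, 5, 6, 7, 3, 2, 4, 3, 5, 4, 8, 7, 3, 4, 5, 6, 9, 6, 5]), 701, 0),
    ((0, [1, 2, 3, 4, 5, 6, 7, 3, 2, 4, 3, 5, 7, 8, 7, 3, 4, 5, 6, 9, 6]), 1001, 0),
    ((0, [1, 2, 3, 4, 5, 6, 7, 3, 2, 4, 3, 5, 8, 7, 3, 4, 5, 6, 9, 6, 5]), 1001, 0),
    ((0, [1, 2, 3, 4, 5, 6, 7, 3, 2, 4, 5, 8, 7, 3, 2, 4, 3, 5, 6, 9, 6]), 1001, 0),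
    ((0, [1, 2, 3, 4, 5, 6, 7, 3, 2, 4, 5, 8, 7, 3, 2, 4, 5, 6, 9, 6, 5]), 1001, 0),
    ((1, [2, 3, 4, 5, 6, 7, 3, 2, 4, 3, 5, 4, 7, 3, 8, 7, 3, 4, 5, 6, 9]), 1001, 0),
    ((0, [1, 2, 3, 4, 5, 6, 7, 3, 2, 4, 8, 7, 3, 2, 1, 0, 4, 5, 6, 9, 6]), 1001, 0),
    ((0, [1, 2, 3, 4, 5, 6, 7, 3, 2, 1, 4, 8, 7, 3, 2, 1, 4, 5, 6, 9, 6]), 1001, 0),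
    ((0, [1, 2, 3, 4, 5, 6, 7, 3, 2, 1, 4, 3, 7, 8, 7, 3, 4, 5, 6, 9, 6]), 1001, 0),
    ((0, [1, 2, 3, 4, 5, 6, 7, 3, 2, 1, 4, 5, 8, 7, 3, 4, 5, 6, 9, 6, 5]), 1001, 0),
    ((0, [1, 2, 3, 4, 5, 6, 7, 3, 2, 1, 4, 3, 8, 7, 3, 2, 4, 3, 5, 6, 9]), 1001, 0),
    ((0, [1, 2, 3, 4, 5, 7, 3, 2, 1, 4, 3, 7, 8, 7, 3, 2, 4, 3, 5, 6, 9]), 901, 0),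
    ((0, [1, 2, 3, 4, 5, 6, 7, 3, 2, 1, 4, 5, 8, 7, 3, 2, 4, 3, 5, 6, 9]), 1001, 0),
    ((0, [1, 2, 3, 4, 5, 6, 7, 3, 2, 1, 4, 8, 7, 3, 2, 4, 3, 5, 6, 9, 6]), 1001, 0),
    ((0, [1, 2, 3, 4, 5, 6, 7, 3, 2, 1, 4, 5, 8, 7, 3, 2, 1, 4, 3, 7, 8]), 1001, 0),
    ((0, [1, 2, 3, 4, 5, 6, 7, 3, 2, 1, 4, 3, 5, 8, 7, 3, 2, 4, 3, 7, 8]), 901, 0),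
    ((0, [1, 2, 3, 4, 5, 6, 7, 3, 2, 1, 4, 5, 8, 7, 3, 2, 4, 3, 7, 8, 9]), 1001, 0),
    ((0, [1, 2, 3, 4, 5, 6, 7, 3, 2, 1, 4, 5, 8, 7, 3, 2, 4, 3, 5, 7, 8]), 1001, 0),
    ((0, [1, 2, 3, 4, 5, 6, 7, 3, 2, 1, 4, 3, 2, 8, 7, 3, 2, 1, 0, 4, 5]), 901, 0),
    ((0, [1, 2, 3, 4, 5, 6, 7, 3, 2, 1, 4, 3, 7, 8, 7, 3, 2, 4, 3, 5, 7]), 1001, 0),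
    ((0, [1, 2, 3, 4, 5, 6, 7, 3, 2, 1, 4, 3, 8, 7, 3, 2, 4, 3, 5, 7, 9]), 1001, 0),
    ((0, [1, 2, 3, 4, 5, 6, 7, 3, 2, 1, 4, 3, 8, 7, 3, 2, 1, 4, 3, 5, 7]), 1001, 0),
    ((0, [1, 2, 3, 4, 5, 6, 7, 3, 2, 1, 4, 3, 2, 8, 7, 3, 2, 4, 3, 5, 7]), 1001, 0),
    ((0, [1, 2, 3, 4, 5, 6, 7, 3, 2, 1, 4, 3, 2, 7, 8, 7, 3, 4, 5, 9, 6]), 1001, 0),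
    ((0, [1, 2, 3, 4, 5, 6, 7, 3, 2, 1, 4, 3, 2, 8, 7, 3, 2, 4, 3, 5, 6]), 1001, 0),
    ((0, [1, 2, 3, 4, 5, 6, 7, 3, 2, 1, 4, 3, 2, 5, 8, 7, 3, 4, 5, 9, 6]), 1001, 0),
    ((0, [1, 2, 3, 4, 5, 6, 7, 3, 2, 1, 4, 3, 2, 8, 7, 3, 2, 4, 5, 9, 6]), 1001, 0),
    ((0, [1, 2, 3, 4, 5, 6, 7, 3, 2, 1, 4, 3, 2, 8, 7, 3, 2, 1, 4, 5, 6]), 1001, 0),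
    ((0, [1, 2, 3, 4, 5, 6, 7, 3, 2, 1, 8, 7, 3, 2, 4, 3, 5, 4, 9, 6, 5]), 1001, 0),
    ((0, [1, 2, 3, 4, 5, 6, 7, 3, 2, 1, 4, 3, 2, 8, 7, 3, 2, 4, 5, 6, 9]), 1001, 0),
    ((0, [1, 2, 3, 4, 5, 6, 7, 3, 2, 1, 4, 3, 2, 8, 7, 3, 4, 5, 6, 9, 6]), 1001, 0),
    ((0, [1, 2, 3, 4, 5, 6, 7, 3, 2, 1, 4, 3, 2, 5, 8, 7, 3, 4, 5, 6, 9]), 1001, 0),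
    ((0, [1, 2, 3, 4, 5, 6, 7, 3, 2, 4, 3, 5, 4, 7, 3, 8, 7, 9, 6, 5, 4, 3]), 901, 0),
    ((0, [1, 2, 3, 4, 5, 6, 7, 3, 2, 1, 4, 3, 2, 5, 4, 7, 8, 7, 3, 9, 6, 5]), 1001, 0),
    ((0, [1, 2, 3, 4, 5, 6, 7, 3, 2, 1, 4, 3, 2, 5, 4, 8, 7, 3, 2, 9, 6, 5]), 1001, 0),
    ((0, [1, 2, 3, 4, 5, 6, 7, 3, 4, 5, 8, 7, 3, 2, 1, 0, 4, 3, 2, 9, 6, 5]), 901, 0),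
    ((0, [1, 2, 3, 4, 5, 6, 7, 3, 2, 1, 4, 3, 5, 4, 8, 7, 3, 2, 1, 9, 6, 5]), 901, 0),
    ((0, [1, 2, 3, 4, 5, 6, 7, 3, 2, 1, 4, 3, 2, 5, 4, 7, 8, 7, 3, 2, 1, 9]), 901, 0),
    ((0, [1, 2, 3, 4, 5, 6, 7, 3, 2, 1, 4, 3, 2, 5, 4, 8, 7, 3, 2, 1, 9, 6]), 901, 0),
    ((1, [2, 3, 4, 5, 6, 7, 3, 2, 4, 3, 5, 4, 7, 3, 8, 7, 3, 4, 9, 6, 5, 4]), 1001, 0),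
    ((0, [1, 2, 3, 4, 5, 6, 7, 3, 2, 4, 3, 5, 4, 7, 3, 8, 7, 3, 4, 9, 6, 5]), 1001, 0),
    ((0, [1, 2, 3, 4, 5, 6, 7, 3, 2, 4, 3, 5, 4, 7, 8, 7, 3, 2, 4, 9, 6, 5]), 1001, 0),
    ((0, [1, 2, 3, 4, 5, 6, 7, 3, 2, 4, 3, 5, 4, 8, 7, 3, 2, 1, 4, 9, 6, 5]), 1001, 0),
    ((1, [2, 3, 4, 5, 6, 7, 3, 2, 4, 5, 8, 7, 3, 2, 4, 3, 7, 9, 6, 5, 4, 3]), 1001, 0),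
    ((0, [1, 2, 3, 4, 5, 6, 7, 3, 2, 4, 3, 5, 4, 7, 8, 7, 3, 2, 1, 4, 5, 9]), 1001, 0),
    ((0, [1, 2, 3, 4, 5, 6, 7, 3, 2, 4, 5, 8, 7, 3, 2, 1, 0, 4, 3, 2, 5, 9]), 1001, 0),
    ((1, [2, 3, 4, 5, 6, 7, 3, 2, 4, 3, 5, 4, 7, 8, 7, 3, 2, 4, 3, 9, 6, 5]), 1001, 0),
    ((0, [1, 2, 3, 4, 5, 6, 7, 3, 2, 4, 3, 5, 4, 8, 7, 3, 2, 4, 3, 9, 6, 5]), 1001, 0),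
    ((0, [1, 2, 3, 4, 5, 6, 7, 3, 2, 4, 3, 5, 4, 7, 8, 7, 3, 2, 4, 3, 5, 9]), 1001, 0),
    ((0, [1, 2, 3, 4, 5, 6, 7, 3, 2, 1, 4, 5, 8, 7, 3, 2, 1, 0, 4, 3, 2, 5]), 701, 0),
    ((0, [1, 2, 3, 4, 5, 6, 7, 3, 2, 1, 4, 3, 5, 4, 8, 7, 3, 2, 4, 3, 9, 6]), 901, 0),
    ((0, [1, 2, 3, 4, 5, 6, 7, 3, 2, 1, 4, 3, 5, 4, 8, 7, 3, 2, 4, 3, 5, 9]), 1001, 0),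
    ((0, [1, 2, 3, 4, 5, 6, 7, 3, 2, 1, 4, 3, 5, 4, 7, 8, 7, 3, 2, 4, 3, 5]), 1001, 0),
    ((0, [1, 2, 3, 4, 5, 6, 7, 3, 2, 4, 3, 5, 7, 8, 7, 3, 2, 4, 3, 9, 6, 5]), 1001, 0),
    ((0, [1, 2, 3, 4, 5, 6, 7, 3, 2, 1, 4, 3, 5, 7, 8, 7, 3, 2, 4, 3, 9, 6]), 901, 0),
    ((0, [1, 2, 3, 4, 5, 6, 7, 3, 2, 1, 4, 3, 5, 8, 7, 3, 2, 4, 3, 9, 6, 5]), 1001, 0),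
    ((0, [1, 2, 3, 4, 5, 6, 7, 3, 2, 1, 4, 3, 5, 7, 8, 7, 3, 2, 4, 3, 5, 9]), 1001, 0),
    ((0, [1, 2, 3, 4, 5, 6, 7, 3, 2, 1, 4, 3, 2, 5, 4, 3, 8, 7, 3, 9, 6, 5]), 1001, 0),
    ((0, [1, 2, 3, 4, 5, 6, 7, 3, 2, 4, 5, 8, 7, 3, 2, 1, 4, 3, 7, 9, 6, 5]), 1001, 0),
    ((0, [1, 2, 3, 4, 5, 6, 7, 3, 2, 4, 5, 8, 7, 3, 2, 1, 4, 3, 2, 9, 6, 5]), 1001, 0),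
    ((0, [1, 2, 3, 4, 5, 6, 7, 3, 4, 5, 8, 7, 3, 2, 4, 3, 7, 8, 9, 6, 5, 4]), 1001, 0),
    ((0, [1, 2, 3, 4, 5, 6, 7, 3, 2, 4, 5, 8, 7, 3, 2, 4, 3, 7, 8, 9, 6, 5]), 1001, 0),
    ((0, [1, 2, 3, 4, 5, 6, 7, 3, 2, 4, 3, 5, 8, 7, 3, 2, 4, 3, 7, 9, 6, 5]), 1001, 0),
    ((0, [1, 2, 3, 4, 5, 6, 7, 3, 4, 5, 8, 7, 3, 2, 1, 4, 3, 2, 7, 3, 9, 6]), 1001, 0),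
    ((0, [1, 2, 3, 4, 5, 6, 7, 3, 2, 1, 4, 3, 2, 5, 4, 8, 7, 3, 2, 1, 0, 9]), 1001, 0),
    ((0, [1, 2, 3, 4, 5, 6, 7, 3, 2, 1, 4, 5, 8, 7, 3, 2, 1, 4, 3, 2, 5, 9]), 1001, 0),
    ((0, [1, 2, 3, 4, 5, 6, 7, 3, 2, 1, 4, 3, 5, 4, 8, 7, 3, 2, 1, 0, 4, 3]), 1001, 0),
    ((0, [1, 2, 3, 4, 5, 6, 7, 3, 2, 4, 5, 8, 7, 3, 2, 1, 4, 3, 2, 5, 7, 3]), 901, 0),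
    ((0, [1, 2, 3, 4, 5, 6, 7, 3, 2, 4, 3, 5, 8, 7, 3, 2, 1, 0, 4, 9, 6, 5]), 1001, 0),
    ((1, [2, 3, 4, 5, 6, 7, 3, 2, 4, 3, 5, 8, 7, 3, 2, 1, 0, 4, 3, 9, 6, 5]), 1001, 0),
    ((0, [1, 2, 3, 4, 5, 6, 7, 3, 2, 4, 3, 5, 8, 7, 3, 2, 1, 4, 3, 9, 6, 5]), 1001, 0),
    ((0, [1, 2, 3, 4, 5, 6, 7, 3, 2, 4, 3, 5, 7, 8, 7, 3, 2, 4, 3, 5, 7, 9]), 1001, 0),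
    ((0, [1, 2, 3, 4, 5, 6, 7, 3, 2, 1, 4, 5, 8, 7, 3, 2, 1, 0, 4, 9, 6, 5]), 1001, 0),
    ((0, [1, 2, 3, 4, 5, 6, 7, 3, 2, 1, 4, 5, 8, 7, 3, 2, 1, 4, 3, 9, 6, 5]), 2, 0),
    ((0, [1, 2, 3, 4, 5, 6, 7, 3, 2, 1, 4, 5, 8, 7, 3, 2, 1, 0, 4, 3, 5, 9]), 501, 0),
    ((1, [2, 3, 4, 5, 6, 7, 3, 2, 4, 3, 5, 4, 7, 3, 8, 7, 3, 4, 5, 9, 6, 5]), 701, 0),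
    ((1, [2, 3, 4, 5, 6, 7, 3, 2, 4, 5, 8, 7, 3, 2, 1, 0, 4, 3, 5, 9, 6, 5]), 1001, 0),
    ((0, [1, 2, 3, 4, 5, 6, 7, 3, 2, 4, 3, 5, 4, 7, 8, 7, 3, 4, 5, 9, 6, 5]), 1001, 0),
    ((0, [1, 2, 3, 4, 5, 6, 7, 3, 2, 4, 3, 5, 4, 7, 3, 8, 7, 3, 4, 5, 9, 6]), 1001, 0),
    ((0, [1, 2, 3, 4, 5, 6, 7, 3, 2, 4, 3, 5, 4, 7, 8, 7, 3, 2, 4, 5, 9, 6]), 1001, 0),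
    ((0, [1, 2, 3, 4, 5, 6, 7, 3, 2, 4, 5, 8, 7, 3, 2, 1, 0, 4, 5, 9, 6, 5]), 1001, 0),
    ((0, [1, 2, 3, 4, 5, 6, 7, 3, 2, 1, 4, 3, 5, 4, 8, 7, 3, 4, 5, 9, 6, 5]), 1001, 0),
    ((1, [2, 3, 4, 5, 6, 7, 3, 2, 4, 3, 5, 4, 8, 7, 3, 2, 1, 4, 5, 9, 6, 5]), 2, 0),
    ((0, [1, 2, 3, 4, 5, 6, 7, 3, 2, 4, 3, 5, 4, 8, 7, 3, 2, 1, 4, 5, 9, 6]), 1001, 0),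
    ((0, [1, 2, 3, 4, 5, 6, 7, 3, 2, 1, 4, 3, 5, 7, 8, 7, 3, 4, 5, 9, 6, 5]), 1001, 0),
    ((1, [2, 3, 4, 5, 6, 7, 3, 2, 4, 3, 5, 8, 7, 3, 2, 4, 3, 5, 7, 9, 6, 5]), 1001, 0),
    ((0, [1, 2, 3, 4, 5, 6, 7, 3, 2, 4, 3, 5, 4, 8, 7, 3, 2, 4, 3, 5, 9, 6]), 1001, 0),
    ((0, [1, 2, 3, 4, 5, 6, 7, 3, 2, 4, 5, 8, 7, 3, 2, 4, 3, 5, 9, 6, 5, 4]), 1001, 0),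
    ((0, [1, 2, 3, 4, 5, 6, 7, 3, 2, 4, 5, 8, 7, 3, 2, 4, 3, 5, 7, 9, 6, 5]), 1001, 0),
    ((0, [1, 2, 3, 4, 5, 6, 7, 3, 2, 4, 5, 8, 7, 3, 2, 1, 4, 3, 5, 7, 9, 6]), 1001, 0)]

/-- Part 8 of the cycles. -/
def reps8 : List ((Nat × List Nat) × Nat × Nat) :=
  [
    ((0, [1, 2, 3, 4, 5, 6, 7, 3, 2, 4, 5, 8, 7, 3, 2, 4, 3, 5, 7, 8, 9, 6]), 1001, 0),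
    ((0, [1, 2, 3, 4, 5, 6, 7, 3, 2, 4, 3, 5, 8, 7, 3, 2, 4, 3, 5, 7, 9, 6]), 1001, 0),
    ((1, [2, 3, 4, 5, 6, 7, 3, 2, 4, 3, 5, 8, 7, 3, 2, 1, 0, 4, 5, 9, 6, 5]), 1001, 0),
    ((1, [2, 3, 4, 5, 6, 7, 3, 2, 4, 3, 5, 8, 7, 3, 2, 1, 4, 3, 5, 9, 6, 5]), 1001, 0),
    ((1, [2, 3, 4, 5, 6, 7, 3, 2, 4, 3, 5, 8, 7, 3, 2, 1, 0, 4, 3, 5, 9, 6]), 1001, 0),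
    ((0, [1, 2, 3, 4, 5, 6, 7, 3, 2, 4, 3, 5, 8, 7, 3, 2, 1, 4, 5, 9, 6, 5]), 1001, 0),
    ((0, [1, 2, 3, 4, 5, 6, 7, 3, 2, 1, 4, 5, 8, 7, 3, 2, 1, 0, 4, 5, 9, 6]), 1001, 0),
    ((0, [1, 2, 3, 4, 5, 6, 7, 3, 2, 1, 4, 5, 8, 7, 3, 2, 1, 4, 5, 9, 6, 5]), 1001, 0),
    ((0, [1, 2, 3, 4, 5, 6, 7, 3, 2, 4, 3, 5, 7, 8, 7, 3, 2, 4, 5, 9, 6, 5]), 1001, 0),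
    ((0, [1, 2, 3, 4, 5, 6, 7, 3, 2, 4, 3, 5, 7, 8, 7, 3, 2, 4, 3, 5, 9, 6]), 1001, 0),
    ((0, [1, 2, 3, 4, 5, 6, 7, 3, 2, 4, 3, 5, 8, 7, 3, 2, 4, 3, 5, 9, 6, 5]), 1001, 0),
    ((0, [1, 2, 3, 4, 5, 6, 7, 3, 2, 1, 4, 3, 5, 8, 7, 3, 2, 4, 3, 5, 9, 6]), 1001, 0),
    ((0, [1, 2, 3, 4, 5, 6, 7, 3, 2, 1, 4, 5, 8, 7, 3, 2, 1, 4, 3, 2, 5, 6]), 1001, 0),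
    ((0, [1, 2, 3, 4, 5, 6, 7, 3, 2, 1, 4, 5, 8, 7, 3, 2, 1, 0, 4, 3, 5, 6]), 901, 0),
    ((0, [1, 2, 3, 4, 5, 6, 7, 3, 2, 1, 4, 3, 5, 4, 8, 7, 3, 2, 4, 3, 5, 6]), 1001, 0),
    ((0, [1, 2, 3, 4, 5, 6, 7, 3, 2, 1, 4, 3, 5, 7, 8, 7, 3, 2, 4, 3, 5, 6]), 1001, 0),
    ((0, [1, 2, 3, 4, 5, 6, 7, 3, 2, 4, 3, 5, 4, 8, 7, 3, 2, 4, 3, 7, 8, 9]), 1001, 0),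
    ((0, [1, 2, 3, 4, 5, 6, 7, 3, 2, 4, 3, 5, 7, 8, 7, 3, 2, 4, 3, 7, 8, 9]), 1001, 0),
    ((0, [1, 2, 3, 4, 5, 6, 7, 3, 2, 4, 3, 5, 8, 7, 3, 2, 1, 4, 3, 2, 7, 3]), 1001, 0),
    ((0, [1, 2, 3, 4, 5, 6, 7, 3, 2, 4, 3, 5, 8, 7, 3, 2, 4, 3, 5, 6, 7, 9]), 1001, 0),
    ((0, [1, 2, 3, 4, 5, 6, 7, 3, 2, 4, 3, 5, 4, 8, 7, 3, 2, 4, 3, 5, 6, 9]), 1001, 0),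
    ((0, [1, 2, 3, 4, 5, 6, 7, 3, 2, 4, 3, 5, 8, 7, 3, 2, 4, 3, 5, 6, 9, 6]), 1001, 0),
    ((0, [1, 2, 3, 4, 5, 6, 7, 3, 2, 1, 4, 5, 8, 7, 3, 2, 1, 0, 4, 3, 5, 7]), 701, 0),
    ((0, [1, 2, 3, 4, 5, 6, 7, 3, 2, 1, 4, 3, 5, 7, 8, 7, 3, 2, 4, 3, 5, 7]), 1001, 0),
    ((0, [1, 2, 3, 4, 5, 6, 7, 3, 2, 1, 4, 3, 5, 8, 7, 3, 2, 4, 3, 5, 7, 9]), 1001, 0),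
    ((0, [1, 2, 3, 4, 5, 6, 7, 3, 2, 1, 4, 3, 5, 8, 7, 3, 2, 4, 3, 5, 6, 7]), 1001, 0),
    ((0, [1, 2, 3, 4, 5, 6, 7, 3, 2, 1, 4, 3, 2, 5, 7, 8, 7, 3, 2, 1, 9, 6]), 901, 0),
    ((0, [1, 2, 3, 4, 5, 6, 7, 3, 2, 1, 4, 3, 5, 8, 7, 3, 2, 1, 4, 3, 2, 5]), 1001, 0),
    ((0, [1, 2, 3, 4, 5, 6, 7, 3, 2, 1, 4, 3, 5, 8, 7, 3, 2, 1, 4, 3, 5, 7]), 1001, 0),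
    ((0, [1, 2, 3, 4, 5, 6, 7, 3, 2, 1, 4, 5, 8, 7, 3, 2, 4, 3, 5, 9, 6, 5]), 901, 0),
    ((0, [1, 2, 3, 4, 5, 6, 7, 3, 2, 4, 3, 7, 8, 7, 3, 2, 4, 3, 5, 4, 9, 6]), 1001, 0),
    ((0, [1, 2, 3, 4, 5, 6, 7, 3, 2, 1, 4, 3, 7, 8, 7, 3, 2, 1, 4, 3, 5, 9]), 1001, 0),
    ((0, [1, 2, 3, 4, 5, 6, 7, 3, 2, 1, 4, 3, 7, 8, 7, 3, 2, 4, 3, 5, 9, 6]), 1001, 0),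
    ((0, [1, 2, 3, 4, 5, 6, 7, 3, 2, 1, 4, 3, 8, 7, 3, 2, 1, 4, 3, 5, 9, 6]), 1001, 0),
    ((0, [1, 2, 3, 4, 5, 6, 7, 3, 2, 1, 4, 3, 7, 8, 7, 3, 2, 1, 4, 3, 5, 6]), 1001, 0),
    ((0, [1, 2, 3, 4, 5, 6, 7, 3, 2, 1, 4, 3, 2, 5, 7, 8, 7, 3, 4, 9, 6, 5]), 1001, 0),
    ((0, [1, 2, 3, 4, 5, 6, 7, 3, 2, 1, 4, 3, 2, 5, 8, 7, 3, 2, 4, 9, 6, 5]), 1001, 0),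
    ((0, [1, 2, 3, 4, 5, 6, 7, 3, 2, 1, 4, 3, 2, 5, 4, 8, 7, 3, 2, 4, 5, 9]), 1001, 0),
    ((0, [1, 2, 3, 4, 5, 6, 7, 3, 2, 1, 4, 3, 2, 5, 4, 8, 7, 3, 2, 1, 4, 5]), 1001, 0),
    ((0, [1, 2, 3, 4, 5, 6, 7, 3, 2, 1, 4, 3, 2, 5, 4, 8, 7, 3, 2, 4, 3, 5]), 1001, 0),
    ((0, [1, 2, 3, 4, 5, 6, 7, 3, 2, 1, 4, 3, 2, 5, 8, 7, 3, 2, 4, 3, 5, 9]), 1001, 0),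
    ((0, [1, 2, 3, 4, 5, 6, 7, 3, 2, 1, 4, 3, 2, 5, 7, 8, 7, 3, 2, 4, 3, 5]), 1001, 0),
    ((0, [1, 2, 3, 4, 5, 6, 7, 3, 4, 5, 8, 7, 3, 2, 1, 4, 3, 2, 7, 3, 4, 5]), 1001, 0),
    ((0, [1, 2, 3, 4, 5, 6, 7, 3, 2, 1, 4, 3, 2, 5, 8, 7, 3, 2, 4, 3, 5, 7]), 1001, 0),
    ((0, [1, 2, 3, 4, 5, 6, 7, 3, 2, 1, 4, 3, 2, 5, 8, 7, 3, 2, 1, 4, 5, 9]), 1001, 0),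
    ((0, [1, 2, 3, 4, 5, 6, 7, 3, 2, 1, 4, 3, 2, 7, 8, 7, 3, 2, 4, 3, 5, 9]), 1001, 0),
    ((0, [1, 2, 3, 4, 5, 6, 7, 3, 2, 1, 4, 3, 2, 8, 7, 3, 2, 1, 4, 3, 5, 9]), 1001, 0),
    ((0, [1, 2, 3, 4, 5, 6, 7, 3, 2, 1, 4, 3, 2, 7, 8, 7, 3, 2, 1, 4, 3, 5]), 1001, 0),
    ((1, [2, 3, 4, 5, 6, 7, 3, 2, 4, 3, 5, 7, 8, 7, 3, 2, 1, 0, 4, 9, 6, 5]), 1001, 0),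
    ((0, [1, 2, 3, 4, 5, 6, 7, 3, 2, 4, 3, 8, 7, 3, 2, 4, 3, 5, 4, 6, 9, 6]), 1001, 0),
    ((0, [1, 2, 3, 4, 5, 6, 7, 3, 2, 4, 3, 7, 8, 7, 3, 2, 1, 0, 4, 5, 9, 6]), 1001, 0),
    ((0, [1, 2, 3, 4, 5, 6, 7, 3, 2, 1, 4, 3, 2, 5, 8, 7, 3, 2, 1, 0, 9, 6]), 1001, 0),
    ((0, [1, 2, 3, 4, 5, 6, 7, 3, 2, 1, 4, 3, 2, 5, 7, 8, 7, 3, 2, 1, 0, 9]), 1001, 0),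
    ((0, [1, 2, 3, 4, 5, 6, 7, 3, 2, 1, 4, 3, 5, 8, 7, 3, 2, 1, 0, 4, 3, 2]), 1001, 0),
    ((0, [1, 2, 3, 4, 5, 6, 7, 3, 2, 1, 4, 3, 5, 7, 8, 7, 3, 2, 1, 0, 4, 3]), 1001, 0),
    ((0, [1, 2, 3, 4, 5, 6, 7, 3, 2, 1, 4, 3, 5, 8, 7, 3, 2, 1, 0, 4, 3, 5]), 1001, 0),
    ((0, [1, 2, 3, 4, 5, 6, 7, 3, 2, 1, 4, 8, 7, 3, 2, 1, 0, 4, 3, 5, 9, 6]), 901, 0),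
    ((0, [1, 2, 3, 4, 5, 6, 7, 3, 2, 1, 4, 3, 8, 7, 3, 2, 1, 0, 4, 3, 5, 9]), 1001, 0),
    ((0, [1, 2, 3, 4, 5, 6, 7, 3, 2, 1, 4, 3, 7, 8, 7, 3, 2, 1, 4, 3, 2, 5]), 1001, 0),
    ((1, [2, 3, 4, 5, 6, 7, 3, 2, 4, 5, 8, 7, 3, 2, 4, 3, 5, 6, 9, 6, 5, 4]), 1001, 0),
    ((1, [2, 3, 4, 5, 6, 7, 3, 2, 4, 3, 5, 4, 7, 3, 8, 7, 3, 4, 5, 6, 9, 6]), 1001, 0),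
    ((1, [2, 3, 4, 5, 6, 7, 3, 2, 4, 5, 8, 7, 3, 2, 1, 0, 4, 5, 6, 9, 6, 5]), 1001, 0),
    ((0, [1, 2, 3, 4, 5, 6, 7, 3, 2, 4, 3, 5, 4, 8, 7, 3, 4, 5, 6, 9, 6, 5]), 1001, 0),
    ((0, [1, 2, 3, 4, 5, 6, 7, 3, 2, 4, 3, 5, 7, 8, 7, 3, 4, 5, 6, 9, 6, 5]), 1001, 0),
    ((0, [1, 2, 3, 4, 5, 6, 7, 3, 2, 1, 4, 3, 5, 8, 7, 3, 4, 5, 6, 9, 6, 5]), 1001, 0),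
    ((0, [1, 2, 3, 4, 5, 6, 7, 3, 2, 4, 5, 8, 7, 3, 2, 4, 3, 5, 6, 9, 6, 5]), 1001, 0),
    ((0, [1, 2, 3, 4, 5, 6, 7, 3, 2, 4, 5, 8, 7, 3, 2, 1, 4, 5, 6, 9, 6, 5]), 1001, 0),
    ((0, [1, 2, 3, 4, 5, 6, 7, 3, 2, 4, 3, 5, 4, 7, 3, 8, 7, 3, 4, 5, 6, 9]), 1001, 0),
    ((0, [1, 2, 3, 4, 5, 6, 7, 3, 2, 4, 3, 5, 4, 7, 8, 7, 3, 2, 4, 5, 6, 9]), 1001, 0),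
    ((0, [1, 2, 3, 4, 5, 6, 7, 3, 2, 4, 3, 5, 4, 8, 7, 3, 2, 1, 4, 5, 6, 9]), 1001, 0),
    ((0, [1, 2, 3, 4, 5, 6, 7, 3, 2, 4, 5, 8, 7, 3, 2, 1, 4, 3, 5, 6, 7, 9]), 1001, 0),
    ((0, [1, 2, 3, 4, 5, 6, 7, 3, 2, 4, 5, 8, 7, 3, 2, 4, 3, 5, 6, 7, 8, 9]), 1001, 0),
    ((1, [2, 3, 4, 5, 6, 7, 3, 2, 4, 3, 5, 8, 7, 3, 2, 4, 3, 5, 6, 9, 6, 5]), 1001, 0),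
    ((0, [1, 2, 3, 4, 5, 6, 7, 3, 2, 1, 4, 3, 5, 8, 7, 3, 2, 4, 3, 5, 6, 9]), 1001, 0),
    ((0, [1, 2, 3, 4, 5, 6, 7, 3, 2, 1, 4, 5, 8, 7, 3, 2, 4, 5, 6, 9, 6, 5]), 1001, 0),
    ((1, [2, 3, 4, 5, 6, 7, 3, 2, 4, 3, 5, 8, 7, 3, 2, 4, 3, 5, 4, 9, 6, 5]), 1001, 0),
    ((0, [1, 2, 3, 4, 5, 6, 7, 3, 2, 4, 3, 8, 7, 3, 2, 4, 3, 5, 4, 9, 6, 5]), 1001, 0),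
    ((0, [1, 2, 3, 4, 5, 6, 7, 3, 2, 1, 4, 8, 7, 3, 2, 1, 4, 3, 5, 6, 9, 6]), 1001, 0),
    ((0, [1, 2, 3, 4, 5, 6, 7, 3, 2, 1, 4, 8, 7, 3, 2, 1, 0, 4, 3, 5, 6, 9]), 901, 0),
    ((0, [1, 2, 3, 4, 5, 6, 7, 3, 2, 1, 4, 3, 8, 7, 3, 2, 1, 4, 3, 2, 5, 9]), 1001, 0),
    ((0, [1, 2, 3, 4, 5, 6, 7, 3, 2, 1, 4, 3, 8, 7, 3, 2, 4, 3, 5, 6, 9, 6]), 1001, 0),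
    ((0, [1, 2, 3, 4, 5, 6, 7, 3, 2, 1, 4, 3, 7, 8, 7, 3, 2, 4, 3, 5, 6, 9]), 1001, 0),
    ((0, [1, 2, 3, 4, 5, 6, 7, 3, 2, 1, 4, 3, 8, 7, 3, 2, 1, 4, 3, 5, 6, 9]), 1001, 0),
    ((0, [1, 2, 3, 4, 5, 6, 7, 3, 2, 1, 4, 5, 8, 7, 3, 2, 4, 3, 5, 6, 9, 6]), 1001, 0),
    ((0, [1, 2, 3, 4, 5, 6, 7, 3, 2, 1, 4, 8, 7, 3, 2, 4, 3, 5, 4, 9, 6, 5]), 1001, 0),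
    ((0, [1, 2, 3, 4, 5, 6, 7, 3, 2, 1, 4, 5, 8, 7, 3, 2, 1, 4, 3, 7, 8, 9]), 1001, 0),
    ((0, [1, 2, 3, 4, 5, 6, 7, 3, 2, 1, 4, 3, 5, 8, 7, 3, 2, 4, 3, 7, 8, 9]), 901, 0),
    ((0, [1, 2, 3, 4, 5, 6, 7, 3, 2, 1, 4, 5, 8, 7, 3, 2, 1, 4, 3, 2, 7, 8]), 1001, 0),
    ((0, [1, 2, 3, 4, 5, 6, 7, 3, 2, 1, 4, 3, 5, 7, 8, 7, 3, 2, 4, 3, 7, 8]), 901, 0),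
    ((0, [1, 2, 3, 4, 5, 6, 7, 3, 2, 1, 4, 3, 5, 4, 8, 7, 3, 2, 4, 3, 7, 8]), 901, 0),
    ((0, [1, 2, 3, 4, 5, 6, 7, 3, 2, 1, 4, 5, 8, 7, 3, 2, 1, 4, 3, 5, 7, 8]), 1001, 0),
    ((0, [1, 2, 3, 4, 5, 6, 7, 3, 2, 1, 4, 3, 5, 8, 7, 3, 2, 4, 3, 5, 7, 8]), 1001, 0),
    ((0, [1, 2, 3, 4, 5, 6, 7, 3, 2, 1, 4, 3, 5, 8, 7, 3, 2, 1, 4, 3, 7, 8]), 901, 0),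
    ((0, [1, 2, 3, 4, 5, 6, 7, 3, 2, 1, 4, 5, 8, 7, 3, 2, 4, 3, 7, 8, 9, 6]), 1001, 0),
    ((0, [1, 2, 3, 4, 5, 6, 7, 3, 2, 1, 4, 5, 8, 7, 3, 2, 4, 3, 5, 7, 8, 9]), 1001, 0),
    ((0, [1, 2, 3, 4, 5, 6, 7, 3, 2, 1, 4, 5, 8, 7, 3, 2, 4, 3, 5, 4, 7, 8]), 1001, 0),
    ((0, [1, 2, 3, 4, 5, 6, 7, 3, 2, 1, 4, 5, 8, 7, 3, 2, 4, 3, 5, 6, 7, 8]), 1001, 0),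
    ((0, [1, 2, 3, 4, 5, 6, 7, 3, 2, 1, 4, 3, 2, 8, 7, 3, 2, 1, 0, 4, 5, 9]), 901, 0),
    ((0, [1, 2, 3, 4, 5, 6, 7, 3, 2, 1, 4, 3, 2, 8, 7, 3, 2, 1, 0, 4, 3, 5]), 1001, 0),
    ((0, [1, 2, 3, 4, 5, 6, 7, 3, 2, 1, 4, 3, 7, 8, 7, 3, 2, 4, 3, 5, 7, 9]), 1001, 0),
    ((0, [1, 2, 3, 4, 5, 6, 7, 3, 2, 1, 4, 3, 7, 8, 7, 3, 2, 1, 4, 3, 5, 7]), 1001, 0),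
    ((0, [1, 2, 3, 4, 5, 6, 7, 3, 2, 1, 4, 3, 2, 8, 7, 3, 2, 4, 3, 5, 7, 8]), 1001, 0),
    ((0, [1, 2, 3, 4, 5, 6, 7, 3, 2, 1, 4, 3, 2, 8, 7, 3, 2, 4, 3, 5, 4, 6]), 1001, 0),
    ((0, [1, 2, 3, 4, 5, 6, 7, 3, 2, 1, 4, 3, 8, 7, 3, 2, 1, 4, 3, 5, 7, 9]), 1001, 0),
    ((0, [1, 2, 3, 4, 5, 6, 7, 3, 2, 1, 4, 3, 2, 8, 7, 3, 2, 4, 3, 5, 7, 9]), 1001, 0),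
    ((0, [1, 2, 3, 4, 5, 6, 7, 3, 2, 1, 4, 3, 2, 8, 7, 3, 2, 1, 4, 3, 5, 7]), 1001, 0),
    ((0, [1, 2, 3, 4, 5, 6, 7, 3, 2, 1, 4, 3, 8, 7, 3, 2, 4, 3, 5, 7, 9, 6]), 1001, 0),
    ((0, [1, 2, 3, 4, 5, 6, 7, 3, 2, 1, 4, 3, 2, 8, 7, 3, 2, 1, 4, 3, 2, 5]), 1001, 0),
    ((0, [1, 2, 3, 4, 5, 6, 7, 3, 2, 1, 4, 3, 2, 8, 7, 3, 2, 1, 4, 3, 5, 6]), 1001, 0),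
    ((0, [1, 2, 3, 4, 5, 6, 7, 3, 2, 1, 4, 3, 2, 8, 7, 3, 2, 4, 3, 5, 6, 7]), 1001, 0),
    ((0, [1, 2, 3, 4, 5, 6, 7, 3, 2, 1, 4, 3, 2, 8, 7, 3, 2, 4, 3, 5, 6, 9]), 1001, 0),
    ((0, [1, 2, 3, 4, 5, 6, 7, 3, 2, 1, 4, 3, 2, 5, 8, 7, 3, 4, 5, 9, 6, 5]), 1001, 0),
    ((0, [1, 2, 3, 4, 5, 6, 7, 3, 2, 1, 8, 7, 3, 2, 4, 3, 5, 4, 6, 9, 6, 5]), 1001, 0),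
    ((0, [1, 2, 3, 4, 5, 6, 7, 3, 2, 1, 4, 3, 2, 8, 7, 3, 2, 1, 4, 5, 9, 6]), 1001, 0),
    ((0, [1, 2, 3, 4, 5, 6, 7, 3, 2, 1, 4, 3, 2, 8, 7, 3, 2, 4, 3, 5, 9, 6]), 1001, 0),
    ((0, [1, 2, 3, 4, 5, 6, 7, 3, 2, 1, 4, 3, 2, 5, 4, 8, 7, 3, 2, 4, 5, 6]), 1001, 0),
    ((0, [1, 2, 3, 4, 5, 6, 7, 3, 2, 1, 4, 3, 2, 8, 7, 3, 2, 1, 0, 4, 5, 6]), 801, 0),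
    ((0, [1, 2, 3, 4, 5, 6, 7, 3, 2, 1, 8, 7, 3, 2, 4, 3, 5, 4, 7, 9, 6, 5]), 1001, 0),
    ((0, [1, 2, 3, 4, 5, 6, 7, 3, 2, 1, 4, 3, 2, 8, 7, 3, 2, 1, 4, 5, 6, 9]), 1001, 0),
    ((0, [1, 2, 3, 4, 5, 6, 7, 3, 2, 1, 4, 3, 2, 8, 7, 3, 2, 4, 5, 6, 9, 6]), 1001, 0)]

/-- Part 9 of the cycles. -/
def reps9 : List ((Nat × List Nat) × Nat × Nat) :=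
  [
    ((0, [1, 2, 3, 4, 5, 6, 7, 3, 2, 1, 4, 3, 2, 5, 8, 7, 3, 4, 5, 6, 9, 6]), 1001, 0),
    ((0, [1, 2, 3, 4, 5, 6, 7, 3, 2, 1, 4, 3, 2, 5, 4, 7, 8, 7, 3, 2, 1, 9, 6]), 901, 0),
    ((0, [1, 2, 3, 4, 5, 6, 7, 3, 2, 1, 4, 3, 2, 5, 4, 8, 7, 3, 2, 1, 9, 6, 5]), 1001, 0),
    ((0, [1, 2, 3, 4, 5, 6, 7, 3, 2, 4, 3, 5, 4, 7, 3, 8, 7, 3, 4, 9, 6, 5, 4]), 1001, 0),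
    ((0, [1, 2, 3, 4, 5, 6, 7, 3, 2, 1, 4, 3, 5, 4, 7, 3, 8, 7, 3, 4, 9, 6, 5]), 1001, 0),
    ((0, [1, 2, 3, 4, 5, 6, 7, 3, 2, 4, 3, 5, 4, 7, 8, 7, 3, 2, 4, 9, 6, 5, 4]), 1001, 0),
    ((0, [1, 2, 3, 4, 5, 6, 7, 3, 2, 4, 3, 5, 4, 7, 8, 7, 3, 2, 1, 4, 9, 6, 5]), 1001, 0),
    ((0, [1, 2, 3, 4, 5, 6, 7, 3, 2, 4, 3, 5, 4, 8, 7, 3, 2, 1, 4, 9, 6, 5, 4]), 1001, 0),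
    ((0, [1, 2, 3, 4, 5, 6, 7, 3, 2, 1, 4, 3, 5, 4, 8, 7, 3, 2, 1, 4, 9, 6, 5]), 1001, 0),
    ((0, [1, 2, 3, 4, 5, 6, 7, 3, 2, 4, 3, 5, 4, 8, 7, 3, 2, 4, 9, 6, 5, 4, 3]), 1001, 0),
    ((0, [1, 2, 3, 4, 5, 6, 7, 3, 2, 4, 3, 5, 4, 7, 8, 7, 3, 2, 4, 3, 9, 6, 5]), 1001, 0),
    ((0, [1, 2, 3, 4, 5, 6, 7, 3, 2, 4, 3, 5, 4, 8, 7, 3, 2, 1, 4, 3, 9, 6, 5]), 1001, 0),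
    ((0, [1, 2, 3, 4, 5, 6, 7, 3, 2, 1, 4, 3, 5, 4, 8, 7, 3, 2, 9, 6, 5, 4, 3]), 1001, 0),
    ((0, [1, 2, 3, 4, 5, 6, 7, 3, 2, 1, 4, 5, 8, 7, 3, 2, 1, 0, 4, 3, 2, 5, 9]), 2, 0),
    ((0, [1, 2, 3, 4, 5, 6, 7, 3, 2, 1, 4, 3, 5, 4, 8, 7, 3, 2, 4, 3, 9, 6, 5]), 1001, 0),
    ((0, [1, 2, 3, 4, 5, 6, 7, 3, 2, 1, 4, 3, 5, 4, 7, 8, 7, 3, 2, 4, 3, 5, 9]), 1001, 0),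
    ((0, [1, 2, 3, 4, 5, 6, 7, 3, 2, 1, 4, 3, 5, 7, 8, 7, 3, 2, 4, 3, 9, 6, 5]), 1001, 0),
    ((0, [1, 2, 3, 4, 5, 6, 7, 3, 2, 4, 5, 8, 7, 3, 2, 1, 4, 3, 7, 9, 6, 5, 4]), 1001, 0),
    ((0, [1, 2, 3, 4, 5, 6, 7, 3, 2, 4, 5, 8, 7, 3, 2, 4, 3, 7, 8, 9, 6, 5, 4]), 1001, 0),
    ((0, [1, 2, 3, 4, 5, 6, 7, 3, 2, 4, 3, 5, 4, 8, 7, 3, 2, 1, 0, 4, 9, 6, 5]), 1001, 0),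
    ((0, [1, 2, 3, 4, 5, 6, 7, 3, 2, 4, 5, 8, 7, 3, 2, 4, 3, 7, 9, 6, 5, 4, 3]), 1001, 0),
    ((0, [1, 2, 3, 4, 5, 6, 7, 3, 2, 4, 3, 5, 8, 7, 3, 2, 1, 4, 3, 7, 9, 6, 5]), 1001, 0),
    ((0, [1, 2, 3, 4, 5, 6, 7, 3, 2, 4, 3, 5, 8, 7, 3, 2, 4, 3, 7, 8, 9, 6, 5]), 1001, 0),
    ((0, [1, 2, 3, 4, 5, 6, 7, 3, 4, 5, 8, 7, 3, 2, 1, 4, 3, 2, 7, 3, 9, 6, 5]), 901, 0),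
    ((0, [1, 2, 3, 4, 5, 6, 7, 3, 2, 1, 4, 3, 2, 5, 4, 8, 7, 3, 2, 1, 0, 9, 6]), 1001, 0),
    ((0, [1, 2, 3, 4, 5, 6, 7, 3, 2, 1, 4, 5, 8, 7, 3, 2, 1, 4, 3, 2, 9, 6, 5]), 601, 0),
    ((0, [1, 2, 3, 4, 5, 6, 7, 3, 2, 1, 4, 3, 5, 4, 8, 7, 3, 2, 1, 0, 4, 3, 9]), 1001, 0),
    ((0, [1, 2, 3, 4, 5, 6, 7, 3, 2, 4, 5, 8, 7, 3, 2, 1, 4, 3, 2, 5, 7, 3, 9]), 901, 0),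
    ((0, [1, 2, 3, 4, 5, 6, 7, 3, 2, 1, 4, 3, 5, 4, 8, 7, 3, 2, 1, 0, 4, 3, 5]), 901, 0),
    ((0, [1, 2, 3, 4, 5, 6, 7, 3, 2, 4, 3, 5, 7, 8, 7, 3, 2, 4, 3, 7, 9, 6, 5]), 1001, 0),
    ((0, [1, 2, 3, 4, 5, 6, 7, 3, 2, 1, 4, 5, 8, 7, 3, 2, 1, 0, 4, 3, 9, 6, 5]), 1001, 0),
    ((1, [2, 3, 4, 5, 6, 7, 3, 2, 4, 3, 5, 4, 7, 3, 8, 7, 3, 4, 5, 9, 6, 5, 4]), 1001, 0),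
    ((0, [1, 2, 3, 4, 5, 6, 7, 3, 2, 4, 3, 5, 4, 7, 3, 8, 7, 3, 4, 5, 9, 6, 5]), 1001, 0),
    ((0, [1, 2, 3, 4, 5, 6, 7, 3, 2, 4, 3, 5, 4, 7, 8, 7, 3, 2, 4, 5, 9, 6, 5]), 1001, 0),
    ((0, [1, 2, 3, 4, 5, 6, 7, 3, 2, 4, 3, 5, 4, 7, 8, 7, 3, 2, 1, 4, 5, 9, 6]), 1001, 0),
    ((0, [1, 2, 3, 4, 5, 6, 7, 3, 2, 4, 5, 8, 7, 3, 2, 1, 0, 4, 3, 2, 5, 9, 6]), 1001, 0),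
    ((0, [1, 2, 3, 4, 5, 6, 7, 3, 2, 4, 3, 5, 4, 8, 7, 3, 2, 1, 4, 5, 9, 6, 5]), 1001, 0),
    ((1, [2, 3, 4, 5, 6, 7, 3, 2, 4, 5, 8, 7, 3, 2, 4, 3, 5, 7, 9, 6, 5, 4, 3]), 1001, 0),
    ((1, [2, 3, 4, 5, 6, 7, 3, 2, 4, 3, 5, 4, 7, 8, 7, 3, 2, 4, 3, 5, 9, 6, 5]), 1001, 0),
    ((0, [1, 2, 3, 4, 5, 6, 7, 3, 2, 4, 3, 5, 4, 7, 8, 7, 3, 2, 4, 3, 5, 9, 6]), 1001, 0),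
    ((0, [1, 2, 3, 4, 5, 6, 7, 3, 2, 4, 3, 5, 4, 8, 7, 3, 2, 4, 3, 5, 9, 6, 5]), 1001, 0),
    ((0, [1, 2, 3, 4, 5, 6, 7, 3, 2, 1, 4, 3, 5, 4, 8, 7, 3, 2, 4, 3, 5, 9, 6]), 1001, 0),
    ((0, [1, 2, 3, 4, 5, 6, 7, 3, 2, 4, 5, 8, 7, 3, 2, 1, 4, 3, 5, 7, 9, 6, 5]), 1001, 0),
    ((0, [1, 2, 3, 4, 5, 6, 7, 3, 2, 4, 5, 8, 7, 3, 2, 1, 4, 3, 2, 5, 9, 6, 5]), 1001, 0),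
    ((0, [1, 2, 3, 4, 5, 6, 7, 3, 2, 4, 5, 8, 7, 3, 2, 4, 3, 5, 7, 8, 9, 6, 5]), 1001, 0),
    ((0, [1, 2, 3, 4, 5, 6, 7, 3, 2, 4, 3, 5, 8, 7, 3, 2, 4, 3, 5, 7, 9, 6, 5]), 1001, 0),
    ((0, [1, 2, 3, 4, 5, 6, 7, 3, 2, 1, 4, 5, 8, 7, 3, 2, 1, 4, 3, 2, 5, 9, 6]), 1001, 0),
    ((0, [1, 2, 3, 4, 5, 6, 7, 3, 2, 4, 3, 5, 8, 7, 3, 2, 1, 0, 4, 5, 9, 6, 5]), 1001, 0),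
    ((1, [2, 3, 4, 5, 6, 7, 3, 2, 4, 3, 5, 8, 7, 3, 2, 1, 0, 4, 3, 5, 9, 6, 5]), 1001, 0),
    ((0, [1, 2, 3, 4, 5, 6, 7, 3, 2, 4, 3, 5, 8, 7, 3, 2, 1, 4, 3, 5, 9, 6, 5]), 1001, 0),
    ((0, [1, 2, 3, 4, 5, 6, 7, 3, 2, 1, 4, 5, 8, 7, 3, 2, 1, 0, 4, 5, 9, 6, 5]), 1001, 0),
    ((0, [1, 2, 3, 4, 5, 6, 7, 3, 2, 1, 4, 5, 8, 7, 3, 2, 1, 0, 4, 3, 5, 9, 6]), 901, 0),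
    ((0, [1, 2, 3, 4, 5, 6, 7, 3, 2, 1, 4, 5, 8, 7, 3, 2, 1, 4, 3, 5, 9, 6, 5]), 901, 0),
    ((0, [1, 2, 3, 4, 5, 6, 7, 3, 2, 4, 3, 5, 7, 8, 7, 3, 2, 4, 3, 5, 9, 6, 5]), 1001, 0),
    ((0, [1, 2, 3, 4, 5, 6, 7, 3, 2, 4, 3, 5, 7, 8, 7, 3, 2, 4, 3, 5, 7, 9, 6]), 1001, 0),
    ((0, [1, 2, 3, 4, 5, 6, 7, 3, 2, 1, 4, 3, 5, 7, 8, 7, 3, 2, 4, 3, 5, 9, 6]), 1001, 0),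
    ((0, [1, 2, 3, 4, 5, 6, 7, 3, 2, 1, 4, 3, 5, 8, 7, 3, 2, 4, 3, 5, 9, 6, 5]), 1001, 0),
    ((0, [1, 2, 3, 4, 5, 6, 7, 3, 2, 1, 4, 5, 8, 7, 3, 2, 1, 0, 4, 3, 2, 5, 6]), 901, 0),
    ((0, [1, 2, 3, 4, 5, 6, 7, 3, 2, 1, 4, 3, 5, 4, 7, 8, 7, 3, 2, 4, 3, 5, 6]), 1001, 0),
    ((0, [1, 2, 3, 4, 5, 6, 7, 3, 2, 4, 5, 8, 7, 3, 2, 1, 4, 3, 2, 5, 6, 7, 3]), 901, 0),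
    ((0, [1, 2, 3, 4, 5, 6, 7, 3, 2, 4, 3, 5, 4, 8, 7, 3, 2, 4, 3, 7, 8, 9, 6]), 1001, 0),
    ((1, [2, 3, 4, 5, 6, 7, 3, 2, 4, 3, 5, 4, 8, 7, 3, 2, 1, 4, 3, 2, 9, 6, 5]), 1001, 0),
    ((0, [1, 2, 3, 4, 5, 6, 7, 3, 2, 4, 3, 5, 7, 8, 7, 3, 2, 4, 3, 7, 8, 9, 6]), 1001, 0),
    ((1, [2, 3, 4, 5, 6, 7, 3, 2, 4, 3, 5, 7, 8, 7, 3, 2, 1, 0, 4, 3, 9, 6, 5]), 1001, 0),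
    ((0, [1, 2, 3, 4, 5, 6, 7, 3, 2, 4, 3, 5, 8, 7, 3, 2, 1, 4, 3, 2, 7, 3, 9]), 1001, 0),
    ((0, [1, 2, 3, 4, 5, 6, 7, 3, 2, 1, 4, 3, 5, 4, 8, 7, 3, 2, 1, 0, 4, 3, 2]), 1001, 0),
    ((0, [1, 2, 3, 4, 5, 6, 7, 3, 2, 4, 3, 5, 8, 7, 3, 2, 1, 4, 3, 2, 5, 7, 3]), 901, 0),
    ((0, [1, 2, 3, 4, 5, 6, 7, 3, 2, 1, 4, 3, 5, 4, 8, 7, 3, 2, 1, 4, 3, 2, 5]), 1001, 0),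
    ((0, [1, 2, 3, 4, 5, 6, 7, 3, 2, 4, 3, 5, 8, 7, 3, 2, 4, 3, 5, 6, 7, 9, 6]), 1001, 0),
    ((0, [1, 2, 3, 4, 5, 6, 7, 3, 2, 4, 3, 5, 4, 8, 7, 3, 2, 4, 3, 5, 6, 9, 6]), 1001, 0),
    ((0, [1, 2, 3, 4, 5, 6, 7, 3, 2, 1, 4, 5, 8, 7, 3, 2, 1, 4, 3, 7, 9, 6, 5]), 601, 0),
    ((0, [1, 2, 3, 4, 5, 6, 7, 3, 2, 1, 4, 5, 8, 7, 3, 2, 1, 0, 4, 3, 5, 7, 9]), 2, 0),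
    ((0, [1, 2, 3, 4, 5, 6, 7, 3, 2, 1, 4, 3, 5, 7, 8, 7, 3, 2, 4, 3, 5, 7, 9]), 1001, 0),
    ((0, [1, 2, 3, 4, 5, 6, 7, 3, 2, 1, 4, 5, 8, 7, 3, 2, 1, 4, 3, 2, 5, 7, 3]), 901, 0),
    ((0, [1, 2, 3, 4, 5, 6, 7, 3, 2, 1, 4, 5, 8, 7, 3, 2, 1, 0, 4, 3, 5, 6, 7]), 901, 0),
    ((0, [1, 2, 3, 4, 5, 6, 7, 3, 2, 1, 4, 3, 5, 7, 8, 7, 3, 2, 4, 3, 5, 6, 7]), 1001, 0),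
    ((0, [1, 2, 3, 4, 5, 6, 7, 3, 2, 1, 4, 3, 5, 8, 7, 3, 2, 4, 3, 7, 9, 6, 5]), 1001, 0),
    ((0, [1, 2, 3, 4, 5, 6, 7, 3, 2, 1, 4, 3, 5, 8, 7, 3, 2, 4, 3, 5, 7, 9, 6]), 1001, 0),
    ((0, [1, 2, 3, 4, 5, 6, 7, 3, 2, 1, 4, 3, 5, 4, 8, 7, 3, 2, 1, 0, 4, 3, 7]), 1001, 0),
    ((0, [1, 2, 3, 4, 5, 6, 7, 3, 2, 1, 4, 3, 5, 4, 8, 7, 3, 2, 1, 4, 3, 5, 7]), 1001, 0),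
    ((0, [1, 2, 3, 4, 5, 6, 7, 3, 2, 1, 4, 3, 5, 8, 7, 3, 2, 1, 4, 3, 9, 6, 5]), 1001, 0),
    ((0, [1, 2, 3, 4, 5, 6, 7, 3, 2, 1, 4, 3, 5, 7, 8, 7, 3, 2, 1, 4, 3, 2, 5]), 1001, 0),
    ((0, [1, 2, 3, 4, 5, 6, 7, 3, 2, 1, 4, 3, 5, 8, 7, 3, 2, 1, 4, 3, 2, 5, 9]), 1001, 0),
    ((0, [1, 2, 3, 4, 5, 6, 7, 3, 2, 1, 4, 3, 5, 7, 8, 7, 3, 2, 1, 4, 3, 5, 7]), 1001, 0),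
    ((0, [1, 2, 3, 4, 5, 6, 7, 3, 2, 1, 4, 3, 5, 8, 7, 3, 2, 1, 4, 3, 2, 5, 6]), 1001, 0),
    ((0, [1, 2, 3, 4, 5, 6, 7, 3, 2, 1, 4, 3, 5, 8, 7, 3, 2, 1, 4, 3, 5, 7, 9]), 1001, 0),
    ((0, [1, 2, 3, 4, 5, 6, 7, 3, 2, 1, 4, 3, 5, 8, 7, 3, 2, 1, 4, 3, 5, 6, 7]), 1001, 0),
    ((0, [1, 2, 3, 4, 5, 6, 7, 3, 2, 1, 4, 3, 7, 8, 7, 3, 2, 1, 4, 3, 5, 9, 6]), 1001, 0),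
    ((0, [1, 2, 3, 4, 5, 6, 7, 3, 2, 1, 4, 3, 2, 5, 4, 7, 8, 7, 3, 4, 9, 6, 5]), 1001, 0),
    ((0, [1, 2, 3, 4, 5, 6, 7, 3, 2, 1, 4, 3, 2, 5, 4, 3, 8, 7, 3, 4, 9, 6, 5]), 1001, 0),
    ((0, [1, 2, 3, 4, 5, 6, 7, 3, 2, 1, 4, 3, 2, 5, 7, 8, 7, 3, 2, 4, 9, 6, 5]), 1001, 0),
    ((0, [1, 2, 3, 4, 5, 6, 7, 3, 2, 1, 4, 3, 2, 5, 8, 7, 3, 2, 4, 3, 9, 6, 5]), 1001, 0),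
    ((0, [1, 2, 3, 4, 5, 6, 7, 3, 2, 1, 4, 3, 2, 5, 8, 7, 3, 2, 1, 4, 9, 6, 5]), 1001, 0),
    ((0, [1, 2, 3, 4, 5, 6, 7, 3, 2, 1, 4, 3, 2, 5, 4, 8, 7, 3, 2, 1, 4, 5, 9]), 1001, 0),
    ((0, [1, 2, 3, 4, 5, 6, 7, 3, 2, 1, 4, 3, 2, 5, 4, 8, 7, 3, 2, 4, 3, 5, 9]), 1001, 0),
    ((0, [1, 2, 3, 4, 5, 6, 7, 3, 2, 1, 4, 3, 2, 5, 7, 8, 7, 3, 2, 4, 3, 5, 9]), 1001, 0),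
    ((0, [1, 2, 3, 4, 5, 6, 7, 3, 2, 1, 4, 3, 2, 5, 4, 3, 8, 7, 3, 2, 1, 4, 5]), 1001, 0),
    ((0, [1, 2, 3, 4, 5, 6, 7, 3, 4, 5, 8, 7, 3, 2, 1, 4, 3, 2, 7, 3, 4, 5, 9]), 1001, 0),
    ((0, [1, 2, 3, 4, 5, 6, 7, 3, 2, 1, 4, 3, 2, 5, 4, 8, 7, 3, 2, 1, 0, 4, 5]), 1001, 0),
    ((0, [1, 2, 3, 4, 5, 6, 7, 3, 2, 4, 5, 8, 7, 3, 2, 1, 4, 3, 2, 7, 3, 4, 5]), 1001, 0),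
    ((0, [1, 2, 3, 4, 5, 6, 7, 3, 2, 1, 4, 3, 2, 5, 8, 7, 3, 2, 4, 3, 5, 7, 9]), 1001, 0),
    ((0, [1, 2, 3, 4, 5, 6, 7, 3, 2, 1, 4, 3, 2, 5, 8, 7, 3, 2, 1, 4, 3, 5, 7]), 1001, 0),
    ((0, [1, 2, 3, 4, 5, 6, 7, 3, 2, 1, 4, 3, 2, 5, 8, 7, 3, 2, 1, 4, 3, 2, 5]), 1001, 0),
    ((0, [1, 2, 3, 4, 5, 6, 7, 3, 2, 1, 4, 3, 2, 7, 8, 7, 3, 2, 1, 4, 3, 5, 9]), 1001, 0),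
    ((0, [1, 2, 3, 4, 5, 6, 7, 3, 2, 1, 4, 3, 2, 5, 4, 3, 8, 7, 3, 2, 4, 3, 5]), 1001, 0),
    ((0, [1, 2, 3, 4, 5, 6, 7, 3, 2, 4, 3, 5, 7, 8, 7, 3, 2, 1, 0, 4, 9, 6, 5]), 1001, 0),
    ((0, [1, 2, 3, 4, 5, 6, 7, 3, 2, 4, 3, 8, 7, 3, 2, 4, 3, 5, 4, 6, 9, 6, 5]), 1001, 0),
    ((0, [1, 2, 3, 4, 5, 6, 7, 3, 2, 1, 4, 3, 2, 5, 7, 8, 7, 3, 2, 1, 0, 9, 6]), 1001, 0),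
    ((0, [1, 2, 3, 4, 5, 6, 7, 3, 2, 1, 4, 3, 5, 8, 7, 3, 2, 1, 0, 4, 3, 2, 9]), 1001, 0),
    ((0, [1, 2, 3, 4, 5, 6, 7, 3, 2, 1, 4, 3, 5, 7, 8, 7, 3, 2, 1, 0, 4, 3, 9]), 1001, 0),
    ((0, [1, 2, 3, 4, 5, 6, 7, 3, 2, 1, 4, 3, 5, 8, 7, 3, 2, 1, 0, 4, 3, 5, 9]), 1001, 0),
    ((0, [1, 2, 3, 4, 5, 6, 7, 3, 2, 1, 4, 3, 5, 7, 8, 7, 3, 2, 1, 0, 4, 3, 2]), 1001, 0),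
    ((0, [1, 2, 3, 4, 5, 6, 7, 3, 2, 1, 4, 3, 5, 8, 7, 3, 2, 1, 0, 4, 3, 2, 5]), 1001, 0),
    ((0, [1, 2, 3, 4, 5, 6, 7, 3, 2, 1, 4, 3, 5, 8, 7, 3, 2, 1, 0, 4, 3, 5, 7]), 1001, 0),
    ((0, [1, 2, 3, 4, 5, 6, 7, 3, 2, 1, 4, 3, 8, 7, 3, 2, 1, 0, 4, 3, 5, 9, 6]), 1001, 0),
    ((1, [2, 3, 4, 5, 6, 7, 3, 2, 4, 3, 5, 4, 7, 3, 8, 7, 3, 4, 5, 6, 9, 6, 5]), 701, 0),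
    ((1, [2, 3, 4, 5, 6, 7, 3, 2, 4, 5, 8, 7, 3, 2, 1, 0, 4, 3, 5, 6, 9, 6, 5]), 1001, 0),
    ((0, [1, 2, 3, 4, 5, 6, 7, 3, 2, 4, 3, 5, 4, 7, 8, 7, 3, 4, 5, 6, 9, 6, 5]), 1001, 0),
    ((0, [1, 2, 3, 4, 5, 6, 7, 3, 2, 4, 3, 5, 4, 7, 3, 8, 7, 3, 4, 5, 6, 9, 6]), 1001, 0),
    ((0, [1, 2, 3, 4, 5, 6, 7, 3, 2, 4, 3, 5, 4, 7, 8, 7, 3, 2, 4, 5, 6, 9, 6]), 1001, 0)]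

/-- Part 10 of the cycles. -/
def reps10 : List ((Nat × List Nat) × Nat × Nat) :=
  [
    ((0, [1, 2, 3, 4, 5, 6, 7, 3, 2, 4, 5, 8, 7, 3, 2, 1, 0, 4, 5, 6, 9, 6, 5]), 1001, 0),
    ((0, [1, 2, 3, 4, 5, 6, 7, 3, 2, 1, 4, 3, 5, 4, 8, 7, 3, 4, 5, 6, 9, 6, 5]), 1001, 0),
    ((1, [2, 3, 4, 5, 6, 7, 3, 2, 4, 3, 5, 4, 8, 7, 3, 2, 1, 4, 5, 6, 9, 6, 5]), 701, 0),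
    ((0, [1, 2, 3, 4, 5, 6, 7, 3, 2, 4, 3, 5, 4, 8, 7, 3, 2, 1, 4, 5, 6, 9, 6]), 1001, 0),
    ((0, [1, 2, 3, 4, 5, 6, 7, 3, 2, 1, 4, 3, 5, 7, 8, 7, 3, 4, 5, 6, 9, 6, 5]), 1001, 0),
    ((1, [2, 3, 4, 5, 6, 7, 3, 2, 4, 3, 5, 8, 7, 3, 2, 4, 3, 5, 6, 7, 9, 6, 5]), 1001, 0),
    ((0, [1, 2, 3, 4, 5, 6, 7, 3, 2, 4, 5, 8, 7, 3, 2, 4, 3, 5, 6, 9, 6, 5, 4]), 1001, 0),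
    ((0, [1, 2, 3, 4, 5, 6, 7, 3, 2, 4, 5, 8, 7, 3, 2, 4, 3, 5, 6, 7, 9, 6, 5]), 1001, 0),
    ((0, [1, 2, 3, 4, 5, 6, 7, 3, 2, 4, 5, 8, 7, 3, 2, 1, 4, 3, 5, 6, 7, 9, 6]), 1001, 0),
    ((0, [1, 2, 3, 4, 5, 6, 7, 3, 2, 4, 5, 8, 7, 3, 2, 4, 3, 5, 6, 7, 8, 9, 6]), 1001, 0),
    ((0, [1, 2, 3, 4, 5, 6, 7, 3, 2, 1, 4, 3, 5, 4, 8, 7, 3, 2, 4, 3, 5, 6, 9]), 1001, 0),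
    ((0, [1, 2, 3, 4, 5, 6, 7, 3, 2, 1, 4, 5, 8, 7, 3, 2, 1, 4, 3, 2, 5, 6, 9]), 1001, 0),
    ((0, [1, 2, 3, 4, 5, 6, 7, 3, 2, 4, 3, 7, 8, 7, 3, 2, 4, 3, 5, 4, 9, 6, 5]), 1001, 0),
    ((0, [1, 2, 3, 4, 5, 6, 7, 3, 2, 4, 3, 5, 8, 7, 3, 2, 1, 4, 5, 6, 9, 6, 5]), 1001, 0),
    ((0, [1, 2, 3, 4, 5, 6, 7, 3, 2, 1, 4, 5, 8, 7, 3, 2, 1, 4, 5, 6, 9, 6, 5]), 1001, 0),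
    ((0, [1, 2, 3, 4, 5, 6, 7, 3, 2, 1, 4, 5, 8, 7, 3, 2, 1, 0, 4, 3, 5, 6, 9]), 901, 0),
    ((0, [1, 2, 3, 4, 5, 6, 7, 3, 2, 4, 3, 5, 7, 8, 7, 3, 2, 4, 5, 6, 9, 6, 5]), 1001, 0),
    ((0, [1, 2, 3, 4, 5, 6, 7, 3, 2, 4, 3, 5, 8, 7, 3, 2, 4, 3, 5, 6, 9, 6, 5]), 1001, 0),
    ((0, [1, 2, 3, 4, 5, 6, 7, 3, 2, 1, 4, 3, 5, 8, 7, 3, 2, 4, 3, 5, 6, 9, 6]), 1001, 0),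
    ((0, [1, 2, 3, 4, 5, 6, 7, 3, 2, 1, 4, 3, 5, 7, 8, 7, 3, 2, 4, 3, 5, 6, 9]), 1001, 0),
    ((1, [2, 3, 4, 5, 6, 7, 3, 2, 4, 3, 5, 8, 7, 3, 2, 4, 3, 5, 4, 7, 9, 6, 5]), 1001, 0),
    ((0, [1, 2, 3, 4, 5, 6, 7, 3, 2, 4, 3, 5, 8, 7, 3, 2, 4, 3, 5, 4, 9, 6, 5]), 1001, 0),
    ((0, [1, 2, 3, 4, 5, 6, 7, 3, 2, 1, 4, 3, 5, 8, 7, 3, 2, 4, 3, 5, 6, 7, 9]), 1001, 0),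
    ((0, [1, 2, 3, 4, 5, 6, 7, 3, 2, 4, 3, 8, 7, 3, 2, 1, 4, 3, 5, 4, 9, 6, 5]), 1001, 0),
    ((0, [1, 2, 3, 4, 5, 6, 7, 3, 2, 1, 4, 8, 7, 3, 2, 1, 0, 4, 3, 5, 6, 9, 6]), 901, 0),
    ((0, [1, 2, 3, 4, 5, 6, 7, 3, 2, 1, 4, 3, 7, 8, 7, 3, 2, 1, 4, 3, 2, 5, 9]), 1001, 0),
    ((0, [1, 2, 3, 4, 5, 6, 7, 3, 2, 1, 4, 3, 8, 7, 3, 2, 1, 4, 3, 2, 5, 9, 6]), 1001, 0),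
    ((0, [1, 2, 3, 4, 5, 6, 7, 3, 2, 1, 4, 3, 7, 8, 7, 3, 2, 4, 3, 5, 6, 9, 6]), 1001, 0),
    ((0, [1, 2, 3, 4, 5, 6, 7, 3, 2, 1, 4, 3, 7, 8, 7, 3, 2, 1, 4, 3, 5, 6, 9]), 1001, 0),
    ((0, [1, 2, 3, 4, 5, 6, 7, 3, 2, 1, 4, 3, 8, 7, 3, 2, 1, 4, 3, 5, 6, 9, 6]), 1001, 0),
    ((0, [1, 2, 3, 4, 5, 6, 7, 3, 2, 1, 4, 5, 8, 7, 3, 2, 4, 3, 5, 6, 9, 6, 5]), 901, 0),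
    ((0, [1, 2, 3, 4, 5, 6, 7, 3, 2, 1, 4, 8, 7, 3, 2, 1, 4, 3, 5, 4, 9, 6, 5]), 1001, 0),
    ((0, [1, 2, 3, 4, 5, 6, 7, 3, 2, 1, 4, 5, 8, 7, 3, 2, 4, 3, 5, 4, 9, 6, 5]), 1001, 0),
    ((0, [1, 2, 3, 4, 5, 6, 7, 3, 2, 1, 4, 8, 7, 3, 2, 4, 3, 5, 4, 6, 9, 6, 5]), 1001, 0),
    ((0, [1, 2, 3, 4, 5, 6, 7, 3, 2, 1, 4, 3, 8, 7, 3, 2, 4, 3, 5, 4, 9, 6, 5]), 1001, 0),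
    ((0, [1, 2, 3, 4, 5, 6, 7, 3, 2, 1, 4, 5, 8, 7, 3, 2, 1, 4, 3, 2, 7, 8, 9]), 1001, 0),
    ((0, [1, 2, 3, 4, 5, 6, 7, 3, 2, 1, 4, 5, 8, 7, 3, 2, 1, 4, 3, 7, 8, 9, 6]), 1001, 0),
    ((0, [1, 2, 3, 4, 5, 6, 7, 3, 2, 1, 4, 3, 5, 7, 8, 7, 3, 2, 4, 3, 7, 8, 9]), 901, 0),
    ((0, [1, 2, 3, 4, 5, 6, 7, 3, 2, 1, 4, 3, 5, 4, 8, 7, 3, 2, 4, 3, 7, 8, 9]), 901, 0),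
    ((0, [1, 2, 3, 4, 5, 6, 7, 3, 2, 1, 4, 3, 5, 8, 7, 3, 2, 4, 3, 7, 8, 9, 6]), 901, 0),
    ((0, [1, 2, 3, 4, 5, 6, 7, 3, 2, 1, 4, 5, 8, 7, 3, 2, 1, 4, 3, 5, 7, 8, 9]), 1001, 0),
    ((0, [1, 2, 3, 4, 5, 6, 7, 3, 2, 1, 4, 3, 5, 8, 7, 3, 2, 4, 3, 5, 7, 8, 9]), 1001, 0),
    ((0, [1, 2, 3, 4, 5, 6, 7, 3, 2, 1, 4, 5, 8, 7, 3, 2, 1, 4, 3, 2, 7, 3, 8]), 1001, 0),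
    ((0, [1, 2, 3, 4, 5, 6, 7, 3, 2, 1, 4, 3, 2, 5, 7, 8, 7, 3, 2, 4, 3, 7, 8]), 1001, 0),
    ((0, [1, 2, 3, 4, 5, 6, 7, 3, 2, 1, 4, 3, 5, 4, 8, 7, 3, 2, 1, 4, 3, 7, 8]), 901, 0),
    ((0, [1, 2, 3, 4, 5, 6, 7, 3, 2, 1, 4, 3, 2, 5, 4, 8, 7, 3, 2, 4, 3, 7, 8]), 1001, 0),
    ((0, [1, 2, 3, 4, 5, 6, 7, 3, 2, 1, 4, 5, 8, 7, 3, 2, 1, 4, 3, 2, 5, 7, 8]), 1001, 0),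
    ((0, [1, 2, 3, 4, 5, 6, 7, 3, 2, 1, 4, 5, 8, 7, 3, 2, 1, 0, 4, 3, 5, 7, 8]), 601, 0),
    ((0, [1, 2, 3, 4, 5, 6, 7, 3, 2, 1, 4, 3, 5, 7, 8, 7, 3, 2, 4, 3, 5, 7, 8]), 1001, 0),
    ((0, [1, 2, 3, 4, 5, 6, 7, 3, 2, 1, 4, 3, 5, 4, 8, 7, 3, 2, 4, 3, 5, 7, 8]), 1001, 0),
    ((0, [1, 2, 3, 4, 5, 6, 7, 3, 2, 1, 4, 3, 5, 8, 7, 3, 2, 1, 0, 4, 3, 7, 8]), 1001, 0),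
    ((0, [1, 2, 3, 4, 5, 6, 7, 3, 2, 1, 4, 3, 5, 8, 7, 3, 2, 1, 4, 3, 7, 8, 9]), 901, 0),
    ((0, [1, 2, 3, 4, 5, 6, 7, 3, 2, 1, 4, 3, 5, 7, 8, 7, 3, 2, 1, 4, 3, 7, 8]), 901, 0),
    ((0, [1, 2, 3, 4, 5, 6, 7, 3, 2, 1, 4, 3, 5, 8, 7, 3, 2, 1, 4, 3, 5, 7, 8]), 1001, 0),
    ((0, [1, 2, 3, 4, 5, 6, 7, 3, 2, 1, 4, 3, 2, 5, 8, 7, 3, 2, 4, 3, 5, 7, 8]), 1001, 0),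
    ((0, [1, 2, 3, 4, 5, 6, 7, 3, 2, 1, 4, 5, 8, 7, 3, 2, 4, 3, 5, 4, 6, 7, 8]), 1001, 0),
    ((0, [1, 2, 3, 4, 5, 6, 7, 3, 2, 1, 4, 5, 8, 7, 3, 2, 4, 3, 7, 8, 9, 6, 5]), 701, 0),
    ((0, [1, 2, 3, 4, 5, 6, 7, 3, 2, 1, 4, 5, 8, 7, 3, 2, 4, 3, 5, 7, 8, 9, 6]), 1001, 0),
    ((0, [1, 2, 3, 4, 5, 6, 7, 3, 2, 1, 4, 5, 8, 7, 3, 2, 1, 4, 3, 5, 4, 7, 8]), 1001, 0),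
    ((0, [1, 2, 3, 4, 5, 6, 7, 3, 2, 1, 4, 5, 8, 7, 3, 2, 4, 3, 5, 4, 7, 8, 9]), 1001, 0),
    ((0, [1, 2, 3, 4, 5, 6, 7, 3, 2, 1, 4, 3, 5, 8, 7, 3, 2, 4, 3, 5, 4, 7, 8]), 1001, 0),
    ((0, [1, 2, 3, 4, 5, 6, 7, 3, 2, 1, 4, 5, 8, 7, 3, 2, 1, 4, 3, 5, 6, 7, 8]), 1001, 0),
    ((0, [1, 2, 3, 4, 5, 6, 7, 3, 2, 1, 4, 3, 5, 8, 7, 3, 2, 4, 3, 5, 6, 7, 8]), 1001, 0),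
    ((0, [1, 2, 3, 4, 5, 6, 7, 3, 2, 1, 4, 5, 8, 7, 3, 2, 4, 3, 5, 6, 7, 8, 9]), 1001, 0),
    ((0, [1, 2, 3, 4, 5, 6, 7, 3, 2, 1, 4, 5, 8, 7, 3, 2, 4, 3, 5, 4, 7, 3, 8]), 1001, 0),
    ((0, [1, 2, 3, 4, 5, 6, 7, 3, 2, 1, 4, 3, 2, 8, 7, 3, 2, 1, 0, 4, 3, 5, 9]), 1001, 0),
    ((0, [1, 2, 3, 4, 5, 6, 7, 3, 2, 1, 4, 3, 5, 7, 8, 7, 3, 2, 1, 0, 4, 3, 7]), 1001, 0),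
    ((0, [1, 2, 3, 4, 5, 6, 7, 3, 2, 1, 4, 3, 7, 8, 7, 3, 2, 1, 4, 3, 5, 7, 9]), 1001, 0),
    ((0, [1, 2, 3, 4, 5, 6, 7, 3, 2, 1, 4, 3, 7, 8, 7, 3, 2, 4, 3, 5, 7, 9, 6]), 1001, 0),
    ((0, [1, 2, 3, 4, 5, 6, 7, 3, 2, 1, 4, 3, 2, 8, 7, 3, 2, 4, 3, 5, 7, 8, 9]), 1001, 0),
    ((0, [1, 2, 3, 4, 5, 6, 7, 3, 2, 1, 4, 3, 2, 8, 7, 3, 2, 4, 3, 5, 4, 6, 9]), 1001, 0),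
    ((0, [1, 2, 3, 4, 5, 6, 7, 3, 2, 1, 4, 3, 2, 8, 7, 3, 2, 1, 4, 3, 5, 7, 9]), 1001, 0),
    ((0, [1, 2, 3, 4, 5, 6, 7, 3, 2, 1, 4, 3, 2, 8, 7, 3, 2, 1, 0, 4, 3, 5, 7]), 1001, 0),
    ((0, [1, 2, 3, 4, 5, 6, 7, 3, 2, 1, 4, 3, 8, 7, 3, 2, 1, 4, 3, 5, 7, 9, 6]), 1001, 0),
    ((0, [1, 2, 3, 4, 5, 6, 7, 3, 2, 1, 4, 3, 2, 7, 8, 7, 3, 2, 4, 3, 5, 9, 6]), 1001, 0),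
    ((0, [1, 2, 3, 4, 5, 6, 7, 3, 2, 1, 4, 3, 2, 8, 7, 3, 2, 1, 4, 3, 2, 5, 9]), 1001, 0),
    ((0, [1, 2, 3, 4, 5, 6, 7, 3, 2, 1, 4, 3, 2, 8, 7, 3, 2, 1, 4, 3, 5, 6, 9]), 1001, 0),
    ((0, [1, 2, 3, 4, 5, 6, 7, 3, 2, 1, 4, 3, 2, 8, 7, 3, 2, 1, 0, 4, 3, 2, 5]), 1001, 0),
    ((0, [1, 2, 3, 4, 5, 6, 7, 3, 2, 1, 4, 3, 2, 8, 7, 3, 2, 4, 3, 5, 6, 7, 9]), 1001, 0),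
    ((0, [1, 2, 3, 4, 5, 6, 7, 3, 2, 1, 4, 3, 2, 5, 7, 8, 7, 3, 4, 5, 9, 6, 5]), 1001, 0),
    ((0, [1, 2, 3, 4, 5, 6, 7, 3, 2, 1, 4, 3, 2, 5, 4, 8, 7, 3, 2, 4, 5, 9, 6]), 1001, 0),
    ((0, [1, 2, 3, 4, 5, 6, 7, 3, 2, 1, 4, 3, 2, 5, 8, 7, 3, 2, 4, 5, 9, 6, 5]), 1001, 0),
    ((0, [1, 2, 3, 4, 5, 6, 7, 3, 2, 1, 4, 3, 2, 5, 8, 7, 3, 2, 4, 3, 5, 9, 6]), 1001, 0),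
    ((0, [1, 2, 3, 4, 5, 6, 7, 3, 2, 1, 4, 3, 2, 5, 8, 7, 3, 2, 1, 4, 5, 9, 6]), 1001, 0),
    ((0, [1, 2, 3, 4, 5, 6, 7, 3, 2, 1, 4, 3, 2, 8, 7, 3, 2, 1, 4, 3, 5, 9, 6]), 1001, 0),
    ((0, [1, 2, 3, 4, 5, 6, 7, 3, 2, 1, 4, 3, 2, 8, 7, 3, 2, 1, 0, 4, 5, 9, 6]), 901, 0),
    ((0, [1, 2, 3, 4, 5, 6, 7, 3, 2, 1, 4, 3, 2, 8, 7, 3, 2, 4, 3, 5, 7, 9, 6]), 1001, 0),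
    ((0, [1, 2, 3, 4, 5, 6, 7, 3, 2, 1, 4, 3, 2, 5, 4, 8, 7, 3, 2, 1, 4, 5, 6]), 1001, 0),
    ((0, [1, 2, 3, 4, 5, 6, 7, 3, 2, 1, 4, 3, 2, 5, 4, 8, 7, 3, 2, 4, 3, 5, 6]), 1001, 0),
    ((0, [1, 2, 3, 4, 5, 6, 7, 3, 2, 1, 8, 7, 3, 2, 4, 3, 5, 4, 7, 3, 2, 1, 0]), 1001, 0),
    ((0, [1, 2, 3, 4, 5, 6, 7, 3, 2, 1, 4, 3, 2, 5, 8, 7, 3, 2, 4, 3, 5, 6, 7]), 1001, 0),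
    ((0, [1, 2, 3, 4, 5, 6, 7, 3, 2, 1, 8, 7, 3, 2, 4, 3, 5, 4, 7, 3, 9, 6, 5]), 1001, 0),
    ((0, [1, 2, 3, 4, 5, 6, 7, 3, 2, 1, 4, 3, 2, 8, 7, 3, 2, 4, 3, 5, 6, 9, 6]), 1001, 0),
    ((0, [1, 2, 3, 4, 5, 6, 7, 3, 2, 1, 4, 3, 2, 8, 7, 3, 2, 1, 0, 4, 5, 6, 9]), 801, 0),
    ((0, [1, 2, 3, 4, 5, 6, 7, 3, 2, 1, 4, 3, 2, 8, 7, 3, 2, 1, 4, 5, 6, 9, 6]), 1001, 0),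
    ((0, [1, 2, 3, 4, 5, 6, 7, 3, 2, 1, 4, 3, 2, 5, 8, 7, 3, 4, 5, 6, 9, 6, 5]), 1001, 0),
    ((0, [1, 2, 3, 4, 5, 6, 7, 3, 2, 1, 4, 3, 2, 5, 4, 8, 7, 3, 2, 4, 5, 6, 9]), 1001, 0),
    ((0, [1, 2, 3, 4, 5, 6, 7, 3, 2, 1, 4, 3, 2, 5, 4, 7, 8, 7, 3, 2, 1, 9, 6, 5]), 1001, 0),
    ((0, [1, 2, 3, 4, 5, 6, 7, 3, 2, 4, 3, 5, 4, 7, 8, 7, 3, 2, 1, 4, 9, 6, 5, 4]), 1001, 0),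
    ((0, [1, 2, 3, 4, 5, 6, 7, 3, 2, 4, 5, 8, 7, 3, 2, 1, 0, 4, 3, 2, 9, 6, 5, 4]), 1001, 0),
    ((0, [1, 2, 3, 4, 5, 6, 7, 3, 2, 4, 3, 5, 4, 7, 8, 7, 3, 2, 4, 9, 6, 5, 4, 3]), 1001, 0),
    ((0, [1, 2, 3, 4, 5, 6, 7, 3, 2, 1, 4, 3, 5, 4, 8, 7, 3, 2, 4, 9, 6, 5, 4, 3]), 1001, 0),
    ((0, [1, 2, 3, 4, 5, 6, 7, 3, 2, 1, 4, 5, 8, 7, 3, 2, 1, 0, 4, 3, 2, 9, 6, 5]), 1001, 0),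
    ((0, [1, 2, 3, 4, 5, 6, 7, 3, 2, 1, 4, 3, 5, 4, 7, 8, 7, 3, 2, 4, 3, 9, 6, 5]), 1001, 0),
    ((0, [1, 2, 3, 4, 5, 6, 7, 3, 2, 1, 4, 3, 5, 4, 8, 7, 3, 2, 1, 4, 3, 9, 6, 5]), 1001, 0),
    ((0, [1, 2, 3, 4, 5, 6, 7, 3, 2, 4, 3, 5, 4, 8, 7, 3, 2, 1, 0, 4, 9, 6, 5, 4]), 1001, 0),
    ((0, [1, 2, 3, 4, 5, 6, 7, 3, 2, 4, 5, 8, 7, 3, 2, 4, 3, 7, 8, 9, 6, 5, 4, 3]), 1001, 0),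
    ((0, [1, 2, 3, 4, 5, 6, 7, 3, 2, 4, 3, 5, 4, 8, 7, 3, 2, 1, 0, 4, 3, 9, 6, 5]), 1001, 0),
    ((0, [1, 2, 3, 4, 5, 6, 7, 3, 2, 4, 5, 8, 7, 3, 2, 1, 4, 3, 2, 7, 3, 9, 6, 5]), 1001, 0),
    ((0, [1, 2, 3, 4, 5, 6, 7, 3, 2, 1, 4, 3, 5, 4, 8, 7, 3, 2, 1, 0, 4, 3, 9, 6]), 1001, 0),
    ((0, [1, 2, 3, 4, 5, 6, 7, 3, 2, 1, 4, 3, 5, 4, 8, 7, 3, 2, 1, 0, 4, 3, 5, 9]), 901, 0),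
    ((0, [1, 2, 3, 4, 5, 6, 7, 3, 2, 4, 3, 5, 4, 7, 3, 8, 7, 3, 4, 5, 9, 6, 5, 4]), 1001, 0),
    ((0, [1, 2, 3, 4, 5, 6, 7, 3, 2, 1, 4, 3, 5, 4, 7, 3, 8, 7, 3, 4, 5, 9, 6, 5]), 1001, 0),
    ((0, [1, 2, 3, 4, 5, 6, 7, 3, 2, 4, 3, 5, 4, 7, 8, 7, 3, 2, 4, 5, 9, 6, 5, 4]), 1001, 0),
    ((0, [1, 2, 3, 4, 5, 6, 7, 3, 2, 4, 3, 5, 4, 7, 8, 7, 3, 2, 1, 4, 5, 9, 6, 5]), 1001, 0),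
    ((0, [1, 2, 3, 4, 5, 6, 7, 3, 2, 4, 3, 5, 4, 8, 7, 3, 2, 1, 4, 5, 9, 6, 5, 4]), 1001, 0),
    ((0, [1, 2, 3, 4, 5, 6, 7, 3, 2, 1, 4, 3, 5, 4, 8, 7, 3, 2, 1, 4, 5, 9, 6, 5]), 1001, 0),
    ((0, [1, 2, 3, 4, 5, 6, 7, 3, 2, 4, 3, 5, 4, 8, 7, 3, 2, 4, 5, 9, 6, 5, 4, 3]), 1001, 0),
    ((0, [1, 2, 3, 4, 5, 6, 7, 3, 2, 4, 3, 5, 4, 7, 8, 7, 3, 2, 4, 3, 5, 9, 6, 5]), 1001, 0),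
    ((0, [1, 2, 3, 4, 5, 6, 7, 3, 2, 4, 3, 5, 4, 8, 7, 3, 2, 1, 4, 3, 5, 9, 6, 5]), 1001, 0)]

/-- Part 11 of the cycles. -/
def reps11 : List ((Nat × List Nat) × Nat × Nat) :=
  [
    ((0, [1, 2, 3, 4, 5, 6, 7, 3, 2, 1, 4, 5, 8, 7, 3, 2, 1, 0, 4, 3, 2, 5, 9, 6]), 901, 0),
    ((0, [1, 2, 3, 4, 5, 6, 7, 3, 2, 1, 4, 3, 5, 4, 7, 8, 7, 3, 2, 4, 3, 5, 9, 6]), 1001, 0),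
    ((0, [1, 2, 3, 4, 5, 6, 7, 3, 2, 1, 4, 3, 5, 4, 8, 7, 3, 2, 4, 3, 5, 9, 6, 5]), 1001, 0),
    ((0, [1, 2, 3, 4, 5, 6, 7, 3, 2, 4, 5, 8, 7, 3, 2, 1, 4, 3, 5, 7, 9, 6, 5, 4]), 1001, 0),
    ((0, [1, 2, 3, 4, 5, 6, 7, 3, 2, 4, 5, 8, 7, 3, 2, 4, 3, 5, 7, 8, 9, 6, 5, 4]), 1001, 0),
    ((0, [1, 2, 3, 4, 5, 6, 7, 3, 2, 4, 3, 5, 4, 8, 7, 3, 2, 1, 0, 4, 5, 9, 6, 5]), 1001, 0),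
    ((0, [1, 2, 3, 4, 5, 6, 7, 3, 2, 4, 5, 8, 7, 3, 2, 4, 3, 5, 7, 9, 6, 5, 4, 3]), 1001, 0),
    ((0, [1, 2, 3, 4, 5, 6, 7, 3, 2, 4, 3, 5, 8, 7, 3, 2, 1, 4, 3, 5, 7, 9, 6, 5]), 1001, 0),
    ((0, [1, 2, 3, 4, 5, 6, 7, 3, 2, 4, 3, 5, 8, 7, 3, 2, 4, 3, 5, 7, 8, 9, 6, 5]), 1001, 0),
    ((0, [1, 2, 3, 4, 5, 6, 7, 3, 2, 1, 4, 5, 8, 7, 3, 2, 1, 4, 3, 2, 5, 9, 6, 5]), 901, 0),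
    ((0, [1, 2, 3, 4, 5, 6, 7, 3, 2, 4, 5, 8, 7, 3, 2, 1, 4, 3, 2, 5, 7, 3, 9, 6]), 901, 0),
    ((0, [1, 2, 3, 4, 5, 6, 7, 3, 2, 1, 4, 5, 8, 7, 3, 2, 1, 0, 4, 3, 5, 9, 6, 5]), 1001, 0),
    ((0, [1, 2, 3, 4, 5, 6, 7, 3, 2, 4, 3, 5, 7, 8, 7, 3, 2, 4, 3, 5, 7, 9, 6, 5]), 1001, 0),
    ((0, [1, 2, 3, 4, 5, 6, 7, 3, 2, 1, 4, 3, 5, 7, 8, 7, 3, 2, 4, 3, 5, 9, 6, 5]), 1001, 0),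
    ((0, [1, 2, 3, 4, 5, 6, 7, 3, 2, 1, 4, 3, 5, 4, 8, 7, 3, 2, 1, 0, 4, 3, 5, 6]), 901, 0),
    ((0, [1, 2, 3, 4, 5, 6, 7, 3, 2, 4, 3, 5, 4, 8, 7, 3, 2, 4, 3, 7, 8, 9, 6, 5]), 1001, 0),
    ((1, [2, 3, 4, 5, 6, 7, 3, 2, 4, 3, 5, 4, 8, 7, 3, 2, 1, 4, 3, 2, 5, 9, 6, 5]), 1001, 0),
    ((0, [1, 2, 3, 4, 5, 6, 7, 3, 2, 4, 3, 5, 7, 8, 7, 3, 2, 4, 3, 7, 8, 9, 6, 5]), 1001, 0),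
    ((0, [1, 2, 3, 4, 5, 6, 7, 3, 2, 4, 3, 5, 8, 7, 3, 2, 4, 3, 5, 4, 6, 9, 6, 5]), 1001, 0),
    ((0, [1, 2, 3, 4, 5, 6, 7, 3, 2, 4, 3, 5, 4, 8, 7, 3, 2, 1, 4, 3, 7, 9, 6, 5]), 1001, 0),
    ((0, [1, 2, 3, 4, 5, 6, 7, 3, 2, 4, 3, 5, 8, 7, 3, 2, 1, 4, 3, 2, 7, 3, 9, 6]), 1001, 0),
    ((0, [1, 2, 3, 4, 5, 6, 7, 3, 2, 4, 3, 5, 4, 8, 7, 3, 2, 1, 4, 3, 2, 9, 6, 5]), 1001, 0),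
    ((0, [1, 2, 3, 4, 5, 6, 7, 3, 2, 1, 4, 3, 5, 4, 8, 7, 3, 2, 1, 0, 4, 3, 2, 9]), 1001, 0),
    ((0, [1, 2, 3, 4, 5, 6, 7, 3, 2, 4, 3, 5, 8, 7, 3, 2, 1, 4, 3, 2, 5, 7, 3, 9]), 901, 0),
    ((0, [1, 2, 3, 4, 5, 6, 7, 3, 2, 1, 4, 3, 5, 4, 8, 7, 3, 2, 1, 4, 3, 2, 5, 9]), 1001, 0),
    ((0, [1, 2, 3, 4, 5, 6, 7, 3, 2, 1, 4, 3, 5, 4, 7, 8, 7, 3, 2, 1, 4, 3, 2, 5]), 1001, 0),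
    ((0, [1, 2, 3, 4, 5, 6, 7, 3, 2, 1, 4, 3, 5, 4, 8, 7, 3, 2, 1, 0, 4, 3, 2, 5]), 901, 0),
    ((0, [1, 2, 3, 4, 5, 6, 7, 3, 2, 4, 3, 5, 8, 7, 3, 2, 1, 4, 3, 2, 5, 6, 7, 3]), 901, 0),
    ((0, [1, 2, 3, 4, 5, 6, 7, 3, 2, 1, 4, 3, 5, 4, 8, 7, 3, 2, 1, 4, 3, 2, 5, 6]), 1001, 0),
    ((0, [1, 2, 3, 4, 5, 6, 7, 3, 2, 1, 4, 5, 8, 7, 3, 2, 1, 0, 4, 3, 7, 9, 6, 5]), 1001, 0),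
    ((0, [1, 2, 3, 4, 5, 6, 7, 3, 2, 1, 4, 3, 5, 7, 8, 7, 3, 2, 4, 3, 7, 9, 6, 5]), 1001, 0),
    ((0, [1, 2, 3, 4, 5, 6, 7, 3, 2, 1, 4, 5, 8, 7, 3, 2, 1, 4, 3, 5, 7, 9, 6, 5]), 901, 0),
    ((0, [1, 2, 3, 4, 5, 6, 7, 3, 2, 1, 4, 5, 8, 7, 3, 2, 1, 4, 3, 2, 5, 7, 3, 9]), 901, 0),
    ((0, [1, 2, 3, 4, 5, 6, 7, 3, 2, 1, 4, 5, 8, 7, 3, 2, 1, 0, 4, 3, 5, 7, 9, 6]), 901, 0),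
    ((0, [1, 2, 3, 4, 5, 6, 7, 3, 2, 1, 4, 3, 5, 7, 8, 7, 3, 2, 4, 3, 5, 7, 9, 6]), 1001, 0),
    ((0, [1, 2, 3, 4, 5, 6, 7, 3, 2, 1, 4, 3, 5, 4, 7, 8, 7, 3, 2, 1, 4, 3, 5, 7]), 1001, 0),
    ((0, [1, 2, 3, 4, 5, 6, 7, 3, 2, 1, 4, 3, 5, 4, 8, 7, 3, 2, 1, 0, 4, 3, 7, 9]), 1001, 0),
    ((0, [1, 2, 3, 4, 5, 6, 7, 3, 2, 1, 4, 3, 5, 8, 7, 3, 2, 4, 3, 5, 7, 9, 6, 5]), 1001, 0),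
    ((0, [1, 2, 3, 4, 5, 6, 7, 3, 2, 1, 4, 3, 5, 4, 8, 7, 3, 2, 1, 4, 3, 5, 7, 9]), 1001, 0),
    ((0, [1, 2, 3, 4, 5, 6, 7, 3, 2, 1, 4, 3, 5, 4, 8, 7, 3, 2, 1, 4, 3, 5, 6, 7]), 1001, 0),
    ((0, [1, 2, 3, 4, 5, 6, 7, 3, 2, 1, 4, 3, 5, 7, 8, 7, 3, 2, 1, 4, 3, 9, 6, 5]), 1001, 0),
    ((0, [1, 2, 3, 4, 5, 6, 7, 3, 2, 4, 3, 5, 7, 8, 7, 3, 2, 1, 4, 3, 2, 9, 6, 5]), 1001, 0),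
    ((0, [1, 2, 3, 4, 5, 6, 7, 3, 2, 1, 4, 3, 5, 7, 8, 7, 3, 2, 1, 4, 3, 2, 5, 9]), 1001, 0),
    ((0, [1, 2, 3, 4, 5, 6, 7, 3, 2, 1, 4, 3, 5, 8, 7, 3, 2, 1, 4, 3, 2, 9, 6, 5]), 1001, 0),
    ((0, [1, 2, 3, 4, 5, 6, 7, 3, 2, 1, 4, 3, 5, 8, 7, 3, 2, 1, 4, 3, 5, 9, 6, 5]), 1001, 0),
    ((0, [1, 2, 3, 4, 5, 6, 7, 3, 2, 1, 4, 3, 5, 8, 7, 3, 2, 1, 4, 3, 2, 5, 9, 6]), 1001, 0),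
    ((0, [1, 2, 3, 4, 5, 6, 7, 3, 2, 1, 4, 3, 5, 7, 8, 7, 3, 2, 1, 4, 3, 5, 7, 9]), 1001, 0),
    ((0, [1, 2, 3, 4, 5, 6, 7, 3, 2, 1, 4, 3, 5, 7, 8, 7, 3, 2, 1, 4, 3, 2, 5, 6]), 1001, 0),
    ((0, [1, 2, 3, 4, 5, 6, 7, 3, 2, 1, 4, 3, 5, 7, 8, 7, 3, 2, 1, 4, 3, 5, 6, 7]), 1001, 0),
    ((0, [1, 2, 3, 4, 5, 6, 7, 3, 2, 1, 4, 3, 5, 8, 7, 3, 2, 1, 4, 3, 7, 9, 6, 5]), 1001, 0),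
    ((0, [1, 2, 3, 4, 5, 6, 7, 3, 2, 1, 4, 3, 5, 8, 7, 3, 2, 1, 4, 3, 5, 7, 9, 6]), 1001, 0),
    ((0, [1, 2, 3, 4, 5, 6, 7, 3, 2, 1, 4, 3, 2, 5, 4, 7, 8, 7, 3, 4, 9, 6, 5, 4]), 1001, 0),
    ((0, [1, 2, 3, 4, 5, 6, 7, 3, 2, 1, 4, 3, 2, 5, 4, 8, 7, 3, 2, 4, 9, 6, 5, 4]), 1001, 0),
    ((0, [1, 2, 3, 4, 5, 6, 7, 3, 2, 1, 4, 3, 2, 5, 4, 8, 7, 3, 2, 1, 4, 9, 6, 5]), 1001, 0),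
    ((0, [1, 2, 3, 4, 5, 6, 7, 3, 2, 1, 4, 3, 2, 5, 4, 8, 7, 3, 2, 4, 3, 9, 6, 5]), 1001, 0),
    ((0, [1, 2, 3, 4, 5, 6, 7, 3, 4, 5, 8, 7, 3, 2, 1, 4, 3, 2, 7, 3, 4, 9, 6, 5]), 1001, 0),
    ((0, [1, 2, 3, 4, 5, 6, 7, 3, 2, 1, 4, 3, 2, 5, 7, 8, 7, 3, 2, 4, 3, 9, 6, 5]), 1001, 0),
    ((0, [1, 2, 3, 4, 5, 6, 7, 3, 2, 1, 4, 3, 2, 5, 8, 7, 3, 2, 4, 3, 7, 9, 6, 5]), 1001, 0),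
    ((0, [1, 2, 3, 4, 5, 6, 7, 3, 2, 1, 4, 3, 2, 5, 7, 8, 7, 3, 2, 1, 4, 9, 6, 5]), 1001, 0),
    ((0, [1, 2, 3, 4, 5, 6, 7, 3, 2, 1, 4, 3, 2, 5, 8, 7, 3, 2, 1, 4, 3, 9, 6, 5]), 1001, 0),
    ((0, [1, 2, 3, 4, 5, 6, 7, 3, 2, 1, 4, 3, 2, 5, 4, 7, 8, 7, 3, 2, 4, 3, 5, 9]), 1001, 0),
    ((0, [1, 2, 3, 4, 5, 6, 7, 3, 2, 1, 4, 3, 2, 5, 4, 3, 8, 7, 3, 2, 1, 4, 5, 9]), 1001, 0),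
    ((0, [1, 2, 3, 4, 5, 6, 7, 3, 2, 1, 4, 3, 2, 5, 4, 8, 7, 3, 2, 1, 0, 4, 5, 9]), 1001, 0),
    ((0, [1, 2, 3, 4, 5, 6, 7, 3, 2, 4, 5, 8, 7, 3, 2, 1, 4, 3, 2, 7, 3, 4, 5, 9]), 1001, 0),
    ((0, [1, 2, 3, 4, 5, 6, 7, 3, 2, 1, 4, 3, 2, 5, 4, 8, 7, 3, 2, 1, 0, 4, 3, 5]), 1001, 0),
    ((0, [1, 2, 3, 4, 5, 6, 7, 3, 2, 1, 4, 3, 2, 5, 4, 3, 8, 7, 3, 2, 1, 0, 4, 5]), 1001, 0),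
    ((0, [1, 2, 3, 4, 5, 6, 7, 3, 2, 1, 4, 3, 2, 5, 7, 8, 7, 3, 2, 4, 3, 5, 7, 9]), 1001, 0),
    ((0, [1, 2, 3, 4, 5, 6, 7, 3, 2, 1, 4, 5, 8, 7, 3, 2, 1, 4, 3, 2, 7, 3, 4, 5]), 1001, 0),
    ((0, [1, 2, 3, 4, 5, 6, 7, 3, 2, 1, 4, 3, 2, 5, 4, 8, 7, 3, 2, 1, 4, 3, 5, 7]), 1001, 0),
    ((0, [1, 2, 3, 4, 5, 6, 7, 3, 2, 1, 4, 3, 2, 5, 4, 8, 7, 3, 2, 1, 4, 3, 2, 5]), 1001, 0),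
    ((0, [1, 2, 3, 4, 5, 6, 7, 3, 2, 4, 3, 5, 8, 7, 3, 2, 1, 4, 3, 2, 7, 3, 4, 5]), 1001, 0),
    ((0, [1, 2, 3, 4, 5, 6, 7, 3, 2, 1, 4, 3, 2, 5, 8, 7, 3, 2, 1, 4, 3, 5, 7, 9]), 1001, 0),
    ((0, [1, 2, 3, 4, 5, 6, 7, 3, 2, 1, 4, 3, 2, 5, 8, 7, 3, 2, 1, 4, 3, 2, 5, 9]), 1001, 0),
    ((0, [1, 2, 3, 4, 5, 6, 7, 3, 2, 1, 4, 3, 2, 5, 4, 3, 8, 7, 3, 2, 4, 3, 5, 9]), 1001, 0),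
    ((0, [1, 2, 3, 4, 5, 6, 7, 3, 2, 1, 4, 3, 2, 5, 4, 3, 8, 7, 3, 2, 1, 4, 3, 5]), 1001, 0),
    ((0, [1, 2, 3, 4, 5, 6, 7, 3, 2, 4, 3, 5, 7, 8, 7, 3, 2, 1, 0, 4, 5, 9, 6, 5]), 1001, 0),
    ((0, [1, 2, 3, 4, 5, 6, 7, 3, 2, 1, 4, 3, 5, 8, 7, 3, 2, 1, 0, 4, 3, 2, 9, 6]), 1001, 0),
    ((0, [1, 2, 3, 4, 5, 6, 7, 3, 2, 1, 4, 3, 5, 8, 7, 3, 2, 1, 0, 4, 3, 9, 6, 5]), 901, 0),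
    ((0, [1, 2, 3, 4, 5, 6, 7, 3, 2, 1, 4, 3, 5, 7, 8, 7, 3, 2, 1, 0, 4, 3, 9, 6]), 1001, 0),
    ((0, [1, 2, 3, 4, 5, 6, 7, 3, 2, 1, 4, 3, 5, 7, 8, 7, 3, 2, 1, 0, 4, 3, 2, 9]), 1001, 0),
    ((0, [1, 2, 3, 4, 5, 6, 7, 3, 2, 1, 4, 3, 5, 8, 7, 3, 2, 1, 0, 4, 3, 2, 5, 9]), 1001, 0),
    ((0, [1, 2, 3, 4, 5, 6, 7, 3, 2, 1, 4, 3, 5, 8, 7, 3, 2, 1, 0, 4, 3, 5, 7, 9]), 1001, 0),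
    ((0, [1, 2, 3, 4, 5, 6, 7, 3, 2, 1, 4, 3, 5, 8, 7, 3, 2, 1, 0, 4, 3, 5, 9, 6]), 1001, 0),
    ((0, [1, 2, 3, 4, 5, 6, 7, 3, 2, 1, 4, 3, 7, 8, 7, 3, 2, 1, 0, 4, 3, 5, 9, 6]), 1001, 0),
    ((1, [2, 3, 4, 5, 6, 7, 3, 2, 4, 3, 5, 4, 7, 3, 8, 7, 3, 4, 5, 6, 9, 6, 5, 4]), 1001, 0),
    ((0, [1, 2, 3, 4, 5, 6, 7, 3, 2, 4, 3, 5, 4, 7, 3, 8, 7, 3, 4, 5, 6, 9, 6, 5]), 1001, 0),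
    ((0, [1, 2, 3, 4, 5, 6, 7, 3, 2, 4, 3, 5, 4, 7, 8, 7, 3, 2, 4, 5, 6, 9, 6, 5]), 1001, 0),
    ((0, [1, 2, 3, 4, 5, 6, 7, 3, 2, 4, 3, 5, 4, 8, 7, 3, 2, 1, 4, 5, 6, 9, 6, 5]), 1001, 0),
    ((1, [2, 3, 4, 5, 6, 7, 3, 2, 4, 5, 8, 7, 3, 2, 4, 3, 5, 6, 7, 9, 6, 5, 4, 3]), 1001, 0),
    ((1, [2, 3, 4, 5, 6, 7, 3, 2, 4, 3, 5, 4, 7, 8, 7, 3, 2, 4, 3, 5, 6, 9, 6, 5]), 1001, 0),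
    ((0, [1, 2, 3, 4, 5, 6, 7, 3, 2, 4, 3, 5, 4, 8, 7, 3, 2, 4, 3, 5, 6, 9, 6, 5]), 1001, 0),
    ((0, [1, 2, 3, 4, 5, 6, 7, 3, 2, 1, 4, 3, 5, 4, 8, 7, 3, 2, 4, 3, 5, 6, 9, 6]), 1001, 0),
    ((0, [1, 2, 3, 4, 5, 6, 7, 3, 2, 4, 5, 8, 7, 3, 2, 1, 4, 3, 5, 6, 7, 9, 6, 5]), 1001, 0),
    ((0, [1, 2, 3, 4, 5, 6, 7, 3, 2, 4, 5, 8, 7, 3, 2, 1, 4, 3, 2, 5, 6, 9, 6, 5]), 1001, 0),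
    ((0, [1, 2, 3, 4, 5, 6, 7, 3, 2, 4, 5, 8, 7, 3, 2, 4, 3, 5, 6, 7, 8, 9, 6, 5]), 1001, 0),
    ((0, [1, 2, 3, 4, 5, 6, 7, 3, 2, 4, 3, 5, 8, 7, 3, 2, 4, 3, 5, 6, 7, 9, 6, 5]), 1001, 0),
    ((0, [1, 2, 3, 4, 5, 6, 7, 3, 2, 1, 4, 5, 8, 7, 3, 2, 1, 4, 3, 2, 5, 6, 9, 6]), 1001, 0),
    ((0, [1, 2, 3, 4, 5, 6, 7, 3, 2, 1, 4, 5, 8, 7, 3, 2, 1, 0, 4, 3, 2, 5, 6, 9]), 901, 0),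
    ((0, [1, 2, 3, 4, 5, 6, 7, 3, 2, 1, 4, 3, 5, 4, 7, 8, 7, 3, 2, 4, 3, 5, 6, 9]), 1001, 0),
    ((0, [1, 2, 3, 4, 5, 6, 7, 3, 2, 4, 5, 8, 7, 3, 2, 1, 4, 3, 2, 5, 6, 7, 3, 9]), 901, 0),
    ((0, [1, 2, 3, 4, 5, 6, 7, 3, 2, 4, 3, 5, 8, 7, 3, 2, 1, 0, 4, 5, 6, 9, 6, 5]), 1001, 0),
    ((0, [1, 2, 3, 4, 5, 6, 7, 3, 2, 4, 3, 5, 7, 8, 7, 3, 2, 4, 3, 5, 4, 9, 6, 5]), 1001, 0),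
    ((0, [1, 2, 3, 4, 5, 6, 7, 3, 2, 4, 3, 5, 8, 7, 3, 2, 1, 4, 3, 5, 6, 9, 6, 5]), 1001, 0),
    ((0, [1, 2, 3, 4, 5, 6, 7, 3, 2, 1, 4, 5, 8, 7, 3, 2, 1, 0, 4, 5, 6, 9, 6, 5]), 1001, 0),
    ((0, [1, 2, 3, 4, 5, 6, 7, 3, 2, 1, 4, 5, 8, 7, 3, 2, 1, 0, 4, 3, 5, 6, 9, 6]), 901, 0),
    ((0, [1, 2, 3, 4, 5, 6, 7, 3, 2, 1, 4, 5, 8, 7, 3, 2, 1, 4, 3, 5, 6, 9, 6, 5]), 901, 0),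
    ((0, [1, 2, 3, 4, 5, 6, 7, 3, 2, 4, 3, 5, 7, 8, 7, 3, 2, 4, 3, 5, 6, 9, 6, 5]), 1001, 0),
    ((0, [1, 2, 3, 4, 5, 6, 7, 3, 2, 1, 4, 3, 5, 7, 8, 7, 3, 2, 4, 3, 5, 6, 9, 6]), 1001, 0),
    ((0, [1, 2, 3, 4, 5, 6, 7, 3, 2, 1, 4, 3, 5, 8, 7, 3, 2, 4, 3, 5, 6, 9, 6, 5]), 1001, 0),
    ((0, [1, 2, 3, 4, 5, 6, 7, 3, 2, 4, 3, 5, 8, 7, 3, 2, 4, 3, 5, 4, 7, 9, 6, 5]), 1001, 0),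
    ((0, [1, 2, 3, 4, 5, 6, 7, 3, 2, 4, 3, 5, 4, 8, 7, 3, 2, 4, 3, 5, 4, 9, 6, 5]), 1001, 0),
    ((0, [1, 2, 3, 4, 5, 6, 7, 3, 2, 4, 3, 5, 8, 7, 3, 2, 4, 3, 5, 4, 9, 6, 5, 4]), 1001, 0),
    ((0, [1, 2, 3, 4, 5, 6, 7, 3, 2, 1, 4, 5, 8, 7, 3, 2, 1, 0, 4, 3, 5, 6, 7, 9]), 901, 0),
    ((0, [1, 2, 3, 4, 5, 6, 7, 3, 2, 1, 4, 3, 5, 7, 8, 7, 3, 2, 4, 3, 5, 6, 7, 9]), 1001, 0),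
    ((0, [1, 2, 3, 4, 5, 6, 7, 3, 2, 1, 4, 3, 5, 8, 7, 3, 2, 4, 3, 5, 6, 7, 9, 6]), 1001, 0),
    ((0, [1, 2, 3, 4, 5, 6, 7, 3, 2, 4, 3, 5, 8, 7, 3, 2, 1, 4, 3, 5, 4, 9, 6, 5]), 1001, 0),
    ((0, [1, 2, 3, 4, 5, 6, 7, 3, 2, 1, 4, 3, 7, 8, 7, 3, 2, 1, 4, 3, 2, 5, 9, 6]), 1001, 0),
    ((0, [1, 2, 3, 4, 5, 6, 7, 3, 2, 1, 4, 3, 7, 8, 7, 3, 2, 1, 4, 3, 5, 6, 9, 6]), 1001, 0),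
    ((0, [1, 2, 3, 4, 5, 6, 7, 3, 2, 1, 4, 5, 8, 7, 3, 2, 1, 4, 3, 5, 4, 9, 6, 5]), 1001, 0),
    ((0, [1, 2, 3, 4, 5, 6, 7, 3, 2, 1, 4, 8, 7, 3, 2, 1, 0, 4, 3, 5, 4, 9, 6, 5]), 1001, 0)]

/-- Part 12 of the cycles. -/
def reps12 : List ((Nat × List Nat) × Nat × Nat) :=
  [
    ((0, [1, 2, 3, 4, 5, 6, 7, 3, 2, 1, 4, 8, 7, 3, 2, 1, 4, 3, 5, 4, 6, 9, 6, 5]), 1001, 0),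
    ((0, [1, 2, 3, 4, 5, 6, 7, 3, 2, 1, 4, 5, 8, 7, 3, 2, 4, 3, 5, 4, 9, 6, 5, 4]), 1001, 0),
    ((0, [1, 2, 3, 4, 5, 6, 7, 3, 2, 1, 4, 5, 8, 7, 3, 2, 4, 3, 5, 4, 6, 9, 6, 5]), 1001, 0),
    ((0, [1, 2, 3, 4, 5, 6, 7, 3, 2, 4, 3, 5, 4, 8, 7, 3, 2, 1, 4, 3, 2, 5, 7, 3]), 901, 0),
    ((0, [1, 2, 3, 4, 5, 6, 7, 3, 2, 4, 3, 5, 8, 7, 3, 2, 1, 4, 3, 2, 5, 4, 7, 3]), 901, 0),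
    ((0, [1, 2, 3, 4, 5, 6, 7, 3, 2, 1, 4, 3, 5, 8, 7, 3, 2, 4, 3, 5, 4, 9, 6, 5]), 1001, 0),
    ((0, [1, 2, 3, 4, 5, 6, 7, 3, 2, 1, 4, 3, 7, 8, 7, 3, 2, 4, 3, 5, 4, 9, 6, 5]), 1001, 0),
    ((0, [1, 2, 3, 4, 5, 6, 7, 3, 2, 1, 4, 3, 8, 7, 3, 2, 4, 3, 5, 4, 6, 9, 6, 5]), 1001, 0),
    ((0, [1, 2, 3, 4, 5, 6, 7, 3, 2, 1, 4, 3, 8, 7, 3, 2, 1, 4, 3, 5, 4, 9, 6, 5]), 1001, 0),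
    ((0, [1, 2, 3, 4, 5, 6, 7, 3, 2, 1, 4, 5, 8, 7, 3, 2, 1, 4, 3, 2, 7, 8, 9, 6]), 1001, 0),
    ((0, [1, 2, 3, 4, 5, 6, 7, 3, 2, 1, 4, 5, 8, 7, 3, 2, 1, 4, 3, 2, 7, 3, 8, 9]), 1001, 0),
    ((0, [1, 2, 3, 4, 5, 6, 7, 3, 2, 1, 4, 5, 8, 7, 3, 2, 1, 4, 3, 7, 8, 9, 6, 5]), 701, 0),
    ((0, [1, 2, 3, 4, 5, 6, 7, 3, 2, 1, 4, 3, 5, 7, 8, 7, 3, 2, 4, 3, 7, 8, 9, 6]), 901, 0),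
    ((0, [1, 2, 3, 4, 5, 6, 7, 3, 2, 1, 4, 3, 2, 5, 7, 8, 7, 3, 2, 4, 3, 7, 8, 9]), 1001, 0),
    ((0, [1, 2, 3, 4, 5, 6, 7, 3, 2, 1, 4, 3, 5, 4, 8, 7, 3, 2, 4, 3, 7, 8, 9, 6]), 901, 0),
    ((0, [1, 2, 3, 4, 5, 6, 7, 3, 2, 1, 4, 3, 5, 4, 8, 7, 3, 2, 1, 4, 3, 7, 8, 9]), 901, 0),
    ((0, [1, 2, 3, 4, 5, 6, 7, 3, 2, 1, 4, 3, 5, 8, 7, 3, 2, 4, 3, 7, 8, 9, 6, 5]), 1001, 0),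
    ((0, [1, 2, 3, 4, 5, 6, 7, 3, 2, 1, 4, 3, 2, 5, 4, 8, 7, 3, 2, 4, 3, 7, 8, 9]), 1001, 0),
    ((0, [1, 2, 3, 4, 5, 6, 7, 3, 2, 1, 4, 5, 8, 7, 3, 2, 1, 4, 3, 2, 5, 7, 8, 9]), 1001, 0),
    ((0, [1, 2, 3, 4, 5, 6, 7, 3, 2, 1, 4, 5, 8, 7, 3, 2, 1, 0, 4, 3, 5, 7, 8, 9]), 701, 0),
    ((0, [1, 2, 3, 4, 5, 6, 7, 3, 2, 1, 4, 3, 5, 7, 8, 7, 3, 2, 4, 3, 5, 7, 8, 9]), 1001, 0),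
    ((0, [1, 2, 3, 4, 5, 6, 7, 3, 2, 1, 4, 3, 5, 4, 8, 7, 3, 2, 4, 3, 5, 7, 8, 9]), 1001, 0),
    ((0, [1, 2, 3, 4, 5, 6, 7, 3, 2, 1, 4, 5, 8, 7, 3, 2, 1, 4, 3, 5, 7, 8, 9, 6]), 1001, 0),
    ((0, [1, 2, 3, 4, 5, 6, 7, 3, 2, 1, 4, 3, 5, 8, 7, 3, 2, 4, 3, 5, 7, 8, 9, 6]), 1001, 0),
    ((0, [1, 2, 3, 4, 5, 6, 7, 3, 2, 1, 4, 3, 5, 4, 7, 3, 8, 7, 3, 2, 4, 3, 7, 8]), 1001, 0),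
    ((0, [1, 2, 3, 4, 5, 6, 7, 3, 2, 1, 4, 3, 5, 4, 8, 7, 3, 2, 1, 0, 4, 3, 7, 8]), 1001, 0),
    ((0, [1, 2, 3, 4, 5, 6, 7, 3, 2, 1, 4, 3, 5, 8, 7, 3, 2, 1, 4, 3, 2, 7, 3, 8]), 1001, 0),
    ((0, [1, 2, 3, 4, 5, 6, 7, 3, 2, 1, 4, 5, 8, 7, 3, 2, 1, 0, 4, 3, 2, 5, 7, 8]), 601, 0),
    ((0, [1, 2, 3, 4, 5, 6, 7, 3, 2, 1, 4, 3, 5, 4, 7, 8, 7, 3, 2, 4, 3, 5, 7, 8]), 1001, 0),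
    ((0, [1, 2, 3, 4, 5, 6, 7, 3, 2, 1, 4, 5, 8, 7, 3, 2, 1, 4, 3, 2, 5, 7, 3, 8]), 901, 0),
    ((0, [1, 2, 3, 4, 5, 6, 7, 3, 2, 1, 4, 3, 5, 4, 8, 7, 3, 2, 1, 4, 3, 5, 7, 8]), 1001, 0),
    ((0, [1, 2, 3, 4, 5, 6, 7, 3, 2, 1, 4, 3, 5, 8, 7, 3, 2, 1, 0, 4, 3, 7, 8, 9]), 1001, 0),
    ((0, [1, 2, 3, 4, 5, 6, 7, 3, 2, 1, 4, 3, 5, 8, 7, 3, 2, 1, 0, 4, 3, 2, 7, 8]), 1001, 0),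
    ((0, [1, 2, 3, 4, 5, 6, 7, 3, 2, 1, 4, 3, 5, 8, 7, 3, 2, 1, 0, 4, 3, 5, 7, 8]), 1001, 0),
    ((0, [1, 2, 3, 4, 5, 6, 7, 3, 2, 1, 4, 3, 5, 7, 8, 7, 3, 2, 1, 4, 3, 7, 8, 9]), 901, 0),
    ((0, [1, 2, 3, 4, 5, 6, 7, 3, 2, 1, 4, 3, 5, 8, 7, 3, 2, 1, 4, 3, 7, 8, 9, 6]), 901, 0),
    ((0, [1, 2, 3, 4, 5, 6, 7, 3, 2, 1, 4, 3, 5, 8, 7, 3, 2, 1, 4, 3, 5, 7, 8, 9]), 1001, 0),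
    ((0, [1, 2, 3, 4, 5, 6, 7, 3, 2, 1, 4, 3, 5, 7, 8, 7, 3, 2, 1, 4, 3, 5, 7, 8]), 1001, 0),
    ((0, [1, 2, 3, 4, 5, 6, 7, 3, 2, 1, 4, 3, 5, 8, 7, 3, 2, 1, 4, 3, 2, 5, 7, 8]), 1001, 0),
    ((0, [1, 2, 3, 4, 5, 6, 7, 3, 2, 1, 4, 3, 2, 5, 8, 7, 3, 2, 4, 3, 5, 7, 8, 9]), 1001, 0),
    ((0, [1, 2, 3, 4, 5, 6, 7, 3, 2, 1, 4, 3, 2, 5, 7, 8, 7, 3, 2, 4, 3, 5, 7, 8]), 1001, 0),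
    ((0, [1, 2, 3, 4, 5, 6, 7, 3, 2, 1, 4, 3, 2, 5, 4, 8, 7, 3, 2, 4, 3, 5, 7, 8]), 1001, 0),
    ((0, [1, 2, 3, 4, 5, 6, 7, 3, 2, 1, 4, 3, 2, 5, 8, 7, 3, 2, 1, 4, 3, 5, 7, 8]), 1001, 0),
    ((0, [1, 2, 3, 4, 5, 6, 7, 3, 2, 1, 4, 5, 8, 7, 3, 2, 4, 3, 5, 4, 6, 7, 8, 9]), 1001, 0),
    ((0, [1, 2, 3, 4, 5, 6, 7, 3, 2, 1, 4, 5, 8, 7, 3, 2, 1, 4, 3, 5, 4, 6, 7, 8]), 1001, 0),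
    ((0, [1, 2, 3, 4, 5, 6, 7, 3, 2, 1, 4, 5, 8, 7, 3, 2, 4, 3, 5, 7, 8, 9, 6, 5]), 901, 0),
    ((0, [1, 2, 3, 4, 5, 6, 7, 3, 2, 1, 4, 5, 8, 7, 3, 2, 4, 3, 7, 8, 9, 6, 5, 4]), 1001, 0),
    ((0, [1, 2, 3, 4, 5, 6, 7, 3, 2, 1, 4, 5, 8, 7, 3, 2, 4, 3, 5, 6, 7, 8, 9, 6]), 1001, 0),
    ((0, [1, 2, 3, 4, 5, 6, 7, 3, 2, 1, 4, 5, 8, 7, 3, 2, 1, 4, 3, 5, 4, 7, 8, 9]), 1001, 0),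
    ((0, [1, 2, 3, 4, 5, 6, 7, 3, 2, 1, 4, 5, 8, 7, 3, 2, 4, 3, 5, 4, 7, 8, 9, 6]), 1001, 0),
    ((0, [1, 2, 3, 4, 5, 6, 7, 3, 2, 1, 4, 3, 5, 8, 7, 3, 2, 4, 3, 5, 4, 7, 8, 9]), 1001, 0),
    ((0, [1, 2, 3, 4, 5, 6, 7, 3, 2, 1, 4, 3, 5, 7, 8, 7, 3, 2, 4, 3, 5, 4, 7, 8]), 1001, 0),
    ((0, [1, 2, 3, 4, 5, 6, 7, 3, 2, 1, 4, 3, 5, 4, 8, 7, 3, 2, 4, 3, 5, 4, 7, 8]), 1001, 0),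
    ((0, [1, 2, 3, 4, 5, 6, 7, 3, 2, 1, 4, 3, 2, 5, 8, 7, 3, 2, 4, 3, 5, 4, 7, 8]), 1001, 0),
    ((0, [1, 2, 3, 4, 5, 6, 7, 3, 2, 1, 4, 5, 8, 7, 3, 2, 1, 4, 3, 2, 5, 6, 7, 8]), 1001, 0),
    ((0, [1, 2, 3, 4, 5, 6, 7, 3, 2, 1, 4, 5, 8, 7, 3, 2, 1, 0, 4, 3, 5, 6, 7, 8]), 901, 0),
    ((0, [1, 2, 3, 4, 5, 6, 7, 3, 2, 1, 4, 3, 5, 7, 8, 7, 3, 2, 4, 3, 5, 6, 7, 8]), 1001, 0),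
    ((0, [1, 2, 3, 4, 5, 6, 7, 3, 2, 1, 4, 3, 5, 4, 8, 7, 3, 2, 4, 3, 5, 6, 7, 8]), 1001, 0),
    ((0, [1, 2, 3, 4, 5, 6, 7, 3, 2, 1, 4, 5, 8, 7, 3, 2, 1, 4, 3, 5, 6, 7, 8, 9]), 1001, 0),
    ((0, [1, 2, 3, 4, 5, 6, 7, 3, 2, 1, 4, 3, 5, 8, 7, 3, 2, 4, 3, 5, 6, 7, 8, 9]), 1001, 0),
    ((0, [1, 2, 3, 4, 5, 6, 7, 3, 2, 1, 4, 3, 5, 8, 7, 3, 2, 4, 3, 5, 4, 6, 7, 8]), 1001, 0),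
    ((0, [1, 2, 3, 4, 5, 6, 7, 3, 2, 1, 4, 5, 8, 7, 3, 2, 4, 3, 5, 4, 7, 3, 8, 9]), 1001, 0),
    ((0, [1, 2, 3, 4, 5, 6, 7, 3, 2, 1, 4, 3, 2, 5, 8, 7, 3, 2, 1, 0, 4, 9, 6, 5]), 1001, 0),
    ((0, [1, 2, 3, 4, 5, 6, 7, 3, 2, 1, 4, 3, 2, 5, 8, 7, 3, 2, 1, 0, 4, 3, 2, 5]), 1001, 0),
    ((0, [1, 2, 3, 4, 5, 6, 7, 3, 2, 1, 4, 3, 2, 5, 8, 7, 3, 2, 1, 0, 4, 3, 5, 7]), 1001, 0),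
    ((0, [1, 2, 3, 4, 5, 6, 7, 3, 2, 1, 4, 3, 5, 7, 8, 7, 3, 2, 1, 0, 4, 3, 7, 9]), 1001, 0),
    ((0, [1, 2, 3, 4, 5, 6, 7, 3, 2, 1, 4, 3, 5, 7, 8, 7, 3, 2, 1, 0, 4, 3, 7, 8]), 1001, 0),
    ((0, [1, 2, 3, 4, 5, 6, 7, 3, 2, 4, 3, 8, 7, 3, 2, 1, 4, 3, 2, 5, 4, 3, 7, 8]), 1001, 0),
    ((0, [1, 2, 3, 4, 5, 6, 7, 3, 2, 1, 4, 3, 7, 8, 7, 3, 2, 1, 4, 3, 5, 7, 9, 6]), 1001, 0),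
    ((0, [1, 2, 3, 4, 5, 6, 7, 3, 2, 1, 4, 3, 2, 8, 7, 3, 2, 4, 3, 5, 7, 8, 9, 6]), 1001, 0),
    ((0, [1, 2, 3, 4, 5, 6, 7, 3, 2, 1, 4, 3, 2, 8, 7, 3, 2, 1, 0, 4, 3, 5, 7, 9]), 1001, 0),
    ((0, [1, 2, 3, 4, 5, 6, 7, 3, 2, 1, 4, 3, 2, 7, 8, 7, 3, 2, 1, 4, 3, 5, 9, 6]), 1001, 0),
    ((0, [1, 2, 3, 4, 5, 6, 7, 3, 2, 1, 4, 3, 8, 7, 3, 2, 4, 3, 5, 4, 7, 9, 6, 5]), 1001, 0),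
    ((0, [1, 2, 3, 4, 5, 6, 7, 3, 2, 1, 4, 3, 2, 8, 7, 3, 2, 1, 0, 4, 3, 2, 5, 9]), 1001, 0),
    ((0, [1, 2, 3, 4, 5, 6, 7, 3, 2, 1, 4, 3, 2, 5, 4, 7, 8, 7, 3, 4, 5, 9, 6, 5]), 1001, 0),
    ((0, [1, 2, 3, 4, 5, 6, 7, 3, 2, 1, 4, 3, 2, 5, 4, 3, 8, 7, 3, 4, 5, 9, 6, 5]), 1001, 0),
    ((0, [1, 2, 3, 4, 5, 6, 7, 3, 2, 1, 4, 3, 2, 5, 4, 8, 7, 3, 2, 1, 4, 5, 9, 6]), 1001, 0),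
    ((0, [1, 2, 3, 4, 5, 6, 7, 3, 2, 1, 4, 3, 2, 5, 4, 8, 7, 3, 2, 4, 3, 5, 9, 6]), 1001, 0),
    ((0, [1, 2, 3, 4, 5, 6, 7, 3, 2, 1, 4, 3, 2, 5, 8, 7, 3, 2, 4, 3, 5, 9, 6, 5]), 1001, 0),
    ((0, [1, 2, 3, 4, 5, 6, 7, 3, 4, 5, 8, 7, 3, 2, 1, 4, 3, 2, 7, 3, 4, 5, 9, 6]), 1001, 0),
    ((0, [1, 2, 3, 4, 5, 6, 7, 3, 2, 1, 4, 3, 2, 5, 8, 7, 3, 2, 4, 3, 5, 7, 9, 6]), 1001, 0),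
    ((0, [1, 2, 3, 4, 5, 6, 7, 3, 2, 1, 4, 3, 2, 5, 8, 7, 3, 2, 1, 4, 5, 9, 6, 5]), 1001, 0),
    ((0, [1, 2, 3, 4, 5, 6, 7, 3, 2, 1, 4, 3, 2, 8, 7, 3, 2, 4, 3, 5, 4, 9, 6, 5]), 1001, 0),
    ((0, [1, 2, 3, 4, 5, 6, 7, 3, 2, 1, 4, 3, 2, 8, 7, 3, 2, 1, 0, 4, 3, 5, 9, 6]), 1001, 0),
    ((0, [1, 2, 3, 4, 5, 6, 7, 3, 2, 1, 4, 3, 2, 8, 7, 3, 2, 1, 4, 3, 5, 7, 9, 6]), 1001, 0),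
    ((0, [1, 2, 3, 4, 5, 6, 7, 3, 2, 1, 4, 3, 2, 8, 7, 3, 2, 1, 4, 3, 2, 5, 9, 6]), 1001, 0),
    ((0, [1, 2, 3, 4, 5, 6, 7, 3, 2, 1, 4, 3, 2, 8, 7, 3, 2, 1, 4, 3, 5, 6, 9, 6]), 1001, 0),
    ((0, [1, 2, 3, 4, 5, 6, 7, 3, 2, 1, 4, 3, 2, 5, 4, 3, 8, 7, 3, 2, 1, 4, 5, 6]), 1001, 0),
    ((0, [1, 2, 3, 4, 5, 6, 7, 3, 2, 1, 4, 3, 2, 5, 4, 8, 7, 3, 2, 1, 0, 4, 5, 6]), 1001, 0),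
    ((0, [1, 2, 3, 4, 5, 6, 7, 3, 2, 1, 4, 8, 7, 3, 2, 4, 3, 5, 4, 7, 3, 2, 1, 0]), 1001, 0),
    ((0, [1, 2, 3, 4, 5, 6, 7, 3, 2, 1, 4, 3, 2, 5, 8, 7, 3, 2, 1, 4, 3, 5, 6, 7]), 1001, 0),
    ((0, [1, 2, 3, 4, 5, 6, 7, 3, 2, 1, 4, 3, 2, 5, 8, 7, 3, 2, 1, 4, 3, 2, 5, 6]), 1001, 0),
    ((0, [1, 2, 3, 4, 5, 6, 7, 3, 2, 1, 4, 3, 2, 5, 4, 3, 8, 7, 3, 2, 4, 3, 5, 6]), 1001, 0),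
    ((0, [1, 2, 3, 4, 5, 6, 7, 3, 2, 1, 4, 5, 8, 7, 3, 2, 4, 3, 5, 4, 7, 3, 2, 8]), 1001, 0),
    ((0, [1, 2, 3, 4, 5, 6, 7, 3, 2, 1, 4, 3, 2, 5, 8, 7, 3, 2, 4, 3, 5, 6, 7, 8]), 1001, 0),
    ((0, [1, 2, 3, 4, 5, 6, 7, 3, 2, 1, 4, 8, 7, 3, 2, 4, 3, 5, 4, 7, 3, 9, 6, 5]), 1001, 0),
    ((0, [1, 2, 3, 4, 5, 6, 7, 3, 2, 1, 4, 3, 2, 8, 7, 3, 2, 4, 3, 5, 4, 6, 9, 6]), 1001, 0),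
    ((0, [1, 2, 3, 4, 5, 6, 7, 3, 2, 1, 4, 3, 2, 8, 7, 3, 2, 4, 3, 5, 6, 7, 9, 6]), 1001, 0),
    ((0, [1, 2, 3, 4, 5, 6, 7, 3, 2, 1, 4, 3, 2, 5, 8, 7, 3, 2, 4, 3, 5, 6, 7, 9]), 1001, 0),
    ((0, [1, 2, 3, 4, 5, 6, 7, 3, 2, 1, 4, 3, 2, 5, 4, 8, 7, 3, 2, 4, 3, 5, 6, 9]), 1001, 0),
    ((0, [1, 2, 3, 4, 5, 6, 7, 3, 2, 1, 4, 3, 2, 8, 7, 3, 2, 1, 0, 4, 5, 6, 9, 6]), 901, 0),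
    ((0, [1, 2, 3, 4, 5, 6, 7, 3, 2, 1, 4, 3, 2, 5, 8, 7, 3, 2, 4, 5, 6, 9, 6, 5]), 1001, 0),
    ((0, [1, 2, 3, 4, 5, 6, 7, 3, 2, 1, 4, 3, 2, 5, 4, 8, 7, 3, 2, 4, 5, 6, 9, 6]), 1001, 0),
    ((0, [1, 2, 3, 4, 5, 6, 7, 3, 2, 1, 4, 3, 2, 5, 4, 8, 7, 3, 2, 1, 4, 5, 6, 9]), 1001, 0),
    ((0, [1, 2, 3, 4, 5, 6, 7, 3, 2, 1, 8, 7, 3, 2, 4, 3, 5, 4, 7, 3, 2, 1, 0, 9]), 1001, 0),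
    ((0, [1, 2, 3, 4, 5, 6, 7, 3, 2, 4, 5, 8, 7, 3, 2, 1, 0, 4, 3, 2, 9, 6, 5, 4, 3]), 1001, 0),
    ((0, [1, 2, 3, 4, 5, 6, 7, 3, 2, 1, 4, 3, 5, 4, 7, 8, 7, 3, 2, 4, 9, 6, 5, 4, 3]), 1001, 0),
    ((0, [1, 2, 3, 4, 5, 6, 7, 3, 2, 1, 4, 3, 5, 4, 7, 3, 8, 7, 3, 2, 4, 3, 9, 6, 5]), 1001, 0),
    ((0, [1, 2, 3, 4, 5, 6, 7, 3, 2, 1, 4, 3, 5, 4, 7, 8, 7, 3, 2, 1, 4, 3, 9, 6, 5]), 1001, 0),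
    ((0, [1, 2, 3, 4, 5, 6, 7, 3, 2, 4, 5, 8, 7, 3, 2, 1, 4, 3, 2, 7, 9, 6, 5, 4, 3]), 1001, 0),
    ((0, [1, 2, 3, 4, 5, 6, 7, 3, 2, 4, 3, 5, 4, 7, 8, 7, 3, 2, 1, 4, 5, 9, 6, 5, 4]), 1001, 0),
    ((0, [1, 2, 3, 4, 5, 6, 7, 3, 2, 4, 5, 8, 7, 3, 2, 1, 0, 4, 3, 2, 5, 9, 6, 5, 4]), 1001, 0),
    ((0, [1, 2, 3, 4, 5, 6, 7, 3, 2, 4, 3, 5, 4, 7, 8, 7, 3, 2, 4, 5, 9, 6, 5, 4, 3]), 1001, 0),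
    ((0, [1, 2, 3, 4, 5, 6, 7, 3, 2, 1, 4, 5, 8, 7, 3, 2, 1, 0, 4, 3, 2, 5, 9, 6, 5]), 1001, 0),
    ((0, [1, 2, 3, 4, 5, 6, 7, 3, 2, 1, 4, 3, 5, 4, 8, 7, 3, 2, 4, 5, 9, 6, 5, 4, 3]), 1001, 0),
    ((0, [1, 2, 3, 4, 5, 6, 7, 3, 2, 1, 4, 3, 5, 4, 7, 8, 7, 3, 2, 4, 3, 5, 9, 6, 5]), 1001, 0),
    ((0, [1, 2, 3, 4, 5, 6, 7, 3, 2, 1, 4, 3, 5, 4, 8, 7, 3, 2, 1, 4, 3, 5, 9, 6, 5]), 1001, 0),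
    ((0, [1, 2, 3, 4, 5, 6, 7, 3, 2, 4, 3, 5, 4, 8, 7, 3, 2, 1, 0, 4, 5, 9, 6, 5, 4]), 1001, 0),
    ((0, [1, 2, 3, 4, 5, 6, 7, 3, 2, 4, 5, 8, 7, 3, 2, 4, 3, 5, 7, 8, 9, 6, 5, 4, 3]), 1001, 0),
    ((0, [1, 2, 3, 4, 5, 6, 7, 3, 2, 4, 3, 5, 4, 8, 7, 3, 2, 1, 0, 4, 3, 5, 9, 6, 5]), 1001, 0)]

/-- Part 13 of the cycles. -/
def reps13 : List ((Nat × List Nat) × Nat × Nat) :=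
  [
    ((0, [1, 2, 3, 4, 5, 6, 7, 3, 2, 4, 5, 8, 7, 3, 2, 1, 4, 3, 2, 5, 7, 3, 9, 6, 5]), 1001, 0),
    ((0, [1, 2, 3, 4, 5, 6, 7, 3, 2, 1, 4, 3, 5, 4, 8, 7, 3, 2, 1, 0, 4, 3, 5, 9, 6]), 901, 0),
    ((0, [1, 2, 3, 4, 5, 6, 7, 3, 2, 4, 5, 8, 7, 3, 2, 4, 3, 7, 8, 9, 6, 5, 4, 3, 2]), 1001, 0),
    ((0, [1, 2, 3, 4, 5, 6, 7, 3, 2, 4, 3, 5, 4, 8, 7, 3, 2, 1, 4, 9, 6, 5, 4, 3, 7]), 1001, 0),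
    ((0, [1, 2, 3, 4, 5, 6, 7, 3, 2, 4, 5, 8, 7, 3, 2, 4, 3, 7, 8, 9, 6, 5, 4, 3, 7]), 1001, 0),
    ((0, [1, 2, 3, 4, 5, 6, 7, 3, 4, 5, 8, 7, 3, 2, 1, 4, 3, 2, 7, 9, 6, 5, 4, 3, 2]), 901, 0),
    ((0, [1, 2, 3, 4, 5, 6, 7, 3, 2, 1, 4, 3, 5, 4, 8, 7, 3, 2, 1, 9, 6, 5, 4, 3, 2]), 1001, 0),
    ((0, [1, 2, 3, 4, 5, 6, 7, 3, 2, 4, 3, 5, 4, 8, 7, 3, 2, 1, 4, 9, 6, 5, 4, 3, 2]), 1001, 0),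
    ((0, [1, 2, 3, 4, 5, 6, 7, 3, 2, 4, 3, 5, 4, 8, 7, 3, 2, 4, 3, 7, 8, 9, 6, 5, 4]), 1001, 0),
    ((0, [1, 2, 3, 4, 5, 6, 7, 3, 2, 4, 3, 5, 4, 8, 7, 3, 2, 4, 3, 5, 7, 8, 9, 6, 5]), 1001, 0),
    ((0, [1, 2, 3, 4, 5, 6, 7, 3, 2, 4, 3, 5, 4, 8, 7, 3, 2, 1, 0, 4, 3, 7, 9, 6, 5]), 1001, 0),
    ((0, [1, 2, 3, 4, 5, 6, 7, 3, 2, 4, 3, 5, 7, 8, 7, 3, 2, 4, 3, 7, 8, 9, 6, 5, 4]), 1001, 0),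
    ((0, [1, 2, 3, 4, 5, 6, 7, 3, 2, 4, 3, 5, 4, 8, 7, 3, 2, 4, 3, 5, 4, 6, 9, 6, 5]), 1001, 0),
    ((0, [1, 2, 3, 4, 5, 6, 7, 3, 2, 4, 3, 5, 4, 8, 7, 3, 2, 1, 4, 3, 5, 7, 9, 6, 5]), 1001, 0),
    ((0, [1, 2, 3, 4, 5, 6, 7, 3, 2, 4, 3, 5, 8, 7, 3, 2, 1, 4, 3, 2, 7, 3, 9, 6, 5]), 1001, 0),
    ((0, [1, 2, 3, 4, 5, 6, 7, 3, 2, 1, 4, 3, 5, 4, 8, 7, 3, 2, 1, 0, 4, 3, 2, 9, 6]), 1001, 0),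
    ((0, [1, 2, 3, 4, 5, 6, 7, 3, 2, 4, 3, 5, 4, 8, 7, 3, 2, 1, 0, 4, 3, 2, 9, 6, 5]), 1001, 0),
    ((0, [1, 2, 3, 4, 5, 6, 7, 3, 2, 1, 4, 3, 5, 4, 8, 7, 3, 2, 1, 4, 3, 2, 9, 6, 5]), 1001, 0),
    ((0, [1, 2, 3, 4, 5, 6, 7, 3, 2, 4, 3, 5, 4, 8, 7, 3, 2, 1, 4, 3, 2, 5, 9, 6, 5]), 1001, 0),
    ((0, [1, 2, 3, 4, 5, 6, 7, 3, 2, 1, 4, 3, 5, 4, 7, 8, 7, 3, 2, 1, 4, 3, 2, 5, 9]), 1001, 0),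
    ((0, [1, 2, 3, 4, 5, 6, 7, 3, 2, 1, 4, 3, 5, 4, 8, 7, 3, 2, 1, 0, 4, 3, 2, 5, 9]), 901, 0),
    ((0, [1, 2, 3, 4, 5, 6, 7, 3, 2, 4, 3, 5, 8, 7, 3, 2, 1, 4, 3, 2, 5, 7, 3, 9, 6]), 901, 0),
    ((0, [1, 2, 3, 4, 5, 6, 7, 3, 2, 1, 4, 3, 5, 4, 8, 7, 3, 2, 1, 4, 3, 2, 5, 9, 6]), 1001, 0),
    ((0, [1, 2, 3, 4, 5, 6, 7, 3, 2, 1, 4, 5, 8, 7, 3, 2, 1, 4, 3, 2, 7, 3, 9, 6, 5]), 1001, 0),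
    ((0, [1, 2, 3, 4, 5, 6, 7, 3, 2, 1, 4, 5, 8, 7, 3, 2, 1, 0, 4, 3, 5, 7, 9, 6, 5]), 1001, 0),
    ((0, [1, 2, 3, 4, 5, 6, 7, 3, 2, 1, 4, 3, 5, 7, 8, 7, 3, 2, 4, 3, 5, 7, 9, 6, 5]), 1001, 0),
    ((0, [1, 2, 3, 4, 5, 6, 7, 3, 2, 1, 4, 3, 5, 4, 7, 8, 7, 3, 2, 1, 4, 3, 5, 7, 9]), 1001, 0),
    ((0, [1, 2, 3, 4, 5, 6, 7, 3, 2, 1, 4, 5, 8, 7, 3, 2, 1, 4, 3, 2, 5, 7, 3, 9, 6]), 901, 0),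
    ((0, [1, 2, 3, 4, 5, 6, 7, 3, 2, 1, 4, 3, 5, 4, 8, 7, 3, 2, 1, 4, 3, 7, 9, 6, 5]), 1001, 0),
    ((0, [1, 2, 3, 4, 5, 6, 7, 3, 2, 1, 4, 3, 5, 4, 8, 7, 3, 2, 1, 0, 4, 3, 7, 9, 6]), 1001, 0),
    ((0, [1, 2, 3, 4, 5, 6, 7, 3, 2, 1, 4, 3, 5, 4, 8, 7, 3, 2, 1, 0, 4, 3, 5, 7, 9]), 901, 0),
    ((0, [1, 2, 3, 4, 5, 6, 7, 3, 2, 1, 4, 3, 5, 4, 8, 7, 3, 2, 1, 4, 3, 5, 7, 9, 6]), 1001, 0),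
    ((0, [1, 2, 3, 4, 5, 6, 7, 3, 2, 1, 4, 3, 5, 7, 8, 7, 3, 2, 1, 4, 3, 2, 9, 6, 5]), 1001, 0),
    ((0, [1, 2, 3, 4, 5, 6, 7, 3, 2, 1, 4, 3, 5, 7, 8, 7, 3, 2, 1, 4, 3, 5, 9, 6, 5]), 1001, 0),
    ((0, [1, 2, 3, 4, 5, 6, 7, 3, 2, 4, 3, 5, 7, 8, 7, 3, 2, 1, 4, 3, 2, 5, 9, 6, 5]), 1001, 0),
    ((0, [1, 2, 3, 4, 5, 6, 7, 3, 2, 1, 4, 3, 5, 7, 8, 7, 3, 2, 1, 4, 3, 2, 5, 9, 6]), 1001, 0),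
    ((0, [1, 2, 3, 4, 5, 6, 7, 3, 2, 1, 4, 3, 5, 8, 7, 3, 2, 1, 4, 3, 2, 5, 9, 6, 5]), 1001, 0),
    ((0, [1, 2, 3, 4, 5, 6, 7, 3, 2, 1, 4, 3, 5, 7, 8, 7, 3, 2, 1, 4, 3, 7, 9, 6, 5]), 1001, 0),
    ((0, [1, 2, 3, 4, 5, 6, 7, 3, 2, 1, 4, 3, 5, 7, 8, 7, 3, 2, 1, 4, 3, 5, 7, 9, 6]), 1001, 0),
    ((0, [1, 2, 3, 4, 5, 6, 7, 3, 2, 1, 4, 3, 5, 8, 7, 3, 2, 1, 4, 3, 5, 7, 9, 6, 5]), 1001, 0),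
    ((0, [1, 2, 3, 4, 5, 6, 7, 3, 2, 1, 4, 3, 2, 5, 4, 7, 8, 7, 3, 2, 1, 4, 9, 6, 5]), 1001, 0),
    ((0, [1, 2, 3, 4, 5, 6, 7, 3, 2, 1, 4, 3, 2, 5, 4, 8, 7, 3, 2, 1, 4, 9, 6, 5, 4]), 1001, 0),
    ((0, [1, 2, 3, 4, 5, 6, 7, 3, 2, 1, 4, 3, 2, 5, 4, 8, 7, 3, 2, 4, 9, 6, 5, 4, 3]), 1001, 0),
    ((0, [1, 2, 3, 4, 5, 6, 7, 3, 2, 1, 4, 3, 2, 5, 4, 7, 8, 7, 3, 2, 4, 3, 9, 6, 5]), 1001, 0),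
    ((0, [1, 2, 3, 4, 5, 6, 7, 3, 2, 1, 4, 3, 2, 5, 4, 8, 7, 3, 2, 1, 4, 3, 9, 6, 5]), 1001, 0),
    ((0, [1, 2, 3, 4, 5, 6, 7, 3, 2, 1, 4, 3, 2, 5, 4, 3, 8, 7, 3, 2, 1, 4, 9, 6, 5]), 1001, 0),
    ((0, [1, 2, 3, 4, 5, 6, 7, 3, 4, 5, 8, 7, 3, 2, 1, 4, 3, 2, 7, 3, 4, 9, 6, 5, 4]), 901, 0),
    ((0, [1, 2, 3, 4, 5, 6, 7, 3, 2, 4, 5, 8, 7, 3, 2, 1, 4, 3, 2, 7, 3, 4, 9, 6, 5]), 1001, 0),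
    ((0, [1, 2, 3, 4, 5, 6, 7, 3, 2, 1, 4, 3, 2, 5, 4, 8, 7, 3, 2, 4, 3, 9, 6, 5, 4]), 1001, 0),
    ((0, [1, 2, 3, 4, 5, 6, 7, 3, 2, 1, 4, 3, 2, 5, 7, 8, 7, 3, 2, 4, 3, 9, 6, 5, 4]), 1001, 0),
    ((0, [1, 2, 3, 4, 5, 6, 7, 3, 2, 1, 4, 3, 2, 5, 7, 8, 7, 3, 2, 4, 3, 7, 9, 6, 5]), 1001, 0),
    ((0, [1, 2, 3, 4, 5, 6, 7, 3, 2, 1, 4, 3, 2, 5, 7, 8, 7, 3, 2, 1, 4, 3, 9, 6, 5]), 1001, 0),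
    ((0, [1, 2, 3, 4, 5, 6, 7, 3, 2, 1, 4, 3, 2, 5, 8, 7, 3, 2, 1, 4, 3, 7, 9, 6, 5]), 1001, 0),
    ((0, [1, 2, 3, 4, 5, 6, 7, 3, 2, 1, 4, 3, 2, 5, 8, 7, 3, 2, 1, 4, 3, 2, 9, 6, 5]), 1001, 0),
    ((0, [1, 2, 3, 4, 5, 6, 7, 3, 2, 1, 4, 3, 2, 5, 4, 8, 7, 3, 2, 1, 0, 4, 3, 5, 9]), 1001, 0),
    ((0, [1, 2, 3, 4, 5, 6, 7, 3, 2, 1, 4, 3, 2, 5, 4, 3, 8, 7, 3, 2, 1, 0, 4, 5, 9]), 1001, 0),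
    ((0, [1, 2, 3, 4, 5, 6, 7, 3, 2, 1, 4, 5, 8, 7, 3, 2, 1, 4, 3, 2, 7, 3, 4, 5, 9]), 1001, 0),
    ((0, [1, 2, 3, 4, 5, 6, 7, 3, 2, 1, 4, 5, 8, 7, 3, 2, 1, 4, 3, 2, 5, 7, 3, 4, 5]), 1001, 0),
    ((0, [1, 2, 3, 4, 5, 6, 7, 3, 2, 1, 4, 3, 2, 5, 4, 8, 7, 3, 2, 1, 4, 3, 5, 7, 9]), 1001, 0),
    ((0, [1, 2, 3, 4, 5, 6, 7, 3, 2, 1, 4, 3, 2, 5, 4, 8, 7, 3, 2, 1, 0, 4, 3, 5, 7]), 1001, 0),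
    ((0, [1, 2, 3, 4, 5, 6, 7, 3, 2, 1, 4, 3, 2, 5, 4, 8, 7, 3, 2, 1, 4, 3, 2, 5, 9]), 1001, 0),
    ((0, [1, 2, 3, 4, 5, 6, 7, 3, 2, 4, 3, 5, 8, 7, 3, 2, 1, 4, 3, 2, 7, 3, 4, 5, 9]), 1001, 0),
    ((0, [1, 2, 3, 4, 5, 6, 7, 3, 2, 1, 4, 3, 2, 5, 4, 8, 7, 3, 2, 1, 0, 4, 3, 2, 5]), 1001, 0),
    ((0, [1, 2, 3, 4, 5, 6, 7, 3, 2, 1, 4, 3, 2, 5, 7, 3, 8, 7, 3, 2, 4, 3, 9, 6, 5]), 1001, 0),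
    ((0, [1, 2, 3, 4, 5, 6, 7, 3, 2, 1, 4, 3, 2, 5, 4, 3, 8, 7, 3, 2, 1, 4, 3, 5, 9]), 1001, 0),
    ((0, [1, 2, 3, 4, 5, 6, 7, 3, 2, 1, 4, 3, 2, 5, 4, 3, 8, 7, 3, 2, 1, 4, 3, 5, 7]), 1001, 0),
    ((0, [1, 2, 3, 4, 5, 6, 7, 3, 2, 4, 3, 5, 7, 8, 7, 3, 2, 1, 0, 4, 3, 2, 9, 6, 5]), 1001, 0),
    ((0, [1, 2, 3, 4, 5, 6, 7, 3, 2, 4, 3, 5, 4, 8, 7, 3, 2, 1, 4, 3, 7, 8, 9, 6, 5]), 1001, 0),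
    ((0, [1, 2, 3, 4, 5, 6, 7, 3, 2, 1, 4, 3, 5, 8, 7, 3, 2, 1, 0, 4, 3, 2, 9, 6, 5]), 901, 0),
    ((0, [1, 2, 3, 4, 5, 6, 7, 3, 2, 1, 4, 3, 5, 8, 7, 3, 2, 1, 0, 4, 3, 7, 9, 6, 5]), 901, 0),
    ((0, [1, 2, 3, 4, 5, 6, 7, 3, 2, 1, 4, 3, 5, 7, 8, 7, 3, 2, 1, 0, 4, 3, 2, 9, 6]), 1001, 0),
    ((0, [1, 2, 3, 4, 5, 6, 7, 3, 2, 1, 4, 3, 5, 7, 8, 7, 3, 2, 1, 0, 4, 3, 9, 6, 5]), 901, 0),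
    ((0, [1, 2, 3, 4, 5, 6, 7, 3, 2, 1, 4, 3, 5, 8, 7, 3, 2, 1, 0, 4, 3, 5, 9, 6, 5]), 901, 0),
    ((0, [1, 2, 3, 4, 5, 6, 7, 3, 2, 1, 4, 3, 5, 7, 8, 7, 3, 2, 1, 0, 4, 3, 2, 5, 9]), 1001, 0),
    ((0, [1, 2, 3, 4, 5, 6, 7, 3, 2, 1, 4, 3, 5, 8, 7, 3, 2, 1, 0, 4, 3, 2, 1, 5, 9]), 1001, 0),
    ((0, [1, 2, 3, 4, 5, 6, 7, 3, 2, 1, 4, 3, 5, 8, 7, 3, 2, 1, 0, 4, 3, 2, 5, 9, 6]), 1001, 0),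
    ((0, [1, 2, 3, 4, 5, 6, 7, 3, 2, 1, 4, 3, 5, 8, 7, 3, 2, 1, 0, 4, 3, 5, 7, 9, 6]), 1001, 0),
    ((0, [1, 2, 3, 4, 5, 6, 7, 3, 2, 4, 3, 5, 4, 7, 3, 8, 7, 3, 4, 5, 6, 9, 6, 5, 4]), 1001, 0),
    ((0, [1, 2, 3, 4, 5, 6, 7, 3, 2, 1, 4, 3, 5, 4, 7, 3, 8, 7, 3, 4, 5, 6, 9, 6, 5]), 1001, 0),
    ((0, [1, 2, 3, 4, 5, 6, 7, 3, 2, 4, 3, 5, 4, 7, 8, 7, 3, 2, 4, 5, 6, 9, 6, 5, 4]), 1001, 0),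
    ((0, [1, 2, 3, 4, 5, 6, 7, 3, 2, 4, 3, 5, 4, 7, 8, 7, 3, 2, 1, 4, 5, 6, 9, 6, 5]), 1001, 0),
    ((0, [1, 2, 3, 4, 5, 6, 7, 3, 2, 4, 3, 5, 4, 8, 7, 3, 2, 1, 4, 5, 6, 9, 6, 5, 4]), 1001, 0),
    ((0, [1, 2, 3, 4, 5, 6, 7, 3, 2, 1, 4, 3, 5, 4, 8, 7, 3, 2, 1, 4, 5, 6, 9, 6, 5]), 1001, 0),
    ((0, [1, 2, 3, 4, 5, 6, 7, 3, 2, 4, 3, 5, 4, 8, 7, 3, 2, 4, 5, 6, 9, 6, 5, 4, 3]), 1001, 0),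
    ((0, [1, 2, 3, 4, 5, 6, 7, 3, 2, 4, 3, 5, 4, 7, 8, 7, 3, 2, 4, 3, 5, 6, 9, 6, 5]), 1001, 0),
    ((0, [1, 2, 3, 4, 5, 6, 7, 3, 2, 4, 3, 5, 4, 8, 7, 3, 2, 1, 4, 3, 5, 6, 9, 6, 5]), 1001, 0),
    ((0, [1, 2, 3, 4, 5, 6, 7, 3, 2, 1, 4, 5, 8, 7, 3, 2, 1, 0, 4, 3, 2, 5, 6, 9, 6]), 901, 0),
    ((0, [1, 2, 3, 4, 5, 6, 7, 3, 2, 1, 4, 3, 5, 4, 7, 8, 7, 3, 2, 4, 3, 5, 6, 9, 6]), 1001, 0),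
    ((0, [1, 2, 3, 4, 5, 6, 7, 3, 2, 1, 4, 3, 5, 4, 8, 7, 3, 2, 4, 3, 5, 6, 9, 6, 5]), 1001, 0),
    ((0, [1, 2, 3, 4, 5, 6, 7, 3, 2, 4, 5, 8, 7, 3, 2, 1, 4, 3, 5, 6, 7, 9, 6, 5, 4]), 1001, 0),
    ((0, [1, 2, 3, 4, 5, 6, 7, 3, 2, 4, 5, 8, 7, 3, 2, 4, 3, 5, 6, 7, 8, 9, 6, 5, 4]), 1001, 0),
    ((0, [1, 2, 3, 4, 5, 6, 7, 3, 2, 4, 3, 5, 4, 8, 7, 3, 2, 1, 0, 4, 5, 6, 9, 6, 5]), 1001, 0),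
    ((0, [1, 2, 3, 4, 5, 6, 7, 3, 2, 4, 5, 8, 7, 3, 2, 4, 3, 5, 6, 7, 9, 6, 5, 4, 3]), 1001, 0),
    ((0, [1, 2, 3, 4, 5, 6, 7, 3, 2, 4, 3, 5, 8, 7, 3, 2, 1, 4, 3, 5, 6, 7, 9, 6, 5]), 1001, 0),
    ((0, [1, 2, 3, 4, 5, 6, 7, 3, 2, 1, 4, 5, 8, 7, 3, 2, 1, 4, 3, 2, 5, 6, 9, 6, 5]), 901, 0),
    ((0, [1, 2, 3, 4, 5, 6, 7, 3, 2, 4, 5, 8, 7, 3, 2, 1, 4, 3, 2, 5, 6, 7, 3, 9, 6]), 901, 0),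
    ((0, [1, 2, 3, 4, 5, 6, 7, 3, 2, 1, 4, 3, 5, 4, 8, 7, 3, 2, 1, 0, 4, 3, 5, 6, 9]), 901, 0),
    ((0, [1, 2, 3, 4, 5, 6, 7, 3, 2, 1, 4, 5, 8, 7, 3, 2, 1, 0, 4, 3, 5, 6, 9, 6, 5]), 1001, 0),
    ((0, [1, 2, 3, 4, 5, 6, 7, 3, 2, 4, 3, 5, 4, 7, 8, 7, 3, 2, 4, 3, 5, 4, 9, 6, 5]), 1001, 0),
    ((0, [1, 2, 3, 4, 5, 6, 7, 3, 2, 1, 4, 3, 5, 7, 8, 7, 3, 2, 4, 3, 5, 6, 9, 6, 5]), 1001, 0),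
    ((0, [1, 2, 3, 4, 5, 6, 7, 3, 2, 4, 3, 5, 8, 7, 3, 2, 4, 3, 5, 4, 7, 9, 6, 5, 4]), 1001, 0),
    ((0, [1, 2, 3, 4, 5, 6, 7, 3, 2, 1, 4, 3, 5, 4, 8, 7, 3, 2, 1, 4, 3, 2, 5, 6, 9]), 1001, 0),
    ((0, [1, 2, 3, 4, 5, 6, 7, 3, 2, 4, 3, 5, 4, 8, 7, 3, 2, 1, 4, 3, 5, 4, 9, 6, 5]), 1001, 0),
    ((0, [1, 2, 3, 4, 5, 6, 7, 3, 2, 4, 3, 5, 4, 8, 7, 3, 2, 4, 3, 5, 4, 9, 6, 5, 4]), 1001, 0),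
    ((0, [1, 2, 3, 4, 5, 6, 7, 3, 2, 1, 4, 5, 8, 7, 3, 2, 1, 0, 4, 3, 5, 6, 7, 9, 6]), 901, 0),
    ((0, [1, 2, 3, 4, 5, 6, 7, 3, 2, 1, 4, 5, 8, 7, 3, 2, 1, 4, 3, 5, 6, 7, 9, 6, 5]), 901, 0),
    ((0, [1, 2, 3, 4, 5, 6, 7, 3, 2, 1, 4, 3, 5, 7, 8, 7, 3, 2, 4, 3, 5, 6, 7, 9, 6]), 1001, 0),
    ((0, [1, 2, 3, 4, 5, 6, 7, 3, 2, 1, 4, 3, 5, 8, 7, 3, 2, 4, 3, 5, 6, 7, 9, 6, 5]), 1001, 0),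
    ((0, [1, 2, 3, 4, 5, 6, 7, 3, 2, 4, 3, 5, 8, 7, 3, 2, 1, 4, 3, 2, 5, 4, 9, 6, 5]), 1001, 0),
    ((0, [1, 2, 3, 4, 5, 6, 7, 3, 2, 4, 3, 5, 8, 7, 3, 2, 1, 4, 3, 5, 4, 7, 9, 6, 5]), 1001, 0),
    ((0, [1, 2, 3, 4, 5, 6, 7, 3, 2, 4, 3, 8, 7, 3, 2, 1, 4, 3, 2, 5, 4, 3, 9, 6, 5]), 901, 0),
    ((0, [1, 2, 3, 4, 5, 6, 7, 3, 2, 1, 4, 3, 5, 8, 7, 3, 2, 1, 4, 3, 5, 6, 9, 6, 5]), 1001, 0),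
    ((0, [1, 2, 3, 4, 5, 6, 7, 3, 2, 1, 4, 3, 5, 8, 7, 3, 2, 1, 4, 3, 2, 5, 6, 9, 6]), 1001, 0),
    ((0, [1, 2, 3, 4, 5, 6, 7, 3, 2, 1, 4, 3, 5, 7, 8, 7, 3, 2, 1, 4, 3, 2, 5, 6, 9]), 1001, 0),
    ((0, [1, 2, 3, 4, 5, 6, 7, 3, 2, 1, 4, 3, 5, 8, 7, 3, 2, 1, 4, 3, 5, 6, 7, 9, 6]), 1001, 0),
    ((0, [1, 2, 3, 4, 5, 6, 7, 3, 2, 1, 4, 3, 2, 5, 4, 8, 7, 3, 2, 4, 5, 9, 6, 5, 4]), 1001, 0),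
    ((0, [1, 2, 3, 4, 5, 6, 7, 3, 2, 1, 4, 5, 8, 7, 3, 2, 1, 4, 3, 2, 5, 4, 9, 6, 5]), 1001, 0),
    ((0, [1, 2, 3, 4, 5, 6, 7, 3, 2, 1, 4, 5, 8, 7, 3, 2, 1, 0, 4, 3, 5, 4, 9, 6, 5]), 1001, 0),
    ((0, [1, 2, 3, 4, 5, 6, 7, 3, 2, 1, 4, 5, 8, 7, 3, 2, 1, 4, 3, 5, 4, 6, 9, 6, 5]), 1001, 0),
    ((0, [1, 2, 3, 4, 5, 6, 7, 3, 2, 1, 4, 5, 8, 7, 3, 2, 1, 4, 3, 5, 4, 7, 9, 6, 5]), 1001, 0)]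

/-- Part 14 of the cycles. -/
def reps14 : List ((Nat × List Nat) × Nat × Nat) :=
  [
    ((0, [1, 2, 3, 4, 5, 6, 7, 3, 2, 1, 4, 8, 7, 3, 2, 1, 0, 4, 3, 5, 4, 6, 9, 6, 5]), 1001, 0),
    ((0, [1, 2, 3, 4, 5, 6, 7, 3, 2, 1, 4, 5, 8, 7, 3, 2, 4, 3, 5, 4, 6, 9, 6, 5, 4]), 1001, 0),
    ((0, [1, 2, 3, 4, 5, 6, 7, 3, 2, 4, 3, 5, 4, 8, 7, 3, 2, 1, 4, 3, 2, 5, 7, 3, 9]), 901, 0),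
    ((0, [1, 2, 3, 4, 5, 6, 7, 3, 2, 1, 4, 3, 5, 4, 8, 7, 3, 2, 1, 0, 4, 3, 2, 1, 5]), 901, 0),
    ((0, [1, 2, 3, 4, 5, 6, 7, 3, 2, 4, 3, 5, 4, 8, 7, 3, 2, 1, 4, 3, 2, 7, 3, 4, 5]), 1001, 0),
    ((0, [1, 2, 3, 4, 5, 6, 7, 3, 2, 4, 3, 5, 4, 8, 7, 3, 2, 1, 0, 4, 3, 2, 5, 4, 3]), 901, 0),
    ((0, [1, 2, 3, 4, 5, 6, 7, 3, 2, 4, 3, 5, 8, 7, 3, 2, 1, 4, 3, 2, 5, 4, 7, 3, 9]), 901, 0),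
    ((0, [1, 2, 3, 4, 5, 6, 7, 3, 2, 1, 4, 3, 5, 8, 7, 3, 2, 4, 3, 5, 4, 9, 6, 5, 4]), 1001, 0),
    ((0, [1, 2, 3, 4, 5, 6, 7, 3, 2, 1, 4, 3, 5, 4, 8, 7, 3, 2, 4, 3, 5, 4, 9, 6, 5]), 1001, 0),
    ((0, [1, 2, 3, 4, 5, 6, 7, 3, 2, 1, 4, 3, 5, 7, 8, 7, 3, 2, 4, 3, 5, 4, 9, 6, 5]), 1001, 0),
    ((0, [1, 2, 3, 4, 5, 6, 7, 3, 2, 1, 4, 3, 5, 8, 7, 3, 2, 4, 3, 5, 4, 6, 9, 6, 5]), 1001, 0),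
    ((0, [1, 2, 3, 4, 5, 6, 7, 3, 2, 1, 4, 3, 5, 8, 7, 3, 2, 4, 3, 5, 4, 7, 9, 6, 5]), 1001, 0),
    ((0, [1, 2, 3, 4, 5, 6, 7, 3, 2, 1, 4, 3, 5, 8, 7, 3, 2, 1, 4, 3, 5, 4, 9, 6, 5]), 1001, 0),
    ((0, [1, 2, 3, 4, 5, 6, 7, 3, 2, 1, 4, 3, 7, 8, 7, 3, 2, 4, 3, 5, 4, 6, 9, 6, 5]), 1001, 0),
    ((0, [1, 2, 3, 4, 5, 6, 7, 3, 2, 1, 4, 3, 7, 8, 7, 3, 2, 1, 4, 3, 5, 4, 9, 6, 5]), 1001, 0),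
    ((0, [1, 2, 3, 4, 5, 6, 7, 3, 2, 1, 4, 3, 8, 7, 3, 2, 1, 4, 3, 5, 4, 6, 9, 6, 5]), 1001, 0),
    ((0, [1, 2, 3, 4, 5, 6, 7, 3, 2, 1, 4, 3, 5, 4, 7, 3, 8, 7, 3, 2, 4, 3, 7, 8, 9]), 1001, 0),
    ((0, [1, 2, 3, 4, 5, 6, 7, 3, 2, 1, 4, 5, 8, 7, 3, 2, 1, 4, 3, 2, 7, 3, 8, 9, 6]), 1001, 0),
    ((0, [1, 2, 3, 4, 5, 6, 7, 3, 2, 1, 4, 5, 8, 7, 3, 2, 1, 4, 3, 2, 7, 8, 9, 6, 5]), 701, 0),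
    ((0, [1, 2, 3, 4, 5, 6, 7, 3, 2, 1, 4, 5, 8, 7, 3, 2, 1, 0, 4, 3, 7, 8, 9, 6, 5]), 1001, 0),
    ((0, [1, 2, 3, 4, 5, 6, 7, 3, 2, 1, 4, 3, 5, 7, 8, 7, 3, 2, 4, 3, 7, 8, 9, 6, 5]), 1001, 0),
    ((0, [1, 2, 3, 4, 5, 6, 7, 3, 2, 1, 4, 3, 2, 5, 7, 8, 7, 3, 2, 4, 3, 7, 8, 9, 6]), 1001, 0),
    ((0, [1, 2, 3, 4, 5, 6, 7, 3, 2, 1, 4, 3, 5, 4, 8, 7, 3, 2, 1, 4, 3, 7, 8, 9, 6]), 901, 0),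
    ((0, [1, 2, 3, 4, 5, 6, 7, 3, 2, 1, 4, 3, 5, 4, 8, 7, 3, 2, 4, 3, 7, 8, 9, 6, 5]), 1001, 0),
    ((0, [1, 2, 3, 4, 5, 6, 7, 3, 2, 1, 4, 3, 5, 4, 8, 7, 3, 2, 1, 0, 4, 3, 7, 8, 9]), 1001, 0),
    ((0, [1, 2, 3, 4, 5, 6, 7, 3, 2, 1, 4, 3, 2, 5, 4, 8, 7, 3, 2, 4, 3, 7, 8, 9, 6]), 1001, 0),
    ((0, [1, 2, 3, 4, 5, 6, 7, 3, 2, 1, 4, 3, 5, 8, 7, 3, 2, 1, 4, 3, 2, 7, 3, 8, 9]), 1001, 0),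
    ((0, [1, 2, 3, 4, 5, 6, 7, 3, 2, 1, 4, 5, 8, 7, 3, 2, 1, 4, 3, 7, 8, 9, 6, 5, 4]), 1001, 0),
    ((0, [1, 2, 3, 4, 5, 6, 7, 3, 2, 1, 4, 5, 8, 7, 3, 2, 1, 4, 3, 5, 7, 8, 9, 6, 5]), 901, 0),
    ((0, [1, 2, 3, 4, 5, 6, 7, 3, 2, 1, 4, 3, 5, 8, 7, 3, 2, 4, 3, 5, 7, 8, 9, 6, 5]), 1001, 0),
    ((0, [1, 2, 3, 4, 5, 6, 7, 3, 2, 1, 4, 3, 5, 8, 7, 3, 2, 4, 3, 7, 8, 9, 6, 5, 4]), 1001, 0),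
    ((0, [1, 2, 3, 4, 5, 6, 7, 3, 2, 1, 4, 5, 8, 7, 3, 2, 1, 0, 4, 3, 2, 5, 7, 8, 9]), 701, 0),
    ((0, [1, 2, 3, 4, 5, 6, 7, 3, 2, 1, 4, 3, 5, 4, 7, 8, 7, 3, 2, 4, 3, 5, 7, 8, 9]), 1001, 0),
    ((0, [1, 2, 3, 4, 5, 6, 7, 3, 2, 1, 4, 5, 8, 7, 3, 2, 1, 4, 3, 2, 5, 7, 3, 8, 9]), 901, 0),
    ((0, [1, 2, 3, 4, 5, 6, 7, 3, 2, 1, 4, 3, 5, 4, 8, 7, 3, 2, 1, 4, 3, 5, 7, 8, 9]), 1001, 0),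
    ((0, [1, 2, 3, 4, 5, 6, 7, 3, 2, 1, 4, 5, 8, 7, 3, 2, 1, 4, 3, 2, 5, 7, 8, 9, 6]), 1001, 0),
    ((0, [1, 2, 3, 4, 5, 6, 7, 3, 2, 1, 4, 5, 8, 7, 3, 2, 1, 0, 4, 3, 5, 7, 8, 9, 6]), 901, 0),
    ((0, [1, 2, 3, 4, 5, 6, 7, 3, 2, 1, 4, 3, 5, 7, 8, 7, 3, 2, 4, 3, 5, 7, 8, 9, 6]), 1001, 0),
    ((0, [1, 2, 3, 4, 5, 6, 7, 3, 2, 1, 4, 3, 5, 4, 8, 7, 3, 2, 4, 3, 5, 7, 8, 9, 6]), 1001, 0),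
    ((0, [1, 2, 3, 4, 5, 6, 7, 3, 2, 1, 4, 3, 5, 4, 7, 3, 8, 7, 3, 2, 4, 3, 5, 7, 8]), 601, 0),
    ((0, [1, 2, 3, 4, 5, 6, 7, 3, 2, 1, 4, 3, 5, 4, 7, 8, 7, 3, 2, 1, 4, 3, 5, 7, 8]), 1001, 0),
    ((0, [1, 2, 3, 4, 5, 6, 7, 3, 2, 1, 4, 3, 5, 4, 8, 7, 3, 2, 1, 0, 4, 3, 5, 7, 8]), 901, 0),
    ((0, [1, 2, 3, 4, 5, 6, 7, 3, 2, 1, 4, 3, 5, 8, 7, 3, 2, 1, 4, 3, 2, 5, 7, 3, 8]), 901, 0),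
    ((0, [1, 2, 3, 4, 5, 6, 7, 3, 2, 1, 4, 3, 5, 4, 8, 7, 3, 2, 1, 4, 3, 2, 5, 7, 8]), 1001, 0),
    ((0, [1, 2, 3, 4, 5, 6, 7, 3, 2, 1, 4, 3, 5, 8, 7, 3, 2, 1, 0, 4, 3, 7, 8, 9, 6]), 1001, 0),
    ((0, [1, 2, 3, 4, 5, 6, 7, 3, 2, 1, 4, 3, 5, 8, 7, 3, 2, 1, 0, 4, 3, 2, 7, 8, 9]), 1001, 0),
    ((0, [1, 2, 3, 4, 5, 6, 7, 3, 2, 1, 4, 3, 5, 8, 7, 3, 2, 1, 0, 4, 3, 5, 7, 8, 9]), 1001, 0),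
    ((0, [1, 2, 3, 4, 5, 6, 7, 3, 2, 1, 4, 3, 5, 8, 7, 3, 2, 1, 0, 4, 3, 2, 5, 7, 8]), 1001, 0),
    ((0, [1, 2, 3, 4, 5, 6, 7, 3, 2, 1, 4, 3, 5, 7, 8, 7, 3, 2, 1, 4, 3, 7, 8, 9, 6]), 901, 0),
    ((0, [1, 2, 3, 4, 5, 6, 7, 3, 2, 1, 4, 3, 5, 8, 7, 3, 2, 1, 4, 3, 7, 8, 9, 6, 5]), 1001, 0),
    ((0, [1, 2, 3, 4, 5, 6, 7, 3, 2, 1, 4, 3, 5, 7, 8, 7, 3, 2, 1, 4, 3, 5, 7, 8, 9]), 1001, 0),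
    ((0, [1, 2, 3, 4, 5, 6, 7, 3, 2, 1, 4, 3, 5, 8, 7, 3, 2, 1, 4, 3, 2, 5, 7, 8, 9]), 1001, 0),
    ((0, [1, 2, 3, 4, 5, 6, 7, 3, 2, 1, 4, 3, 5, 8, 7, 3, 2, 1, 4, 3, 5, 7, 8, 9, 6]), 1001, 0),
    ((0, [1, 2, 3, 4, 5, 6, 7, 3, 2, 1, 4, 3, 5, 7, 8, 7, 3, 2, 1, 4, 3, 2, 7, 3, 8]), 1001, 0),
    ((0, [1, 2, 3, 4, 5, 6, 7, 3, 2, 1, 4, 3, 2, 5, 8, 7, 3, 2, 4, 3, 7, 8, 9, 6, 5]), 1001, 0),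
    ((0, [1, 2, 3, 4, 5, 6, 7, 3, 2, 1, 4, 3, 2, 5, 7, 8, 7, 3, 2, 4, 3, 5, 7, 8, 9]), 1001, 0),
    ((0, [1, 2, 3, 4, 5, 6, 7, 3, 2, 1, 4, 3, 2, 5, 4, 8, 7, 3, 2, 4, 3, 5, 7, 8, 9]), 1001, 0),
    ((0, [1, 2, 3, 4, 5, 6, 7, 3, 2, 1, 4, 3, 2, 5, 4, 7, 8, 7, 3, 2, 4, 3, 5, 7, 8]), 1001, 0),
    ((0, [1, 2, 3, 4, 5, 6, 7, 3, 2, 1, 4, 5, 8, 7, 3, 2, 1, 4, 3, 2, 7, 3, 4, 5, 8]), 1001, 0),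
    ((0, [1, 2, 3, 4, 5, 6, 7, 3, 2, 1, 4, 3, 2, 5, 4, 8, 7, 3, 2, 1, 4, 3, 5, 7, 8]), 1001, 0),
    ((0, [1, 2, 3, 4, 5, 6, 7, 3, 2, 1, 4, 3, 2, 5, 8, 7, 3, 2, 1, 4, 3, 5, 7, 8, 9]), 1001, 0),
    ((0, [1, 2, 3, 4, 5, 6, 7, 3, 2, 1, 4, 3, 2, 5, 7, 8, 7, 3, 2, 1, 4, 3, 5, 7, 8]), 1001, 0),
    ((0, [1, 2, 3, 4, 5, 6, 7, 3, 2, 1, 4, 5, 8, 7, 3, 2, 1, 4, 3, 5, 4, 6, 7, 8, 9]), 1001, 0),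
    ((0, [1, 2, 3, 4, 5, 6, 7, 3, 2, 1, 4, 3, 2, 5, 4, 3, 8, 7, 3, 2, 4, 3, 5, 7, 8]), 1001, 0),
    ((0, [1, 2, 3, 4, 5, 6, 7, 3, 2, 1, 4, 3, 5, 4, 8, 7, 3, 2, 1, 4, 3, 2, 7, 3, 8]), 1001, 0),
    ((0, [1, 2, 3, 4, 5, 6, 7, 3, 2, 1, 4, 5, 8, 7, 3, 2, 4, 3, 5, 7, 8, 9, 6, 5, 4]), 1001, 0),
    ((0, [1, 2, 3, 4, 5, 6, 7, 3, 2, 1, 4, 5, 8, 7, 3, 2, 1, 4, 3, 5, 6, 7, 8, 9, 6]), 1001, 0),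
    ((0, [1, 2, 3, 4, 5, 6, 7, 3, 2, 1, 4, 3, 5, 8, 7, 3, 2, 4, 3, 5, 6, 7, 8, 9, 6]), 1001, 0),
    ((0, [1, 2, 3, 4, 5, 6, 7, 3, 2, 1, 4, 5, 8, 7, 3, 2, 4, 3, 5, 6, 7, 8, 9, 6, 5]), 901, 0),
    ((0, [1, 2, 3, 4, 5, 6, 7, 3, 2, 1, 4, 5, 8, 7, 3, 2, 1, 4, 3, 5, 4, 7, 8, 9, 6]), 1001, 0),
    ((0, [1, 2, 3, 4, 5, 6, 7, 3, 2, 1, 4, 5, 8, 7, 3, 2, 4, 3, 5, 4, 7, 8, 9, 6, 5]), 1001, 0),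
    ((0, [1, 2, 3, 4, 5, 6, 7, 3, 2, 1, 4, 5, 8, 7, 3, 2, 4, 3, 5, 4, 6, 7, 8, 9, 6]), 1001, 0),
    ((0, [1, 2, 3, 4, 5, 6, 7, 3, 2, 1, 4, 3, 5, 7, 8, 7, 3, 2, 4, 3, 5, 4, 7, 8, 9]), 1001, 0),
    ((0, [1, 2, 3, 4, 5, 6, 7, 3, 2, 1, 4, 3, 5, 4, 8, 7, 3, 2, 4, 3, 5, 4, 7, 8, 9]), 1001, 0),
    ((0, [1, 2, 3, 4, 5, 6, 7, 3, 2, 1, 4, 3, 5, 8, 7, 3, 2, 4, 3, 5, 4, 7, 8, 9, 6]), 1001, 0),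
    ((0, [1, 2, 3, 4, 5, 6, 7, 3, 2, 1, 4, 3, 2, 5, 8, 7, 3, 2, 4, 3, 5, 4, 7, 8, 9]), 1001, 0),
    ((0, [1, 2, 3, 4, 5, 6, 7, 3, 2, 1, 4, 3, 2, 5, 8, 7, 3, 2, 1, 4, 3, 5, 4, 7, 8]), 1001, 0),
    ((0, [1, 2, 3, 4, 5, 6, 7, 3, 2, 1, 4, 5, 8, 7, 3, 2, 1, 0, 4, 3, 2, 5, 6, 7, 8]), 901, 0),
    ((0, [1, 2, 3, 4, 5, 6, 7, 3, 2, 1, 4, 5, 8, 7, 3, 2, 1, 4, 3, 2, 5, 6, 7, 3, 8]), 901, 0),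
    ((0, [1, 2, 3, 4, 5, 6, 7, 3, 2, 1, 4, 3, 5, 4, 8, 7, 3, 2, 1, 4, 3, 5, 6, 7, 8]), 1001, 0),
    ((0, [1, 2, 3, 4, 5, 6, 7, 3, 2, 1, 4, 3, 5, 8, 7, 3, 2, 1, 0, 4, 3, 5, 6, 7, 8]), 1001, 0),
    ((0, [1, 2, 3, 4, 5, 6, 7, 3, 2, 1, 4, 3, 5, 7, 8, 7, 3, 2, 1, 4, 3, 5, 6, 7, 8]), 1001, 0),
    ((0, [1, 2, 3, 4, 5, 6, 7, 3, 2, 1, 4, 3, 5, 8, 7, 3, 2, 1, 4, 3, 2, 5, 6, 7, 8]), 1001, 0),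
    ((0, [1, 2, 3, 4, 5, 6, 7, 3, 2, 1, 4, 5, 8, 7, 3, 2, 1, 4, 3, 2, 5, 6, 7, 8, 9]), 1001, 0),
    ((0, [1, 2, 3, 4, 5, 6, 7, 3, 2, 1, 4, 5, 8, 7, 3, 2, 1, 0, 4, 3, 5, 6, 7, 8, 9]), 901, 0),
    ((0, [1, 2, 3, 4, 5, 6, 7, 3, 2, 1, 4, 3, 5, 7, 8, 7, 3, 2, 4, 3, 5, 6, 7, 8, 9]), 1001, 0),
    ((0, [1, 2, 3, 4, 5, 6, 7, 3, 2, 1, 4, 3, 5, 4, 8, 7, 3, 2, 4, 3, 5, 6, 7, 8, 9]), 1001, 0),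
    ((0, [1, 2, 3, 4, 5, 6, 7, 3, 2, 1, 4, 3, 5, 7, 8, 7, 3, 2, 4, 3, 5, 4, 6, 7, 8]), 1001, 0),
    ((0, [1, 2, 3, 4, 5, 6, 7, 3, 2, 1, 4, 3, 5, 4, 8, 7, 3, 2, 4, 3, 5, 4, 6, 7, 8]), 1001, 0),
    ((0, [1, 2, 3, 4, 5, 6, 7, 3, 2, 1, 4, 3, 5, 8, 7, 3, 2, 4, 3, 5, 4, 6, 7, 8, 9]), 1001, 0),
    ((0, [1, 2, 3, 4, 5, 6, 7, 3, 2, 1, 4, 5, 8, 7, 3, 2, 4, 3, 7, 8, 9, 6, 5, 4, 3]), 1001, 0),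
    ((0, [1, 2, 3, 4, 5, 6, 7, 3, 2, 1, 4, 5, 8, 7, 3, 2, 1, 4, 3, 2, 5, 4, 7, 3, 8]), 901, 0),
    ((0, [1, 2, 3, 4, 5, 6, 7, 3, 2, 1, 4, 5, 8, 7, 3, 2, 1, 0, 4, 3, 5, 4, 7, 3, 8]), 1001, 0),
    ((0, [1, 2, 3, 4, 5, 6, 7, 3, 2, 1, 4, 5, 8, 7, 3, 2, 4, 3, 5, 4, 7, 3, 8, 9, 6]), 1001, 0),
    ((0, [1, 2, 3, 4, 5, 6, 7, 3, 2, 1, 4, 5, 8, 7, 3, 2, 4, 3, 5, 4, 7, 3, 9, 6, 5]), 1001, 0),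
    ((0, [1, 2, 3, 4, 5, 6, 7, 3, 2, 1, 4, 3, 2, 5, 8, 7, 3, 2, 1, 4, 3, 2, 7, 3, 8]), 1001, 0),
    ((0, [1, 2, 3, 4, 5, 6, 7, 3, 2, 1, 4, 3, 2, 5, 8, 7, 3, 2, 1, 4, 3, 2, 5, 7, 3]), 1001, 0),
    ((0, [1, 2, 3, 4, 5, 6, 7, 3, 2, 4, 3, 5, 8, 7, 3, 2, 1, 4, 3, 2, 5, 4, 3, 7, 8]), 1001, 0),
    ((0, [1, 2, 3, 4, 5, 6, 7, 3, 2, 1, 4, 3, 5, 4, 8, 7, 3, 2, 4, 3, 5, 4, 7, 3, 8]), 1001, 0),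
    ((0, [1, 2, 3, 4, 5, 6, 7, 3, 2, 1, 4, 3, 2, 5, 8, 7, 3, 2, 4, 3, 5, 4, 7, 3, 8]), 1001, 0),
    ((0, [1, 2, 3, 4, 5, 6, 7, 3, 2, 4, 5, 8, 7, 3, 2, 1, 4, 3, 2, 5, 6, 7, 3, 4, 5]), 1001, 0),
    ((0, [1, 2, 3, 4, 5, 6, 7, 3, 2, 1, 4, 3, 2, 5, 8, 7, 3, 2, 4, 3, 5, 4, 6, 7, 8]), 1001, 0),
    ((0, [1, 2, 3, 4, 5, 6, 7, 3, 2, 1, 4, 3, 2, 5, 8, 7, 3, 2, 1, 0, 4, 3, 2, 5, 4]), 901, 0),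
    ((0, [1, 2, 3, 4, 5, 6, 7, 3, 2, 1, 4, 3, 2, 5, 7, 8, 7, 3, 2, 1, 0, 4, 9, 6, 5]), 1001, 0),
    ((0, [1, 2, 3, 4, 5, 6, 7, 3, 2, 1, 4, 3, 2, 5, 8, 7, 3, 2, 1, 0, 4, 3, 9, 6, 5]), 1001, 0),
    ((0, [1, 2, 3, 4, 5, 6, 7, 3, 2, 1, 4, 3, 2, 5, 8, 7, 3, 2, 1, 0, 4, 3, 2, 5, 9]), 1001, 0),
    ((0, [1, 2, 3, 4, 5, 6, 7, 3, 2, 1, 4, 3, 2, 5, 8, 7, 3, 2, 1, 0, 4, 3, 5, 7, 9]), 1001, 0),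
    ((0, [1, 2, 3, 4, 5, 6, 7, 3, 2, 1, 4, 3, 5, 7, 8, 7, 3, 2, 1, 0, 4, 3, 7, 9, 6]), 1001, 0),
    ((0, [1, 2, 3, 4, 5, 6, 7, 3, 2, 1, 4, 3, 2, 5, 8, 7, 3, 2, 1, 0, 4, 3, 5, 7, 8]), 1001, 0),
    ((0, [1, 2, 3, 4, 5, 6, 7, 3, 2, 1, 4, 3, 5, 7, 8, 7, 3, 2, 1, 0, 4, 3, 7, 8, 9]), 1001, 0),
    ((0, [1, 2, 3, 4, 5, 6, 7, 3, 2, 1, 4, 3, 5, 7, 8, 7, 3, 2, 1, 0, 4, 3, 5, 7, 8]), 1001, 0),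
    ((0, [1, 2, 3, 4, 5, 6, 7, 3, 2, 1, 4, 3, 8, 7, 3, 2, 1, 0, 4, 3, 5, 4, 9, 6, 5]), 1001, 0),
    ((0, [1, 2, 3, 4, 5, 6, 7, 3, 2, 1, 4, 3, 8, 7, 3, 2, 1, 4, 3, 2, 5, 4, 9, 6, 5]), 1001, 0),
    ((0, [1, 2, 3, 4, 5, 6, 7, 3, 2, 4, 3, 8, 7, 3, 2, 1, 4, 3, 2, 5, 4, 3, 7, 8, 9]), 1001, 0),
    ((0, [1, 2, 3, 4, 5, 6, 7, 3, 2, 1, 4, 3, 7, 8, 7, 3, 2, 4, 3, 5, 4, 7, 9, 6, 5]), 1001, 0),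
    ((0, [1, 2, 3, 4, 5, 6, 7, 3, 2, 1, 4, 3, 8, 7, 3, 2, 1, 4, 3, 5, 4, 7, 9, 6, 5]), 1001, 0),
    ((0, [1, 2, 3, 4, 5, 6, 7, 3, 2, 1, 4, 3, 8, 7, 3, 2, 4, 3, 5, 4, 7, 3, 9, 6, 5]), 1001, 0),
    ((0, [1, 2, 3, 4, 5, 6, 7, 3, 2, 1, 4, 3, 2, 7, 8, 7, 3, 2, 4, 3, 5, 4, 9, 6, 5]), 1001, 0),
    ((0, [1, 2, 3, 4, 5, 6, 7, 3, 2, 1, 4, 3, 2, 5, 4, 8, 7, 3, 2, 1, 4, 5, 9, 6, 5]), 1001, 0),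
    ((0, [1, 2, 3, 4, 5, 6, 7, 3, 2, 1, 4, 3, 2, 5, 4, 3, 8, 7, 3, 2, 1, 4, 5, 9, 6]), 1001, 0)]

/-- Part 15 of the cycles. -/
def reps15 : List ((Nat × List Nat) × Nat × Nat) :=
  [
    ((0, [1, 2, 3, 4, 5, 6, 7, 3, 2, 1, 4, 3, 2, 5, 4, 8, 7, 3, 2, 4, 3, 5, 9, 6, 5]), 1001, 0),
    ((0, [1, 2, 3, 4, 5, 6, 7, 3, 2, 1, 4, 3, 2, 5, 7, 8, 7, 3, 2, 4, 3, 5, 9, 6, 5]), 1001, 0),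
    ((0, [1, 2, 3, 4, 5, 6, 7, 3, 2, 1, 4, 3, 2, 5, 4, 3, 8, 7, 3, 2, 4, 3, 5, 9, 6]), 1001, 0),
    ((0, [1, 2, 3, 4, 5, 6, 7, 3, 4, 5, 8, 7, 3, 2, 1, 4, 3, 2, 7, 3, 4, 5, 9, 6, 5]), 1001, 0),
    ((0, [1, 2, 3, 4, 5, 6, 7, 3, 2, 1, 4, 3, 2, 5, 4, 8, 7, 3, 2, 1, 0, 4, 5, 9, 6]), 1001, 0),
    ((0, [1, 2, 3, 4, 5, 6, 7, 3, 2, 4, 5, 8, 7, 3, 2, 1, 4, 3, 2, 7, 3, 4, 5, 9, 6]), 1001, 0),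
    ((0, [1, 2, 3, 4, 5, 6, 7, 3, 2, 1, 4, 3, 2, 5, 8, 7, 3, 2, 4, 3, 5, 7, 9, 6, 5]), 1001, 0),
    ((0, [1, 2, 3, 4, 5, 6, 7, 3, 2, 1, 4, 3, 2, 5, 8, 7, 3, 2, 1, 4, 3, 5, 9, 6, 5]), 1001, 0),
    ((0, [1, 2, 3, 4, 5, 6, 7, 3, 2, 1, 4, 3, 2, 5, 8, 7, 3, 2, 1, 4, 3, 5, 7, 9, 6]), 1001, 0),
    ((0, [1, 2, 3, 4, 5, 6, 7, 3, 2, 1, 4, 3, 2, 5, 8, 7, 3, 2, 1, 4, 3, 2, 5, 9, 6]), 1001, 0),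
    ((0, [1, 2, 3, 4, 5, 6, 7, 3, 2, 1, 4, 3, 2, 5, 8, 7, 3, 2, 4, 3, 5, 7, 8, 9, 6]), 1001, 0),
    ((0, [1, 2, 3, 4, 5, 6, 7, 3, 2, 1, 4, 3, 2, 5, 8, 7, 3, 2, 4, 3, 5, 4, 9, 6, 5]), 1001, 0),
    ((0, [1, 2, 3, 4, 5, 6, 7, 3, 2, 1, 4, 3, 2, 8, 7, 3, 2, 1, 4, 3, 5, 4, 9, 6, 5]), 1001, 0),
    ((0, [1, 2, 3, 4, 5, 6, 7, 3, 2, 1, 4, 3, 2, 5, 8, 7, 3, 2, 1, 0, 4, 5, 9, 6, 5]), 1001, 0),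
    ((0, [1, 2, 3, 4, 5, 6, 7, 3, 2, 1, 4, 3, 2, 8, 7, 3, 2, 4, 3, 5, 4, 7, 9, 6, 5]), 1001, 0),
    ((0, [1, 2, 3, 4, 5, 6, 7, 3, 2, 1, 4, 3, 2, 8, 7, 3, 2, 1, 0, 4, 3, 5, 7, 9, 6]), 1001, 0),
    ((0, [1, 2, 3, 4, 5, 6, 7, 3, 2, 1, 4, 3, 2, 8, 7, 3, 2, 1, 0, 4, 3, 2, 5, 9, 6]), 1001, 0),
    ((0, [1, 2, 3, 4, 5, 6, 7, 3, 2, 1, 4, 3, 2, 5, 4, 8, 7, 3, 2, 1, 0, 4, 3, 5, 6]), 1001, 0),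
    ((0, [1, 2, 3, 4, 5, 6, 7, 3, 2, 1, 4, 5, 8, 7, 3, 2, 1, 4, 3, 2, 7, 3, 4, 5, 6]), 1001, 0),
    ((0, [1, 2, 3, 4, 5, 6, 7, 3, 2, 1, 4, 8, 7, 3, 2, 1, 4, 3, 5, 4, 7, 3, 2, 1, 0]), 1001, 0),
    ((0, [1, 2, 3, 4, 5, 6, 7, 3, 2, 1, 4, 3, 2, 5, 4, 3, 8, 7, 3, 2, 1, 4, 3, 5, 6]), 1001, 0),
    ((0, [1, 2, 3, 4, 5, 6, 7, 3, 2, 1, 4, 5, 8, 7, 3, 2, 4, 3, 5, 4, 7, 3, 2, 1, 8]), 1001, 0),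
    ((0, [1, 2, 3, 4, 5, 6, 7, 3, 2, 1, 4, 3, 5, 8, 7, 3, 2, 4, 3, 5, 4, 7, 3, 2, 8]), 1001, 0),
    ((0, [1, 2, 3, 4, 5, 6, 7, 3, 2, 1, 4, 3, 2, 5, 8, 7, 3, 2, 1, 4, 3, 5, 6, 7, 8]), 1001, 0),
    ((0, [1, 2, 3, 4, 5, 6, 7, 3, 2, 1, 4, 5, 8, 7, 3, 2, 1, 4, 3, 5, 4, 7, 3, 2, 8]), 1001, 0),
    ((0, [1, 2, 3, 4, 5, 6, 7, 3, 2, 1, 4, 8, 7, 3, 2, 1, 0, 4, 3, 5, 4, 7, 9, 6, 5]), 1001, 0),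
    ((0, [1, 2, 3, 4, 5, 6, 7, 3, 2, 1, 4, 8, 7, 3, 2, 1, 4, 3, 5, 4, 7, 3, 9, 6, 5]), 1001, 0),
    ((0, [1, 2, 3, 4, 5, 6, 7, 3, 2, 1, 4, 3, 2, 5, 4, 3, 8, 7, 3, 4, 5, 6, 9, 6, 5]), 1001, 0),
    ((0, [1, 2, 3, 4, 5, 6, 7, 3, 2, 1, 8, 7, 3, 2, 4, 3, 5, 4, 7, 3, 2, 1, 9, 6, 5]), 1001, 0),
    ((0, [1, 2, 3, 4, 5, 6, 7, 3, 2, 1, 4, 8, 7, 3, 2, 4, 3, 5, 4, 7, 3, 2, 9, 6, 5]), 1001, 0),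
    ((0, [1, 2, 3, 4, 5, 6, 7, 3, 2, 1, 4, 3, 2, 8, 7, 3, 2, 4, 3, 5, 4, 6, 9, 6, 5]), 1001, 0),
    ((0, [1, 2, 3, 4, 5, 6, 7, 3, 2, 1, 4, 3, 2, 5, 8, 7, 3, 2, 4, 3, 5, 6, 9, 6, 5]), 1001, 0),
    ((0, [1, 2, 3, 4, 5, 6, 7, 3, 2, 1, 4, 3, 2, 5, 4, 8, 7, 3, 2, 4, 3, 5, 4, 6, 9]), 1001, 0),
    ((0, [1, 2, 3, 4, 5, 6, 7, 3, 2, 1, 4, 3, 2, 5, 8, 7, 3, 2, 4, 3, 5, 6, 7, 8, 9]), 1001, 0),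
    ((0, [1, 2, 3, 4, 5, 6, 7, 3, 2, 1, 4, 5, 8, 7, 3, 2, 4, 3, 5, 4, 7, 3, 2, 8, 9]), 1001, 0),
    ((0, [1, 2, 3, 4, 5, 6, 7, 3, 2, 1, 4, 3, 2, 5, 8, 7, 3, 2, 1, 4, 3, 5, 6, 7, 9]), 1001, 0),
    ((0, [1, 2, 3, 4, 5, 6, 7, 3, 2, 1, 4, 3, 2, 5, 8, 7, 3, 2, 4, 3, 5, 6, 7, 9, 6]), 1001, 0),
    ((0, [1, 2, 3, 4, 5, 6, 7, 3, 2, 1, 4, 3, 2, 5, 4, 8, 7, 3, 2, 4, 3, 5, 6, 9, 6]), 1001, 0),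
    ((0, [1, 2, 3, 4, 5, 6, 7, 3, 2, 1, 4, 3, 2, 5, 8, 7, 3, 2, 1, 4, 3, 2, 5, 6, 9]), 1001, 0),
    ((0, [1, 2, 3, 4, 5, 6, 7, 3, 2, 1, 4, 3, 2, 5, 8, 7, 3, 2, 1, 4, 5, 6, 9, 6, 5]), 1001, 0),
    ((0, [1, 2, 3, 4, 5, 6, 7, 3, 2, 1, 4, 3, 2, 5, 4, 8, 7, 3, 2, 1, 4, 5, 6, 9, 6]), 1001, 0),
    ((0, [1, 2, 3, 4, 5, 6, 7, 3, 2, 1, 4, 3, 2, 5, 4, 3, 8, 7, 3, 2, 4, 3, 5, 6, 9]), 1001, 0),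
    ((0, [1, 2, 3, 4, 5, 6, 7, 3, 2, 1, 4, 3, 2, 5, 4, 8, 7, 3, 2, 1, 0, 4, 5, 6, 9]), 1001, 0),
    ((0, [1, 2, 3, 4, 5, 6, 7, 3, 2, 1, 8, 7, 3, 2, 4, 3, 5, 4, 7, 3, 2, 1, 0, 9, 6]), 1001, 0),
    ((0, [1, 2, 3, 4, 5, 6, 7, 3, 2, 1, 4, 8, 7, 3, 2, 4, 3, 5, 4, 7, 3, 2, 1, 0, 9]), 1001, 0),
    ((0, [1, 2, 3, 4, 5, 6, 7, 3, 2, 4, 5, 8, 7, 3, 2, 1, 0, 4, 3, 2, 5, 9, 6, 5, 4, 3]), 1001, 0),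
    ((0, [1, 2, 3, 4, 5, 6, 7, 3, 2, 1, 4, 3, 5, 4, 7, 3, 8, 7, 3, 2, 4, 3, 5, 9, 6, 5]), 1001, 0),
    ((0, [1, 2, 3, 4, 5, 6, 7, 3, 2, 1, 4, 3, 5, 4, 7, 8, 7, 3, 2, 4, 5, 9, 6, 5, 4, 3]), 1001, 0),
    ((0, [1, 2, 3, 4, 5, 6, 7, 3, 2, 1, 4, 3, 5, 4, 7, 8, 7, 3, 2, 1, 4, 3, 5, 9, 6, 5]), 1001, 0),
    ((0, [1, 2, 3, 4, 5, 6, 7, 3, 2, 4, 5, 8, 7, 3, 2, 1, 4, 3, 2, 5, 7, 9, 6, 5, 4, 3]), 1001, 0),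
    ((0, [1, 2, 3, 4, 5, 6, 7, 3, 2, 4, 5, 8, 7, 3, 2, 4, 3, 5, 7, 8, 9, 6, 5, 4, 3, 2]), 1001, 0),
    ((0, [1, 2, 3, 4, 5, 6, 7, 3, 2, 4, 3, 5, 4, 8, 7, 3, 2, 1, 4, 5, 9, 6, 5, 4, 3, 7]), 1001, 0),
    ((0, [1, 2, 3, 4, 5, 6, 7, 3, 2, 4, 5, 8, 7, 3, 2, 4, 3, 5, 7, 8, 9, 6, 5, 4, 3, 7]), 1001, 0),
    ((0, [1, 2, 3, 4, 5, 6, 7, 3, 2, 4, 5, 8, 7, 3, 2, 1, 4, 3, 2, 7, 9, 6, 5, 4, 3, 2]), 1001, 0),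
    ((0, [1, 2, 3, 4, 5, 6, 7, 3, 2, 1, 4, 3, 5, 4, 8, 7, 3, 2, 1, 4, 9, 6, 5, 4, 3, 2]), 1001, 0),
    ((0, [1, 2, 3, 4, 5, 6, 7, 3, 2, 4, 3, 5, 4, 8, 7, 3, 2, 1, 4, 5, 9, 6, 5, 4, 3, 2]), 1001, 0),
    ((0, [1, 2, 3, 4, 5, 6, 7, 3, 2, 4, 5, 8, 7, 3, 2, 1, 4, 3, 2, 7, 9, 6, 5, 4, 3, 7]), 1001, 0),
    ((0, [1, 2, 3, 4, 5, 6, 7, 3, 2, 4, 3, 5, 4, 8, 7, 3, 2, 4, 3, 5, 7, 8, 9, 6, 5, 4]), 1001, 0),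
    ((0, [1, 2, 3, 4, 5, 6, 7, 3, 2, 4, 3, 5, 4, 8, 7, 3, 2, 1, 0, 4, 3, 5, 7, 9, 6, 5]), 1001, 0),
    ((0, [1, 2, 3, 4, 5, 6, 7, 3, 2, 4, 3, 5, 4, 8, 7, 3, 2, 4, 3, 5, 4, 6, 9, 6, 5, 4]), 1001, 0),
    ((0, [1, 2, 3, 4, 5, 6, 7, 3, 2, 1, 4, 3, 5, 4, 7, 8, 7, 3, 2, 1, 4, 3, 2, 9, 6, 5]), 1001, 0),
    ((0, [1, 2, 3, 4, 5, 6, 7, 3, 2, 4, 3, 5, 8, 7, 3, 2, 1, 4, 3, 2, 5, 7, 3, 9, 6, 5]), 1001, 0),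
    ((0, [1, 2, 3, 4, 5, 6, 7, 3, 2, 4, 3, 5, 4, 8, 7, 3, 2, 1, 0, 4, 3, 2, 5, 9, 6, 5]), 1001, 0),
    ((0, [1, 2, 3, 4, 5, 6, 7, 3, 2, 1, 4, 3, 5, 4, 8, 7, 3, 2, 1, 4, 3, 2, 5, 9, 6, 5]), 1001, 0),
    ((0, [1, 2, 3, 4, 5, 6, 7, 3, 2, 1, 4, 3, 5, 4, 7, 8, 7, 3, 2, 1, 4, 3, 2, 5, 9, 6]), 1001, 0),
    ((0, [1, 2, 3, 4, 5, 6, 7, 3, 2, 1, 4, 3, 5, 4, 8, 7, 3, 2, 1, 0, 4, 3, 2, 5, 9, 6]), 901, 0),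
    ((0, [1, 2, 3, 4, 5, 6, 7, 3, 2, 1, 4, 3, 5, 4, 8, 7, 3, 2, 1, 4, 9, 6, 5, 4, 3, 7]), 1001, 0),
    ((0, [1, 2, 3, 4, 5, 6, 7, 3, 2, 1, 4, 3, 5, 4, 7, 8, 7, 3, 2, 1, 4, 3, 7, 9, 6, 5]), 1001, 0),
    ((0, [1, 2, 3, 4, 5, 6, 7, 3, 2, 1, 4, 5, 8, 7, 3, 2, 1, 4, 3, 2, 5, 7, 3, 9, 6, 5]), 1001, 0),
    ((0, [1, 2, 3, 4, 5, 6, 7, 3, 2, 1, 4, 3, 5, 4, 7, 8, 7, 3, 2, 1, 4, 3, 5, 7, 9, 6]), 1001, 0),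
    ((0, [1, 2, 3, 4, 5, 6, 7, 3, 2, 1, 4, 3, 5, 4, 8, 7, 3, 2, 1, 4, 3, 5, 7, 9, 6, 5]), 1001, 0),
    ((0, [1, 2, 3, 4, 5, 6, 7, 3, 2, 1, 4, 3, 5, 4, 8, 7, 3, 2, 1, 0, 4, 3, 5, 7, 9, 6]), 901, 0),
    ((0, [1, 2, 3, 4, 5, 6, 7, 3, 2, 1, 4, 3, 5, 7, 8, 7, 3, 2, 1, 4, 3, 2, 5, 9, 6, 5]), 1001, 0),
    ((0, [1, 2, 3, 4, 5, 6, 7, 3, 2, 1, 4, 3, 5, 7, 8, 7, 3, 2, 1, 4, 3, 5, 7, 9, 6, 5]), 1001, 0),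
    ((0, [1, 2, 3, 4, 5, 6, 7, 3, 2, 1, 4, 3, 2, 5, 4, 7, 8, 7, 3, 2, 1, 4, 9, 6, 5, 4]), 1001, 0),
    ((0, [1, 2, 3, 4, 5, 6, 7, 3, 2, 1, 4, 3, 2, 5, 4, 7, 8, 7, 3, 2, 4, 9, 6, 5, 4, 3]), 1001, 0),
    ((0, [1, 2, 3, 4, 5, 6, 7, 3, 2, 1, 4, 3, 2, 5, 4, 7, 8, 7, 3, 2, 1, 4, 3, 9, 6, 5]), 1001, 0),
    ((0, [1, 2, 3, 4, 5, 6, 7, 3, 2, 1, 4, 3, 2, 5, 4, 8, 7, 3, 2, 1, 0, 4, 9, 6, 5, 4]), 901, 0),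
    ((0, [1, 2, 3, 4, 5, 6, 7, 3, 4, 5, 8, 7, 3, 2, 1, 4, 3, 2, 7, 3, 4, 9, 6, 5, 4, 3]), 1001, 0),
    ((0, [1, 2, 3, 4, 5, 6, 7, 3, 2, 1, 4, 5, 8, 7, 3, 2, 1, 4, 3, 2, 7, 3, 4, 9, 6, 5]), 1001, 0),
    ((0, [1, 2, 3, 4, 5, 6, 7, 3, 2, 1, 4, 3, 2, 5, 4, 8, 7, 3, 2, 1, 4, 3, 7, 9, 6, 5]), 1001, 0),
    ((0, [1, 2, 3, 4, 5, 6, 7, 3, 2, 1, 4, 3, 2, 5, 4, 8, 7, 3, 2, 1, 4, 3, 2, 9, 6, 5]), 1001, 0),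
    ((0, [1, 2, 3, 4, 5, 6, 7, 3, 2, 4, 3, 5, 8, 7, 3, 2, 1, 4, 3, 2, 7, 3, 4, 9, 6, 5]), 1001, 0),
    ((0, [1, 2, 3, 4, 5, 6, 7, 3, 2, 1, 4, 3, 2, 5, 7, 8, 7, 3, 2, 1, 4, 3, 7, 9, 6, 5]), 1001, 0),
    ((0, [1, 2, 3, 4, 5, 6, 7, 3, 2, 1, 4, 3, 2, 5, 7, 8, 7, 3, 2, 1, 4, 3, 2, 9, 6, 5]), 1001, 0),
    ((0, [1, 2, 3, 4, 5, 6, 7, 3, 2, 1, 4, 5, 8, 7, 3, 2, 1, 4, 3, 2, 5, 7, 3, 4, 5, 9]), 1001, 0),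
    ((0, [1, 2, 3, 4, 5, 6, 7, 3, 2, 1, 4, 3, 2, 5, 4, 8, 7, 3, 2, 1, 0, 4, 3, 5, 7, 9]), 1001, 0),
    ((0, [1, 2, 3, 4, 5, 6, 7, 3, 2, 1, 4, 3, 2, 5, 4, 8, 7, 3, 2, 1, 0, 4, 3, 2, 5, 9]), 1001, 0),
    ((0, [1, 2, 3, 4, 5, 6, 7, 3, 2, 1, 4, 3, 2, 5, 7, 3, 8, 7, 3, 2, 1, 4, 3, 9, 6, 5]), 1001, 0),
    ((0, [1, 2, 3, 4, 5, 6, 7, 3, 2, 1, 4, 3, 2, 5, 4, 3, 8, 7, 3, 2, 1, 4, 3, 5, 7, 9]), 1001, 0),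
    ((0, [1, 2, 3, 4, 5, 6, 7, 3, 2, 4, 3, 5, 7, 8, 7, 3, 2, 1, 0, 4, 3, 2, 5, 9, 6, 5]), 1001, 0),
    ((0, [1, 2, 3, 4, 5, 6, 7, 3, 2, 4, 3, 5, 4, 8, 7, 3, 2, 1, 4, 3, 5, 7, 8, 9, 6, 5]), 1001, 0),
    ((0, [1, 2, 3, 4, 5, 6, 7, 3, 2, 1, 4, 3, 5, 7, 8, 7, 3, 2, 1, 0, 4, 3, 2, 9, 6, 5]), 901, 0),
    ((0, [1, 2, 3, 4, 5, 6, 7, 3, 2, 1, 4, 3, 5, 8, 7, 3, 2, 1, 0, 4, 3, 2, 1, 9, 6, 5]), 901, 0),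
    ((0, [1, 2, 3, 4, 5, 6, 7, 3, 2, 1, 4, 3, 5, 8, 7, 3, 2, 1, 0, 4, 3, 2, 5, 9, 6, 5]), 901, 0),
    ((0, [1, 2, 3, 4, 5, 6, 7, 3, 2, 1, 4, 3, 5, 8, 7, 3, 2, 1, 0, 4, 3, 5, 7, 9, 6, 5]), 901, 0),
    ((0, [1, 2, 3, 4, 5, 6, 7, 3, 2, 1, 4, 3, 5, 7, 8, 7, 3, 2, 1, 0, 4, 3, 5, 9, 6, 5]), 901, 0),
    ((0, [1, 2, 3, 4, 5, 6, 7, 3, 2, 1, 4, 3, 5, 7, 8, 7, 3, 2, 1, 0, 4, 3, 2, 5, 9, 6]), 1001, 0),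
    ((0, [1, 2, 3, 4, 5, 6, 7, 3, 2, 1, 4, 3, 5, 8, 7, 3, 2, 1, 0, 4, 3, 2, 1, 5, 9, 6]), 1001, 0),
    ((0, [1, 2, 3, 4, 5, 6, 7, 3, 2, 4, 3, 5, 4, 7, 8, 7, 3, 2, 1, 4, 5, 6, 9, 6, 5, 4]), 1001, 0),
    ((0, [1, 2, 3, 4, 5, 6, 7, 3, 2, 4, 5, 8, 7, 3, 2, 1, 0, 4, 3, 2, 5, 6, 9, 6, 5, 4]), 1001, 0),
    ((0, [1, 2, 3, 4, 5, 6, 7, 3, 2, 4, 3, 5, 4, 7, 8, 7, 3, 2, 4, 5, 6, 9, 6, 5, 4, 3]), 1001, 0),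
    ((0, [1, 2, 3, 4, 5, 6, 7, 3, 2, 1, 4, 5, 8, 7, 3, 2, 1, 0, 4, 3, 2, 5, 6, 9, 6, 5]), 1001, 0),
    ((0, [1, 2, 3, 4, 5, 6, 7, 3, 2, 1, 4, 3, 5, 4, 8, 7, 3, 2, 4, 5, 6, 9, 6, 5, 4, 3]), 1001, 0),
    ((0, [1, 2, 3, 4, 5, 6, 7, 3, 2, 1, 4, 3, 5, 4, 7, 8, 7, 3, 2, 4, 3, 5, 6, 9, 6, 5]), 1001, 0),
    ((0, [1, 2, 3, 4, 5, 6, 7, 3, 2, 1, 4, 3, 5, 4, 8, 7, 3, 2, 1, 4, 3, 5, 6, 9, 6, 5]), 1001, 0),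
    ((0, [1, 2, 3, 4, 5, 6, 7, 3, 2, 4, 5, 8, 7, 3, 2, 4, 3, 5, 6, 7, 8, 9, 6, 5, 4, 3]), 1001, 0),
    ((0, [1, 2, 3, 4, 5, 6, 7, 3, 2, 4, 3, 5, 4, 8, 7, 3, 2, 1, 0, 4, 3, 5, 6, 9, 6, 5]), 1001, 0),
    ((0, [1, 2, 3, 4, 5, 6, 7, 3, 2, 4, 5, 8, 7, 3, 2, 1, 4, 3, 2, 5, 6, 7, 3, 9, 6, 5]), 1001, 0),
    ((0, [1, 2, 3, 4, 5, 6, 7, 3, 2, 1, 4, 3, 5, 4, 8, 7, 3, 2, 1, 0, 4, 3, 5, 6, 9, 6]), 901, 0),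
    ((0, [1, 2, 3, 4, 5, 6, 7, 3, 2, 4, 3, 5, 4, 8, 7, 3, 2, 1, 4, 3, 2, 5, 6, 9, 6, 5]), 1001, 0),
    ((0, [1, 2, 3, 4, 5, 6, 7, 3, 2, 1, 4, 3, 5, 4, 8, 7, 3, 2, 1, 4, 3, 2, 5, 6, 9, 6]), 1001, 0),
    ((0, [1, 2, 3, 4, 5, 6, 7, 3, 2, 4, 3, 5, 4, 8, 7, 3, 2, 1, 0, 4, 3, 5, 4, 9, 6, 5]), 1001, 0),
    ((0, [1, 2, 3, 4, 5, 6, 7, 3, 2, 1, 4, 5, 8, 7, 3, 2, 1, 0, 4, 3, 5, 6, 7, 9, 6, 5]), 1001, 0),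
    ((0, [1, 2, 3, 4, 5, 6, 7, 3, 2, 1, 4, 3, 5, 7, 8, 7, 3, 2, 4, 3, 5, 6, 7, 9, 6, 5]), 1001, 0),
    ((0, [1, 2, 3, 4, 5, 6, 7, 3, 2, 1, 4, 3, 5, 8, 7, 3, 2, 1, 0, 4, 3, 5, 6, 9, 6, 5]), 901, 0),
    ((0, [1, 2, 3, 4, 5, 6, 7, 3, 2, 4, 3, 5, 8, 7, 3, 2, 1, 4, 3, 2, 5, 4, 3, 9, 6, 5]), 901, 0),
    ((0, [1, 2, 3, 4, 5, 6, 7, 3, 2, 4, 3, 5, 4, 7, 8, 7, 3, 2, 1, 4, 3, 5, 4, 9, 6, 5]), 1001, 0),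
    ((0, [1, 2, 3, 4, 5, 6, 7, 3, 2, 1, 4, 3, 5, 7, 8, 7, 3, 2, 1, 4, 3, 5, 6, 9, 6, 5]), 1001, 0),
    ((0, [1, 2, 3, 4, 5, 6, 7, 3, 2, 1, 4, 3, 5, 8, 7, 3, 2, 1, 4, 3, 2, 5, 6, 9, 6, 5]), 1001, 0)]

/-- Part 16 of the cycles. -/
def reps16 : List ((Nat × List Nat) × Nat × Nat) :=
  [
    ((0, [1, 2, 3, 4, 5, 6, 7, 3, 2, 1, 4, 3, 5, 7, 8, 7, 3, 2, 1, 4, 3, 2, 5, 6, 9, 6]), 1001, 0),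
    ((0, [1, 2, 3, 4, 5, 6, 7, 3, 2, 1, 4, 3, 5, 8, 7, 3, 2, 1, 4, 3, 5, 6, 7, 9, 6, 5]), 1001, 0),
    ((0, [1, 2, 3, 4, 5, 6, 7, 3, 2, 1, 4, 3, 2, 5, 4, 8, 7, 3, 2, 4, 5, 9, 6, 5, 4, 3]), 1001, 0),
    ((0, [1, 2, 3, 4, 5, 6, 7, 3, 2, 1, 4, 3, 5, 4, 8, 7, 3, 2, 4, 9, 6, 5, 4, 3, 7, 8]), 1001, 0),
    ((0, [1, 2, 3, 4, 5, 6, 7, 3, 2, 4, 3, 5, 4, 8, 7, 3, 2, 4, 3, 5, 4, 9, 6, 5, 4, 3]), 1001, 0),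
    ((0, [1, 2, 3, 4, 5, 6, 7, 3, 2, 4, 3, 5, 8, 7, 3, 2, 1, 4, 3, 2, 7, 9, 6, 5, 4, 3]), 1001, 0),
    ((0, [1, 2, 3, 4, 5, 6, 7, 3, 2, 1, 4, 3, 2, 5, 4, 8, 7, 3, 2, 1, 4, 5, 9, 6, 5, 4]), 1001, 0),
    ((0, [1, 2, 3, 4, 5, 6, 7, 3, 2, 1, 4, 3, 2, 5, 4, 8, 7, 3, 2, 4, 5, 6, 9, 6, 5, 4]), 1001, 0),
    ((0, [1, 2, 3, 4, 5, 6, 7, 3, 2, 4, 5, 8, 7, 3, 2, 1, 4, 3, 2, 9, 6, 5, 4, 3, 7, 8]), 801, 0),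
    ((0, [1, 2, 3, 4, 5, 6, 7, 3, 2, 1, 8, 7, 3, 2, 4, 3, 5, 4, 7, 3, 2, 9, 6, 5, 4, 3]), 1001, 0),
    ((0, [1, 2, 3, 4, 5, 6, 7, 3, 4, 5, 8, 7, 3, 2, 1, 4, 3, 2, 7, 3, 4, 5, 9, 6, 5, 4]), 901, 0),
    ((0, [1, 2, 3, 4, 5, 6, 7, 3, 2, 1, 8, 7, 3, 2, 4, 3, 5, 4, 7, 3, 2, 1, 9, 6, 5, 4]), 1001, 0),
    ((0, [1, 2, 3, 4, 5, 6, 7, 3, 2, 1, 4, 5, 8, 7, 3, 2, 1, 0, 4, 3, 2, 5, 4, 9, 6, 5]), 1001, 0),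
    ((0, [1, 2, 3, 4, 5, 6, 7, 3, 2, 1, 4, 5, 8, 7, 3, 2, 1, 4, 3, 2, 5, 4, 6, 9, 6, 5]), 1001, 0),
    ((0, [1, 2, 3, 4, 5, 6, 7, 3, 2, 1, 4, 5, 8, 7, 3, 2, 1, 0, 4, 3, 5, 4, 6, 9, 6, 5]), 1001, 0),
    ((0, [1, 2, 3, 4, 5, 6, 7, 3, 2, 1, 4, 5, 8, 7, 3, 2, 1, 0, 4, 3, 5, 4, 7, 9, 6, 5]), 1001, 0),
    ((0, [1, 2, 3, 4, 5, 6, 7, 3, 2, 1, 4, 5, 8, 7, 3, 2, 1, 4, 3, 5, 4, 6, 7, 9, 6, 5]), 1001, 0),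
    ((0, [1, 2, 3, 4, 5, 6, 7, 3, 2, 4, 3, 5, 4, 8, 7, 3, 2, 1, 4, 3, 2, 7, 3, 9, 6, 5]), 1001, 0),
    ((0, [1, 2, 3, 4, 5, 6, 7, 3, 2, 1, 4, 3, 5, 4, 8, 7, 3, 2, 1, 0, 4, 3, 2, 1, 5, 9]), 901, 0),
    ((0, [1, 2, 3, 4, 5, 6, 7, 3, 2, 4, 3, 5, 4, 8, 7, 3, 2, 1, 4, 3, 2, 5, 7, 3, 9, 6]), 901, 0),
    ((0, [1, 2, 3, 4, 5, 6, 7, 3, 2, 4, 3, 5, 4, 8, 7, 3, 2, 1, 4, 3, 2, 7, 3, 4, 5, 9]), 1001, 0),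
    ((0, [1, 2, 3, 4, 5, 6, 7, 3, 2, 1, 4, 3, 5, 4, 8, 7, 3, 2, 1, 4, 3, 2, 7, 3, 4, 5]), 1001, 0),
    ((0, [1, 2, 3, 4, 5, 6, 7, 3, 2, 1, 4, 3, 2, 5, 4, 8, 7, 3, 2, 1, 0, 4, 3, 2, 1, 5]), 1001, 0),
    ((0, [1, 2, 3, 4, 5, 6, 7, 3, 2, 4, 3, 5, 8, 7, 3, 2, 1, 4, 3, 2, 5, 4, 7, 3, 9, 6]), 901, 0),
    ((0, [1, 2, 3, 4, 5, 6, 7, 3, 2, 4, 3, 5, 4, 8, 7, 3, 2, 1, 0, 4, 3, 2, 5, 4, 3, 9]), 901, 0),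
    ((0, [1, 2, 3, 4, 5, 6, 7, 3, 2, 4, 3, 5, 8, 7, 3, 2, 1, 0, 4, 3, 2, 9, 6, 5, 4, 3]), 901, 0),
    ((0, [1, 2, 3, 4, 5, 6, 7, 3, 2, 1, 4, 3, 5, 4, 8, 7, 3, 2, 4, 3, 5, 4, 9, 6, 5, 4]), 1001, 0),
    ((0, [1, 2, 3, 4, 5, 6, 7, 3, 2, 1, 4, 3, 5, 7, 8, 7, 3, 2, 4, 3, 5, 4, 9, 6, 5, 4]), 1001, 0),
    ((0, [1, 2, 3, 4, 5, 6, 7, 3, 2, 1, 4, 3, 5, 8, 7, 3, 2, 4, 3, 5, 4, 6, 9, 6, 5, 4]), 1001, 0),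
    ((0, [1, 2, 3, 4, 5, 6, 7, 3, 2, 1, 4, 3, 5, 4, 7, 8, 7, 3, 2, 4, 3, 5, 4, 9, 6, 5]), 1001, 0),
    ((0, [1, 2, 3, 4, 5, 6, 7, 3, 2, 1, 4, 3, 5, 4, 8, 7, 3, 2, 1, 4, 3, 5, 4, 9, 6, 5]), 1001, 0),
    ((0, [1, 2, 3, 4, 5, 6, 7, 3, 2, 1, 4, 3, 5, 4, 8, 7, 3, 2, 4, 3, 5, 4, 6, 9, 6, 5]), 1001, 0),
    ((0, [1, 2, 3, 4, 5, 6, 7, 3, 2, 4, 5, 8, 7, 3, 2, 1, 4, 3, 2, 5, 7, 3, 4, 9, 6, 5]), 1001, 0),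
    ((0, [1, 2, 3, 4, 5, 6, 7, 3, 2, 1, 4, 3, 5, 7, 8, 7, 3, 2, 4, 3, 5, 4, 6, 9, 6, 5]), 1001, 0),
    ((0, [1, 2, 3, 4, 5, 6, 7, 3, 2, 1, 4, 3, 5, 7, 8, 7, 3, 2, 4, 3, 5, 4, 7, 9, 6, 5]), 1001, 0),
    ((0, [1, 2, 3, 4, 5, 6, 7, 3, 2, 1, 4, 3, 5, 8, 7, 3, 2, 4, 3, 5, 4, 7, 9, 6, 5, 4]), 1001, 0),
    ((0, [1, 2, 3, 4, 5, 6, 7, 3, 2, 1, 4, 3, 5, 8, 7, 3, 2, 4, 3, 5, 4, 6, 7, 9, 6, 5]), 1001, 0),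
    ((0, [1, 2, 3, 4, 5, 6, 7, 3, 2, 1, 4, 3, 5, 7, 8, 7, 3, 2, 1, 4, 3, 5, 4, 9, 6, 5]), 1001, 0),
    ((0, [1, 2, 3, 4, 5, 6, 7, 3, 2, 1, 4, 3, 5, 8, 7, 3, 2, 1, 4, 3, 5, 4, 6, 9, 6, 5]), 1001, 0),
    ((0, [1, 2, 3, 4, 5, 6, 7, 3, 2, 1, 4, 3, 5, 8, 7, 3, 2, 1, 4, 3, 2, 5, 4, 9, 6, 5]), 1001, 0),
    ((0, [1, 2, 3, 4, 5, 6, 7, 3, 2, 1, 4, 3, 5, 8, 7, 3, 2, 1, 4, 3, 5, 4, 7, 9, 6, 5]), 1001, 0),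
    ((0, [1, 2, 3, 4, 5, 6, 7, 3, 2, 1, 4, 3, 7, 8, 7, 3, 2, 1, 4, 3, 5, 4, 6, 9, 6, 5]), 1001, 0),
    ((0, [1, 2, 3, 4, 5, 6, 7, 3, 2, 1, 4, 3, 2, 5, 4, 8, 7, 3, 2, 4, 3, 5, 9, 6, 5, 4]), 1001, 0),
    ((0, [1, 2, 3, 4, 5, 6, 7, 3, 2, 1, 4, 3, 5, 4, 7, 3, 8, 7, 3, 2, 4, 3, 7, 8, 9, 6]), 1001, 0),
    ((0, [1, 2, 3, 4, 5, 6, 7, 3, 2, 1, 4, 5, 8, 7, 3, 2, 1, 0, 4, 3, 2, 7, 8, 9, 6, 5]), 1001, 0),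
    ((0, [1, 2, 3, 4, 5, 6, 7, 3, 2, 1, 4, 3, 5, 4, 7, 8, 7, 3, 2, 4, 3, 7, 8, 9, 6, 5]), 1001, 0),
    ((0, [1, 2, 3, 4, 5, 6, 7, 3, 2, 1, 4, 5, 8, 7, 3, 2, 1, 4, 3, 2, 7, 3, 8, 9, 6, 5]), 1001, 0),
    ((0, [1, 2, 3, 4, 5, 6, 7, 3, 2, 1, 4, 3, 5, 4, 8, 7, 3, 2, 1, 4, 3, 7, 8, 9, 6, 5]), 1001, 0),
    ((0, [1, 2, 3, 4, 5, 6, 7, 3, 2, 1, 4, 3, 5, 4, 8, 7, 3, 2, 1, 0, 4, 3, 7, 8, 9, 6]), 1001, 0),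
    ((0, [1, 2, 3, 4, 5, 6, 7, 3, 2, 1, 4, 3, 5, 8, 7, 3, 2, 1, 4, 3, 2, 7, 3, 8, 9, 6]), 1001, 0),
    ((0, [1, 2, 3, 4, 5, 6, 7, 3, 2, 1, 4, 5, 8, 7, 3, 2, 1, 4, 3, 2, 5, 7, 8, 9, 6, 5]), 901, 0),
    ((0, [1, 2, 3, 4, 5, 6, 7, 3, 2, 1, 4, 5, 8, 7, 3, 2, 1, 0, 4, 3, 5, 7, 8, 9, 6, 5]), 1001, 0),
    ((0, [1, 2, 3, 4, 5, 6, 7, 3, 2, 1, 4, 3, 5, 7, 8, 7, 3, 2, 4, 3, 5, 7, 8, 9, 6, 5]), 1001, 0),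
    ((0, [1, 2, 3, 4, 5, 6, 7, 3, 2, 1, 4, 3, 5, 4, 8, 7, 3, 2, 4, 3, 5, 7, 8, 9, 6, 5]), 1001, 0),
    ((0, [1, 2, 3, 4, 5, 6, 7, 3, 2, 1, 4, 5, 8, 7, 3, 2, 1, 4, 3, 5, 7, 8, 9, 6, 5, 4]), 1001, 0),
    ((0, [1, 2, 3, 4, 5, 6, 7, 3, 2, 1, 4, 3, 5, 7, 8, 7, 3, 2, 4, 3, 7, 8, 9, 6, 5, 4]), 1001, 0),
    ((0, [1, 2, 3, 4, 5, 6, 7, 3, 2, 1, 4, 3, 5, 4, 8, 7, 3, 2, 4, 3, 7, 8, 9, 6, 5, 4]), 1001, 0),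
    ((0, [1, 2, 3, 4, 5, 6, 7, 3, 2, 1, 4, 3, 5, 8, 7, 3, 2, 4, 3, 5, 7, 8, 9, 6, 5, 4]), 1001, 0),
    ((0, [1, 2, 3, 4, 5, 6, 7, 3, 2, 1, 4, 3, 5, 4, 7, 3, 8, 7, 3, 2, 4, 3, 5, 7, 8, 9]), 701, 0),
    ((0, [1, 2, 3, 4, 5, 6, 7, 3, 2, 1, 4, 3, 5, 4, 7, 8, 7, 3, 2, 1, 4, 3, 5, 7, 8, 9]), 1001, 0),
    ((0, [1, 2, 3, 4, 5, 6, 7, 3, 2, 1, 4, 3, 5, 4, 8, 7, 3, 2, 1, 0, 4, 3, 5, 7, 8, 9]), 901, 0),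
    ((0, [1, 2, 3, 4, 5, 6, 7, 3, 2, 1, 4, 3, 5, 8, 7, 3, 2, 1, 4, 3, 2, 5, 7, 3, 8, 9]), 901, 0),
    ((0, [1, 2, 3, 4, 5, 6, 7, 3, 2, 1, 4, 3, 5, 4, 8, 7, 3, 2, 1, 4, 3, 2, 5, 7, 8, 9]), 1001, 0),
    ((0, [1, 2, 3, 4, 5, 6, 7, 3, 2, 1, 4, 5, 8, 7, 3, 2, 1, 0, 4, 3, 2, 5, 7, 8, 9, 6]), 901, 0),
    ((0, [1, 2, 3, 4, 5, 6, 7, 3, 2, 1, 4, 3, 5, 4, 7, 8, 7, 3, 2, 4, 3, 5, 7, 8, 9, 6]), 1001, 0),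
    ((0, [1, 2, 3, 4, 5, 6, 7, 3, 2, 1, 4, 5, 8, 7, 3, 2, 1, 4, 3, 2, 5, 7, 3, 8, 9, 6]), 901, 0),
    ((0, [1, 2, 3, 4, 5, 6, 7, 3, 2, 1, 4, 3, 5, 4, 8, 7, 3, 2, 1, 4, 3, 5, 7, 8, 9, 6]), 1001, 0),
    ((0, [1, 2, 3, 4, 5, 6, 7, 3, 2, 1, 4, 3, 5, 8, 7, 3, 2, 1, 0, 4, 3, 7, 8, 9, 6, 5]), 901, 0),
    ((0, [1, 2, 3, 4, 5, 6, 7, 3, 2, 1, 4, 3, 5, 8, 7, 3, 2, 1, 0, 4, 3, 2, 7, 8, 9, 6]), 1001, 0),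
    ((0, [1, 2, 3, 4, 5, 6, 7, 3, 2, 1, 4, 3, 5, 8, 7, 3, 2, 1, 0, 4, 3, 2, 5, 7, 8, 9]), 1001, 0),
    ((0, [1, 2, 3, 4, 5, 6, 7, 3, 2, 1, 4, 3, 5, 8, 7, 3, 2, 1, 0, 4, 3, 5, 7, 8, 9, 6]), 1001, 0),
    ((0, [1, 2, 3, 4, 5, 6, 7, 3, 2, 1, 4, 3, 5, 7, 8, 7, 3, 2, 1, 4, 3, 7, 8, 9, 6, 5]), 1001, 0),
    ((0, [1, 2, 3, 4, 5, 6, 7, 3, 2, 1, 4, 3, 5, 8, 7, 3, 2, 1, 4, 3, 2, 7, 8, 9, 6, 5]), 1001, 0),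
    ((0, [1, 2, 3, 4, 5, 6, 7, 3, 2, 1, 4, 3, 5, 8, 7, 3, 2, 1, 4, 3, 5, 7, 8, 9, 6, 5]), 1001, 0),
    ((0, [1, 2, 3, 4, 5, 6, 7, 3, 2, 1, 4, 3, 5, 7, 8, 7, 3, 2, 1, 4, 3, 5, 7, 8, 9, 6]), 1001, 0),
    ((0, [1, 2, 3, 4, 5, 6, 7, 3, 2, 1, 4, 3, 5, 8, 7, 3, 2, 1, 4, 3, 2, 5, 7, 8, 9, 6]), 1001, 0),
    ((0, [1, 2, 3, 4, 5, 6, 7, 3, 2, 1, 4, 3, 5, 7, 8, 7, 3, 2, 1, 4, 3, 2, 7, 3, 8, 9]), 1001, 0),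
    ((0, [1, 2, 3, 4, 5, 6, 7, 3, 2, 1, 4, 3, 5, 7, 8, 7, 3, 2, 1, 4, 3, 2, 5, 7, 3, 8]), 1001, 0),
    ((0, [1, 2, 3, 4, 5, 6, 7, 3, 2, 1, 4, 3, 2, 5, 7, 8, 7, 3, 2, 4, 3, 7, 8, 9, 6, 5]), 1001, 0),
    ((0, [1, 2, 3, 4, 5, 6, 7, 3, 2, 1, 4, 3, 2, 5, 4, 8, 7, 3, 2, 4, 3, 7, 8, 9, 6, 5]), 1001, 0),
    ((0, [1, 2, 3, 4, 5, 6, 7, 3, 2, 1, 4, 3, 2, 5, 8, 7, 3, 2, 4, 3, 7, 8, 9, 6, 5, 4]), 1001, 0),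
    ((0, [1, 2, 3, 4, 5, 6, 7, 3, 2, 1, 4, 3, 2, 5, 8, 7, 3, 2, 1, 4, 3, 7, 8, 9, 6, 5]), 1001, 0),
    ((0, [1, 2, 3, 4, 5, 6, 7, 3, 2, 1, 4, 3, 2, 5, 4, 7, 8, 7, 3, 2, 4, 3, 5, 7, 8, 9]), 1001, 0),
    ((0, [1, 2, 3, 4, 5, 6, 7, 3, 2, 1, 4, 5, 8, 7, 3, 2, 1, 4, 3, 2, 7, 3, 4, 5, 8, 9]), 1001, 0),
    ((0, [1, 2, 3, 4, 5, 6, 7, 3, 2, 1, 4, 3, 2, 5, 4, 8, 7, 3, 2, 1, 4, 3, 5, 7, 8, 9]), 1001, 0),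
    ((0, [1, 2, 3, 4, 5, 6, 7, 3, 2, 1, 4, 3, 2, 5, 4, 7, 8, 7, 3, 2, 1, 4, 3, 5, 7, 8]), 1001, 0),
    ((0, [1, 2, 3, 4, 5, 6, 7, 3, 2, 1, 4, 3, 2, 5, 4, 8, 7, 3, 2, 1, 0, 4, 3, 5, 7, 8]), 1001, 0),
    ((0, [1, 2, 3, 4, 5, 6, 7, 3, 2, 1, 4, 3, 5, 8, 7, 3, 2, 1, 4, 3, 2, 7, 3, 4, 5, 8]), 1001, 0),
    ((0, [1, 2, 3, 4, 5, 6, 7, 3, 2, 1, 4, 3, 2, 5, 4, 8, 7, 3, 2, 1, 4, 3, 2, 5, 7, 8]), 1001, 0),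
    ((0, [1, 2, 3, 4, 5, 6, 7, 3, 2, 1, 4, 3, 2, 5, 7, 8, 7, 3, 2, 1, 4, 3, 5, 7, 8, 9]), 1001, 0),
    ((0, [1, 2, 3, 4, 5, 6, 7, 3, 2, 1, 4, 3, 2, 5, 4, 3, 8, 7, 3, 2, 4, 3, 5, 7, 8, 9]), 1001, 0),
    ((0, [1, 2, 3, 4, 5, 6, 7, 3, 2, 1, 4, 3, 2, 5, 4, 3, 8, 7, 3, 2, 1, 4, 3, 5, 7, 8]), 1001, 0),
    ((0, [1, 2, 3, 4, 5, 6, 7, 3, 2, 1, 4, 3, 5, 4, 8, 7, 3, 2, 1, 4, 3, 2, 7, 3, 8, 9]), 1001, 0),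
    ((0, [1, 2, 3, 4, 5, 6, 7, 3, 2, 1, 4, 3, 5, 4, 8, 7, 3, 2, 1, 4, 3, 2, 5, 7, 3, 8]), 901, 0),
    ((0, [1, 2, 3, 4, 5, 6, 7, 3, 2, 1, 4, 5, 8, 7, 3, 2, 1, 4, 3, 5, 6, 7, 8, 9, 6, 5]), 901, 0),
    ((0, [1, 2, 3, 4, 5, 6, 7, 3, 2, 1, 4, 3, 5, 8, 7, 3, 2, 4, 3, 5, 6, 7, 8, 9, 6, 5]), 1001, 0),
    ((0, [1, 2, 3, 4, 5, 6, 7, 3, 2, 1, 4, 5, 8, 7, 3, 2, 1, 4, 3, 2, 5, 6, 7, 8, 9, 6]), 1001, 0),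
    ((0, [1, 2, 3, 4, 5, 6, 7, 3, 2, 1, 4, 5, 8, 7, 3, 2, 1, 0, 4, 3, 5, 6, 7, 8, 9, 6]), 901, 0),
    ((0, [1, 2, 3, 4, 5, 6, 7, 3, 2, 1, 4, 3, 5, 7, 8, 7, 3, 2, 4, 3, 5, 6, 7, 8, 9, 6]), 1001, 0),
    ((0, [1, 2, 3, 4, 5, 6, 7, 3, 2, 1, 4, 3, 5, 4, 8, 7, 3, 2, 4, 3, 5, 6, 7, 8, 9, 6]), 1001, 0),
    ((0, [1, 2, 3, 4, 5, 6, 7, 3, 2, 1, 4, 3, 5, 8, 7, 3, 2, 1, 4, 3, 5, 6, 7, 8, 9, 6]), 1001, 0),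
    ((0, [1, 2, 3, 4, 5, 6, 7, 3, 2, 1, 4, 5, 8, 7, 3, 2, 4, 3, 5, 6, 7, 8, 9, 6, 5, 4]), 1001, 0),
    ((0, [1, 2, 3, 4, 5, 6, 7, 3, 2, 1, 4, 5, 8, 7, 3, 2, 4, 3, 5, 4, 7, 8, 9, 6, 5, 4]), 1001, 0),
    ((0, [1, 2, 3, 4, 5, 6, 7, 3, 2, 1, 4, 3, 5, 4, 7, 3, 8, 7, 3, 2, 4, 3, 5, 4, 7, 8]), 1001, 0),
    ((0, [1, 2, 3, 4, 5, 6, 7, 3, 2, 1, 4, 5, 8, 7, 3, 2, 1, 4, 3, 5, 4, 6, 7, 8, 9, 6]), 1001, 0),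
    ((0, [1, 2, 3, 4, 5, 6, 7, 3, 2, 1, 4, 5, 8, 7, 3, 2, 1, 4, 3, 5, 4, 7, 8, 9, 6, 5]), 1001, 0),
    ((0, [1, 2, 3, 4, 5, 6, 7, 3, 2, 1, 4, 5, 8, 7, 3, 2, 4, 3, 5, 4, 6, 7, 8, 9, 6, 5]), 1001, 0),
    ((0, [1, 2, 3, 4, 5, 6, 7, 3, 2, 1, 4, 3, 5, 7, 8, 7, 3, 2, 4, 3, 5, 4, 7, 8, 9, 6]), 1001, 0),
    ((0, [1, 2, 3, 4, 5, 6, 7, 3, 2, 1, 4, 3, 5, 4, 8, 7, 3, 2, 4, 3, 5, 4, 7, 8, 9, 6]), 1001, 0),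
    ((0, [1, 2, 3, 4, 5, 6, 7, 3, 2, 1, 4, 5, 8, 7, 3, 2, 1, 4, 3, 2, 5, 7, 3, 4, 5, 8]), 1001, 0),
    ((0, [1, 2, 3, 4, 5, 6, 7, 3, 2, 1, 4, 3, 2, 5, 4, 8, 7, 3, 2, 1, 4, 3, 5, 4, 7, 8]), 1001, 0),
    ((0, [1, 2, 3, 4, 5, 6, 7, 3, 2, 1, 4, 3, 2, 5, 8, 7, 3, 2, 1, 4, 3, 5, 4, 7, 8, 9]), 1001, 0),
    ((0, [1, 2, 3, 4, 5, 6, 7, 3, 2, 1, 4, 3, 5, 8, 7, 3, 2, 4, 3, 5, 4, 6, 7, 8, 9, 6]), 1001, 0),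
    ((0, [1, 2, 3, 4, 5, 6, 7, 3, 2, 1, 4, 3, 5, 8, 7, 3, 2, 4, 3, 5, 4, 7, 8, 9, 6, 5]), 1001, 0),
    ((0, [1, 2, 3, 4, 5, 6, 7, 3, 2, 1, 4, 3, 5, 4, 7, 3, 8, 7, 3, 2, 4, 3, 5, 6, 7, 8]), 901, 0),
    ((0, [1, 2, 3, 4, 5, 6, 7, 3, 2, 1, 4, 3, 5, 4, 7, 8, 7, 3, 2, 1, 4, 3, 5, 6, 7, 8]), 1001, 0),
    ((0, [1, 2, 3, 4, 5, 6, 7, 3, 2, 1, 4, 3, 5, 4, 8, 7, 3, 2, 1, 0, 4, 3, 5, 6, 7, 8]), 901, 0),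
    ((0, [1, 2, 3, 4, 5, 6, 7, 3, 2, 1, 4, 3, 5, 8, 7, 3, 2, 1, 4, 3, 2, 5, 6, 7, 3, 8]), 901, 0),
    ((0, [1, 2, 3, 4, 5, 6, 7, 3, 2, 1, 4, 3, 5, 4, 8, 7, 3, 2, 1, 4, 3, 2, 5, 6, 7, 8]), 1001, 0),
    ((0, [1, 2, 3, 4, 5, 6, 7, 3, 2, 1, 4, 3, 5, 8, 7, 3, 2, 1, 0, 4, 3, 2, 5, 6, 7, 8]), 1001, 0)]

/-- Part 17 of the cycles. -/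
def reps17 : List ((Nat × List Nat) × Nat × Nat) :=
  [
    ((0, [1, 2, 3, 4, 5, 6, 7, 3, 2, 4, 3, 5, 8, 7, 3, 2, 1, 4, 3, 2, 5, 4, 3, 7, 3, 8]), 901, 0),
    ((0, [1, 2, 3, 4, 5, 6, 7, 3, 2, 1, 4, 5, 8, 7, 3, 2, 1, 0, 4, 3, 2, 5, 6, 7, 8, 9]), 901, 0),
    ((0, [1, 2, 3, 4, 5, 6, 7, 3, 2, 1, 4, 5, 8, 7, 3, 2, 1, 4, 3, 2, 5, 6, 7, 3, 8, 9]), 901, 0),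
    ((0, [1, 2, 3, 4, 5, 6, 7, 3, 2, 1, 4, 3, 5, 4, 8, 7, 3, 2, 1, 4, 3, 5, 6, 7, 8, 9]), 1001, 0),
    ((0, [1, 2, 3, 4, 5, 6, 7, 3, 2, 1, 4, 3, 5, 8, 7, 3, 2, 1, 0, 4, 3, 5, 6, 7, 8, 9]), 1001, 0),
    ((0, [1, 2, 3, 4, 5, 6, 7, 3, 2, 1, 4, 3, 5, 7, 8, 7, 3, 2, 1, 4, 3, 5, 6, 7, 8, 9]), 1001, 0),
    ((0, [1, 2, 3, 4, 5, 6, 7, 3, 2, 1, 4, 3, 5, 8, 7, 3, 2, 1, 4, 3, 2, 5, 6, 7, 8, 9]), 1001, 0),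
    ((0, [1, 2, 3, 4, 5, 6, 7, 3, 2, 1, 4, 3, 5, 7, 8, 7, 3, 2, 4, 3, 5, 4, 6, 7, 8, 9]), 1001, 0),
    ((0, [1, 2, 3, 4, 5, 6, 7, 3, 2, 1, 4, 3, 5, 4, 8, 7, 3, 2, 4, 3, 5, 4, 6, 7, 8, 9]), 1001, 0),
    ((0, [1, 2, 3, 4, 5, 6, 7, 3, 2, 1, 4, 5, 8, 7, 3, 2, 4, 3, 5, 7, 8, 9, 6, 5, 4, 3]), 1001, 0),
    ((0, [1, 2, 3, 4, 5, 6, 7, 3, 2, 1, 4, 5, 8, 7, 3, 2, 4, 3, 5, 4, 7, 9, 6, 5, 4, 3]), 1001, 0),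
    ((0, [1, 2, 3, 4, 5, 6, 7, 3, 2, 1, 4, 5, 8, 7, 3, 2, 1, 4, 3, 2, 5, 4, 7, 3, 8, 9]), 901, 0),
    ((0, [1, 2, 3, 4, 5, 6, 7, 3, 2, 1, 4, 5, 8, 7, 3, 2, 1, 4, 3, 2, 5, 4, 6, 7, 3, 8]), 901, 0),
    ((0, [1, 2, 3, 4, 5, 6, 7, 3, 2, 1, 4, 5, 8, 7, 3, 2, 1, 0, 4, 3, 5, 4, 7, 3, 8, 9]), 1001, 0),
    ((0, [1, 2, 3, 4, 5, 6, 7, 3, 2, 1, 4, 5, 8, 7, 3, 2, 1, 4, 3, 5, 4, 7, 3, 9, 6, 5]), 1001, 0),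
    ((0, [1, 2, 3, 4, 5, 6, 7, 3, 2, 1, 4, 5, 8, 7, 3, 2, 4, 3, 5, 4, 7, 3, 8, 9, 6, 5]), 1001, 0),
    ((0, [1, 2, 3, 4, 5, 6, 7, 3, 2, 1, 4, 3, 2, 5, 7, 8, 7, 3, 2, 4, 3, 5, 7, 8, 9, 6]), 1001, 0),
    ((0, [1, 2, 3, 4, 5, 6, 7, 3, 2, 1, 4, 3, 2, 5, 7, 8, 7, 3, 2, 4, 3, 5, 7, 9, 6, 5]), 1001, 0),
    ((0, [1, 2, 3, 4, 5, 6, 7, 3, 2, 1, 4, 3, 2, 5, 8, 7, 3, 2, 1, 4, 3, 2, 7, 3, 8, 9]), 1001, 0),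
    ((0, [1, 2, 3, 4, 5, 6, 7, 3, 2, 1, 4, 3, 2, 5, 8, 7, 3, 2, 1, 4, 3, 2, 5, 7, 3, 9]), 1001, 0),
    ((0, [1, 2, 3, 4, 5, 6, 7, 3, 2, 1, 4, 3, 2, 5, 4, 8, 7, 3, 2, 1, 4, 3, 2, 5, 7, 3]), 1001, 0),
    ((0, [1, 2, 3, 4, 5, 6, 7, 3, 2, 1, 4, 3, 2, 5, 8, 7, 3, 2, 1, 4, 3, 2, 5, 7, 3, 8]), 1001, 0),
    ((0, [1, 2, 3, 4, 5, 6, 7, 3, 2, 1, 4, 3, 5, 4, 8, 7, 3, 2, 1, 0, 4, 3, 2, 7, 3, 8]), 1001, 0),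
    ((0, [1, 2, 3, 4, 5, 6, 7, 3, 2, 4, 3, 5, 4, 8, 7, 3, 2, 1, 4, 3, 2, 5, 4, 3, 7, 8]), 1001, 0),
    ((0, [1, 2, 3, 4, 5, 6, 7, 3, 2, 4, 3, 5, 8, 7, 3, 2, 1, 4, 3, 2, 5, 4, 3, 7, 8, 9]), 1001, 0),
    ((0, [1, 2, 3, 4, 5, 6, 7, 3, 2, 1, 4, 3, 5, 4, 8, 7, 3, 2, 4, 3, 5, 4, 7, 3, 8, 9]), 1001, 0),
    ((0, [1, 2, 3, 4, 5, 6, 7, 3, 2, 1, 4, 3, 2, 5, 4, 8, 7, 3, 2, 4, 3, 5, 4, 7, 3, 8]), 1001, 0),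
    ((0, [1, 2, 3, 4, 5, 6, 7, 3, 2, 1, 4, 3, 5, 4, 8, 7, 3, 2, 4, 3, 5, 4, 6, 7, 3, 8]), 1001, 0),
    ((0, [1, 2, 3, 4, 5, 6, 7, 3, 2, 1, 4, 3, 2, 5, 8, 7, 3, 2, 4, 3, 5, 4, 7, 3, 8, 9]), 1001, 0),
    ((0, [1, 2, 3, 4, 5, 6, 7, 3, 2, 1, 4, 3, 5, 8, 7, 3, 2, 4, 3, 5, 4, 7, 3, 9, 6, 5]), 1001, 0),
    ((0, [1, 2, 3, 4, 5, 6, 7, 3, 2, 1, 4, 3, 2, 5, 8, 7, 3, 2, 1, 4, 3, 2, 5, 4, 7, 3]), 1001, 0),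
    ((0, [1, 2, 3, 4, 5, 6, 7, 3, 2, 1, 4, 3, 5, 8, 7, 3, 2, 1, 4, 3, 2, 5, 4, 7, 3, 8]), 901, 0),
    ((0, [1, 2, 3, 4, 5, 6, 7, 3, 2, 1, 4, 3, 5, 4, 8, 7, 3, 2, 1, 0, 4, 3, 5, 4, 6, 5]), 1001, 0),
    ((0, [1, 2, 3, 4, 5, 6, 7, 3, 2, 4, 5, 8, 7, 3, 2, 1, 4, 3, 2, 5, 6, 7, 3, 4, 5, 9]), 1001, 0),
    ((0, [1, 2, 3, 4, 5, 6, 7, 3, 2, 1, 4, 3, 2, 5, 8, 7, 3, 2, 4, 3, 5, 4, 6, 7, 8, 9]), 1001, 0),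
    ((0, [1, 2, 3, 4, 5, 6, 7, 3, 2, 1, 4, 3, 2, 5, 8, 7, 3, 2, 1, 0, 4, 3, 2, 5, 4, 9]), 901, 0),
    ((0, [1, 2, 3, 4, 5, 6, 7, 3, 2, 1, 4, 3, 2, 5, 7, 8, 7, 3, 2, 1, 0, 4, 3, 9, 6, 5]), 1001, 0),
    ((0, [1, 2, 3, 4, 5, 6, 7, 3, 2, 1, 4, 3, 2, 5, 7, 3, 8, 7, 3, 2, 1, 0, 4, 9, 6, 5]), 1001, 0),
    ((0, [1, 2, 3, 4, 5, 6, 7, 3, 2, 1, 4, 3, 2, 5, 8, 7, 3, 2, 1, 0, 4, 3, 2, 9, 6, 5]), 1001, 0),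
    ((0, [1, 2, 3, 4, 5, 6, 7, 3, 2, 1, 4, 3, 2, 5, 8, 7, 3, 2, 1, 0, 4, 3, 7, 9, 6, 5]), 1001, 0),
    ((0, [1, 2, 3, 4, 5, 6, 7, 3, 2, 1, 4, 3, 2, 5, 8, 7, 3, 2, 1, 0, 4, 3, 5, 7, 8, 9]), 1001, 0),
    ((0, [1, 2, 3, 4, 5, 6, 7, 3, 2, 1, 4, 3, 5, 7, 8, 7, 3, 2, 1, 0, 4, 3, 7, 8, 9, 6]), 1001, 0),
    ((0, [1, 2, 3, 4, 5, 6, 7, 3, 2, 1, 4, 3, 5, 7, 8, 7, 3, 2, 1, 0, 4, 3, 7, 9, 6, 5]), 901, 0),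
    ((0, [1, 2, 3, 4, 5, 6, 7, 3, 2, 1, 4, 3, 2, 5, 8, 7, 3, 2, 1, 0, 4, 3, 5, 4, 7, 8]), 901, 0),
    ((0, [1, 2, 3, 4, 5, 6, 7, 3, 2, 1, 4, 3, 5, 7, 8, 7, 3, 2, 1, 0, 4, 3, 5, 7, 8, 9]), 1001, 0),
    ((0, [1, 2, 3, 4, 5, 6, 7, 3, 2, 1, 4, 3, 5, 8, 7, 3, 2, 1, 0, 4, 3, 5, 4, 9, 6, 5]), 1001, 0),
    ((0, [1, 2, 3, 4, 5, 6, 7, 3, 2, 1, 4, 3, 7, 8, 7, 3, 2, 1, 0, 4, 3, 5, 4, 9, 6, 5]), 1001, 0),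
    ((0, [1, 2, 3, 4, 5, 6, 7, 3, 2, 4, 3, 8, 7, 3, 2, 1, 4, 3, 2, 5, 4, 3, 7, 9, 6, 5]), 901, 0),
    ((0, [1, 2, 3, 4, 5, 6, 7, 3, 2, 4, 3, 8, 7, 3, 2, 1, 4, 3, 2, 5, 4, 3, 7, 8, 9, 6]), 1001, 0),
    ((0, [1, 2, 3, 4, 5, 6, 7, 3, 2, 1, 4, 3, 8, 7, 3, 2, 1, 4, 3, 2, 5, 4, 3, 9, 6, 5]), 1001, 0),
    ((0, [1, 2, 3, 4, 5, 6, 7, 3, 2, 1, 4, 3, 7, 8, 7, 3, 2, 1, 4, 3, 2, 5, 4, 9, 6, 5]), 1001, 0),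
    ((0, [1, 2, 3, 4, 5, 6, 7, 3, 2, 1, 4, 3, 2, 8, 7, 3, 2, 1, 4, 3, 2, 5, 4, 3, 7, 8]), 1001, 0),
    ((0, [1, 2, 3, 4, 5, 6, 7, 3, 2, 1, 4, 3, 2, 5, 8, 7, 3, 2, 1, 0, 4, 3, 5, 4, 6, 7]), 801, 0),
    ((0, [1, 2, 3, 4, 5, 6, 7, 3, 2, 1, 4, 3, 7, 8, 7, 3, 2, 1, 4, 3, 5, 4, 7, 9, 6, 5]), 1001, 0),
    ((0, [1, 2, 3, 4, 5, 6, 7, 3, 2, 1, 4, 3, 2, 8, 7, 3, 2, 4, 3, 5, 4, 6, 5, 9, 6, 5]), 1001, 0),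
    ((0, [1, 2, 3, 4, 5, 6, 7, 3, 2, 1, 4, 3, 5, 8, 7, 3, 2, 4, 3, 5, 4, 6, 5, 9, 6, 5]), 1001, 0),
    ((0, [1, 2, 3, 4, 5, 6, 7, 3, 2, 1, 4, 3, 8, 7, 3, 2, 1, 0, 4, 3, 5, 4, 7, 9, 6, 5]), 1001, 0),
    ((0, [1, 2, 3, 4, 5, 6, 7, 3, 2, 1, 4, 3, 8, 7, 3, 2, 1, 4, 3, 5, 4, 7, 3, 9, 6, 5]), 1001, 0),
    ((0, [1, 2, 3, 4, 5, 6, 7, 3, 2, 1, 4, 3, 2, 7, 8, 7, 3, 2, 1, 4, 3, 5, 4, 9, 6, 5]), 1001, 0),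
    ((0, [1, 2, 3, 4, 5, 6, 7, 3, 2, 1, 4, 3, 2, 5, 7, 8, 7, 3, 2, 4, 3, 5, 4, 9, 6, 5]), 1001, 0),
    ((0, [1, 2, 3, 4, 5, 6, 7, 3, 2, 1, 4, 3, 2, 5, 4, 7, 8, 7, 3, 2, 1, 4, 5, 9, 6, 5]), 1001, 0),
    ((0, [1, 2, 3, 4, 5, 6, 7, 3, 2, 1, 4, 3, 2, 5, 4, 3, 8, 7, 3, 2, 1, 4, 5, 9, 6, 5]), 1001, 0),
    ((0, [1, 2, 3, 4, 5, 6, 7, 3, 2, 1, 4, 3, 2, 5, 4, 7, 8, 7, 3, 2, 4, 3, 5, 9, 6, 5]), 1001, 0),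
    ((0, [1, 2, 3, 4, 5, 6, 7, 3, 2, 1, 4, 3, 2, 5, 4, 8, 7, 3, 2, 1, 4, 3, 5, 9, 6, 5]), 1001, 0),
    ((0, [1, 2, 3, 4, 5, 6, 7, 3, 2, 1, 4, 3, 2, 5, 4, 3, 8, 7, 3, 2, 1, 4, 3, 5, 9, 6]), 1001, 0),
    ((0, [1, 2, 3, 4, 5, 6, 7, 3, 2, 1, 4, 3, 2, 5, 4, 3, 8, 7, 3, 2, 1, 0, 4, 5, 9, 6]), 1001, 0),
    ((0, [1, 2, 3, 4, 5, 6, 7, 3, 2, 4, 5, 8, 7, 3, 2, 1, 4, 3, 2, 7, 3, 4, 5, 9, 6, 5]), 1001, 0),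
    ((0, [1, 2, 3, 4, 5, 6, 7, 3, 2, 1, 4, 3, 2, 5, 4, 8, 7, 3, 2, 1, 0, 4, 3, 5, 9, 6]), 1001, 0),
    ((0, [1, 2, 3, 4, 5, 6, 7, 3, 2, 1, 4, 5, 8, 7, 3, 2, 1, 4, 3, 2, 7, 3, 4, 5, 9, 6]), 1001, 0),
    ((0, [1, 2, 3, 4, 5, 6, 7, 3, 2, 1, 4, 3, 2, 5, 4, 8, 7, 3, 2, 1, 4, 3, 5, 7, 9, 6]), 1001, 0),
    ((0, [1, 2, 3, 4, 5, 6, 7, 3, 2, 1, 4, 3, 2, 5, 4, 8, 7, 3, 2, 1, 4, 3, 2, 5, 9, 6]), 1001, 0),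
    ((0, [1, 2, 3, 4, 5, 6, 7, 3, 2, 4, 3, 5, 8, 7, 3, 2, 1, 4, 3, 2, 7, 3, 4, 5, 9, 6]), 1001, 0),
    ((0, [1, 2, 3, 4, 5, 6, 7, 3, 2, 1, 4, 3, 2, 5, 7, 8, 7, 3, 2, 1, 4, 3, 5, 9, 6, 5]), 1001, 0),
    ((0, [1, 2, 3, 4, 5, 6, 7, 3, 2, 1, 4, 3, 2, 5, 8, 7, 3, 2, 1, 4, 3, 5, 7, 9, 6, 5]), 1001, 0),
    ((0, [1, 2, 3, 4, 5, 6, 7, 3, 2, 1, 4, 3, 2, 5, 8, 7, 3, 2, 1, 4, 3, 2, 5, 9, 6, 5]), 1001, 0),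
    ((0, [1, 2, 3, 4, 5, 6, 7, 3, 2, 1, 4, 3, 2, 5, 8, 7, 3, 2, 4, 3, 5, 7, 8, 9, 6, 5]), 1001, 0),
    ((0, [1, 2, 3, 4, 5, 6, 7, 3, 2, 1, 4, 3, 2, 5, 8, 7, 3, 2, 4, 3, 5, 4, 7, 8, 9, 6]), 1001, 0),
    ((0, [1, 2, 3, 4, 5, 6, 7, 3, 2, 1, 4, 3, 2, 5, 8, 7, 3, 2, 1, 4, 3, 5, 7, 8, 9, 6]), 1001, 0),
    ((0, [1, 2, 3, 4, 5, 6, 7, 3, 2, 1, 4, 3, 2, 5, 4, 8, 7, 3, 2, 4, 3, 5, 4, 9, 6, 5]), 1001, 0),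
    ((0, [1, 2, 3, 4, 5, 6, 7, 3, 2, 1, 4, 3, 2, 5, 8, 7, 3, 2, 4, 3, 5, 4, 7, 9, 6, 5]), 1001, 0),
    ((0, [1, 2, 3, 4, 5, 6, 7, 3, 2, 1, 4, 3, 2, 5, 8, 7, 3, 2, 1, 4, 3, 5, 4, 9, 6, 5]), 1001, 0),
    ((0, [1, 2, 3, 4, 5, 6, 7, 3, 2, 1, 4, 3, 2, 5, 8, 7, 3, 2, 4, 3, 5, 4, 9, 6, 5, 4]), 1001, 0),
    ((0, [1, 2, 3, 4, 5, 6, 7, 3, 2, 1, 4, 3, 2, 5, 7, 8, 7, 3, 2, 1, 0, 4, 5, 9, 6, 5]), 1001, 0),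
    ((0, [1, 2, 3, 4, 5, 6, 7, 3, 2, 1, 4, 3, 2, 5, 8, 7, 3, 2, 1, 0, 4, 3, 5, 9, 6, 5]), 1001, 0),
    ((0, [1, 2, 3, 4, 5, 6, 7, 3, 2, 1, 4, 3, 2, 5, 8, 7, 3, 2, 1, 0, 4, 3, 5, 7, 9, 6]), 1001, 0),
    ((0, [1, 2, 3, 4, 5, 6, 7, 3, 2, 1, 4, 3, 2, 5, 8, 7, 3, 2, 1, 0, 4, 3, 2, 5, 9, 6]), 1001, 0),
    ((0, [1, 2, 3, 4, 5, 6, 7, 3, 2, 1, 4, 3, 2, 8, 7, 3, 2, 1, 0, 4, 3, 5, 4, 9, 6, 5]), 1001, 0),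
    ((0, [1, 2, 3, 4, 5, 6, 7, 3, 2, 1, 4, 3, 2, 8, 7, 3, 2, 1, 4, 3, 5, 4, 7, 9, 6, 5]), 1001, 0),
    ((0, [1, 2, 3, 4, 5, 6, 7, 3, 2, 1, 4, 3, 2, 8, 7, 3, 2, 4, 3, 5, 4, 7, 3, 9, 6, 5]), 1001, 0),
    ((0, [1, 2, 3, 4, 5, 6, 7, 3, 2, 1, 4, 3, 2, 8, 7, 3, 2, 1, 4, 3, 2, 5, 4, 9, 6, 5]), 1001, 0),
    ((0, [1, 2, 3, 4, 5, 6, 7, 3, 2, 1, 4, 3, 2, 8, 7, 3, 2, 1, 4, 3, 5, 4, 6, 9, 6, 5]), 1001, 0),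
    ((0, [1, 2, 3, 4, 5, 6, 7, 3, 2, 1, 4, 3, 5, 8, 7, 3, 2, 4, 3, 5, 4, 7, 3, 2, 1, 0]), 1001, 0),
    ((0, [1, 2, 3, 4, 5, 6, 7, 3, 2, 1, 4, 5, 8, 7, 3, 2, 1, 4, 3, 2, 7, 3, 4, 5, 6, 8]), 1001, 0),
    ((0, [1, 2, 3, 4, 5, 6, 7, 3, 2, 1, 4, 3, 2, 5, 4, 8, 7, 3, 2, 1, 4, 3, 5, 6, 7, 8]), 1001, 0),
    ((0, [1, 2, 3, 4, 5, 6, 7, 3, 2, 1, 4, 5, 8, 7, 3, 2, 1, 4, 3, 5, 4, 7, 3, 2, 1, 8]), 1001, 0),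
    ((0, [1, 2, 3, 4, 5, 6, 7, 3, 2, 1, 4, 3, 2, 5, 4, 3, 8, 7, 3, 2, 4, 3, 5, 6, 7, 8]), 1001, 0),
    ((0, [1, 2, 3, 4, 5, 6, 7, 3, 2, 1, 4, 3, 5, 4, 8, 7, 3, 2, 4, 3, 5, 4, 7, 3, 2, 8]), 1001, 0),
    ((0, [1, 2, 3, 4, 5, 6, 7, 3, 2, 1, 4, 8, 7, 3, 2, 1, 0, 4, 3, 5, 4, 7, 3, 2, 1, 0]), 1001, 0),
    ((0, [1, 2, 3, 4, 5, 6, 7, 3, 2, 1, 4, 5, 8, 7, 3, 2, 1, 4, 3, 2, 5, 4, 7, 3, 2, 8]), 901, 0),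
    ((0, [1, 2, 3, 4, 5, 6, 7, 3, 2, 1, 4, 3, 2, 5, 8, 7, 3, 2, 1, 0, 4, 3, 5, 6, 7, 8]), 1001, 0),
    ((0, [1, 2, 3, 4, 5, 6, 7, 3, 2, 1, 4, 3, 2, 5, 4, 3, 8, 7, 3, 2, 1, 4, 3, 5, 6, 9]), 1001, 0),
    ((0, [1, 2, 3, 4, 5, 6, 7, 3, 2, 1, 4, 8, 7, 3, 2, 1, 0, 4, 3, 5, 4, 7, 3, 9, 6, 5]), 1001, 0),
    ((0, [1, 2, 3, 4, 5, 6, 7, 3, 2, 1, 4, 3, 2, 5, 4, 8, 7, 3, 2, 1, 4, 5, 6, 9, 6, 5]), 1001, 0),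
    ((0, [1, 2, 3, 4, 5, 6, 7, 3, 2, 1, 4, 3, 2, 5, 4, 8, 7, 3, 2, 4, 3, 5, 6, 9, 6, 5]), 1001, 0),
    ((0, [1, 2, 3, 4, 5, 6, 7, 3, 2, 1, 8, 7, 3, 2, 4, 3, 5, 4, 7, 3, 2, 1, 0, 9, 6, 5]), 1001, 0),
    ((0, [1, 2, 3, 4, 5, 6, 7, 3, 2, 1, 4, 8, 7, 3, 2, 4, 3, 5, 4, 7, 3, 2, 1, 9, 6, 5]), 1001, 0),
    ((0, [1, 2, 3, 4, 5, 6, 7, 3, 2, 1, 4, 3, 2, 8, 7, 3, 2, 4, 3, 5, 4, 6, 7, 9, 6, 5]), 1001, 0),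
    ((0, [1, 2, 3, 4, 5, 6, 7, 3, 2, 1, 4, 3, 2, 5, 8, 7, 3, 2, 4, 3, 5, 4, 6, 9, 6, 5]), 1001, 0),
    ((0, [1, 2, 3, 4, 5, 6, 7, 3, 2, 1, 4, 3, 8, 7, 3, 2, 4, 3, 5, 4, 7, 3, 2, 9, 6, 5]), 1001, 0),
    ((0, [1, 2, 3, 4, 5, 6, 7, 3, 2, 1, 4, 3, 2, 5, 8, 7, 3, 2, 4, 3, 5, 6, 7, 9, 6, 5]), 1001, 0),
    ((0, [1, 2, 3, 4, 5, 6, 7, 3, 2, 1, 4, 5, 8, 7, 3, 2, 1, 4, 3, 2, 5, 4, 7, 3, 8, 7]), 901, 0),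
    ((0, [1, 2, 3, 4, 5, 6, 7, 3, 2, 1, 4, 5, 8, 7, 3, 2, 4, 3, 7, 8, 9, 6, 5, 4, 3, 7]), 1001, 0),
    ((0, [1, 2, 3, 4, 5, 6, 7, 3, 2, 1, 4, 5, 8, 7, 3, 2, 4, 3, 7, 8, 9, 6, 5, 4, 3, 2]), 1001, 0),
    ((0, [1, 2, 3, 4, 5, 6, 7, 3, 2, 1, 4, 3, 2, 5, 4, 8, 7, 3, 2, 4, 3, 5, 4, 6, 9, 6]), 1001, 0),
    ((0, [1, 2, 3, 4, 5, 6, 7, 3, 2, 1, 4, 5, 8, 7, 3, 2, 1, 4, 3, 5, 4, 7, 3, 2, 8, 9]), 1001, 0),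
    ((0, [1, 2, 3, 4, 5, 6, 7, 3, 2, 1, 4, 3, 2, 5, 8, 7, 3, 2, 1, 4, 3, 5, 6, 7, 8, 9]), 1001, 0),
    ((0, [1, 2, 3, 4, 5, 6, 7, 3, 2, 1, 4, 3, 2, 5, 8, 7, 3, 2, 4, 3, 5, 6, 7, 8, 9, 6]), 1001, 0),
    ((0, [1, 2, 3, 4, 5, 6, 7, 3, 2, 1, 4, 5, 8, 7, 3, 2, 4, 3, 5, 4, 7, 3, 2, 8, 9, 6]), 1001, 0),
    ((0, [1, 2, 3, 4, 5, 6, 7, 3, 2, 1, 4, 3, 5, 8, 7, 3, 2, 4, 3, 5, 4, 7, 3, 2, 8, 9]), 1001, 0),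
    ((0, [1, 2, 3, 4, 5, 6, 7, 3, 2, 1, 4, 3, 2, 5, 8, 7, 3, 2, 1, 4, 3, 5, 6, 7, 9, 6]), 1001, 0)]

/-- Part 18 of the cycles. -/
def reps18 : List ((Nat × List Nat) × Nat × Nat) :=
  [
    ((0, [1, 2, 3, 4, 5, 6, 7, 3, 2, 1, 4, 3, 2, 5, 8, 7, 3, 2, 1, 4, 3, 2, 5, 6, 9, 6]), 1001, 0),
    ((0, [1, 2, 3, 4, 5, 6, 7, 3, 2, 1, 4, 3, 2, 5, 8, 7, 3, 2, 1, 0, 4, 5, 6, 9, 6, 5]), 1001, 0),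
    ((0, [1, 2, 3, 4, 5, 6, 7, 3, 2, 1, 4, 3, 2, 5, 8, 7, 3, 2, 1, 4, 3, 5, 6, 9, 6, 5]), 1001, 0),
    ((0, [1, 2, 3, 4, 5, 6, 7, 3, 2, 1, 4, 3, 2, 5, 4, 3, 8, 7, 3, 2, 4, 3, 5, 6, 9, 6]), 1001, 0),
    ((0, [1, 2, 3, 4, 5, 6, 7, 3, 2, 1, 4, 3, 2, 5, 4, 8, 7, 3, 2, 1, 0, 4, 5, 6, 9, 6]), 1001, 0),
    ((0, [1, 2, 3, 4, 5, 6, 7, 3, 2, 1, 4, 3, 2, 5, 4, 8, 7, 3, 2, 1, 0, 4, 3, 5, 6, 9]), 1001, 0),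
    ((0, [1, 2, 3, 4, 5, 6, 7, 3, 2, 1, 4, 8, 7, 3, 2, 4, 3, 5, 4, 7, 3, 2, 1, 0, 9, 6]), 1001, 0),
    ((0, [1, 2, 3, 4, 5, 6, 7, 3, 2, 1, 4, 8, 7, 3, 2, 1, 4, 3, 5, 4, 7, 3, 2, 1, 0, 9]), 1001, 0),
    ((0, [1, 2, 3, 4, 5, 6, 7, 3, 2, 1, 4, 5, 8, 7, 3, 2, 1, 4, 3, 2, 7, 3, 4, 5, 6, 9]), 1001, 0),
    ((0, [1, 2, 3, 4, 5, 6, 7, 3, 2, 1, 4, 5, 8, 7, 3, 2, 4, 3, 5, 4, 7, 3, 2, 1, 8, 9]), 1001, 0),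
    ((0, [1, 2, 3, 4, 5, 6, 7, 3, 2, 1, 4, 3, 5, 4, 7, 3, 8, 7, 3, 2, 4, 9, 6, 5, 4, 3, 2]), 1001, 0),
    ((0, [1, 2, 3, 4, 5, 6, 7, 3, 2, 1, 4, 3, 5, 4, 7, 8, 7, 3, 2, 1, 4, 9, 6, 5, 4, 3, 2]), 1001, 0),
    ((0, [1, 2, 3, 4, 5, 6, 7, 3, 2, 1, 4, 3, 2, 5, 4, 8, 7, 3, 2, 1, 4, 9, 6, 5, 4, 3, 7]), 1001, 0),
    ((0, [1, 2, 3, 4, 5, 6, 7, 3, 2, 4, 5, 8, 7, 3, 2, 1, 4, 3, 2, 5, 7, 9, 6, 5, 4, 3, 2]), 1001, 0),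
    ((0, [1, 2, 3, 4, 5, 6, 7, 3, 2, 1, 4, 3, 5, 4, 8, 7, 3, 2, 1, 4, 5, 9, 6, 5, 4, 3, 2]), 1001, 0),
    ((0, [1, 2, 3, 4, 5, 6, 7, 3, 2, 1, 4, 3, 5, 4, 7, 8, 7, 3, 2, 1, 4, 9, 6, 5, 4, 3, 7]), 1001, 0),
    ((0, [1, 2, 3, 4, 5, 6, 7, 3, 2, 4, 5, 8, 7, 3, 2, 1, 4, 3, 2, 5, 7, 9, 6, 5, 4, 3, 7]), 1001, 0),
    ((0, [1, 2, 3, 4, 5, 6, 7, 3, 2, 1, 4, 3, 5, 4, 7, 8, 7, 3, 2, 1, 4, 3, 2, 5, 9, 6, 5]), 1001, 0),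
    ((0, [1, 2, 3, 4, 5, 6, 7, 3, 2, 1, 4, 3, 5, 4, 8, 7, 3, 2, 1, 4, 5, 9, 6, 5, 4, 3, 7]), 1001, 0),
    ((0, [1, 2, 3, 4, 5, 6, 7, 3, 2, 1, 4, 3, 2, 5, 4, 8, 7, 3, 2, 1, 4, 9, 6, 5, 4, 3, 2]), 1001, 0),
    ((0, [1, 2, 3, 4, 5, 6, 7, 3, 2, 1, 4, 3, 5, 4, 7, 8, 7, 3, 2, 1, 4, 3, 5, 7, 9, 6, 5]), 1001, 0),
    ((0, [1, 2, 3, 4, 5, 6, 7, 3, 2, 1, 4, 3, 2, 5, 4, 3, 8, 7, 3, 2, 1, 0, 4, 9, 6, 5, 4]), 901, 0),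
    ((0, [1, 2, 3, 4, 5, 6, 7, 3, 4, 5, 8, 7, 3, 2, 1, 4, 3, 2, 7, 3, 4, 9, 6, 5, 4, 3, 7]), 1001, 0),
    ((0, [1, 2, 3, 4, 5, 6, 7, 3, 2, 1, 4, 3, 5, 4, 8, 7, 3, 2, 1, 4, 9, 6, 5, 4, 3, 7, 8]), 1001, 0),
    ((0, [1, 2, 3, 4, 5, 6, 7, 3, 2, 1, 4, 3, 2, 5, 4, 7, 8, 7, 3, 2, 1, 4, 3, 7, 9, 6, 5]), 1001, 0),
    ((0, [1, 2, 3, 4, 5, 6, 7, 3, 2, 1, 4, 5, 8, 7, 3, 2, 1, 4, 3, 2, 7, 3, 4, 9, 6, 5, 4]), 901, 0),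
    ((0, [1, 2, 3, 4, 5, 6, 7, 3, 2, 1, 4, 3, 2, 5, 4, 7, 8, 7, 3, 2, 1, 4, 3, 2, 9, 6, 5]), 1001, 0),
    ((0, [1, 2, 3, 4, 5, 6, 7, 3, 2, 1, 4, 3, 2, 5, 7, 3, 8, 7, 3, 2, 1, 4, 3, 7, 9, 6, 5]), 1001, 0),
    ((0, [1, 2, 3, 4, 5, 6, 7, 3, 2, 1, 4, 3, 5, 7, 8, 7, 3, 2, 1, 0, 4, 3, 2, 5, 9, 6, 5]), 901, 0),
    ((0, [1, 2, 3, 4, 5, 6, 7, 3, 2, 1, 4, 3, 5, 8, 7, 3, 2, 1, 0, 4, 3, 2, 1, 5, 9, 6, 5]), 901, 0),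
    ((0, [1, 2, 3, 4, 5, 6, 7, 3, 2, 1, 4, 3, 5, 7, 8, 7, 3, 2, 1, 0, 4, 3, 2, 1, 9, 6, 5]), 901, 0),
    ((0, [1, 2, 3, 4, 5, 6, 7, 3, 2, 4, 5, 8, 7, 3, 2, 1, 0, 4, 3, 2, 5, 6, 9, 6, 5, 4, 3]), 1001, 0),
    ((0, [1, 2, 3, 4, 5, 6, 7, 3, 2, 1, 4, 3, 5, 4, 7, 3, 8, 7, 3, 2, 4, 3, 5, 6, 9, 6, 5]), 1001, 0),
    ((0, [1, 2, 3, 4, 5, 6, 7, 3, 2, 1, 4, 3, 5, 4, 7, 8, 7, 3, 2, 4, 5, 6, 9, 6, 5, 4, 3]), 1001, 0),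
    ((0, [1, 2, 3, 4, 5, 6, 7, 3, 2, 1, 4, 3, 5, 4, 7, 8, 7, 3, 2, 1, 4, 3, 5, 6, 9, 6, 5]), 1001, 0),
    ((0, [1, 2, 3, 4, 5, 6, 7, 3, 2, 4, 5, 8, 7, 3, 2, 1, 4, 3, 2, 5, 6, 7, 9, 6, 5, 4, 3]), 1001, 0),
    ((0, [1, 2, 3, 4, 5, 6, 7, 3, 2, 4, 5, 8, 7, 3, 2, 4, 3, 5, 6, 7, 8, 9, 6, 5, 4, 3, 2]), 1001, 0),
    ((0, [1, 2, 3, 4, 5, 6, 7, 3, 2, 4, 3, 5, 4, 8, 7, 3, 2, 1, 4, 5, 6, 9, 6, 5, 4, 3, 2]), 1001, 0),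
    ((0, [1, 2, 3, 4, 5, 6, 7, 3, 2, 4, 3, 5, 4, 8, 7, 3, 2, 1, 4, 5, 6, 9, 6, 5, 4, 3, 7]), 1001, 0),
    ((0, [1, 2, 3, 4, 5, 6, 7, 3, 2, 4, 5, 8, 7, 3, 2, 4, 3, 5, 6, 7, 8, 9, 6, 5, 4, 3, 7]), 1001, 0),
    ((0, [1, 2, 3, 4, 5, 6, 7, 3, 2, 1, 4, 3, 5, 4, 8, 7, 3, 2, 1, 4, 3, 2, 5, 6, 9, 6, 5]), 1001, 0),
    ((0, [1, 2, 3, 4, 5, 6, 7, 3, 2, 4, 3, 5, 8, 7, 3, 2, 1, 4, 3, 2, 5, 6, 7, 3, 9, 6, 5]), 1001, 0),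
    ((0, [1, 2, 3, 4, 5, 6, 7, 3, 2, 1, 4, 5, 8, 7, 3, 2, 1, 4, 3, 2, 5, 6, 7, 3, 9, 6, 5]), 1001, 0),
    ((0, [1, 2, 3, 4, 5, 6, 7, 3, 2, 1, 4, 3, 5, 4, 8, 7, 3, 2, 1, 4, 3, 5, 6, 7, 9, 6, 5]), 1001, 0),
    ((0, [1, 2, 3, 4, 5, 6, 7, 3, 2, 1, 4, 3, 5, 8, 7, 3, 2, 1, 0, 4, 3, 2, 5, 6, 9, 6, 5]), 901, 0),
    ((0, [1, 2, 3, 4, 5, 6, 7, 3, 2, 1, 4, 3, 5, 8, 7, 3, 2, 1, 0, 4, 3, 5, 6, 7, 9, 6, 5]), 901, 0),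
    ((0, [1, 2, 3, 4, 5, 6, 7, 3, 2, 1, 4, 3, 5, 7, 8, 7, 3, 2, 1, 4, 3, 2, 5, 6, 9, 6, 5]), 1001, 0),
    ((0, [1, 2, 3, 4, 5, 6, 7, 3, 2, 1, 4, 3, 5, 7, 8, 7, 3, 2, 1, 4, 3, 5, 6, 7, 9, 6, 5]), 1001, 0),
    ((0, [1, 2, 3, 4, 5, 6, 7, 3, 2, 4, 3, 5, 4, 8, 7, 3, 2, 1, 4, 3, 2, 5, 4, 3, 9, 6, 5]), 901, 0),
    ((0, [1, 2, 3, 4, 5, 6, 7, 3, 2, 1, 4, 3, 2, 5, 4, 8, 7, 3, 2, 4, 9, 6, 5, 4, 3, 7, 8]), 1001, 0),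
    ((0, [1, 2, 3, 4, 5, 6, 7, 3, 2, 1, 4, 3, 2, 5, 4, 8, 7, 3, 2, 4, 5, 6, 9, 6, 5, 4, 3]), 1001, 0),
    ((0, [1, 2, 3, 4, 5, 6, 7, 3, 2, 1, 4, 3, 5, 4, 7, 8, 7, 3, 2, 4, 9, 6, 5, 4, 3, 7, 8]), 1001, 0),
    ((0, [1, 2, 3, 4, 5, 6, 7, 3, 2, 1, 4, 3, 5, 4, 8, 7, 3, 2, 4, 3, 9, 6, 5, 4, 3, 7, 8]), 1001, 0),
    ((0, [1, 2, 3, 4, 5, 6, 7, 3, 2, 1, 4, 3, 2, 5, 4, 3, 8, 7, 3, 4, 9, 6, 5, 4, 3, 2, 1]), 1001, 0),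
    ((0, [1, 2, 3, 4, 5, 6, 7, 3, 2, 4, 3, 5, 8, 7, 3, 2, 1, 4, 3, 2, 7, 9, 6, 5, 4, 3, 2]), 1001, 0),
    ((0, [1, 2, 3, 4, 5, 6, 7, 3, 2, 4, 3, 5, 8, 7, 3, 2, 1, 4, 3, 2, 5, 7, 9, 6, 5, 4, 3]), 1001, 0),
    ((0, [1, 2, 3, 4, 5, 6, 7, 3, 2, 4, 3, 5, 8, 7, 3, 2, 1, 4, 3, 2, 5, 4, 9, 6, 5, 4, 3]), 901, 0),
    ((0, [1, 2, 3, 4, 5, 6, 7, 3, 2, 4, 3, 5, 8, 7, 3, 2, 1, 0, 4, 3, 2, 5, 9, 6, 5, 4, 3]), 901, 0),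
    ((0, [1, 2, 3, 4, 5, 6, 7, 3, 2, 1, 4, 3, 2, 5, 4, 8, 7, 3, 2, 1, 0, 4, 5, 9, 6, 5, 4]), 901, 0),
    ((0, [1, 2, 3, 4, 5, 6, 7, 3, 2, 1, 4, 3, 2, 5, 4, 8, 7, 3, 2, 1, 4, 5, 6, 9, 6, 5, 4]), 1001, 0),
    ((0, [1, 2, 3, 4, 5, 6, 7, 3, 2, 4, 5, 8, 7, 3, 2, 1, 0, 4, 3, 2, 9, 6, 5, 4, 3, 7, 8]), 1001, 0),
    ((0, [1, 2, 3, 4, 5, 6, 7, 3, 2, 4, 5, 8, 7, 3, 2, 1, 4, 3, 2, 5, 9, 6, 5, 4, 3, 7, 8]), 901, 0),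
    ((0, [1, 2, 3, 4, 5, 6, 7, 3, 2, 1, 4, 3, 5, 4, 8, 7, 3, 2, 4, 5, 9, 6, 5, 4, 3, 7, 8]), 1001, 0),
    ((0, [1, 2, 3, 4, 5, 6, 7, 3, 4, 5, 8, 7, 3, 2, 1, 4, 3, 2, 7, 3, 4, 5, 9, 6, 5, 4, 3]), 1001, 0),
    ((0, [1, 2, 3, 4, 5, 6, 7, 3, 2, 1, 4, 3, 2, 5, 4, 7, 8, 7, 3, 2, 4, 5, 9, 6, 5, 4, 3]), 1001, 0),
    ((0, [1, 2, 3, 4, 5, 6, 7, 3, 2, 1, 4, 3, 2, 5, 4, 7, 8, 7, 3, 2, 1, 4, 5, 9, 6, 5, 4]), 1001, 0),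
    ((0, [1, 2, 3, 4, 5, 6, 7, 3, 2, 1, 8, 7, 3, 2, 4, 3, 5, 4, 7, 3, 2, 1, 0, 9, 6, 5, 4]), 901, 0),
    ((0, [1, 2, 3, 4, 5, 6, 7, 3, 2, 1, 4, 5, 8, 7, 3, 2, 1, 0, 4, 3, 2, 5, 4, 9, 6, 5, 4]), 1001, 0),
    ((0, [1, 2, 3, 4, 5, 6, 7, 3, 2, 1, 4, 3, 5, 4, 7, 3, 8, 7, 3, 2, 4, 3, 5, 4, 9, 6, 5]), 1001, 0),
    ((0, [1, 2, 3, 4, 5, 6, 7, 3, 2, 1, 4, 5, 8, 7, 3, 2, 1, 0, 4, 3, 2, 5, 4, 6, 9, 6, 5]), 1001, 0),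
    ((0, [1, 2, 3, 4, 5, 6, 7, 3, 2, 1, 4, 5, 8, 7, 3, 2, 1, 0, 4, 3, 5, 4, 7, 9, 6, 5, 4]), 1001, 0),
    ((0, [1, 2, 3, 4, 5, 6, 7, 3, 2, 1, 4, 5, 8, 7, 3, 2, 1, 0, 4, 3, 5, 4, 6, 7, 9, 6, 5]), 1001, 0),
    ((0, [1, 2, 3, 4, 5, 6, 7, 3, 2, 4, 3, 5, 4, 8, 7, 3, 2, 1, 4, 3, 2, 7, 3, 4, 9, 6, 5]), 1001, 0),
    ((0, [1, 2, 3, 4, 5, 6, 7, 3, 2, 4, 3, 5, 4, 8, 7, 3, 2, 1, 4, 3, 2, 5, 7, 3, 9, 6, 5]), 1001, 0),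
    ((0, [1, 2, 3, 4, 5, 6, 7, 3, 2, 1, 4, 3, 5, 4, 8, 7, 3, 2, 1, 0, 4, 3, 2, 1, 5, 9, 6]), 901, 0),
    ((0, [1, 2, 3, 4, 5, 6, 7, 3, 2, 1, 4, 3, 5, 4, 8, 7, 3, 2, 1, 4, 3, 2, 7, 3, 4, 5, 9]), 1001, 0),
    ((0, [1, 2, 3, 4, 5, 6, 7, 3, 2, 1, 4, 3, 2, 5, 4, 8, 7, 3, 2, 1, 0, 4, 3, 2, 1, 5, 9]), 1001, 0),
    ((0, [1, 2, 3, 4, 5, 6, 7, 3, 2, 1, 4, 3, 2, 5, 4, 8, 7, 3, 2, 1, 0, 4, 3, 2, 1, 5, 7]), 1001, 0),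
    ((0, [1, 2, 3, 4, 5, 6, 7, 3, 2, 4, 3, 5, 4, 8, 7, 3, 2, 1, 0, 4, 3, 2, 5, 4, 3, 9, 6]), 901, 0),
    ((0, [1, 2, 3, 4, 5, 6, 7, 3, 2, 4, 3, 5, 7, 8, 7, 3, 2, 1, 0, 4, 3, 2, 9, 6, 5, 4, 3]), 901, 0),
    ((0, [1, 2, 3, 4, 5, 6, 7, 3, 2, 1, 4, 3, 5, 4, 7, 8, 7, 3, 2, 4, 3, 5, 4, 9, 6, 5, 4]), 1001, 0),
    ((0, [1, 2, 3, 4, 5, 6, 7, 3, 2, 1, 4, 3, 5, 4, 8, 7, 3, 2, 4, 3, 5, 4, 9, 6, 5, 4, 3]), 1001, 0),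
    ((0, [1, 2, 3, 4, 5, 6, 7, 3, 2, 1, 4, 3, 5, 4, 8, 7, 3, 2, 4, 3, 5, 4, 6, 9, 6, 5, 4]), 1001, 0),
    ((0, [1, 2, 3, 4, 5, 6, 7, 3, 2, 4, 5, 8, 7, 3, 2, 1, 4, 3, 2, 5, 7, 3, 4, 9, 6, 5, 4]), 1001, 0),
    ((0, [1, 2, 3, 4, 5, 6, 7, 3, 2, 1, 4, 3, 5, 4, 7, 8, 7, 3, 2, 1, 4, 3, 5, 4, 9, 6, 5]), 1001, 0),
    ((0, [1, 2, 3, 4, 5, 6, 7, 3, 2, 1, 4, 3, 5, 4, 7, 8, 7, 3, 2, 4, 3, 5, 4, 6, 9, 6, 5]), 1001, 0),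
    ((0, [1, 2, 3, 4, 5, 6, 7, 3, 2, 1, 4, 3, 5, 4, 8, 7, 3, 2, 1, 4, 3, 5, 4, 6, 9, 6, 5]), 1001, 0),
    ((0, [1, 2, 3, 4, 5, 6, 7, 3, 2, 4, 5, 8, 7, 3, 2, 1, 4, 3, 2, 5, 6, 7, 3, 4, 9, 6, 5]), 1001, 0),
    ((0, [1, 2, 3, 4, 5, 6, 7, 3, 2, 1, 4, 3, 5, 7, 8, 7, 3, 2, 4, 3, 5, 4, 7, 9, 6, 5, 4]), 1001, 0),
    ((0, [1, 2, 3, 4, 5, 6, 7, 3, 2, 1, 4, 5, 8, 7, 3, 2, 1, 4, 3, 2, 5, 7, 3, 4, 9, 6, 5]), 1001, 0),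
    ((0, [1, 2, 3, 4, 5, 6, 7, 3, 2, 1, 4, 3, 5, 7, 8, 7, 3, 2, 4, 3, 5, 4, 6, 7, 9, 6, 5]), 1001, 0),
    ((0, [1, 2, 3, 4, 5, 6, 7, 3, 2, 1, 4, 3, 5, 4, 8, 7, 3, 2, 1, 4, 3, 2, 5, 4, 9, 6, 5]), 1001, 0),
    ((0, [1, 2, 3, 4, 5, 6, 7, 3, 2, 4, 3, 5, 8, 7, 3, 2, 1, 4, 3, 2, 5, 7, 3, 4, 9, 6, 5]), 1001, 0),
    ((0, [1, 2, 3, 4, 5, 6, 7, 3, 2, 1, 4, 3, 5, 8, 7, 3, 2, 4, 3, 5, 4, 6, 7, 9, 6, 5, 4]), 1001, 0),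
    ((0, [1, 2, 3, 4, 5, 6, 7, 3, 2, 1, 4, 3, 5, 4, 8, 7, 3, 2, 1, 4, 3, 5, 4, 7, 9, 6, 5]), 1001, 0),
    ((0, [1, 2, 3, 4, 5, 6, 7, 3, 2, 1, 4, 3, 5, 7, 8, 7, 3, 2, 1, 4, 3, 5, 4, 6, 9, 6, 5]), 1001, 0),
    ((0, [1, 2, 3, 4, 5, 6, 7, 3, 2, 1, 4, 3, 5, 7, 8, 7, 3, 2, 1, 4, 3, 5, 4, 7, 9, 6, 5]), 1001, 0),
    ((0, [1, 2, 3, 4, 5, 6, 7, 3, 2, 1, 4, 3, 5, 8, 7, 3, 2, 1, 4, 3, 2, 5, 4, 9, 6, 5, 4]), 1001, 0),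
    ((0, [1, 2, 3, 4, 5, 6, 7, 3, 2, 1, 4, 3, 5, 7, 8, 7, 3, 2, 1, 4, 3, 2, 5, 4, 9, 6, 5]), 1001, 0),
    ((0, [1, 2, 3, 4, 5, 6, 7, 3, 2, 1, 4, 3, 5, 8, 7, 3, 2, 1, 4, 3, 2, 5, 4, 6, 9, 6, 5]), 1001, 0),
    ((0, [1, 2, 3, 4, 5, 6, 7, 3, 2, 1, 4, 3, 5, 8, 7, 3, 2, 1, 4, 3, 5, 4, 7, 9, 6, 5, 4]), 1001, 0),
    ((0, [1, 2, 3, 4, 5, 6, 7, 3, 2, 1, 4, 3, 5, 8, 7, 3, 2, 1, 4, 3, 5, 4, 6, 7, 9, 6, 5]), 1001, 0),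
    ((0, [1, 2, 3, 4, 5, 6, 7, 3, 2, 1, 4, 3, 2, 5, 4, 8, 7, 3, 2, 4, 3, 5, 4, 9, 6, 5, 4]), 1001, 0),
    ((0, [1, 2, 3, 4, 5, 6, 7, 3, 2, 1, 4, 3, 2, 5, 4, 8, 7, 3, 2, 4, 3, 5, 6, 9, 6, 5, 4]), 1001, 0),
    ((0, [1, 2, 3, 4, 5, 6, 7, 3, 2, 1, 4, 3, 5, 4, 7, 3, 8, 7, 3, 2, 4, 3, 7, 8, 9, 6, 5]), 1001, 0),
    ((0, [1, 2, 3, 4, 5, 6, 7, 3, 2, 1, 4, 3, 5, 4, 7, 8, 7, 3, 2, 1, 4, 3, 7, 8, 9, 6, 5]), 1001, 0),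
    ((0, [1, 2, 3, 4, 5, 6, 7, 3, 2, 1, 4, 3, 5, 4, 8, 7, 3, 2, 1, 0, 4, 3, 7, 8, 9, 6, 5]), 1001, 0),
    ((0, [1, 2, 3, 4, 5, 6, 7, 3, 2, 1, 4, 3, 5, 8, 7, 3, 2, 1, 4, 3, 2, 7, 3, 8, 9, 6, 5]), 1001, 0),
    ((0, [1, 2, 3, 4, 5, 6, 7, 3, 2, 1, 4, 3, 5, 4, 8, 7, 3, 2, 1, 4, 3, 2, 7, 8, 9, 6, 5]), 1001, 0),
    ((0, [1, 2, 3, 4, 5, 6, 7, 3, 2, 1, 4, 5, 8, 7, 3, 2, 1, 0, 4, 3, 2, 5, 7, 8, 9, 6, 5]), 1001, 0),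
    ((0, [1, 2, 3, 4, 5, 6, 7, 3, 2, 1, 4, 3, 5, 4, 7, 8, 7, 3, 2, 4, 3, 5, 7, 8, 9, 6, 5]), 1001, 0),
    ((0, [1, 2, 3, 4, 5, 6, 7, 3, 2, 1, 4, 5, 8, 7, 3, 2, 1, 4, 3, 2, 5, 7, 3, 8, 9, 6, 5]), 1001, 0),
    ((0, [1, 2, 3, 4, 5, 6, 7, 3, 2, 1, 4, 3, 5, 4, 8, 7, 3, 2, 1, 4, 3, 5, 7, 8, 9, 6, 5]), 1001, 0),
    ((0, [1, 2, 3, 4, 5, 6, 7, 3, 2, 1, 4, 3, 5, 7, 8, 7, 3, 2, 4, 3, 5, 7, 8, 9, 6, 5, 4]), 1001, 0),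
    ((0, [1, 2, 3, 4, 5, 6, 7, 3, 2, 1, 4, 3, 5, 4, 8, 7, 3, 2, 4, 3, 5, 7, 8, 9, 6, 5, 4]), 1001, 0),
    ((0, [1, 2, 3, 4, 5, 6, 7, 3, 2, 1, 4, 3, 5, 4, 7, 3, 8, 7, 3, 2, 4, 3, 5, 7, 8, 9, 6]), 901, 0),
    ((0, [1, 2, 3, 4, 5, 6, 7, 3, 2, 1, 4, 3, 5, 4, 7, 8, 7, 3, 2, 1, 4, 3, 5, 7, 8, 9, 6]), 1001, 0),
    ((0, [1, 2, 3, 4, 5, 6, 7, 3, 2, 1, 4, 3, 5, 4, 8, 7, 3, 2, 1, 0, 4, 3, 5, 7, 8, 9, 6]), 901, 0),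
    ((0, [1, 2, 3, 4, 5, 6, 7, 3, 2, 1, 4, 3, 5, 8, 7, 3, 2, 1, 4, 3, 2, 5, 7, 3, 8, 9, 6]), 901, 0),
    ((0, [1, 2, 3, 4, 5, 6, 7, 3, 2, 1, 4, 3, 5, 4, 8, 7, 3, 2, 1, 4, 3, 2, 5, 7, 8, 9, 6]), 1001, 0)]

/-- Part 19 of the cycles. -/
def reps19 : List ((Nat × List Nat) × Nat × Nat) :=
  [
    ((0, [1, 2, 3, 4, 5, 6, 7, 3, 2, 1, 4, 3, 5, 8, 7, 3, 2, 1, 0, 4, 3, 2, 7, 8, 9, 6, 5]), 901, 0),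
    ((0, [1, 2, 3, 4, 5, 6, 7, 3, 2, 1, 4, 3, 5, 8, 7, 3, 2, 1, 0, 4, 3, 5, 7, 8, 9, 6, 5]), 901, 0),
    ((0, [1, 2, 3, 4, 5, 6, 7, 3, 2, 1, 4, 3, 5, 8, 7, 3, 2, 1, 0, 4, 3, 2, 5, 7, 8, 9, 6]), 1001, 0),
    ((0, [1, 2, 3, 4, 5, 6, 7, 3, 2, 1, 4, 3, 5, 7, 8, 7, 3, 2, 1, 4, 3, 5, 7, 8, 9, 6, 5]), 1001, 0),
    ((0, [1, 2, 3, 4, 5, 6, 7, 3, 2, 1, 4, 3, 5, 8, 7, 3, 2, 1, 4, 3, 2, 5, 7, 8, 9, 6, 5]), 1001, 0),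
    ((0, [1, 2, 3, 4, 5, 6, 7, 3, 2, 1, 4, 3, 5, 7, 8, 7, 3, 2, 1, 4, 3, 2, 7, 3, 8, 9, 6]), 1001, 0),
    ((0, [1, 2, 3, 4, 5, 6, 7, 3, 2, 1, 4, 3, 5, 7, 8, 7, 3, 2, 1, 4, 3, 2, 5, 7, 3, 8, 9]), 1001, 0),
    ((0, [1, 2, 3, 4, 5, 6, 7, 3, 2, 1, 4, 3, 2, 5, 4, 7, 8, 7, 3, 2, 4, 3, 7, 8, 9, 6, 5]), 1001, 0),
    ((0, [1, 2, 3, 4, 5, 6, 7, 3, 2, 1, 4, 5, 8, 7, 3, 2, 1, 4, 3, 2, 7, 3, 4, 8, 9, 6, 5]), 1001, 0),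
    ((0, [1, 2, 3, 4, 5, 6, 7, 3, 2, 1, 4, 3, 2, 5, 4, 8, 7, 3, 2, 1, 4, 3, 7, 8, 9, 6, 5]), 1001, 0),
    ((0, [1, 2, 3, 4, 5, 6, 7, 3, 2, 1, 4, 3, 2, 5, 7, 8, 7, 3, 2, 4, 3, 7, 8, 9, 6, 5, 4]), 1001, 0),
    ((0, [1, 2, 3, 4, 5, 6, 7, 3, 2, 1, 4, 3, 2, 5, 4, 8, 7, 3, 2, 4, 3, 7, 8, 9, 6, 5, 4]), 1001, 0),
    ((0, [1, 2, 3, 4, 5, 6, 7, 3, 2, 1, 4, 3, 2, 5, 7, 8, 7, 3, 2, 1, 4, 3, 7, 8, 9, 6, 5]), 1001, 0),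
    ((0, [1, 2, 3, 4, 5, 6, 7, 3, 2, 1, 4, 3, 2, 5, 8, 7, 3, 2, 1, 4, 3, 2, 7, 8, 9, 6, 5]), 1001, 0),
    ((0, [1, 2, 3, 4, 5, 6, 7, 3, 2, 1, 4, 3, 2, 5, 8, 7, 3, 2, 1, 4, 3, 7, 8, 9, 6, 5, 4]), 1001, 0),
    ((0, [1, 2, 3, 4, 5, 6, 7, 3, 2, 1, 4, 3, 2, 5, 4, 7, 8, 7, 3, 2, 1, 4, 3, 5, 7, 8, 9]), 1001, 0),
    ((0, [1, 2, 3, 4, 5, 6, 7, 3, 2, 1, 4, 3, 2, 5, 4, 8, 7, 3, 2, 1, 0, 4, 3, 5, 7, 8, 9]), 1001, 0),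
    ((0, [1, 2, 3, 4, 5, 6, 7, 3, 2, 1, 4, 3, 5, 8, 7, 3, 2, 1, 4, 3, 2, 7, 3, 4, 5, 8, 9]), 1001, 0),
    ((0, [1, 2, 3, 4, 5, 6, 7, 3, 2, 1, 4, 3, 2, 5, 4, 8, 7, 3, 2, 1, 4, 3, 2, 5, 7, 8, 9]), 1001, 0),
    ((0, [1, 2, 3, 4, 5, 6, 7, 3, 2, 1, 4, 3, 2, 5, 4, 7, 8, 7, 3, 2, 1, 4, 3, 2, 5, 7, 8]), 1001, 0),
    ((0, [1, 2, 3, 4, 5, 6, 7, 3, 2, 1, 4, 3, 2, 5, 4, 8, 7, 3, 2, 1, 0, 4, 3, 2, 5, 7, 8]), 1001, 0),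
    ((0, [1, 2, 3, 4, 5, 6, 7, 3, 2, 1, 4, 3, 2, 5, 7, 3, 8, 7, 3, 2, 4, 3, 7, 8, 9, 6, 5]), 1001, 0),
    ((0, [1, 2, 3, 4, 5, 6, 7, 3, 2, 1, 4, 3, 2, 5, 4, 3, 8, 7, 3, 2, 4, 3, 7, 8, 9, 6, 5]), 1001, 0),
    ((0, [1, 2, 3, 4, 5, 6, 7, 3, 2, 1, 4, 3, 2, 5, 4, 3, 8, 7, 3, 2, 1, 4, 3, 5, 7, 8, 9]), 1001, 0),
    ((0, [1, 2, 3, 4, 5, 6, 7, 3, 2, 1, 4, 3, 5, 4, 8, 7, 3, 2, 1, 4, 3, 2, 7, 3, 8, 9, 6]), 1001, 0),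
    ((0, [1, 2, 3, 4, 5, 6, 7, 3, 2, 1, 4, 3, 5, 4, 8, 7, 3, 2, 1, 4, 3, 2, 5, 7, 3, 8, 9]), 901, 0),
    ((0, [1, 2, 3, 4, 5, 6, 7, 3, 2, 1, 4, 3, 5, 4, 8, 7, 3, 2, 1, 4, 3, 2, 7, 3, 4, 5, 8]), 1001, 0),
    ((0, [1, 2, 3, 4, 5, 6, 7, 3, 2, 1, 4, 5, 8, 7, 3, 2, 1, 4, 3, 2, 7, 8, 9, 6, 5, 4, 3]), 1001, 0),
    ((0, [1, 2, 3, 4, 5, 6, 7, 3, 2, 1, 4, 5, 8, 7, 3, 2, 1, 4, 3, 2, 5, 6, 7, 8, 9, 6, 5]), 901, 0),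
    ((0, [1, 2, 3, 4, 5, 6, 7, 3, 2, 1, 4, 5, 8, 7, 3, 2, 1, 0, 4, 3, 5, 6, 7, 8, 9, 6, 5]), 1001, 0),
    ((0, [1, 2, 3, 4, 5, 6, 7, 3, 2, 1, 4, 3, 5, 7, 8, 7, 3, 2, 4, 3, 5, 6, 7, 8, 9, 6, 5]), 1001, 0),
    ((0, [1, 2, 3, 4, 5, 6, 7, 3, 2, 1, 4, 3, 5, 4, 8, 7, 3, 2, 4, 3, 5, 6, 7, 8, 9, 6, 5]), 1001, 0),
    ((0, [1, 2, 3, 4, 5, 6, 7, 3, 2, 1, 4, 5, 8, 7, 3, 2, 1, 4, 3, 5, 6, 7, 8, 9, 6, 5, 4]), 1001, 0),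
    ((0, [1, 2, 3, 4, 5, 6, 7, 3, 2, 1, 4, 3, 5, 8, 7, 3, 2, 4, 3, 5, 6, 7, 8, 9, 6, 5, 4]), 1001, 0),
    ((0, [1, 2, 3, 4, 5, 6, 7, 3, 2, 1, 4, 5, 8, 7, 3, 2, 1, 0, 4, 3, 2, 5, 6, 7, 8, 9, 6]), 901, 0),
    ((0, [1, 2, 3, 4, 5, 6, 7, 3, 2, 1, 4, 3, 5, 4, 7, 8, 7, 3, 2, 4, 3, 5, 6, 7, 8, 9, 6]), 1001, 0),
    ((0, [1, 2, 3, 4, 5, 6, 7, 3, 2, 1, 4, 5, 8, 7, 3, 2, 1, 4, 3, 2, 5, 6, 7, 3, 8, 9, 6]), 901, 0),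
    ((0, [1, 2, 3, 4, 5, 6, 7, 3, 2, 1, 4, 3, 5, 4, 8, 7, 3, 2, 1, 4, 3, 5, 6, 7, 8, 9, 6]), 1001, 0),
    ((0, [1, 2, 3, 4, 5, 6, 7, 3, 2, 1, 4, 3, 5, 8, 7, 3, 2, 1, 0, 4, 3, 5, 6, 7, 8, 9, 6]), 1001, 0),
    ((0, [1, 2, 3, 4, 5, 6, 7, 3, 2, 1, 4, 3, 5, 8, 7, 3, 2, 1, 4, 3, 5, 6, 7, 8, 9, 6, 5]), 1001, 0),
    ((0, [1, 2, 3, 4, 5, 6, 7, 3, 2, 1, 4, 3, 5, 7, 8, 7, 3, 2, 1, 4, 3, 5, 6, 7, 8, 9, 6]), 1001, 0),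
    ((0, [1, 2, 3, 4, 5, 6, 7, 3, 2, 1, 4, 3, 5, 8, 7, 3, 2, 1, 4, 3, 2, 5, 6, 7, 8, 9, 6]), 1001, 0),
    ((0, [1, 2, 3, 4, 5, 6, 7, 3, 2, 1, 4, 5, 8, 7, 3, 2, 1, 4, 3, 5, 4, 7, 8, 9, 6, 5, 4]), 1001, 0),
    ((0, [1, 2, 3, 4, 5, 6, 7, 3, 2, 1, 4, 5, 8, 7, 3, 2, 4, 3, 5, 4, 6, 7, 8, 9, 6, 5, 4]), 1001, 0),
    ((0, [1, 2, 3, 4, 5, 6, 7, 3, 2, 1, 4, 3, 5, 4, 8, 7, 3, 2, 4, 3, 7, 8, 9, 6, 5, 4, 3]), 1001, 0),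
    ((0, [1, 2, 3, 4, 5, 6, 7, 3, 2, 1, 4, 3, 5, 8, 7, 3, 2, 4, 3, 5, 4, 7, 8, 9, 6, 5, 4]), 1001, 0),
    ((0, [1, 2, 3, 4, 5, 6, 7, 3, 2, 1, 4, 3, 5, 4, 7, 3, 8, 7, 3, 2, 4, 3, 5, 4, 7, 8, 9]), 1001, 0),
    ((0, [1, 2, 3, 4, 5, 6, 7, 3, 2, 1, 4, 5, 8, 7, 3, 2, 1, 4, 3, 2, 5, 4, 7, 8, 9, 6, 5]), 1001, 0),
    ((0, [1, 2, 3, 4, 5, 6, 7, 3, 2, 1, 4, 5, 8, 7, 3, 2, 1, 0, 4, 3, 5, 4, 7, 8, 9, 6, 5]), 1001, 0),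
    ((0, [1, 2, 3, 4, 5, 6, 7, 3, 2, 1, 4, 5, 8, 7, 3, 2, 1, 4, 3, 5, 4, 6, 7, 8, 9, 6, 5]), 1001, 0),
    ((0, [1, 2, 3, 4, 5, 6, 7, 3, 2, 1, 4, 5, 8, 7, 3, 2, 1, 4, 3, 2, 5, 7, 3, 4, 5, 8, 9]), 1001, 0),
    ((0, [1, 2, 3, 4, 5, 6, 7, 3, 2, 1, 4, 3, 2, 5, 4, 8, 7, 3, 2, 1, 4, 3, 5, 4, 7, 8, 9]), 1001, 0),
    ((0, [1, 2, 3, 4, 5, 6, 7, 3, 2, 1, 4, 3, 2, 5, 4, 8, 7, 3, 2, 1, 0, 4, 3, 5, 4, 7, 8]), 1001, 0),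
    ((0, [1, 2, 3, 4, 5, 6, 7, 3, 2, 1, 4, 3, 5, 8, 7, 3, 2, 1, 4, 3, 2, 5, 7, 3, 4, 5, 8]), 1001, 0),
    ((0, [1, 2, 3, 4, 5, 6, 7, 3, 2, 1, 4, 3, 5, 7, 8, 7, 3, 2, 4, 3, 5, 4, 6, 7, 8, 9, 6]), 1001, 0),
    ((0, [1, 2, 3, 4, 5, 6, 7, 3, 2, 1, 4, 3, 5, 4, 8, 7, 3, 2, 4, 3, 5, 4, 6, 7, 8, 9, 6]), 1001, 0),
    ((0, [1, 2, 3, 4, 5, 6, 7, 3, 2, 1, 4, 3, 5, 7, 8, 7, 3, 2, 4, 3, 5, 4, 7, 8, 9, 6, 5]), 1001, 0),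
    ((0, [1, 2, 3, 4, 5, 6, 7, 3, 2, 1, 4, 3, 5, 4, 8, 7, 3, 2, 4, 3, 5, 4, 7, 8, 9, 6, 5]), 1001, 0),
    ((0, [1, 2, 3, 4, 5, 6, 7, 3, 2, 1, 4, 3, 5, 8, 7, 3, 2, 1, 4, 3, 5, 4, 7, 8, 9, 6, 5]), 1001, 0),
    ((0, [1, 2, 3, 4, 5, 6, 7, 3, 2, 1, 4, 3, 5, 8, 7, 3, 2, 4, 3, 5, 4, 6, 7, 8, 9, 6, 5]), 1001, 0),
    ((0, [1, 2, 3, 4, 5, 6, 7, 3, 2, 1, 4, 3, 5, 7, 8, 7, 3, 2, 1, 4, 3, 2, 5, 6, 7, 3, 8]), 1001, 0),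
    ((0, [1, 2, 3, 4, 5, 6, 7, 3, 2, 1, 4, 3, 5, 4, 8, 7, 3, 2, 1, 4, 3, 2, 5, 6, 7, 3, 8]), 901, 0),
    ((0, [1, 2, 3, 4, 5, 6, 7, 3, 2, 1, 4, 3, 5, 4, 7, 3, 8, 7, 3, 2, 4, 3, 5, 6, 7, 8, 9]), 901, 0),
    ((0, [1, 2, 3, 4, 5, 6, 7, 3, 2, 1, 4, 3, 5, 4, 7, 8, 7, 3, 2, 1, 4, 3, 5, 6, 7, 8, 9]), 1001, 0),
    ((0, [1, 2, 3, 4, 5, 6, 7, 3, 2, 1, 4, 3, 5, 4, 8, 7, 3, 2, 1, 0, 4, 3, 5, 6, 7, 8, 9]), 901, 0),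
    ((0, [1, 2, 3, 4, 5, 6, 7, 3, 2, 1, 4, 3, 5, 8, 7, 3, 2, 1, 4, 3, 2, 5, 6, 7, 3, 8, 9]), 901, 0),
    ((0, [1, 2, 3, 4, 5, 6, 7, 3, 2, 1, 4, 3, 5, 4, 8, 7, 3, 2, 1, 4, 3, 2, 5, 6, 7, 8, 9]), 1001, 0),
    ((0, [1, 2, 3, 4, 5, 6, 7, 3, 2, 1, 4, 3, 5, 8, 7, 3, 2, 1, 0, 4, 3, 2, 5, 6, 7, 8, 9]), 1001, 0),
    ((0, [1, 2, 3, 4, 5, 6, 7, 3, 2, 4, 3, 5, 8, 7, 3, 2, 1, 4, 3, 2, 5, 4, 3, 7, 3, 8, 9]), 901, 0),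
    ((0, [1, 2, 3, 4, 5, 6, 7, 3, 2, 1, 4, 3, 5, 4, 7, 3, 8, 7, 3, 2, 4, 3, 5, 4, 6, 7, 8]), 1001, 0),
    ((0, [1, 2, 3, 4, 5, 6, 7, 3, 2, 1, 4, 3, 2, 5, 8, 7, 3, 2, 1, 4, 3, 2, 7, 3, 4, 5, 8]), 1001, 0),
    ((0, [1, 2, 3, 4, 5, 6, 7, 3, 2, 1, 4, 3, 2, 5, 7, 8, 7, 3, 2, 1, 4, 3, 2, 5, 7, 3, 8]), 901, 0),
    ((0, [1, 2, 3, 4, 5, 6, 7, 3, 2, 1, 4, 5, 8, 7, 3, 2, 1, 0, 4, 3, 7, 8, 9, 6, 5, 4, 3]), 901, 0),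
    ((0, [1, 2, 3, 4, 5, 6, 7, 3, 2, 1, 4, 5, 8, 7, 3, 2, 4, 3, 5, 4, 7, 8, 9, 6, 5, 4, 3]), 1001, 0),
    ((0, [1, 2, 3, 4, 5, 6, 7, 3, 2, 1, 4, 5, 8, 7, 3, 2, 4, 3, 5, 6, 7, 8, 9, 6, 5, 4, 3]), 1001, 0),
    ((0, [1, 2, 3, 4, 5, 6, 7, 3, 2, 1, 4, 5, 8, 7, 3, 2, 4, 3, 5, 4, 6, 7, 9, 6, 5, 4, 3]), 1001, 0),
    ((0, [1, 2, 3, 4, 5, 6, 7, 3, 2, 1, 4, 3, 2, 5, 7, 8, 7, 3, 2, 4, 3, 7, 9, 6, 5, 4, 3]), 1001, 0),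
    ((0, [1, 2, 3, 4, 5, 6, 7, 3, 2, 1, 4, 5, 8, 7, 3, 2, 1, 4, 3, 2, 5, 4, 7, 3, 8, 9, 6]), 901, 0),
    ((0, [1, 2, 3, 4, 5, 6, 7, 3, 2, 1, 4, 5, 8, 7, 3, 2, 1, 4, 3, 2, 5, 4, 7, 3, 9, 6, 5]), 1001, 0),
    ((0, [1, 2, 3, 4, 5, 6, 7, 3, 2, 1, 4, 5, 8, 7, 3, 2, 1, 4, 3, 2, 5, 4, 6, 7, 3, 8, 9]), 901, 0),
    ((0, [1, 2, 3, 4, 5, 6, 7, 3, 2, 1, 4, 5, 8, 7, 3, 2, 1, 0, 4, 3, 5, 4, 7, 3, 8, 9, 6]), 1001, 0),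
    ((0, [1, 2, 3, 4, 5, 6, 7, 3, 2, 1, 4, 5, 8, 7, 3, 2, 1, 0, 4, 3, 5, 4, 7, 3, 9, 6, 5]), 1001, 0),
    ((0, [1, 2, 3, 4, 5, 6, 7, 3, 2, 1, 4, 5, 8, 7, 3, 2, 1, 4, 3, 5, 4, 7, 3, 8, 9, 6, 5]), 1001, 0),
    ((0, [1, 2, 3, 4, 5, 6, 7, 3, 2, 1, 4, 3, 2, 5, 7, 8, 7, 3, 2, 1, 4, 3, 5, 7, 9, 6, 5]), 1001, 0),
    ((0, [1, 2, 3, 4, 5, 6, 7, 3, 2, 1, 4, 3, 2, 5, 7, 8, 7, 3, 2, 4, 3, 5, 7, 8, 9, 6, 5]), 1001, 0),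
    ((0, [1, 2, 3, 4, 5, 6, 7, 3, 2, 1, 4, 3, 2, 5, 7, 3, 8, 7, 3, 2, 1, 4, 3, 2, 7, 3, 8]), 1001, 0),
    ((0, [1, 2, 3, 4, 5, 6, 7, 3, 2, 1, 4, 3, 2, 5, 8, 7, 3, 2, 1, 4, 3, 2, 7, 3, 8, 9, 6]), 1001, 0),
    ((0, [1, 2, 3, 4, 5, 6, 7, 3, 2, 1, 4, 3, 2, 5, 4, 8, 7, 3, 2, 1, 4, 3, 2, 5, 7, 3, 9]), 1001, 0),
    ((0, [1, 2, 3, 4, 5, 6, 7, 3, 2, 1, 4, 3, 2, 5, 8, 7, 3, 2, 1, 4, 3, 2, 5, 7, 3, 8, 9]), 1001, 0),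
    ((0, [1, 2, 3, 4, 5, 6, 7, 3, 2, 1, 4, 3, 2, 5, 4, 8, 7, 3, 2, 1, 4, 3, 2, 5, 7, 3, 8]), 1001, 0),
    ((0, [1, 2, 3, 4, 5, 6, 7, 3, 2, 1, 4, 3, 5, 4, 8, 7, 3, 2, 1, 0, 4, 3, 2, 7, 3, 8, 9]), 1001, 0),
    ((0, [1, 2, 3, 4, 5, 6, 7, 3, 2, 1, 4, 3, 5, 4, 8, 7, 3, 2, 1, 0, 4, 3, 2, 5, 7, 3, 8]), 1001, 0),
    ((0, [1, 2, 3, 4, 5, 6, 7, 3, 2, 4, 3, 5, 8, 7, 3, 2, 1, 4, 3, 2, 5, 4, 3, 7, 8, 9, 6]), 1001, 0),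
    ((0, [1, 2, 3, 4, 5, 6, 7, 3, 2, 4, 3, 5, 4, 8, 7, 3, 2, 1, 4, 3, 2, 5, 4, 3, 7, 8, 9]), 1001, 0),
    ((0, [1, 2, 3, 4, 5, 6, 7, 3, 2, 1, 4, 3, 2, 5, 8, 7, 3, 2, 4, 3, 7, 8, 9, 6, 5, 4, 3]), 1001, 0),
    ((0, [1, 2, 3, 4, 5, 6, 7, 3, 2, 1, 4, 3, 5, 8, 7, 3, 2, 4, 3, 5, 4, 7, 9, 6, 5, 4, 3]), 1001, 0),
    ((0, [1, 2, 3, 4, 5, 6, 7, 3, 2, 1, 4, 3, 5, 7, 8, 7, 3, 2, 4, 3, 5, 4, 7, 3, 9, 6, 5]), 1001, 0),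
    ((0, [1, 2, 3, 4, 5, 6, 7, 3, 2, 1, 4, 3, 5, 8, 7, 3, 2, 1, 4, 3, 2, 5, 4, 3, 9, 6, 5]), 1001, 0),
    ((0, [1, 2, 3, 4, 5, 6, 7, 3, 2, 1, 4, 3, 5, 8, 7, 3, 2, 1, 0, 4, 3, 2, 5, 4, 9, 6, 5]), 1001, 0),
    ((0, [1, 2, 3, 4, 5, 6, 7, 3, 2, 1, 4, 3, 2, 5, 4, 8, 7, 3, 2, 4, 3, 5, 4, 7, 3, 8, 9]), 1001, 0),
    ((0, [1, 2, 3, 4, 5, 6, 7, 3, 2, 1, 4, 3, 5, 4, 8, 7, 3, 2, 4, 3, 5, 4, 7, 3, 8, 9, 6]), 1001, 0),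
    ((0, [1, 2, 3, 4, 5, 6, 7, 3, 2, 1, 4, 3, 5, 4, 8, 7, 3, 2, 4, 3, 5, 4, 7, 3, 9, 6, 5]), 1001, 0),
    ((0, [1, 2, 3, 4, 5, 6, 7, 3, 2, 1, 4, 3, 5, 4, 8, 7, 3, 2, 4, 3, 5, 4, 6, 7, 3, 8, 9]), 1001, 0),
    ((0, [1, 2, 3, 4, 5, 6, 7, 3, 2, 1, 4, 3, 5, 8, 7, 3, 2, 1, 4, 3, 5, 4, 7, 3, 9, 6, 5]), 1001, 0),
    ((0, [1, 2, 3, 4, 5, 6, 7, 3, 2, 1, 4, 3, 5, 8, 7, 3, 2, 4, 3, 5, 4, 7, 3, 8, 9, 6, 5]), 1001, 0),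
    ((0, [1, 2, 3, 4, 5, 6, 7, 3, 2, 1, 4, 3, 2, 5, 7, 8, 7, 3, 2, 4, 3, 5, 4, 7, 9, 6, 5]), 1001, 0),
    ((0, [1, 2, 3, 4, 5, 6, 7, 3, 2, 1, 4, 3, 2, 5, 8, 7, 3, 2, 1, 4, 3, 2, 5, 4, 7, 3, 9]), 1001, 0),
    ((0, [1, 2, 3, 4, 5, 6, 7, 3, 2, 1, 4, 3, 5, 8, 7, 3, 2, 1, 4, 3, 2, 5, 4, 7, 3, 8, 9]), 901, 0),
    ((0, [1, 2, 3, 4, 5, 6, 7, 3, 2, 1, 4, 3, 2, 5, 8, 7, 3, 2, 1, 4, 3, 2, 5, 4, 7, 3, 8]), 1001, 0),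
    ((0, [1, 2, 3, 4, 5, 6, 7, 3, 2, 1, 4, 3, 5, 4, 8, 7, 3, 2, 1, 0, 4, 3, 5, 4, 6, 5, 9]), 1001, 0),
    ((0, [1, 2, 3, 4, 5, 6, 7, 3, 2, 1, 4, 5, 8, 7, 3, 2, 1, 4, 3, 2, 5, 6, 7, 3, 4, 5, 8]), 1001, 0),
    ((0, [1, 2, 3, 4, 5, 6, 7, 3, 2, 1, 4, 3, 5, 4, 8, 7, 3, 2, 1, 4, 3, 5, 4, 6, 5, 7, 8]), 1001, 0),
    ((0, [1, 2, 3, 4, 5, 6, 7, 3, 2, 1, 4, 3, 5, 4, 7, 8, 7, 3, 2, 4, 3, 5, 4, 7, 3, 2, 8]), 601, 0),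
    ((0, [1, 2, 3, 4, 5, 6, 7, 3, 2, 1, 4, 3, 2, 5, 7, 8, 7, 3, 2, 1, 0, 4, 3, 2, 9, 6, 5]), 1001, 0),
    ((0, [1, 2, 3, 4, 5, 6, 7, 3, 2, 1, 4, 3, 2, 5, 7, 8, 7, 3, 2, 1, 0, 4, 3, 7, 9, 6, 5]), 1001, 0),
    ((0, [1, 2, 3, 4, 5, 6, 7, 3, 2, 1, 4, 3, 2, 5, 8, 7, 3, 2, 1, 0, 4, 3, 2, 9, 6, 5, 4]), 1001, 0),
    ((0, [1, 2, 3, 4, 5, 6, 7, 3, 2, 1, 4, 3, 2, 5, 8, 7, 3, 2, 1, 0, 4, 3, 2, 1, 9, 6, 5]), 1001, 0),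
    ((0, [1, 2, 3, 4, 5, 6, 7, 3, 2, 1, 4, 3, 2, 5, 7, 8, 7, 3, 2, 1, 0, 4, 3, 2, 5, 7, 8]), 1001, 0),
    ((0, [1, 2, 3, 4, 5, 6, 7, 3, 2, 1, 4, 3, 2, 5, 8, 7, 3, 2, 1, 0, 4, 3, 7, 8, 9, 6, 5]), 1001, 0),
    ((0, [1, 2, 3, 4, 5, 6, 7, 3, 2, 1, 4, 3, 2, 5, 8, 7, 3, 2, 1, 0, 4, 3, 2, 1, 5, 7, 8]), 1001, 0)]

/-- Part 20 of the cycles. -/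
def reps20 : List ((Nat × List Nat) × Nat × Nat) :=
  [
    ((0, [1, 2, 3, 4, 5, 6, 7, 3, 2, 1, 4, 3, 5, 7, 8, 7, 3, 2, 1, 0, 4, 3, 7, 8, 9, 6, 5]), 901, 0),
    ((0, [1, 2, 3, 4, 5, 6, 7, 3, 2, 1, 4, 3, 2, 5, 8, 7, 3, 2, 1, 0, 4, 3, 5, 4, 7, 8, 9]), 901, 0),
    ((0, [1, 2, 3, 4, 5, 6, 7, 3, 2, 1, 4, 3, 2, 5, 8, 7, 3, 2, 1, 0, 4, 3, 2, 5, 7, 3, 8]), 1001, 0),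
    ((0, [1, 2, 3, 4, 5, 6, 7, 3, 2, 1, 4, 3, 5, 7, 8, 7, 3, 2, 1, 0, 4, 3, 5, 7, 9, 6, 5]), 901, 0),
    ((0, [1, 2, 3, 4, 5, 6, 7, 3, 2, 1, 4, 3, 5, 7, 8, 7, 3, 2, 1, 0, 4, 3, 5, 7, 8, 9, 6]), 1001, 0),
    ((0, [1, 2, 3, 4, 5, 6, 7, 3, 2, 1, 4, 3, 5, 8, 7, 3, 2, 1, 0, 4, 3, 5, 4, 9, 6, 5, 4]), 1001, 0),
    ((0, [1, 2, 3, 4, 5, 6, 7, 3, 2, 1, 4, 3, 5, 7, 8, 7, 3, 2, 1, 0, 4, 3, 5, 4, 9, 6, 5]), 1001, 0),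
    ((0, [1, 2, 3, 4, 5, 6, 7, 3, 2, 1, 4, 3, 5, 8, 7, 3, 2, 1, 0, 4, 3, 5, 4, 7, 9, 6, 5]), 1001, 0),
    ((0, [1, 2, 3, 4, 5, 6, 7, 3, 2, 4, 3, 8, 7, 3, 2, 1, 4, 3, 2, 5, 4, 3, 7, 8, 9, 6, 5]), 901, 0),
    ((0, [1, 2, 3, 4, 5, 6, 7, 3, 2, 1, 4, 3, 8, 7, 3, 2, 1, 4, 3, 2, 5, 4, 3, 7, 9, 6, 5]), 1001, 0),
    ((0, [1, 2, 3, 4, 5, 6, 7, 3, 2, 1, 4, 3, 5, 8, 7, 3, 2, 1, 0, 4, 3, 5, 4, 6, 9, 6, 5]), 1001, 0),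
    ((0, [1, 2, 3, 4, 5, 6, 7, 3, 2, 1, 4, 3, 2, 5, 8, 7, 3, 2, 1, 4, 3, 2, 5, 4, 3, 7, 3]), 1001, 0),
    ((0, [1, 2, 3, 4, 5, 6, 7, 3, 2, 1, 4, 3, 2, 8, 7, 3, 2, 1, 4, 3, 2, 5, 4, 3, 7, 8, 9]), 1001, 0),
    ((0, [1, 2, 3, 4, 5, 6, 7, 3, 2, 1, 4, 3, 2, 5, 8, 7, 3, 2, 1, 0, 4, 3, 5, 4, 6, 7, 8]), 601, 0),
    ((0, [1, 2, 3, 4, 5, 6, 7, 3, 2, 1, 4, 3, 2, 5, 8, 7, 3, 2, 1, 0, 4, 3, 5, 4, 6, 7, 9]), 801, 0),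
    ((0, [1, 2, 3, 4, 5, 6, 7, 3, 2, 1, 4, 3, 5, 8, 7, 3, 2, 1, 4, 3, 5, 4, 6, 5, 9, 6, 5]), 1001, 0),
    ((0, [1, 2, 3, 4, 5, 6, 7, 3, 2, 1, 4, 3, 2, 5, 8, 7, 3, 2, 4, 3, 5, 4, 6, 5, 9, 6, 5]), 1001, 0),
    ((0, [1, 2, 3, 4, 5, 6, 7, 3, 2, 1, 4, 3, 8, 7, 3, 2, 1, 4, 3, 2, 5, 4, 7, 3, 9, 6, 5]), 1001, 0),
    ((0, [1, 2, 3, 4, 5, 6, 7, 3, 2, 1, 4, 3, 8, 7, 3, 2, 1, 0, 4, 3, 5, 4, 7, 3, 9, 6, 5]), 1001, 0),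
    ((0, [1, 2, 3, 4, 5, 6, 7, 3, 2, 1, 4, 3, 2, 5, 7, 8, 7, 3, 2, 1, 4, 3, 5, 4, 9, 6, 5]), 1001, 0),
    ((0, [1, 2, 3, 4, 5, 6, 7, 3, 2, 1, 4, 3, 2, 5, 4, 7, 8, 7, 3, 2, 1, 4, 3, 5, 9, 6, 5]), 1001, 0),
    ((0, [1, 2, 3, 4, 5, 6, 7, 3, 2, 1, 4, 5, 8, 7, 3, 2, 1, 4, 3, 2, 7, 3, 4, 5, 9, 6, 5]), 1001, 0),
    ((0, [1, 2, 3, 4, 5, 6, 7, 3, 2, 1, 4, 3, 2, 5, 4, 8, 7, 3, 2, 1, 4, 3, 5, 7, 9, 6, 5]), 1001, 0),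
    ((0, [1, 2, 3, 4, 5, 6, 7, 3, 2, 1, 4, 3, 2, 5, 4, 3, 8, 7, 3, 2, 1, 4, 3, 5, 7, 9, 6]), 1001, 0),
    ((0, [1, 2, 3, 4, 5, 6, 7, 3, 2, 1, 4, 3, 2, 5, 4, 8, 7, 3, 2, 1, 0, 4, 3, 5, 7, 9, 6]), 1001, 0),
    ((0, [1, 2, 3, 4, 5, 6, 7, 3, 2, 1, 4, 5, 8, 7, 3, 2, 1, 4, 3, 2, 5, 7, 3, 4, 5, 9, 6]), 1001, 0),
    ((0, [1, 2, 3, 4, 5, 6, 7, 3, 2, 1, 4, 3, 2, 5, 4, 8, 7, 3, 2, 1, 4, 3, 2, 5, 9, 6, 5]), 1001, 0),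
    ((0, [1, 2, 3, 4, 5, 6, 7, 3, 2, 4, 3, 5, 8, 7, 3, 2, 1, 4, 3, 2, 7, 3, 4, 5, 9, 6, 5]), 1001, 0),
    ((0, [1, 2, 3, 4, 5, 6, 7, 3, 2, 1, 4, 3, 2, 5, 4, 8, 7, 3, 2, 1, 0, 4, 3, 2, 5, 9, 6]), 1001, 0),
    ((0, [1, 2, 3, 4, 5, 6, 7, 3, 2, 1, 4, 3, 2, 5, 4, 7, 8, 7, 3, 2, 4, 3, 5, 7, 8, 9, 6]), 1001, 0),
    ((0, [1, 2, 3, 4, 5, 6, 7, 3, 2, 1, 4, 5, 8, 7, 3, 2, 1, 4, 3, 2, 7, 3, 4, 5, 8, 9, 6]), 1001, 0),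
    ((0, [1, 2, 3, 4, 5, 6, 7, 3, 2, 1, 4, 3, 2, 5, 4, 8, 7, 3, 2, 4, 3, 5, 7, 8, 9, 6, 5]), 1001, 0),
    ((0, [1, 2, 3, 4, 5, 6, 7, 3, 2, 1, 4, 3, 2, 5, 4, 8, 7, 3, 2, 1, 4, 3, 5, 7, 8, 9, 6]), 1001, 0),
    ((0, [1, 2, 3, 4, 5, 6, 7, 3, 2, 1, 4, 3, 2, 5, 4, 3, 8, 7, 3, 2, 4, 3, 5, 7, 8, 9, 6]), 1001, 0),
    ((0, [1, 2, 3, 4, 5, 6, 7, 3, 2, 1, 4, 3, 2, 5, 8, 7, 3, 2, 1, 4, 3, 5, 7, 8, 9, 6, 5]), 1001, 0),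
    ((0, [1, 2, 3, 4, 5, 6, 7, 3, 2, 1, 4, 3, 2, 5, 8, 7, 3, 2, 1, 4, 3, 5, 4, 7, 8, 9, 6]), 1001, 0),
    ((0, [1, 2, 3, 4, 5, 6, 7, 3, 2, 1, 4, 3, 2, 5, 8, 7, 3, 2, 4, 3, 5, 7, 8, 9, 6, 5, 4]), 1001, 0),
    ((0, [1, 2, 3, 4, 5, 6, 7, 3, 2, 1, 4, 3, 2, 5, 4, 7, 8, 7, 3, 2, 4, 3, 5, 4, 9, 6, 5]), 1001, 0),
    ((0, [1, 2, 3, 4, 5, 6, 7, 3, 2, 1, 4, 3, 2, 5, 4, 8, 7, 3, 2, 1, 4, 3, 5, 4, 9, 6, 5]), 1001, 0),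
    ((0, [1, 2, 3, 4, 5, 6, 7, 3, 2, 4, 5, 8, 7, 3, 2, 1, 4, 3, 2, 5, 7, 3, 4, 5, 9, 6, 5]), 1001, 0),
    ((0, [1, 2, 3, 4, 5, 6, 7, 3, 2, 1, 4, 3, 2, 5, 8, 7, 3, 2, 1, 4, 3, 5, 4, 7, 9, 6, 5]), 1001, 0),
    ((0, [1, 2, 3, 4, 5, 6, 7, 3, 2, 1, 4, 3, 2, 5, 8, 7, 3, 2, 1, 4, 3, 2, 5, 4, 9, 6, 5]), 1001, 0),
    ((0, [1, 2, 3, 4, 5, 6, 7, 3, 2, 1, 4, 3, 2, 5, 8, 7, 3, 2, 4, 3, 5, 4, 7, 9, 6, 5, 4]), 1001, 0),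
    ((0, [1, 2, 3, 4, 5, 6, 7, 3, 2, 1, 4, 3, 2, 5, 8, 7, 3, 2, 4, 3, 5, 4, 7, 8, 9, 6, 5]), 1001, 0),
    ((0, [1, 2, 3, 4, 5, 6, 7, 3, 2, 1, 4, 3, 2, 5, 8, 7, 3, 2, 4, 3, 5, 4, 7, 3, 8, 9, 6]), 1001, 0),
    ((0, [1, 2, 3, 4, 5, 6, 7, 3, 2, 1, 4, 3, 2, 5, 8, 7, 3, 2, 4, 3, 5, 4, 7, 3, 9, 6, 5]), 1001, 0),
    ((0, [1, 2, 3, 4, 5, 6, 7, 3, 2, 4, 3, 5, 4, 8, 7, 3, 2, 1, 4, 3, 2, 7, 3, 4, 5, 9, 6]), 1001, 0),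
    ((0, [1, 2, 3, 4, 5, 6, 7, 3, 2, 1, 4, 3, 2, 5, 8, 7, 3, 2, 1, 4, 3, 2, 5, 7, 3, 9, 6]), 1001, 0),
    ((0, [1, 2, 3, 4, 5, 6, 7, 3, 2, 1, 4, 3, 2, 5, 7, 8, 7, 3, 2, 1, 0, 4, 3, 5, 9, 6, 5]), 1001, 0),
    ((0, [1, 2, 3, 4, 5, 6, 7, 3, 2, 1, 4, 3, 2, 5, 8, 7, 3, 2, 1, 0, 4, 3, 5, 7, 9, 6, 5]), 1001, 0),
    ((0, [1, 2, 3, 4, 5, 6, 7, 3, 2, 1, 4, 3, 2, 5, 8, 7, 3, 2, 1, 0, 4, 3, 5, 4, 7, 9, 6]), 901, 0),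
    ((0, [1, 2, 3, 4, 5, 6, 7, 3, 2, 1, 4, 3, 2, 5, 8, 7, 3, 2, 1, 0, 4, 3, 2, 5, 9, 6, 5]), 1001, 0),
    ((0, [1, 2, 3, 4, 5, 6, 7, 3, 2, 1, 4, 3, 2, 5, 8, 7, 3, 2, 1, 0, 4, 3, 5, 7, 8, 9, 6]), 1001, 0),
    ((0, [1, 2, 3, 4, 5, 6, 7, 3, 2, 1, 4, 3, 2, 5, 8, 7, 3, 2, 1, 0, 4, 3, 5, 4, 9, 6, 5]), 1001, 0),
    ((0, [1, 2, 3, 4, 5, 6, 7, 3, 2, 1, 4, 3, 2, 8, 7, 3, 2, 1, 4, 3, 5, 4, 7, 3, 9, 6, 5]), 1001, 0),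
    ((0, [1, 2, 3, 4, 5, 6, 7, 3, 2, 1, 4, 3, 2, 8, 7, 3, 2, 1, 0, 4, 3, 5, 4, 7, 9, 6, 5]), 1001, 0),
    ((0, [1, 2, 3, 4, 5, 6, 7, 3, 2, 1, 4, 3, 2, 8, 7, 3, 2, 1, 0, 4, 3, 2, 5, 4, 9, 6, 5]), 1001, 0),
    ((0, [1, 2, 3, 4, 5, 6, 7, 3, 2, 1, 4, 3, 2, 8, 7, 3, 2, 1, 4, 3, 2, 5, 4, 3, 9, 6, 5]), 1001, 0),
    ((0, [1, 2, 3, 4, 5, 6, 7, 3, 2, 1, 4, 3, 2, 5, 4, 8, 7, 3, 2, 1, 0, 4, 3, 5, 4, 6, 5]), 1001, 0),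
    ((0, [1, 2, 3, 4, 5, 6, 7, 3, 2, 1, 4, 3, 5, 8, 7, 3, 2, 4, 3, 5, 4, 7, 3, 2, 1, 0, 8]), 1001, 0),
    ((0, [1, 2, 3, 4, 5, 6, 7, 3, 2, 1, 4, 3, 2, 5, 4, 8, 7, 3, 2, 1, 0, 4, 3, 5, 6, 7, 8]), 1001, 0),
    ((0, [1, 2, 3, 4, 5, 6, 7, 3, 2, 1, 4, 3, 2, 5, 4, 8, 7, 3, 2, 1, 4, 3, 5, 4, 6, 7, 8]), 1001, 0),
    ((0, [1, 2, 3, 4, 5, 6, 7, 3, 2, 1, 4, 3, 5, 8, 7, 3, 2, 1, 4, 3, 2, 7, 3, 4, 5, 6, 8]), 1001, 0),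
    ((0, [1, 2, 3, 4, 5, 6, 7, 3, 2, 1, 4, 3, 2, 5, 8, 7, 3, 2, 4, 3, 5, 4, 7, 3, 2, 1, 8]), 1001, 0),
    ((0, [1, 2, 3, 4, 5, 6, 7, 3, 2, 1, 4, 3, 2, 5, 4, 8, 7, 3, 2, 4, 3, 5, 4, 7, 3, 2, 8]), 1001, 0),
    ((0, [1, 2, 3, 4, 5, 6, 7, 3, 2, 1, 4, 3, 5, 4, 8, 7, 3, 2, 1, 4, 3, 2, 7, 3, 4, 5, 6]), 1001, 0),
    ((0, [1, 2, 3, 4, 5, 6, 7, 3, 2, 1, 4, 5, 8, 7, 3, 2, 1, 4, 3, 2, 5, 4, 7, 3, 2, 1, 8]), 901, 0),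
    ((0, [1, 2, 3, 4, 5, 6, 7, 3, 2, 1, 4, 3, 2, 5, 8, 7, 3, 2, 1, 4, 3, 2, 5, 4, 7, 3, 2]), 1001, 0),
    ((0, [1, 2, 3, 4, 5, 6, 7, 3, 2, 1, 4, 3, 5, 8, 7, 3, 2, 1, 4, 3, 2, 5, 4, 7, 3, 2, 8]), 901, 0),
    ((0, [1, 2, 3, 4, 5, 6, 7, 3, 2, 1, 4, 3, 2, 5, 8, 7, 3, 2, 1, 4, 3, 2, 5, 6, 7, 3, 8]), 1001, 0),
    ((0, [1, 2, 3, 4, 5, 6, 7, 3, 2, 1, 4, 5, 8, 7, 3, 2, 1, 0, 4, 3, 5, 4, 7, 3, 2, 1, 8]), 1001, 0),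
    ((0, [1, 2, 3, 4, 5, 6, 7, 3, 2, 1, 4, 3, 2, 5, 4, 3, 8, 7, 3, 2, 1, 4, 3, 2, 7, 3, 8]), 1001, 0),
    ((0, [1, 2, 3, 4, 5, 6, 7, 3, 2, 1, 4, 3, 2, 5, 4, 3, 8, 7, 3, 2, 1, 4, 3, 5, 6, 9, 6]), 1001, 0),
    ((0, [1, 2, 3, 4, 5, 6, 7, 3, 2, 1, 4, 3, 2, 5, 4, 3, 8, 7, 3, 2, 1, 4, 5, 6, 9, 6, 5]), 1001, 0),
    ((0, [1, 2, 3, 4, 5, 6, 7, 3, 2, 1, 4, 3, 2, 5, 4, 8, 7, 3, 2, 1, 4, 3, 5, 6, 9, 6, 5]), 1001, 0),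
    ((0, [1, 2, 3, 4, 5, 6, 7, 3, 2, 1, 4, 8, 7, 3, 2, 4, 3, 5, 4, 7, 3, 2, 1, 0, 9, 6, 5]), 1001, 0),
    ((0, [1, 2, 3, 4, 5, 6, 7, 3, 2, 1, 4, 5, 8, 7, 3, 2, 1, 4, 3, 7, 8, 9, 6, 5, 4, 3, 2]), 1001, 0),
    ((0, [1, 2, 3, 4, 5, 6, 7, 3, 2, 1, 4, 3, 5, 4, 8, 7, 3, 2, 4, 3, 5, 4, 6, 5, 9, 6, 5]), 1001, 0),
    ((0, [1, 2, 3, 4, 5, 6, 7, 3, 2, 1, 4, 3, 2, 8, 7, 3, 2, 4, 3, 5, 4, 6, 7, 3, 9, 6, 5]), 1001, 0),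
    ((0, [1, 2, 3, 4, 5, 6, 7, 3, 2, 4, 5, 8, 7, 3, 2, 1, 4, 3, 2, 5, 6, 7, 3, 4, 5, 9, 6]), 1001, 0),
    ((0, [1, 2, 3, 4, 5, 6, 7, 3, 2, 1, 4, 3, 2, 5, 8, 7, 3, 2, 4, 3, 5, 4, 6, 7, 9, 6, 5]), 1001, 0),
    ((0, [1, 2, 3, 4, 5, 6, 7, 3, 2, 1, 4, 3, 2, 5, 8, 7, 3, 2, 4, 3, 5, 4, 6, 7, 8, 9, 6]), 1001, 0),
    ((0, [1, 2, 3, 4, 5, 6, 7, 3, 2, 1, 4, 3, 2, 5, 8, 7, 3, 2, 1, 4, 3, 5, 4, 6, 9, 6, 5]), 1001, 0),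
    ((0, [1, 2, 3, 4, 5, 6, 7, 3, 2, 1, 4, 5, 8, 7, 3, 2, 4, 3, 5, 4, 7, 3, 2, 1, 9, 6, 5]), 1001, 0),
    ((0, [1, 2, 3, 4, 5, 6, 7, 3, 2, 1, 4, 3, 5, 8, 7, 3, 2, 4, 3, 7, 8, 9, 6, 5, 4, 3, 2]), 701, 0),
    ((0, [1, 2, 3, 4, 5, 6, 7, 3, 2, 1, 4, 8, 7, 3, 2, 1, 4, 3, 5, 4, 7, 3, 2, 1, 9, 6, 5]), 1001, 0),
    ((0, [1, 2, 3, 4, 5, 6, 7, 3, 2, 1, 4, 3, 8, 7, 3, 2, 4, 3, 5, 4, 7, 3, 2, 1, 9, 6, 5]), 1001, 0),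
    ((0, [1, 2, 3, 4, 5, 6, 7, 3, 2, 1, 4, 3, 2, 5, 4, 8, 7, 3, 2, 4, 3, 5, 4, 6, 9, 6, 5]), 1001, 0),
    ((0, [1, 2, 3, 4, 5, 6, 7, 3, 2, 1, 4, 3, 2, 8, 7, 3, 2, 4, 3, 5, 4, 7, 3, 2, 9, 6, 5]), 1001, 0),
    ((0, [1, 2, 3, 4, 5, 6, 7, 3, 2, 1, 4, 3, 2, 5, 8, 7, 3, 2, 1, 4, 3, 2, 5, 7, 3, 8, 7]), 1001, 0),
    ((0, [1, 2, 3, 4, 5, 6, 7, 3, 2, 1, 4, 5, 8, 7, 3, 2, 1, 4, 3, 2, 5, 4, 6, 7, 3, 8, 7]), 901, 0),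
    ((0, [1, 2, 3, 4, 5, 6, 7, 3, 2, 1, 4, 5, 8, 7, 3, 2, 1, 4, 3, 7, 8, 9, 6, 5, 4, 3, 7]), 1001, 0),
    ((0, [1, 2, 3, 4, 5, 6, 7, 3, 2, 1, 4, 5, 8, 7, 3, 2, 4, 3, 5, 7, 8, 9, 6, 5, 4, 3, 7]), 1001, 0),
    ((0, [1, 2, 3, 4, 5, 6, 7, 3, 2, 1, 4, 5, 8, 7, 3, 2, 4, 3, 5, 7, 8, 9, 6, 5, 4, 3, 2]), 1001, 0),
    ((0, [1, 2, 3, 4, 5, 6, 7, 3, 2, 1, 4, 5, 8, 7, 3, 2, 4, 3, 5, 4, 7, 3, 8, 9, 6, 5, 4]), 1001, 0),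
    ((0, [1, 2, 3, 4, 5, 6, 7, 3, 2, 1, 4, 3, 5, 8, 7, 3, 2, 4, 3, 7, 8, 9, 6, 5, 4, 3, 7]), 701, 0),
    ((0, [1, 2, 3, 4, 5, 6, 7, 3, 2, 1, 4, 5, 8, 7, 3, 2, 1, 4, 3, 2, 5, 4, 7, 3, 2, 8, 9]), 901, 0),
    ((0, [1, 2, 3, 4, 5, 6, 7, 3, 2, 1, 4, 5, 8, 7, 3, 2, 1, 4, 3, 5, 4, 7, 3, 2, 8, 9, 6]), 1001, 0),
    ((0, [1, 2, 3, 4, 5, 6, 7, 3, 2, 1, 4, 8, 7, 3, 2, 1, 0, 4, 3, 5, 4, 7, 3, 2, 9, 6, 5]), 1001, 0),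
    ((0, [1, 2, 3, 4, 5, 6, 7, 3, 2, 1, 4, 3, 5, 4, 7, 8, 7, 3, 2, 4, 3, 5, 4, 7, 3, 8, 7]), 601, 0),
    ((0, [1, 2, 3, 4, 5, 6, 7, 3, 2, 1, 4, 5, 8, 7, 3, 2, 1, 4, 3, 2, 5, 4, 7, 3, 8, 7, 9]), 901, 0),
    ((0, [1, 2, 3, 4, 5, 6, 7, 3, 2, 1, 4, 3, 5, 4, 8, 7, 3, 2, 1, 4, 3, 5, 4, 7, 3, 8, 7]), 1001, 0),
    ((0, [1, 2, 3, 4, 5, 6, 7, 3, 2, 1, 4, 3, 2, 5, 4, 8, 7, 3, 2, 4, 3, 5, 4, 7, 3, 8, 7]), 1001, 0),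
    ((0, [1, 2, 3, 4, 5, 6, 7, 3, 2, 1, 4, 3, 2, 5, 8, 7, 3, 2, 1, 0, 4, 3, 5, 6, 7, 8, 9]), 1001, 0),
    ((0, [1, 2, 3, 4, 5, 6, 7, 3, 2, 1, 4, 3, 2, 5, 8, 7, 3, 2, 1, 4, 3, 5, 6, 7, 8, 9, 6]), 1001, 0),
    ((0, [1, 2, 3, 4, 5, 6, 7, 3, 2, 1, 4, 3, 2, 5, 8, 7, 3, 2, 4, 3, 5, 6, 7, 8, 9, 6, 5]), 1001, 0),
    ((0, [1, 2, 3, 4, 5, 6, 7, 3, 2, 1, 4, 5, 8, 7, 3, 2, 4, 3, 5, 4, 7, 3, 2, 8, 9, 6, 5]), 1001, 0),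
    ((0, [1, 2, 3, 4, 5, 6, 7, 3, 2, 1, 4, 3, 5, 4, 8, 7, 3, 2, 4, 3, 5, 4, 7, 3, 2, 8, 9]), 1001, 0),
    ((0, [1, 2, 3, 4, 5, 6, 7, 3, 2, 1, 4, 3, 5, 8, 7, 3, 2, 4, 3, 5, 4, 7, 3, 2, 8, 9, 6]), 1001, 0),
    ((0, [1, 2, 3, 4, 5, 6, 7, 3, 2, 1, 4, 3, 2, 5, 8, 7, 3, 2, 1, 0, 4, 3, 5, 6, 9, 6, 5]), 1001, 0),
    ((0, [1, 2, 3, 4, 5, 6, 7, 3, 2, 1, 4, 3, 2, 5, 8, 7, 3, 2, 1, 4, 3, 2, 5, 6, 9, 6, 5]), 1001, 0),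
    ((0, [1, 2, 3, 4, 5, 6, 7, 3, 2, 1, 4, 3, 2, 5, 8, 7, 3, 2, 1, 4, 3, 5, 6, 7, 9, 6, 5]), 1001, 0),
    ((0, [1, 2, 3, 4, 5, 6, 7, 3, 2, 1, 4, 3, 2, 5, 4, 8, 7, 3, 2, 1, 0, 4, 3, 5, 6, 9, 6]), 1001, 0),
    ((0, [1, 2, 3, 4, 5, 6, 7, 3, 2, 1, 4, 8, 7, 3, 2, 1, 4, 3, 5, 4, 7, 3, 2, 1, 0, 9, 6]), 1001, 0),
    ((0, [1, 2, 3, 4, 5, 6, 7, 3, 2, 1, 4, 8, 7, 3, 2, 1, 0, 4, 3, 5, 4, 7, 3, 2, 1, 0, 9]), 1001, 0),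
    ((0, [1, 2, 3, 4, 5, 6, 7, 3, 2, 1, 4, 3, 2, 5, 4, 8, 7, 3, 2, 1, 4, 3, 5, 6, 7, 8, 9]), 1001, 0),
    ((0, [1, 2, 3, 4, 5, 6, 7, 3, 2, 1, 4, 3, 8, 7, 3, 2, 1, 4, 3, 5, 4, 7, 3, 2, 1, 0, 9]), 1001, 0),
    ((0, [1, 2, 3, 4, 5, 6, 7, 3, 2, 1, 4, 5, 8, 7, 3, 2, 1, 4, 3, 2, 7, 3, 4, 5, 6, 9, 6]), 1001, 0),
    ((0, [1, 2, 3, 4, 5, 6, 7, 3, 2, 1, 4, 5, 8, 7, 3, 2, 1, 4, 3, 2, 7, 3, 4, 5, 6, 8, 9]), 1001, 0),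
    ((0, [1, 2, 3, 4, 5, 6, 7, 3, 2, 1, 4, 5, 8, 7, 3, 2, 4, 3, 5, 4, 7, 3, 2, 1, 8, 9, 6]), 1001, 0)]

/-- Part 21 of the cycles. -/
def reps21 : List ((Nat × List Nat) × Nat × Nat) :=
  [
    ((0, [1, 2, 3, 4, 5, 6, 7, 3, 2, 1, 4, 5, 8, 7, 3, 2, 1, 4, 3, 5, 4, 7, 3, 2, 1, 8, 9]), 1001, 0),
    ((0, [1, 2, 3, 4, 5, 6, 7, 3, 2, 1, 4, 3, 2, 5, 4, 3, 8, 7, 3, 2, 4, 3, 5, 6, 7, 8, 9]), 1001, 0),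
    ((0, [1, 2, 3, 4, 5, 6, 7, 3, 2, 4, 3, 5, 8, 7, 3, 2, 1, 4, 3, 2, 9, 6, 5, 4, 3, 7, 8]), 1001, 0),
    ((0, [1, 2, 3, 4, 5, 6, 7, 3, 2, 1, 4, 5, 8, 7, 3, 2, 4, 3, 7, 8, 9, 6, 5, 4, 3, 2, 1]), 1001, 0),
    ((0, [1, 2, 3, 4, 5, 6, 7, 3, 2, 1, 4, 3, 5, 4, 7, 3, 8, 7, 3, 2, 4, 5, 9, 6, 5, 4, 3, 2]), 1001, 0),
    ((0, [1, 2, 3, 4, 5, 6, 7, 3, 2, 1, 4, 3, 5, 4, 7, 8, 7, 3, 2, 1, 4, 5, 9, 6, 5, 4, 3, 2]), 1001, 0),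
    ((0, [1, 2, 3, 4, 5, 6, 7, 3, 2, 1, 4, 3, 2, 5, 4, 8, 7, 3, 2, 1, 4, 5, 9, 6, 5, 4, 3, 7]), 1001, 0),
    ((0, [1, 2, 3, 4, 5, 6, 7, 3, 2, 1, 4, 3, 5, 4, 7, 8, 7, 3, 2, 1, 4, 5, 9, 6, 5, 4, 3, 7]), 1001, 0),
    ((0, [1, 2, 3, 4, 5, 6, 7, 3, 2, 1, 4, 3, 2, 5, 4, 8, 7, 3, 2, 1, 4, 5, 9, 6, 5, 4, 3, 2]), 1001, 0),
    ((0, [1, 2, 3, 4, 5, 6, 7, 3, 2, 1, 4, 3, 2, 5, 4, 7, 8, 7, 3, 2, 1, 4, 9, 6, 5, 4, 3, 7]), 1001, 0),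
    ((0, [1, 2, 3, 4, 5, 6, 7, 3, 2, 1, 4, 3, 2, 5, 4, 7, 8, 7, 3, 2, 1, 4, 9, 6, 5, 4, 3, 2]), 1001, 0),
    ((0, [1, 2, 3, 4, 5, 6, 7, 3, 2, 1, 4, 3, 2, 5, 4, 8, 7, 3, 2, 1, 0, 4, 3, 7, 9, 6, 5, 4]), 901, 0),
    ((0, [1, 2, 3, 4, 5, 6, 7, 3, 2, 1, 4, 3, 2, 5, 4, 8, 7, 3, 2, 1, 0, 4, 3, 2, 9, 6, 5, 4]), 901, 0),
    ((0, [1, 2, 3, 4, 5, 6, 7, 3, 2, 1, 4, 3, 5, 7, 8, 7, 3, 2, 1, 0, 4, 3, 2, 1, 5, 9, 6, 5]), 901, 0),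
    ((0, [1, 2, 3, 4, 5, 6, 7, 3, 2, 1, 4, 3, 5, 4, 8, 7, 3, 2, 1, 4, 5, 6, 9, 6, 5, 4, 3, 2]), 1001, 0),
    ((0, [1, 2, 3, 4, 5, 6, 7, 3, 2, 4, 5, 8, 7, 3, 2, 1, 4, 3, 2, 5, 6, 7, 9, 6, 5, 4, 3, 2]), 1001, 0),
    ((0, [1, 2, 3, 4, 5, 6, 7, 3, 2, 1, 4, 3, 5, 4, 7, 8, 7, 3, 2, 1, 4, 3, 2, 5, 6, 9, 6, 5]), 1001, 0),
    ((0, [1, 2, 3, 4, 5, 6, 7, 3, 2, 4, 5, 8, 7, 3, 2, 1, 4, 3, 2, 5, 6, 7, 9, 6, 5, 4, 3, 7]), 1001, 0),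
    ((0, [1, 2, 3, 4, 5, 6, 7, 3, 2, 1, 4, 3, 5, 4, 7, 8, 7, 3, 2, 1, 4, 3, 5, 6, 7, 9, 6, 5]), 1001, 0),
    ((0, [1, 2, 3, 4, 5, 6, 7, 3, 2, 1, 4, 3, 5, 4, 8, 7, 3, 2, 1, 4, 5, 6, 9, 6, 5, 4, 3, 7]), 1001, 0),
    ((0, [1, 2, 3, 4, 5, 6, 7, 3, 2, 1, 4, 3, 5, 8, 7, 3, 2, 1, 0, 4, 3, 2, 1, 5, 6, 9, 6, 5]), 901, 0),
    ((0, [1, 2, 3, 4, 5, 6, 7, 3, 2, 1, 4, 3, 2, 5, 4, 8, 7, 3, 2, 4, 5, 9, 6, 5, 4, 3, 7, 8]), 1001, 0),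
    ((0, [1, 2, 3, 4, 5, 6, 7, 3, 2, 1, 8, 7, 3, 2, 4, 3, 5, 4, 7, 3, 2, 9, 6, 5, 4, 3, 7, 8]), 1001, 0),
    ((0, [1, 2, 3, 4, 5, 6, 7, 3, 2, 1, 4, 3, 2, 5, 4, 3, 8, 7, 3, 4, 5, 9, 6, 5, 4, 3, 2, 1]), 1001, 0),
    ((0, [1, 2, 3, 4, 5, 6, 7, 3, 2, 4, 3, 5, 8, 7, 3, 2, 1, 4, 3, 2, 5, 7, 9, 6, 5, 4, 3, 2]), 1001, 0),
    ((0, [1, 2, 3, 4, 5, 6, 7, 3, 2, 4, 3, 5, 8, 7, 3, 2, 1, 4, 3, 2, 7, 3, 4, 9, 6, 5, 4, 3]), 1001, 0),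
    ((0, [1, 2, 3, 4, 5, 6, 7, 3, 2, 4, 3, 5, 8, 7, 3, 2, 1, 4, 3, 2, 5, 6, 7, 9, 6, 5, 4, 3]), 1001, 0),
    ((0, [1, 2, 3, 4, 5, 6, 7, 3, 2, 4, 3, 5, 7, 8, 7, 3, 2, 1, 4, 3, 2, 5, 4, 9, 6, 5, 4, 3]), 901, 0),
    ((0, [1, 2, 3, 4, 5, 6, 7, 3, 2, 4, 3, 5, 7, 8, 7, 3, 2, 1, 0, 4, 3, 2, 5, 9, 6, 5, 4, 3]), 901, 0),
    ((0, [1, 2, 3, 4, 5, 6, 7, 3, 2, 1, 4, 3, 2, 5, 4, 3, 8, 7, 3, 2, 4, 3, 5, 4, 9, 6, 5, 4]), 901, 0),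
    ((0, [1, 2, 3, 4, 5, 6, 7, 3, 2, 1, 4, 3, 2, 5, 4, 3, 8, 7, 3, 2, 1, 0, 4, 5, 9, 6, 5, 4]), 901, 0),
    ((0, [1, 2, 3, 4, 5, 6, 7, 3, 2, 1, 4, 3, 2, 5, 4, 8, 7, 3, 2, 1, 0, 4, 5, 6, 9, 6, 5, 4]), 901, 0),
    ((0, [1, 2, 3, 4, 5, 6, 7, 3, 2, 1, 4, 3, 5, 4, 7, 3, 8, 7, 3, 2, 4, 9, 6, 5, 4, 3, 7, 8]), 1001, 0),
    ((0, [1, 2, 3, 4, 5, 6, 7, 3, 2, 4, 5, 8, 7, 3, 2, 1, 4, 3, 2, 5, 6, 9, 6, 5, 4, 3, 7, 8]), 901, 0),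
    ((0, [1, 2, 3, 4, 5, 6, 7, 3, 2, 1, 4, 3, 5, 4, 7, 8, 7, 3, 2, 4, 5, 9, 6, 5, 4, 3, 7, 8]), 1001, 0),
    ((0, [1, 2, 3, 4, 5, 6, 7, 3, 2, 1, 4, 3, 5, 4, 8, 7, 3, 2, 1, 4, 5, 9, 6, 5, 4, 3, 7, 8]), 1001, 0),
    ((0, [1, 2, 3, 4, 5, 6, 7, 3, 2, 1, 4, 3, 5, 4, 8, 7, 3, 2, 4, 5, 6, 9, 6, 5, 4, 3, 7, 8]), 1001, 0),
    ((0, [1, 2, 3, 4, 5, 6, 7, 3, 2, 1, 8, 7, 3, 2, 4, 3, 5, 4, 7, 3, 2, 1, 9, 6, 5, 4, 3, 2]), 1001, 0),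
    ((0, [1, 2, 3, 4, 5, 6, 7, 3, 2, 1, 4, 3, 5, 4, 8, 7, 3, 2, 4, 3, 5, 9, 6, 5, 4, 3, 7, 8]), 1001, 0),
    ((0, [1, 2, 3, 4, 5, 6, 7, 3, 4, 5, 8, 7, 3, 2, 1, 4, 3, 2, 7, 3, 4, 5, 9, 6, 5, 4, 3, 7]), 1001, 0),
    ((0, [1, 2, 3, 4, 5, 6, 7, 3, 2, 1, 8, 7, 3, 2, 4, 3, 5, 4, 7, 3, 2, 1, 9, 6, 5, 4, 3, 7]), 1001, 0),
    ((0, [1, 2, 3, 4, 5, 6, 7, 3, 2, 1, 8, 7, 3, 2, 4, 3, 5, 4, 7, 3, 2, 1, 0, 9, 6, 5, 4, 3]), 1001, 0),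
    ((0, [1, 2, 3, 4, 5, 6, 7, 3, 2, 1, 4, 5, 8, 7, 3, 2, 1, 0, 4, 3, 2, 5, 4, 9, 6, 5, 4, 3]), 1001, 0),
    ((0, [1, 2, 3, 4, 5, 6, 7, 3, 2, 1, 4, 5, 8, 7, 3, 2, 1, 0, 4, 3, 2, 5, 4, 6, 9, 6, 5, 4]), 1001, 0),
    ((0, [1, 2, 3, 4, 5, 6, 7, 3, 2, 1, 4, 3, 5, 4, 7, 3, 8, 7, 3, 2, 4, 3, 5, 4, 6, 9, 6, 5]), 1001, 0),
    ((0, [1, 2, 3, 4, 5, 6, 7, 3, 2, 1, 4, 5, 8, 7, 3, 2, 1, 0, 4, 3, 5, 4, 6, 7, 9, 6, 5, 4]), 1001, 0),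
    ((0, [1, 2, 3, 4, 5, 6, 7, 3, 2, 1, 4, 5, 8, 7, 3, 2, 1, 4, 3, 2, 5, 4, 7, 9, 6, 5, 4, 3]), 1001, 0),
    ((0, [1, 2, 3, 4, 5, 6, 7, 3, 2, 1, 4, 3, 2, 5, 4, 8, 7, 3, 2, 1, 0, 4, 3, 2, 1, 5, 7, 9]), 1001, 0),
    ((0, [1, 2, 3, 4, 5, 6, 7, 3, 2, 4, 3, 5, 4, 8, 7, 3, 2, 1, 0, 4, 3, 2, 5, 4, 3, 9, 6, 5]), 1001, 0),
    ((0, [1, 2, 3, 4, 5, 6, 7, 3, 2, 1, 4, 3, 5, 4, 7, 8, 7, 3, 2, 4, 3, 5, 4, 9, 6, 5, 4, 3]), 1001, 0),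
    ((0, [1, 2, 3, 4, 5, 6, 7, 3, 2, 1, 4, 3, 5, 4, 7, 8, 7, 3, 2, 4, 3, 5, 4, 6, 9, 6, 5, 4]), 1001, 0),
    ((0, [1, 2, 3, 4, 5, 6, 7, 3, 2, 1, 4, 3, 5, 4, 8, 7, 3, 2, 4, 3, 5, 4, 6, 9, 6, 5, 4, 3]), 1001, 0),
    ((0, [1, 2, 3, 4, 5, 6, 7, 3, 2, 4, 5, 8, 7, 3, 2, 1, 4, 3, 2, 5, 7, 3, 4, 9, 6, 5, 4, 3]), 1001, 0),
    ((0, [1, 2, 3, 4, 5, 6, 7, 3, 2, 1, 4, 3, 5, 4, 8, 7, 3, 2, 1, 0, 4, 3, 5, 4, 9, 6, 5, 4]), 1001, 0),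
    ((0, [1, 2, 3, 4, 5, 6, 7, 3, 2, 4, 5, 8, 7, 3, 2, 1, 4, 3, 2, 5, 6, 7, 3, 4, 9, 6, 5, 4]), 1001, 0),
    ((0, [1, 2, 3, 4, 5, 6, 7, 3, 2, 1, 4, 3, 5, 4, 7, 8, 7, 3, 2, 1, 4, 3, 5, 4, 6, 9, 6, 5]), 1001, 0),
    ((0, [1, 2, 3, 4, 5, 6, 7, 3, 2, 1, 4, 5, 8, 7, 3, 2, 1, 4, 3, 2, 5, 7, 3, 4, 9, 6, 5, 4]), 1001, 0),
    ((0, [1, 2, 3, 4, 5, 6, 7, 3, 2, 1, 4, 3, 5, 7, 8, 7, 3, 2, 4, 3, 5, 4, 6, 7, 9, 6, 5, 4]), 1001, 0),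
    ((0, [1, 2, 3, 4, 5, 6, 7, 3, 2, 1, 4, 3, 5, 4, 7, 8, 7, 3, 2, 1, 4, 3, 5, 4, 7, 9, 6, 5]), 1001, 0),
    ((0, [1, 2, 3, 4, 5, 6, 7, 3, 2, 1, 4, 5, 8, 7, 3, 2, 1, 4, 3, 2, 5, 6, 7, 3, 4, 9, 6, 5]), 1001, 0),
    ((0, [1, 2, 3, 4, 5, 6, 7, 3, 2, 1, 4, 3, 5, 4, 8, 7, 3, 2, 1, 4, 3, 2, 5, 4, 9, 6, 5, 4]), 1001, 0),
    ((0, [1, 2, 3, 4, 5, 6, 7, 3, 2, 4, 3, 5, 8, 7, 3, 2, 1, 4, 3, 2, 5, 7, 3, 4, 9, 6, 5, 4]), 1001, 0),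
    ((0, [1, 2, 3, 4, 5, 6, 7, 3, 2, 1, 4, 3, 5, 4, 7, 8, 7, 3, 2, 1, 4, 3, 2, 5, 4, 9, 6, 5]), 1001, 0),
    ((0, [1, 2, 3, 4, 5, 6, 7, 3, 2, 1, 4, 3, 5, 4, 8, 7, 3, 2, 1, 4, 3, 2, 5, 4, 6, 9, 6, 5]), 1001, 0),
    ((0, [1, 2, 3, 4, 5, 6, 7, 3, 2, 4, 3, 5, 8, 7, 3, 2, 1, 4, 3, 2, 5, 6, 7, 3, 4, 9, 6, 5]), 1001, 0),
    ((0, [1, 2, 3, 4, 5, 6, 7, 3, 2, 1, 4, 3, 5, 4, 8, 7, 3, 2, 1, 4, 3, 5, 4, 7, 9, 6, 5, 4]), 1001, 0),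
    ((0, [1, 2, 3, 4, 5, 6, 7, 3, 2, 1, 4, 3, 5, 4, 8, 7, 3, 2, 1, 4, 3, 5, 4, 6, 7, 9, 6, 5]), 1001, 0),
    ((0, [1, 2, 3, 4, 5, 6, 7, 3, 2, 1, 4, 3, 2, 5, 4, 8, 7, 3, 2, 4, 3, 5, 4, 9, 6, 5, 4, 3]), 1001, 0),
    ((0, [1, 2, 3, 4, 5, 6, 7, 3, 2, 1, 4, 3, 8, 7, 3, 2, 4, 3, 5, 4, 7, 3, 2, 9, 6, 5, 4, 3]), 1001, 0),
    ((0, [1, 2, 3, 4, 5, 6, 7, 3, 2, 1, 4, 3, 5, 7, 8, 7, 3, 2, 1, 4, 3, 5, 4, 7, 9, 6, 5, 4]), 1001, 0),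
    ((0, [1, 2, 3, 4, 5, 6, 7, 3, 2, 1, 4, 3, 5, 7, 8, 7, 3, 2, 1, 4, 3, 5, 4, 6, 7, 9, 6, 5]), 1001, 0),
    ((0, [1, 2, 3, 4, 5, 6, 7, 3, 2, 1, 4, 3, 5, 7, 8, 7, 3, 2, 1, 4, 3, 2, 5, 4, 9, 6, 5, 4]), 1001, 0),
    ((0, [1, 2, 3, 4, 5, 6, 7, 3, 2, 1, 4, 3, 5, 8, 7, 3, 2, 1, 4, 3, 2, 5, 4, 6, 9, 6, 5, 4]), 1001, 0),
    ((0, [1, 2, 3, 4, 5, 6, 7, 3, 2, 1, 4, 3, 5, 7, 8, 7, 3, 2, 1, 4, 3, 2, 5, 4, 6, 9, 6, 5]), 1001, 0),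
    ((0, [1, 2, 3, 4, 5, 6, 7, 3, 2, 1, 4, 3, 5, 8, 7, 3, 2, 1, 4, 3, 5, 4, 6, 7, 9, 6, 5, 4]), 1001, 0),
    ((0, [1, 2, 3, 4, 5, 6, 7, 3, 2, 1, 4, 3, 5, 8, 7, 3, 2, 1, 4, 3, 2, 5, 4, 9, 6, 5, 4, 3]), 1001, 0),
    ((0, [1, 2, 3, 4, 5, 6, 7, 3, 2, 4, 3, 5, 4, 8, 7, 3, 2, 1, 4, 3, 2, 5, 7, 3, 4, 9, 6, 5]), 1001, 0),
    ((0, [1, 2, 3, 4, 5, 6, 7, 3, 2, 1, 4, 3, 5, 4, 8, 7, 3, 2, 4, 3, 5, 4, 7, 9, 6, 5, 4, 3]), 1001, 0),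
    ((0, [1, 2, 3, 4, 5, 6, 7, 3, 2, 4, 5, 8, 7, 3, 2, 1, 4, 3, 2, 5, 7, 3, 4, 5, 9, 6, 5, 4]), 1001, 0),
    ((0, [1, 2, 3, 4, 5, 6, 7, 3, 2, 1, 4, 3, 2, 5, 4, 8, 7, 3, 2, 4, 3, 5, 4, 6, 9, 6, 5, 4]), 1001, 0),
    ((0, [1, 2, 3, 4, 5, 6, 7, 3, 2, 1, 4, 3, 5, 4, 7, 3, 8, 7, 3, 2, 4, 3, 7, 8, 9, 6, 5, 4]), 1001, 0),
    ((0, [1, 2, 3, 4, 5, 6, 7, 3, 2, 1, 4, 3, 5, 4, 7, 3, 8, 7, 3, 2, 4, 3, 5, 7, 8, 9, 6, 5]), 1001, 0),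
    ((0, [1, 2, 3, 4, 5, 6, 7, 3, 2, 1, 4, 3, 5, 4, 7, 8, 7, 3, 2, 1, 4, 3, 5, 7, 8, 9, 6, 5]), 1001, 0),
    ((0, [1, 2, 3, 4, 5, 6, 7, 3, 2, 1, 4, 3, 5, 4, 8, 7, 3, 2, 1, 0, 4, 3, 5, 7, 8, 9, 6, 5]), 1001, 0),
    ((0, [1, 2, 3, 4, 5, 6, 7, 3, 2, 1, 4, 3, 5, 8, 7, 3, 2, 1, 4, 3, 2, 5, 7, 3, 8, 9, 6, 5]), 1001, 0),
    ((0, [1, 2, 3, 4, 5, 6, 7, 3, 2, 1, 4, 3, 5, 4, 8, 7, 3, 2, 1, 4, 3, 2, 5, 7, 8, 9, 6, 5]), 1001, 0),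
    ((0, [1, 2, 3, 4, 5, 6, 7, 3, 2, 1, 4, 3, 5, 8, 7, 3, 2, 1, 0, 4, 3, 2, 5, 7, 8, 9, 6, 5]), 901, 0),
    ((0, [1, 2, 3, 4, 5, 6, 7, 3, 2, 1, 4, 3, 5, 7, 8, 7, 3, 2, 1, 4, 3, 2, 7, 3, 8, 9, 6, 5]), 901, 0),
    ((0, [1, 2, 3, 4, 5, 6, 7, 3, 2, 1, 4, 3, 5, 7, 8, 7, 3, 2, 1, 4, 3, 2, 5, 7, 3, 8, 9, 6]), 1001, 0),
    ((0, [1, 2, 3, 4, 5, 6, 7, 3, 2, 1, 4, 3, 2, 5, 4, 7, 8, 7, 3, 2, 1, 4, 3, 7, 8, 9, 6, 5]), 1001, 0),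
    ((0, [1, 2, 3, 4, 5, 6, 7, 3, 2, 1, 4, 3, 2, 5, 4, 8, 7, 3, 2, 1, 0, 4, 3, 7, 8, 9, 6, 5]), 1001, 0),
    ((0, [1, 2, 3, 4, 5, 6, 7, 3, 2, 1, 4, 3, 5, 8, 7, 3, 2, 1, 4, 3, 2, 7, 3, 4, 8, 9, 6, 5]), 1001, 0),
    ((0, [1, 2, 3, 4, 5, 6, 7, 3, 2, 1, 4, 3, 2, 5, 4, 8, 7, 3, 2, 1, 4, 3, 2, 7, 8, 9, 6, 5]), 1001, 0),
    ((0, [1, 2, 3, 4, 5, 6, 7, 3, 2, 1, 4, 5, 8, 7, 3, 2, 1, 4, 3, 2, 7, 3, 4, 8, 9, 6, 5, 4]), 901, 0),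
    ((0, [1, 2, 3, 4, 5, 6, 7, 3, 2, 1, 4, 3, 2, 5, 4, 8, 7, 3, 2, 1, 4, 3, 7, 8, 9, 6, 5, 4]), 1001, 0),
    ((0, [1, 2, 3, 4, 5, 6, 7, 3, 2, 1, 4, 3, 2, 5, 7, 8, 7, 3, 2, 1, 4, 3, 7, 8, 9, 6, 5, 4]), 1001, 0),
    ((0, [1, 2, 3, 4, 5, 6, 7, 3, 2, 1, 4, 3, 2, 5, 4, 7, 8, 7, 3, 2, 1, 4, 3, 2, 5, 7, 8, 9]), 1001, 0),
    ((0, [1, 2, 3, 4, 5, 6, 7, 3, 2, 1, 4, 3, 2, 5, 4, 8, 7, 3, 2, 1, 0, 4, 3, 2, 5, 7, 8, 9]), 1001, 0),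
    ((0, [1, 2, 3, 4, 5, 6, 7, 3, 2, 1, 4, 3, 2, 5, 7, 3, 8, 7, 3, 2, 1, 4, 3, 7, 8, 9, 6, 5]), 1001, 0),
    ((0, [1, 2, 3, 4, 5, 6, 7, 3, 2, 1, 4, 3, 2, 5, 4, 3, 8, 7, 3, 2, 1, 4, 3, 7, 8, 9, 6, 5]), 1001, 0),
    ((0, [1, 2, 3, 4, 5, 6, 7, 3, 2, 1, 4, 3, 5, 4, 8, 7, 3, 2, 1, 4, 3, 2, 7, 3, 8, 9, 6, 5]), 1001, 0),
    ((0, [1, 2, 3, 4, 5, 6, 7, 3, 2, 1, 4, 3, 5, 4, 8, 7, 3, 2, 1, 4, 3, 2, 5, 7, 3, 8, 9, 6]), 901, 0),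
    ((0, [1, 2, 3, 4, 5, 6, 7, 3, 2, 1, 4, 3, 5, 4, 8, 7, 3, 2, 1, 4, 3, 2, 7, 3, 4, 5, 8, 9]), 1001, 0),
    ((0, [1, 2, 3, 4, 5, 6, 7, 3, 2, 1, 4, 3, 2, 5, 4, 8, 7, 3, 2, 1, 0, 4, 3, 2, 1, 5, 7, 8]), 1001, 0),
    ((0, [1, 2, 3, 4, 5, 6, 7, 3, 2, 1, 4, 5, 8, 7, 3, 2, 1, 4, 3, 2, 5, 7, 8, 9, 6, 5, 4, 3]), 1001, 0),
    ((0, [1, 2, 3, 4, 5, 6, 7, 3, 2, 1, 4, 3, 5, 4, 7, 8, 7, 3, 2, 4, 3, 5, 6, 7, 8, 9, 6, 5]), 1001, 0),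
    ((0, [1, 2, 3, 4, 5, 6, 7, 3, 2, 1, 4, 5, 8, 7, 3, 2, 1, 4, 3, 2, 5, 6, 7, 3, 8, 9, 6, 5]), 1001, 0),
    ((0, [1, 2, 3, 4, 5, 6, 7, 3, 2, 1, 4, 3, 5, 4, 8, 7, 3, 2, 1, 4, 3, 5, 6, 7, 8, 9, 6, 5]), 1001, 0),
    ((0, [1, 2, 3, 4, 5, 6, 7, 3, 2, 1, 4, 3, 5, 7, 8, 7, 3, 2, 4, 3, 5, 6, 7, 8, 9, 6, 5, 4]), 1001, 0),
    ((0, [1, 2, 3, 4, 5, 6, 7, 3, 2, 1, 4, 3, 5, 4, 8, 7, 3, 2, 4, 3, 5, 6, 7, 8, 9, 6, 5, 4]), 1001, 0),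
    ((0, [1, 2, 3, 4, 5, 6, 7, 3, 2, 1, 4, 3, 5, 4, 7, 3, 8, 7, 3, 2, 4, 3, 5, 6, 7, 8, 9, 6]), 901, 0),
    ((0, [1, 2, 3, 4, 5, 6, 7, 3, 2, 1, 4, 3, 5, 4, 7, 8, 7, 3, 2, 1, 4, 3, 5, 6, 7, 8, 9, 6]), 1001, 0),
    ((0, [1, 2, 3, 4, 5, 6, 7, 3, 2, 1, 4, 3, 5, 4, 8, 7, 3, 2, 1, 0, 4, 3, 5, 6, 7, 8, 9, 6]), 901, 0),
    ((0, [1, 2, 3, 4, 5, 6, 7, 3, 2, 1, 4, 3, 5, 8, 7, 3, 2, 1, 4, 3, 2, 5, 6, 7, 3, 8, 9, 6]), 901, 0),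
    ((0, [1, 2, 3, 4, 5, 6, 7, 3, 2, 1, 4, 3, 5, 4, 8, 7, 3, 2, 1, 4, 3, 2, 5, 6, 7, 8, 9, 6]), 1001, 0),
    ((0, [1, 2, 3, 4, 5, 6, 7, 3, 2, 1, 4, 3, 5, 8, 7, 3, 2, 1, 0, 4, 3, 5, 6, 7, 8, 9, 6, 5]), 901, 0),
    ((0, [1, 2, 3, 4, 5, 6, 7, 3, 2, 1, 4, 3, 5, 8, 7, 3, 2, 1, 0, 4, 3, 2, 5, 6, 7, 8, 9, 6]), 1001, 0),
    ((0, [1, 2, 3, 4, 5, 6, 7, 3, 2, 1, 4, 3, 5, 7, 8, 7, 3, 2, 1, 4, 3, 5, 6, 7, 8, 9, 6, 5]), 1001, 0),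
    ((0, [1, 2, 3, 4, 5, 6, 7, 3, 2, 1, 4, 3, 5, 8, 7, 3, 2, 1, 4, 3, 2, 5, 6, 7, 8, 9, 6, 5]), 1001, 0),
    ((0, [1, 2, 3, 4, 5, 6, 7, 3, 2, 4, 3, 5, 8, 7, 3, 2, 1, 4, 3, 2, 5, 4, 3, 7, 3, 8, 9, 6]), 901, 0)]

/-- Part 22 of the cycles. -/
def reps22 : List ((Nat × List Nat) × Nat × Nat) :=
  [
    ((0, [1, 2, 3, 4, 5, 6, 7, 3, 2, 1, 4, 5, 8, 7, 3, 2, 1, 0, 4, 3, 5, 4, 7, 8, 9, 6, 5, 4]), 1001, 0),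
    ((0, [1, 2, 3, 4, 5, 6, 7, 3, 2, 1, 4, 5, 8, 7, 3, 2, 1, 4, 3, 5, 4, 6, 7, 8, 9, 6, 5, 4]), 1001, 0),
    ((0, [1, 2, 3, 4, 5, 6, 7, 3, 2, 1, 4, 3, 5, 4, 8, 7, 3, 2, 4, 3, 5, 7, 8, 9, 6, 5, 4, 3]), 1001, 0),
    ((0, [1, 2, 3, 4, 5, 6, 7, 3, 2, 1, 4, 3, 2, 5, 4, 8, 7, 3, 2, 4, 3, 7, 8, 9, 6, 5, 4, 3]), 1001, 0),
    ((0, [1, 2, 3, 4, 5, 6, 7, 3, 2, 1, 4, 3, 5, 7, 8, 7, 3, 2, 4, 3, 5, 4, 7, 8, 9, 6, 5, 4]), 1001, 0),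
    ((0, [1, 2, 3, 4, 5, 6, 7, 3, 2, 1, 4, 3, 5, 4, 8, 7, 3, 2, 4, 3, 5, 4, 7, 8, 9, 6, 5, 4]), 1001, 0),
    ((0, [1, 2, 3, 4, 5, 6, 7, 3, 2, 1, 4, 3, 5, 8, 7, 3, 2, 1, 4, 3, 5, 4, 7, 8, 9, 6, 5, 4]), 1001, 0),
    ((0, [1, 2, 3, 4, 5, 6, 7, 3, 2, 1, 4, 3, 5, 8, 7, 3, 2, 4, 3, 5, 4, 6, 7, 8, 9, 6, 5, 4]), 1001, 0),
    ((0, [1, 2, 3, 4, 5, 6, 7, 3, 2, 1, 4, 3, 5, 4, 7, 3, 8, 7, 3, 2, 4, 3, 5, 4, 7, 8, 9, 6]), 1001, 0),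
    ((0, [1, 2, 3, 4, 5, 6, 7, 3, 2, 1, 4, 5, 8, 7, 3, 2, 1, 4, 3, 2, 5, 4, 6, 7, 8, 9, 6, 5]), 1001, 0),
    ((0, [1, 2, 3, 4, 5, 6, 7, 3, 2, 1, 4, 3, 2, 5, 4, 8, 7, 3, 2, 1, 0, 4, 3, 5, 4, 7, 8, 9]), 1001, 0),
    ((0, [1, 2, 3, 4, 5, 6, 7, 3, 2, 1, 4, 3, 5, 8, 7, 3, 2, 1, 4, 3, 2, 5, 7, 3, 4, 5, 8, 9]), 1001, 0),
    ((0, [1, 2, 3, 4, 5, 6, 7, 3, 2, 1, 4, 3, 5, 4, 8, 7, 3, 2, 1, 4, 3, 2, 5, 7, 3, 4, 5, 8]), 1001, 0),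
    ((0, [1, 2, 3, 4, 5, 6, 7, 3, 2, 1, 4, 3, 5, 4, 7, 8, 7, 3, 2, 4, 3, 5, 4, 7, 8, 9, 6, 5]), 1001, 0),
    ((0, [1, 2, 3, 4, 5, 6, 7, 3, 2, 1, 4, 5, 8, 7, 3, 2, 1, 4, 3, 2, 5, 7, 3, 4, 8, 9, 6, 5]), 1001, 0),
    ((0, [1, 2, 3, 4, 5, 6, 7, 3, 2, 1, 4, 3, 5, 4, 8, 7, 3, 2, 1, 4, 3, 5, 4, 7, 8, 9, 6, 5]), 1001, 0),
    ((0, [1, 2, 3, 4, 5, 6, 7, 3, 2, 1, 4, 3, 5, 7, 8, 7, 3, 2, 1, 4, 3, 5, 4, 7, 8, 9, 6, 5]), 1001, 0),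
    ((0, [1, 2, 3, 4, 5, 6, 7, 3, 2, 1, 4, 3, 5, 8, 7, 3, 2, 1, 4, 3, 2, 5, 4, 7, 8, 9, 6, 5]), 1001, 0),
    ((0, [1, 2, 3, 4, 5, 6, 7, 3, 2, 1, 4, 3, 5, 7, 8, 7, 3, 2, 4, 3, 5, 4, 6, 7, 8, 9, 6, 5]), 1001, 0),
    ((0, [1, 2, 3, 4, 5, 6, 7, 3, 2, 1, 4, 3, 5, 4, 8, 7, 3, 2, 4, 3, 5, 4, 6, 7, 8, 9, 6, 5]), 1001, 0),
    ((0, [1, 2, 3, 4, 5, 6, 7, 3, 2, 1, 4, 3, 5, 8, 7, 3, 2, 1, 4, 3, 5, 4, 6, 7, 8, 9, 6, 5]), 1001, 0),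
    ((0, [1, 2, 3, 4, 5, 6, 7, 3, 2, 1, 4, 3, 5, 7, 8, 7, 3, 2, 1, 4, 3, 2, 5, 6, 7, 3, 8, 9]), 1001, 0),
    ((0, [1, 2, 3, 4, 5, 6, 7, 3, 2, 1, 4, 3, 5, 4, 8, 7, 3, 2, 1, 4, 3, 2, 5, 6, 7, 3, 8, 9]), 901, 0),
    ((0, [1, 2, 3, 4, 5, 6, 7, 3, 2, 1, 4, 3, 5, 4, 7, 3, 8, 7, 3, 2, 4, 3, 5, 4, 6, 7, 8, 9]), 1001, 0),
    ((0, [1, 2, 3, 4, 5, 6, 7, 3, 2, 1, 4, 3, 2, 5, 7, 8, 7, 3, 2, 1, 4, 3, 2, 7, 3, 9, 6, 5]), 1001, 0),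
    ((0, [1, 2, 3, 4, 5, 6, 7, 3, 2, 1, 4, 3, 2, 5, 8, 7, 3, 2, 1, 4, 3, 2, 7, 3, 4, 5, 8, 9]), 1001, 0),
    ((0, [1, 2, 3, 4, 5, 6, 7, 3, 2, 1, 4, 3, 2, 5, 7, 8, 7, 3, 2, 1, 4, 3, 2, 5, 7, 3, 8, 9]), 901, 0),
    ((0, [1, 2, 3, 4, 5, 6, 7, 3, 2, 1, 4, 3, 2, 5, 4, 7, 8, 7, 3, 2, 1, 4, 3, 2, 5, 7, 3, 8]), 901, 0),
    ((0, [1, 2, 3, 4, 5, 6, 7, 3, 2, 1, 4, 3, 2, 5, 4, 8, 7, 3, 2, 1, 4, 3, 2, 7, 3, 4, 5, 8]), 1001, 0),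
    ((0, [1, 2, 3, 4, 5, 6, 7, 3, 2, 1, 4, 5, 8, 7, 3, 2, 1, 0, 4, 3, 5, 7, 8, 9, 6, 5, 4, 3]), 901, 0),
    ((0, [1, 2, 3, 4, 5, 6, 7, 3, 2, 1, 4, 5, 8, 7, 3, 2, 1, 4, 3, 5, 4, 7, 8, 9, 6, 5, 4, 3]), 1001, 0),
    ((0, [1, 2, 3, 4, 5, 6, 7, 3, 2, 1, 4, 5, 8, 7, 3, 2, 4, 3, 5, 4, 6, 7, 8, 9, 6, 5, 4, 3]), 1001, 0),
    ((0, [1, 2, 3, 4, 5, 6, 7, 3, 2, 1, 4, 3, 2, 5, 7, 8, 7, 3, 2, 4, 3, 7, 8, 9, 6, 5, 4, 3]), 1001, 0),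
    ((0, [1, 2, 3, 4, 5, 6, 7, 3, 2, 1, 4, 3, 5, 7, 8, 7, 3, 2, 4, 3, 5, 4, 7, 9, 6, 5, 4, 3]), 1001, 0),
    ((0, [1, 2, 3, 4, 5, 6, 7, 3, 2, 1, 4, 5, 8, 7, 3, 2, 1, 4, 3, 2, 5, 4, 7, 3, 8, 9, 6, 5]), 1001, 0),
    ((0, [1, 2, 3, 4, 5, 6, 7, 3, 2, 1, 4, 5, 8, 7, 3, 2, 1, 4, 3, 2, 5, 4, 6, 7, 3, 8, 9, 6]), 901, 0),
    ((0, [1, 2, 3, 4, 5, 6, 7, 3, 2, 1, 4, 5, 8, 7, 3, 2, 1, 4, 3, 2, 5, 4, 6, 7, 3, 9, 6, 5]), 1001, 0),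
    ((0, [1, 2, 3, 4, 5, 6, 7, 3, 2, 1, 4, 3, 5, 4, 7, 8, 7, 3, 2, 4, 3, 5, 4, 7, 3, 9, 6, 5]), 1001, 0),
    ((0, [1, 2, 3, 4, 5, 6, 7, 3, 2, 1, 4, 5, 8, 7, 3, 2, 1, 4, 3, 2, 5, 4, 7, 3, 4, 9, 6, 5]), 1001, 0),
    ((0, [1, 2, 3, 4, 5, 6, 7, 3, 2, 1, 4, 5, 8, 7, 3, 2, 1, 0, 4, 3, 5, 4, 7, 3, 8, 9, 6, 5]), 1001, 0),
    ((0, [1, 2, 3, 4, 5, 6, 7, 3, 2, 1, 4, 3, 2, 5, 7, 8, 7, 3, 2, 1, 0, 4, 3, 5, 7, 9, 6, 5]), 1001, 0),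
    ((0, [1, 2, 3, 4, 5, 6, 7, 3, 2, 1, 4, 3, 2, 5, 7, 8, 7, 3, 2, 1, 4, 3, 5, 7, 8, 9, 6, 5]), 1001, 0),
    ((0, [1, 2, 3, 4, 5, 6, 7, 3, 2, 1, 4, 3, 2, 5, 7, 3, 8, 7, 3, 2, 1, 4, 3, 2, 7, 3, 8, 9]), 1001, 0),
    ((0, [1, 2, 3, 4, 5, 6, 7, 3, 2, 1, 4, 3, 2, 5, 8, 7, 3, 2, 1, 4, 3, 2, 7, 3, 8, 9, 6, 5]), 901, 0),
    ((0, [1, 2, 3, 4, 5, 6, 7, 3, 2, 1, 4, 3, 2, 5, 4, 8, 7, 3, 2, 1, 4, 3, 2, 5, 7, 3, 8, 9]), 1001, 0),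
    ((0, [1, 2, 3, 4, 5, 6, 7, 3, 2, 1, 4, 3, 5, 4, 8, 7, 3, 2, 1, 0, 4, 3, 2, 7, 3, 8, 9, 6]), 1001, 0),
    ((0, [1, 2, 3, 4, 5, 6, 7, 3, 2, 1, 4, 3, 5, 4, 8, 7, 3, 2, 1, 0, 4, 3, 2, 5, 7, 3, 8, 9]), 1001, 0),
    ((0, [1, 2, 3, 4, 5, 6, 7, 3, 2, 4, 3, 5, 8, 7, 3, 2, 1, 4, 3, 2, 5, 4, 3, 7, 8, 9, 6, 5]), 901, 0),
    ((0, [1, 2, 3, 4, 5, 6, 7, 3, 2, 4, 3, 5, 4, 8, 7, 3, 2, 1, 4, 3, 2, 5, 4, 3, 7, 8, 9, 6]), 1001, 0),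
    ((0, [1, 2, 3, 4, 5, 6, 7, 3, 2, 1, 4, 3, 5, 8, 7, 3, 2, 4, 3, 5, 4, 7, 8, 9, 6, 5, 4, 3]), 1001, 0),
    ((0, [1, 2, 3, 4, 5, 6, 7, 3, 2, 1, 4, 3, 5, 8, 7, 3, 2, 4, 3, 5, 4, 6, 7, 9, 6, 5, 4, 3]), 1001, 0),
    ((0, [1, 2, 3, 4, 5, 6, 7, 3, 2, 1, 4, 3, 5, 8, 7, 3, 2, 1, 4, 3, 2, 7, 8, 9, 6, 5, 4, 3]), 1001, 0),
    ((0, [1, 2, 3, 4, 5, 6, 7, 3, 2, 1, 4, 3, 5, 7, 8, 7, 3, 2, 1, 4, 3, 5, 4, 7, 3, 9, 6, 5]), 1001, 0),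
    ((0, [1, 2, 3, 4, 5, 6, 7, 3, 2, 1, 4, 3, 5, 7, 8, 7, 3, 2, 4, 3, 5, 4, 7, 3, 8, 9, 6, 5]), 1001, 0),
    ((0, [1, 2, 3, 4, 5, 6, 7, 3, 2, 1, 4, 3, 2, 5, 8, 7, 3, 2, 4, 3, 5, 4, 6, 5, 7, 9, 6, 5]), 1001, 0),
    ((0, [1, 2, 3, 4, 5, 6, 7, 3, 2, 1, 4, 3, 5, 7, 8, 7, 3, 2, 1, 4, 3, 2, 5, 4, 3, 9, 6, 5]), 1001, 0),
    ((0, [1, 2, 3, 4, 5, 6, 7, 3, 2, 1, 4, 3, 5, 4, 8, 7, 3, 2, 1, 4, 3, 2, 5, 4, 3, 9, 6, 5]), 1001, 0),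
    ((0, [1, 2, 3, 4, 5, 6, 7, 3, 2, 1, 4, 3, 5, 8, 7, 3, 2, 1, 0, 4, 3, 2, 1, 5, 4, 9, 6, 5]), 1001, 0),
    ((0, [1, 2, 3, 4, 5, 6, 7, 3, 2, 1, 4, 3, 5, 7, 8, 7, 3, 2, 1, 0, 4, 3, 2, 5, 4, 9, 6, 5]), 1001, 0),
    ((0, [1, 2, 3, 4, 5, 6, 7, 3, 2, 1, 4, 3, 5, 8, 7, 3, 2, 1, 4, 3, 2, 5, 4, 7, 3, 4, 5, 8]), 1001, 0),
    ((0, [1, 2, 3, 4, 5, 6, 7, 3, 2, 1, 4, 3, 2, 5, 7, 8, 7, 3, 2, 1, 4, 3, 2, 5, 4, 7, 3, 8]), 901, 0),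
    ((0, [1, 2, 3, 4, 5, 6, 7, 3, 2, 1, 4, 3, 5, 4, 8, 7, 3, 2, 1, 4, 3, 5, 4, 7, 3, 9, 6, 5]), 1001, 0),
    ((0, [1, 2, 3, 4, 5, 6, 7, 3, 2, 1, 4, 3, 5, 4, 8, 7, 3, 2, 4, 3, 5, 4, 7, 3, 8, 9, 6, 5]), 1001, 0),
    ((0, [1, 2, 3, 4, 5, 6, 7, 3, 2, 1, 4, 3, 5, 4, 8, 7, 3, 2, 4, 3, 5, 4, 6, 7, 3, 8, 9, 6]), 1001, 0),
    ((0, [1, 2, 3, 4, 5, 6, 7, 3, 2, 1, 4, 3, 5, 4, 8, 7, 3, 2, 4, 3, 5, 4, 6, 7, 3, 9, 6, 5]), 1001, 0),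
    ((0, [1, 2, 3, 4, 5, 6, 7, 3, 2, 1, 4, 3, 5, 8, 7, 3, 2, 1, 4, 3, 5, 4, 7, 3, 8, 9, 6, 5]), 1001, 0),
    ((0, [1, 2, 3, 4, 5, 6, 7, 3, 2, 1, 4, 3, 2, 5, 7, 8, 7, 3, 2, 1, 4, 3, 5, 4, 7, 9, 6, 5]), 1001, 0),
    ((0, [1, 2, 3, 4, 5, 6, 7, 3, 2, 1, 4, 3, 2, 5, 7, 8, 7, 3, 2, 4, 3, 5, 4, 7, 8, 9, 6, 5]), 1001, 0),
    ((0, [1, 2, 3, 4, 5, 6, 7, 3, 2, 1, 4, 3, 2, 5, 8, 7, 3, 2, 1, 4, 3, 2, 5, 4, 7, 3, 8, 9]), 1001, 0),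
    ((0, [1, 2, 3, 4, 5, 6, 7, 3, 2, 1, 4, 3, 5, 8, 7, 3, 2, 1, 4, 3, 2, 5, 4, 7, 3, 8, 9, 6]), 901, 0),
    ((0, [1, 2, 3, 4, 5, 6, 7, 3, 2, 1, 4, 3, 5, 8, 7, 3, 2, 1, 4, 3, 2, 5, 4, 7, 3, 9, 6, 5]), 1001, 0),
    ((0, [1, 2, 3, 4, 5, 6, 7, 3, 2, 1, 4, 3, 2, 5, 8, 7, 3, 2, 4, 3, 5, 4, 6, 7, 3, 2, 1, 8]), 1001, 0),
    ((0, [1, 2, 3, 4, 5, 6, 7, 3, 2, 1, 4, 5, 8, 7, 3, 2, 1, 4, 3, 2, 5, 6, 7, 3, 4, 5, 8, 9]), 1001, 0),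
    ((0, [1, 2, 3, 4, 5, 6, 7, 3, 2, 1, 4, 3, 5, 8, 7, 3, 2, 1, 4, 3, 2, 5, 6, 7, 3, 4, 5, 8]), 1001, 0),
    ((0, [1, 2, 3, 4, 5, 6, 7, 3, 2, 1, 4, 3, 2, 5, 4, 8, 7, 3, 2, 4, 3, 5, 4, 6, 7, 3, 2, 8]), 1001, 0),
    ((0, [1, 2, 3, 4, 5, 6, 7, 3, 2, 1, 4, 3, 5, 4, 8, 7, 3, 2, 1, 4, 3, 5, 4, 6, 5, 7, 8, 9]), 1001, 0),
    ((0, [1, 2, 3, 4, 5, 6, 7, 3, 2, 1, 4, 3, 5, 4, 8, 7, 3, 2, 1, 0, 4, 3, 5, 4, 6, 5, 7, 8]), 1001, 0),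
    ((0, [1, 2, 3, 4, 5, 6, 7, 3, 2, 1, 4, 3, 5, 4, 8, 7, 3, 2, 1, 4, 3, 2, 5, 4, 6, 5, 7, 8]), 1001, 0),
    ((0, [1, 2, 3, 4, 5, 6, 7, 3, 2, 4, 3, 5, 8, 7, 3, 2, 1, 4, 3, 2, 5, 4, 3, 7, 3, 4, 5, 8]), 1001, 0),
    ((0, [1, 2, 3, 4, 5, 6, 7, 3, 2, 1, 4, 3, 5, 4, 7, 8, 7, 3, 2, 4, 3, 5, 4, 7, 3, 2, 8, 9]), 701, 0),
    ((0, [1, 2, 3, 4, 5, 6, 7, 3, 2, 1, 4, 3, 5, 7, 8, 7, 3, 2, 1, 4, 3, 2, 5, 4, 7, 3, 2, 8]), 1001, 0),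
    ((0, [1, 2, 3, 4, 5, 6, 7, 3, 2, 1, 4, 3, 2, 5, 7, 8, 7, 3, 2, 1, 0, 4, 3, 2, 9, 6, 5, 4]), 1001, 0),
    ((0, [1, 2, 3, 4, 5, 6, 7, 3, 2, 1, 4, 3, 2, 5, 7, 8, 7, 3, 2, 1, 0, 4, 3, 7, 9, 6, 5, 4]), 1001, 0),
    ((0, [1, 2, 3, 4, 5, 6, 7, 3, 2, 1, 4, 3, 2, 5, 7, 3, 8, 7, 3, 2, 1, 0, 4, 3, 7, 9, 6, 5]), 1001, 0),
    ((0, [1, 2, 3, 4, 5, 6, 7, 3, 2, 1, 4, 3, 2, 5, 7, 8, 7, 3, 2, 1, 0, 4, 3, 2, 1, 9, 6, 5]), 1001, 0),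
    ((0, [1, 2, 3, 4, 5, 6, 7, 3, 2, 1, 4, 3, 2, 5, 8, 7, 3, 2, 1, 0, 4, 3, 2, 1, 7, 9, 6, 5]), 1001, 0),
    ((0, [1, 2, 3, 4, 5, 6, 7, 3, 2, 1, 4, 3, 2, 5, 7, 8, 7, 3, 2, 1, 0, 4, 3, 7, 8, 9, 6, 5]), 1001, 0),
    ((0, [1, 2, 3, 4, 5, 6, 7, 3, 2, 1, 4, 3, 2, 5, 7, 8, 7, 3, 2, 1, 0, 4, 3, 2, 5, 7, 8, 9]), 1001, 0),
    ((0, [1, 2, 3, 4, 5, 6, 7, 3, 2, 1, 4, 3, 2, 5, 8, 7, 3, 2, 1, 0, 4, 3, 2, 7, 8, 9, 6, 5]), 1001, 0),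
    ((0, [1, 2, 3, 4, 5, 6, 7, 3, 2, 1, 4, 3, 2, 5, 8, 7, 3, 2, 1, 0, 4, 3, 7, 8, 9, 6, 5, 4]), 1001, 0),
    ((0, [1, 2, 3, 4, 5, 6, 7, 3, 2, 1, 4, 3, 2, 5, 7, 8, 7, 3, 2, 1, 0, 4, 3, 2, 1, 5, 7, 8]), 1001, 0),
    ((0, [1, 2, 3, 4, 5, 6, 7, 3, 2, 1, 4, 3, 2, 5, 8, 7, 3, 2, 1, 0, 4, 3, 2, 1, 5, 7, 8, 9]), 1001, 0),
    ((0, [1, 2, 3, 4, 5, 6, 7, 3, 2, 1, 4, 3, 2, 5, 8, 7, 3, 2, 1, 0, 4, 3, 2, 1, 5, 4, 7, 8]), 901, 0),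
    ((0, [1, 2, 3, 4, 5, 6, 7, 3, 2, 1, 4, 3, 2, 5, 8, 7, 3, 2, 1, 0, 4, 3, 2, 7, 3, 9, 6, 5]), 1001, 0),
    ((0, [1, 2, 3, 4, 5, 6, 7, 3, 2, 1, 4, 3, 2, 5, 8, 7, 3, 2, 1, 0, 4, 3, 2, 5, 7, 3, 8, 9]), 1001, 0),
    ((0, [1, 2, 3, 4, 5, 6, 7, 3, 2, 1, 4, 3, 2, 5, 7, 8, 7, 3, 2, 1, 4, 3, 2, 7, 3, 4, 5, 8]), 1001, 0),
    ((0, [1, 2, 3, 4, 5, 6, 7, 3, 2, 1, 4, 3, 5, 7, 8, 7, 3, 2, 1, 0, 4, 3, 5, 7, 8, 9, 6, 5]), 901, 0),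
    ((0, [1, 2, 3, 4, 5, 6, 7, 3, 2, 1, 4, 3, 2, 5, 8, 7, 3, 2, 1, 0, 4, 3, 2, 5, 4, 7, 3, 8]), 1001, 0),
    ((0, [1, 2, 3, 4, 5, 6, 7, 3, 2, 1, 4, 3, 5, 8, 7, 3, 2, 1, 0, 4, 3, 2, 5, 4, 9, 6, 5, 4]), 1001, 0),
    ((0, [1, 2, 3, 4, 5, 6, 7, 3, 2, 1, 4, 3, 5, 8, 7, 3, 2, 1, 0, 4, 3, 5, 4, 7, 9, 6, 5, 4]), 1001, 0),
    ((0, [1, 2, 3, 4, 5, 6, 7, 3, 2, 1, 4, 3, 5, 7, 8, 7, 3, 2, 1, 0, 4, 3, 5, 4, 7, 9, 6, 5]), 1001, 0),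
    ((0, [1, 2, 3, 4, 5, 6, 7, 3, 2, 1, 4, 3, 5, 8, 7, 3, 2, 1, 0, 4, 3, 5, 4, 7, 8, 9, 6, 5]), 1001, 0),
    ((0, [1, 2, 3, 4, 5, 6, 7, 3, 2, 1, 4, 3, 5, 8, 7, 3, 2, 1, 0, 4, 3, 5, 4, 7, 3, 9, 6, 5]), 1001, 0),
    ((0, [1, 2, 3, 4, 5, 6, 7, 3, 2, 1, 4, 3, 8, 7, 3, 2, 1, 4, 3, 2, 5, 4, 3, 7, 8, 9, 6, 5]), 1001, 0),
    ((0, [1, 2, 3, 4, 5, 6, 7, 3, 2, 1, 4, 3, 5, 8, 7, 3, 2, 1, 0, 4, 3, 5, 4, 6, 7, 9, 6, 5]), 1001, 0),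
    ((0, [1, 2, 3, 4, 5, 6, 7, 3, 2, 1, 4, 3, 8, 7, 3, 2, 1, 4, 3, 2, 5, 4, 3, 7, 3, 9, 6, 5]), 1001, 0),
    ((0, [1, 2, 3, 4, 5, 6, 7, 3, 2, 1, 4, 3, 2, 5, 4, 8, 7, 3, 2, 1, 4, 3, 2, 5, 4, 3, 7, 8]), 1001, 0),
    ((0, [1, 2, 3, 4, 5, 6, 7, 3, 2, 1, 4, 3, 2, 5, 8, 7, 3, 2, 1, 4, 3, 2, 5, 4, 3, 7, 3, 8]), 1001, 0),
    ((0, [1, 2, 3, 4, 5, 6, 7, 3, 2, 1, 4, 3, 2, 5, 8, 7, 3, 2, 1, 4, 3, 2, 5, 4, 3, 7, 3, 9]), 1001, 0),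
    ((0, [1, 2, 3, 4, 5, 6, 7, 3, 2, 1, 4, 3, 2, 5, 8, 7, 3, 2, 1, 0, 4, 3, 5, 4, 6, 7, 8, 9]), 701, 0),
    ((0, [1, 2, 3, 4, 5, 6, 7, 3, 2, 1, 4, 3, 2, 5, 8, 7, 3, 2, 1, 4, 3, 5, 4, 6, 5, 9, 6, 5]), 1001, 0),
    ((0, [1, 2, 3, 4, 5, 6, 7, 3, 2, 1, 4, 3, 2, 7, 8, 7, 3, 2, 1, 4, 3, 2, 5, 4, 3, 9, 6, 5]), 1001, 0),
    ((0, [1, 2, 3, 4, 5, 6, 7, 3, 2, 1, 4, 3, 2, 5, 7, 8, 7, 3, 2, 1, 0, 4, 3, 5, 4, 9, 6, 5]), 1001, 0),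
    ((0, [1, 2, 3, 4, 5, 6, 7, 3, 2, 1, 4, 3, 2, 5, 4, 7, 8, 7, 3, 2, 1, 4, 3, 5, 7, 9, 6, 5]), 1001, 0),
    ((0, [1, 2, 3, 4, 5, 6, 7, 3, 2, 1, 4, 3, 2, 5, 4, 7, 8, 7, 3, 2, 1, 4, 3, 2, 5, 9, 6, 5]), 1001, 0),
    ((0, [1, 2, 3, 4, 5, 6, 7, 3, 2, 4, 3, 5, 8, 7, 3, 2, 1, 4, 3, 2, 7, 3, 4, 5, 9, 6, 5, 4]), 901, 0),
    ((0, [1, 2, 3, 4, 5, 6, 7, 3, 2, 1, 4, 3, 2, 5, 4, 7, 8, 7, 3, 2, 4, 3, 5, 7, 8, 9, 6, 5]), 1001, 0),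
    ((0, [1, 2, 3, 4, 5, 6, 7, 3, 2, 1, 4, 3, 2, 5, 4, 7, 8, 7, 3, 2, 1, 4, 3, 5, 7, 8, 9, 6]), 1001, 0),
    ((0, [1, 2, 3, 4, 5, 6, 7, 3, 2, 1, 4, 5, 8, 7, 3, 2, 1, 4, 3, 2, 7, 3, 4, 5, 8, 9, 6, 5]), 1001, 0),
    ((0, [1, 2, 3, 4, 5, 6, 7, 3, 2, 1, 4, 3, 2, 5, 4, 8, 7, 3, 2, 1, 4, 3, 5, 7, 8, 9, 6, 5]), 1001, 0)]

/-- Part 23 of the cycles. -/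
def reps23 : List ((Nat × List Nat) × Nat × Nat) :=
  [
    ((0, [1, 2, 3, 4, 5, 6, 7, 3, 2, 1, 4, 3, 2, 5, 4, 8, 7, 3, 2, 1, 0, 4, 3, 5, 7, 8, 9, 6]), 1001, 0),
    ((0, [1, 2, 3, 4, 5, 6, 7, 3, 2, 1, 4, 3, 2, 5, 4, 3, 8, 7, 3, 2, 4, 3, 5, 7, 8, 9, 6, 5]), 1001, 0),
    ((0, [1, 2, 3, 4, 5, 6, 7, 3, 2, 1, 4, 3, 2, 5, 4, 3, 8, 7, 3, 2, 1, 4, 3, 5, 7, 8, 9, 6]), 1001, 0),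
    ((0, [1, 2, 3, 4, 5, 6, 7, 3, 2, 1, 4, 5, 8, 7, 3, 2, 1, 4, 3, 2, 5, 7, 3, 4, 5, 8, 9, 6]), 1001, 0),
    ((0, [1, 2, 3, 4, 5, 6, 7, 3, 2, 1, 4, 3, 2, 5, 4, 8, 7, 3, 2, 1, 4, 3, 5, 4, 7, 8, 9, 6]), 1001, 0),
    ((0, [1, 2, 3, 4, 5, 6, 7, 3, 2, 1, 4, 3, 5, 8, 7, 3, 2, 1, 4, 3, 2, 7, 3, 4, 5, 8, 9, 6]), 1001, 0),
    ((0, [1, 2, 3, 4, 5, 6, 7, 3, 2, 1, 4, 3, 2, 5, 4, 8, 7, 3, 2, 1, 4, 3, 2, 5, 7, 8, 9, 6]), 1001, 0),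
    ((0, [1, 2, 3, 4, 5, 6, 7, 3, 2, 1, 4, 3, 2, 5, 8, 7, 3, 2, 1, 4, 3, 5, 7, 8, 9, 6, 5, 4]), 1001, 0),
    ((0, [1, 2, 3, 4, 5, 6, 7, 3, 2, 1, 4, 3, 2, 5, 7, 8, 7, 3, 2, 4, 3, 5, 7, 8, 9, 6, 5, 4]), 1001, 0),
    ((0, [1, 2, 3, 4, 5, 6, 7, 3, 2, 1, 4, 3, 2, 5, 4, 7, 8, 7, 3, 2, 1, 4, 3, 5, 4, 9, 6, 5]), 1001, 0),
    ((0, [1, 2, 3, 4, 5, 6, 7, 3, 2, 1, 4, 5, 8, 7, 3, 2, 1, 4, 3, 2, 5, 7, 3, 4, 5, 9, 6, 5]), 1001, 0),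
    ((0, [1, 2, 3, 4, 5, 6, 7, 3, 2, 1, 4, 3, 2, 5, 4, 8, 7, 3, 2, 1, 4, 3, 5, 4, 7, 9, 6, 5]), 1001, 0),
    ((0, [1, 2, 3, 4, 5, 6, 7, 3, 2, 1, 4, 3, 2, 5, 4, 8, 7, 3, 2, 1, 4, 3, 2, 5, 4, 9, 6, 5]), 1001, 0),
    ((0, [1, 2, 3, 4, 5, 6, 7, 3, 2, 4, 3, 5, 8, 7, 3, 2, 1, 4, 3, 2, 5, 7, 3, 4, 5, 9, 6, 5]), 1001, 0),
    ((0, [1, 2, 3, 4, 5, 6, 7, 3, 2, 1, 4, 3, 2, 5, 8, 7, 3, 2, 1, 4, 3, 5, 4, 7, 9, 6, 5, 4]), 1001, 0),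
    ((0, [1, 2, 3, 4, 5, 6, 7, 3, 2, 1, 4, 3, 2, 5, 8, 7, 3, 2, 1, 4, 3, 2, 5, 4, 9, 6, 5, 4]), 1001, 0),
    ((0, [1, 2, 3, 4, 5, 6, 7, 3, 2, 1, 4, 3, 2, 5, 4, 8, 7, 3, 2, 4, 3, 5, 4, 7, 8, 9, 6, 5]), 1001, 0),
    ((0, [1, 2, 3, 4, 5, 6, 7, 3, 2, 1, 4, 3, 2, 5, 8, 7, 3, 2, 1, 4, 3, 5, 4, 7, 8, 9, 6, 5]), 1001, 0),
    ((0, [1, 2, 3, 4, 5, 6, 7, 3, 2, 1, 4, 3, 2, 5, 8, 7, 3, 2, 4, 3, 5, 4, 7, 8, 9, 6, 5, 4]), 1001, 0),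
    ((0, [1, 2, 3, 4, 5, 6, 7, 3, 2, 1, 4, 3, 2, 5, 4, 8, 7, 3, 2, 4, 3, 5, 4, 7, 3, 8, 9, 6]), 1001, 0),
    ((0, [1, 2, 3, 4, 5, 6, 7, 3, 2, 1, 4, 3, 2, 5, 8, 7, 3, 2, 1, 4, 3, 5, 4, 7, 3, 9, 6, 5]), 1001, 0),
    ((0, [1, 2, 3, 4, 5, 6, 7, 3, 2, 1, 4, 3, 2, 5, 8, 7, 3, 2, 4, 3, 5, 4, 7, 3, 8, 9, 6, 5]), 1001, 0),
    ((0, [1, 2, 3, 4, 5, 6, 7, 3, 2, 4, 3, 5, 4, 8, 7, 3, 2, 1, 4, 3, 2, 7, 3, 4, 5, 9, 6, 5]), 1001, 0),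
    ((0, [1, 2, 3, 4, 5, 6, 7, 3, 2, 1, 4, 3, 2, 5, 4, 8, 7, 3, 2, 1, 0, 4, 3, 2, 1, 5, 9, 6]), 1001, 0),
    ((0, [1, 2, 3, 4, 5, 6, 7, 3, 2, 1, 4, 3, 5, 4, 8, 7, 3, 2, 1, 4, 3, 2, 7, 3, 4, 5, 9, 6]), 1001, 0),
    ((0, [1, 2, 3, 4, 5, 6, 7, 3, 2, 1, 4, 3, 2, 5, 4, 8, 7, 3, 2, 1, 4, 3, 2, 5, 7, 3, 9, 6]), 1001, 0),
    ((0, [1, 2, 3, 4, 5, 6, 7, 3, 2, 1, 4, 3, 2, 5, 8, 7, 3, 2, 1, 4, 3, 2, 5, 7, 3, 8, 9, 6]), 1001, 0),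
    ((0, [1, 2, 3, 4, 5, 6, 7, 3, 2, 1, 4, 3, 2, 5, 8, 7, 3, 2, 1, 4, 3, 2, 5, 4, 3, 9, 6, 5]), 1001, 0),
    ((0, [1, 2, 3, 4, 5, 6, 7, 3, 2, 1, 4, 3, 2, 5, 8, 7, 3, 2, 1, 4, 3, 2, 5, 4, 7, 3, 9, 6]), 1001, 0),
    ((0, [1, 2, 3, 4, 5, 6, 7, 3, 2, 1, 4, 3, 2, 5, 7, 8, 7, 3, 2, 1, 0, 4, 3, 2, 5, 9, 6, 5]), 1001, 0),
    ((0, [1, 2, 3, 4, 5, 6, 7, 3, 2, 1, 4, 3, 2, 5, 8, 7, 3, 2, 1, 0, 4, 3, 5, 7, 9, 6, 5, 4]), 1001, 0),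
    ((0, [1, 2, 3, 4, 5, 6, 7, 3, 2, 1, 4, 3, 2, 5, 8, 7, 3, 2, 1, 0, 4, 3, 5, 7, 8, 9, 6, 5]), 1001, 0),
    ((0, [1, 2, 3, 4, 5, 6, 7, 3, 2, 1, 4, 3, 2, 5, 8, 7, 3, 2, 1, 0, 4, 3, 5, 4, 7, 8, 9, 6]), 901, 0),
    ((0, [1, 2, 3, 4, 5, 6, 7, 3, 2, 1, 4, 3, 2, 5, 8, 7, 3, 2, 1, 0, 4, 3, 5, 4, 7, 9, 6, 5]), 1001, 0),
    ((0, [1, 2, 3, 4, 5, 6, 7, 3, 2, 1, 4, 3, 2, 5, 8, 7, 3, 2, 1, 0, 4, 3, 2, 5, 4, 9, 6, 5]), 1001, 0),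
    ((0, [1, 2, 3, 4, 5, 6, 7, 3, 2, 1, 4, 3, 2, 5, 8, 7, 3, 2, 1, 0, 4, 3, 2, 1, 5, 9, 6, 5]), 1001, 0),
    ((0, [1, 2, 3, 4, 5, 6, 7, 3, 2, 1, 4, 3, 2, 5, 8, 7, 3, 2, 4, 3, 5, 7, 8, 9, 6, 5, 4, 3]), 1001, 0),
    ((0, [1, 2, 3, 4, 5, 6, 7, 3, 2, 1, 4, 3, 2, 5, 8, 7, 3, 2, 4, 3, 5, 4, 7, 9, 6, 5, 4, 3]), 1001, 0),
    ((0, [1, 2, 3, 4, 5, 6, 7, 3, 2, 1, 4, 3, 2, 8, 7, 3, 2, 1, 0, 4, 3, 5, 4, 7, 3, 9, 6, 5]), 1001, 0),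
    ((0, [1, 2, 3, 4, 5, 6, 7, 3, 2, 1, 4, 3, 2, 8, 7, 3, 2, 1, 0, 4, 3, 2, 5, 4, 3, 9, 6, 5]), 1001, 0),
    ((0, [1, 2, 3, 4, 5, 6, 7, 3, 2, 1, 4, 3, 2, 5, 4, 8, 7, 3, 2, 1, 0, 4, 3, 2, 5, 6, 7, 8]), 1001, 0),
    ((0, [1, 2, 3, 4, 5, 6, 7, 3, 2, 1, 4, 3, 2, 5, 8, 7, 3, 2, 4, 3, 5, 4, 7, 3, 2, 1, 0, 8]), 1001, 0),
    ((0, [1, 2, 3, 4, 5, 6, 7, 3, 2, 1, 4, 3, 2, 5, 4, 8, 7, 3, 2, 1, 4, 3, 5, 4, 6, 5, 7, 8]), 1001, 0),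
    ((0, [1, 2, 3, 4, 5, 6, 7, 3, 2, 1, 4, 3, 2, 5, 8, 7, 3, 2, 1, 4, 3, 5, 4, 7, 3, 2, 1, 8]), 1001, 0),
    ((0, [1, 2, 3, 4, 5, 6, 7, 3, 2, 1, 4, 3, 2, 5, 4, 8, 7, 3, 2, 4, 3, 5, 4, 6, 5, 7, 3, 8]), 901, 0),
    ((0, [1, 2, 3, 4, 5, 6, 7, 3, 2, 1, 4, 3, 5, 4, 8, 7, 3, 2, 1, 4, 3, 2, 7, 3, 4, 5, 6, 8]), 1001, 0),
    ((0, [1, 2, 3, 4, 5, 6, 7, 3, 2, 1, 4, 3, 2, 5, 8, 7, 3, 2, 1, 4, 3, 2, 7, 3, 4, 5, 6, 8]), 1001, 0),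
    ((0, [1, 2, 3, 4, 5, 6, 7, 3, 2, 1, 4, 3, 2, 5, 8, 7, 3, 2, 1, 4, 3, 2, 5, 4, 7, 3, 2, 8]), 1001, 0),
    ((0, [1, 2, 3, 4, 5, 6, 7, 3, 2, 1, 4, 3, 2, 5, 4, 8, 7, 3, 2, 1, 4, 3, 2, 5, 6, 7, 3, 8]), 1001, 0),
    ((0, [1, 2, 3, 4, 5, 6, 7, 3, 2, 1, 4, 3, 2, 5, 8, 7, 3, 2, 1, 4, 3, 2, 5, 4, 6, 7, 3, 8]), 1001, 0),
    ((0, [1, 2, 3, 4, 5, 6, 7, 3, 2, 1, 4, 3, 2, 5, 8, 7, 3, 2, 1, 0, 4, 3, 2, 1, 5, 6, 7, 8]), 1001, 0),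
    ((0, [1, 2, 3, 4, 5, 6, 7, 3, 2, 1, 4, 3, 8, 7, 3, 2, 1, 4, 3, 2, 5, 4, 3, 7, 3, 2, 1, 8]), 1001, 0),
    ((0, [1, 2, 3, 4, 5, 6, 7, 3, 2, 1, 4, 3, 2, 5, 8, 7, 3, 2, 1, 0, 4, 3, 2, 5, 6, 7, 3, 8]), 1001, 0),
    ((0, [1, 2, 3, 4, 5, 6, 7, 3, 2, 1, 4, 3, 2, 5, 4, 3, 8, 7, 3, 2, 1, 4, 3, 2, 7, 3, 8, 9]), 1001, 0),
    ((0, [1, 2, 3, 4, 5, 6, 7, 3, 2, 4, 3, 5, 4, 8, 7, 3, 2, 1, 4, 3, 2, 7, 9, 6, 5, 4, 3, 2]), 1001, 0),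
    ((0, [1, 2, 3, 4, 5, 6, 7, 3, 2, 4, 3, 5, 7, 8, 7, 3, 2, 1, 4, 3, 2, 7, 9, 6, 5, 4, 3, 2]), 901, 0),
    ((0, [1, 2, 3, 4, 5, 6, 7, 3, 2, 4, 3, 5, 4, 8, 7, 3, 2, 1, 4, 3, 2, 7, 9, 6, 5, 4, 3, 7]), 1001, 0),
    ((0, [1, 2, 3, 4, 5, 6, 7, 3, 2, 1, 4, 3, 2, 5, 4, 8, 7, 3, 2, 1, 4, 3, 5, 6, 7, 9, 6, 5]), 1001, 0),
    ((0, [1, 2, 3, 4, 5, 6, 7, 3, 2, 1, 4, 5, 8, 7, 3, 2, 1, 4, 3, 2, 7, 8, 9, 6, 5, 4, 3, 2]), 1001, 0),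
    ((0, [1, 2, 3, 4, 5, 6, 7, 3, 2, 1, 4, 5, 8, 7, 3, 2, 1, 0, 4, 3, 7, 8, 9, 6, 5, 4, 3, 2]), 901, 0),
    ((0, [1, 2, 3, 4, 5, 6, 7, 3, 2, 1, 4, 5, 8, 7, 3, 2, 1, 4, 3, 5, 7, 8, 9, 6, 5, 4, 3, 2]), 1001, 0),
    ((0, [1, 2, 3, 4, 5, 6, 7, 3, 2, 1, 4, 5, 8, 7, 3, 2, 1, 4, 3, 2, 7, 8, 9, 6, 5, 4, 3, 7]), 1001, 0),
    ((0, [1, 2, 3, 4, 5, 6, 7, 3, 2, 1, 4, 3, 2, 8, 7, 3, 2, 4, 3, 5, 4, 6, 7, 3, 2, 9, 6, 5]), 1001, 0),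
    ((0, [1, 2, 3, 4, 5, 6, 7, 3, 2, 1, 4, 3, 5, 4, 8, 7, 3, 2, 1, 4, 3, 5, 4, 6, 5, 9, 6, 5]), 1001, 0),
    ((0, [1, 2, 3, 4, 5, 6, 7, 3, 2, 4, 5, 8, 7, 3, 2, 1, 4, 3, 2, 5, 6, 7, 3, 4, 5, 9, 6, 5]), 1001, 0),
    ((0, [1, 2, 3, 4, 5, 6, 7, 3, 2, 1, 4, 3, 2, 5, 8, 7, 3, 2, 4, 3, 5, 4, 6, 7, 3, 9, 6, 5]), 1001, 0),
    ((0, [1, 2, 3, 4, 5, 6, 7, 3, 2, 1, 4, 3, 5, 4, 8, 7, 3, 2, 1, 0, 4, 3, 5, 4, 6, 5, 9, 6]), 1001, 0),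
    ((0, [1, 2, 3, 4, 5, 6, 7, 3, 2, 1, 4, 3, 2, 5, 8, 7, 3, 2, 1, 4, 3, 5, 4, 6, 7, 9, 6, 5]), 1001, 0),
    ((0, [1, 2, 3, 4, 5, 6, 7, 3, 2, 1, 4, 3, 2, 5, 8, 7, 3, 2, 4, 3, 5, 4, 6, 7, 8, 9, 6, 5]), 1001, 0),
    ((0, [1, 2, 3, 4, 5, 6, 7, 3, 2, 1, 4, 3, 2, 8, 7, 3, 2, 1, 4, 3, 2, 5, 4, 3, 7, 9, 6, 5]), 1001, 0),
    ((0, [1, 2, 3, 4, 5, 6, 7, 3, 2, 1, 4, 3, 2, 8, 7, 3, 2, 1, 4, 3, 2, 5, 4, 3, 7, 8, 9, 6]), 1001, 0),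
    ((0, [1, 2, 3, 4, 5, 6, 7, 3, 2, 1, 4, 3, 2, 5, 8, 7, 3, 2, 1, 0, 4, 3, 5, 4, 6, 7, 9, 6]), 901, 0),
    ((0, [1, 2, 3, 4, 5, 6, 7, 3, 2, 1, 4, 3, 2, 5, 8, 7, 3, 2, 1, 0, 4, 3, 5, 4, 6, 9, 6, 5]), 1001, 0),
    ((0, [1, 2, 3, 4, 5, 6, 7, 3, 2, 1, 4, 5, 8, 7, 3, 2, 1, 4, 3, 2, 7, 3, 4, 5, 6, 9, 6, 5]), 1001, 0),
    ((0, [1, 2, 3, 4, 5, 6, 7, 3, 2, 1, 4, 3, 5, 8, 7, 3, 2, 4, 3, 5, 7, 8, 9, 6, 5, 4, 3, 2]), 901, 0),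
    ((0, [1, 2, 3, 4, 5, 6, 7, 3, 2, 1, 4, 3, 5, 4, 8, 7, 3, 2, 4, 3, 7, 8, 9, 6, 5, 4, 3, 2]), 1001, 0),
    ((0, [1, 2, 3, 4, 5, 6, 7, 3, 2, 1, 4, 3, 2, 5, 8, 7, 3, 2, 4, 3, 7, 8, 9, 6, 5, 4, 3, 2]), 1001, 0),
    ((0, [1, 2, 3, 4, 5, 6, 7, 3, 2, 1, 4, 3, 2, 5, 4, 8, 7, 3, 2, 1, 4, 3, 2, 5, 6, 9, 6, 5]), 1001, 0),
    ((0, [1, 2, 3, 4, 5, 6, 7, 3, 2, 1, 4, 8, 7, 3, 2, 1, 4, 3, 5, 4, 7, 3, 2, 1, 0, 9, 6, 5]), 1001, 0),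
    ((0, [1, 2, 3, 4, 5, 6, 7, 3, 2, 4, 3, 5, 4, 8, 7, 3, 2, 1, 4, 3, 2, 9, 6, 5, 4, 3, 7, 8]), 1001, 0),
    ((0, [1, 2, 3, 4, 5, 6, 7, 3, 2, 1, 4, 3, 2, 5, 4, 8, 7, 3, 2, 1, 4, 3, 5, 4, 6, 9, 6, 5]), 1001, 0),
    ((0, [1, 2, 3, 4, 5, 6, 7, 3, 2, 1, 4, 3, 8, 7, 3, 2, 4, 3, 5, 4, 7, 3, 2, 1, 0, 9, 6, 5]), 1001, 0),
    ((0, [1, 2, 3, 4, 5, 6, 7, 3, 2, 1, 4, 3, 8, 7, 3, 2, 1, 4, 3, 5, 4, 7, 3, 2, 1, 9, 6, 5]), 1001, 0),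
    ((0, [1, 2, 3, 4, 5, 6, 7, 3, 2, 1, 4, 3, 2, 8, 7, 3, 2, 4, 3, 5, 4, 7, 3, 2, 1, 9, 6, 5]), 1001, 0),
    ((0, [1, 2, 3, 4, 5, 6, 7, 3, 2, 1, 4, 3, 2, 5, 4, 8, 7, 3, 2, 4, 3, 5, 4, 6, 5, 9, 6, 5]), 1001, 0),
    ((0, [1, 2, 3, 4, 5, 6, 7, 3, 2, 1, 4, 3, 5, 8, 7, 3, 2, 4, 3, 5, 4, 7, 3, 2, 1, 9, 6, 5]), 1001, 0),
    ((0, [1, 2, 3, 4, 5, 6, 7, 3, 2, 1, 4, 3, 2, 5, 8, 7, 3, 2, 4, 3, 5, 4, 6, 7, 9, 6, 5, 4]), 1001, 0),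
    ((0, [1, 2, 3, 4, 5, 6, 7, 3, 2, 1, 4, 3, 2, 5, 8, 7, 3, 2, 1, 4, 3, 2, 5, 7, 3, 8, 7, 9]), 1001, 0),
    ((0, [1, 2, 3, 4, 5, 6, 7, 3, 2, 1, 4, 3, 2, 5, 8, 7, 3, 2, 1, 0, 4, 3, 2, 5, 7, 3, 8, 7]), 1001, 0),
    ((0, [1, 2, 3, 4, 5, 6, 7, 3, 2, 1, 4, 3, 2, 5, 8, 7, 3, 2, 1, 4, 3, 2, 5, 6, 7, 3, 8, 7]), 1001, 0),
    ((0, [1, 2, 3, 4, 5, 6, 7, 3, 2, 1, 4, 5, 8, 7, 3, 2, 1, 4, 3, 2, 5, 4, 6, 7, 3, 8, 7, 9]), 901, 0),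
    ((0, [1, 2, 3, 4, 5, 6, 7, 3, 2, 1, 4, 5, 8, 7, 3, 2, 1, 0, 4, 3, 7, 8, 9, 6, 5, 4, 3, 7]), 901, 0),
    ((0, [1, 2, 3, 4, 5, 6, 7, 3, 2, 1, 4, 5, 8, 7, 3, 2, 1, 4, 3, 5, 7, 8, 9, 6, 5, 4, 3, 7]), 1001, 0),
    ((0, [1, 2, 3, 4, 5, 6, 7, 3, 2, 1, 4, 5, 8, 7, 3, 2, 4, 3, 5, 4, 7, 8, 9, 6, 5, 4, 3, 7]), 1001, 0),
    ((0, [1, 2, 3, 4, 5, 6, 7, 3, 2, 1, 4, 5, 8, 7, 3, 2, 4, 3, 5, 6, 7, 8, 9, 6, 5, 4, 3, 7]), 1001, 0),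
    ((0, [1, 2, 3, 4, 5, 6, 7, 3, 2, 1, 4, 5, 8, 7, 3, 2, 4, 3, 5, 4, 7, 8, 9, 6, 5, 4, 3, 2]), 1001, 0),
    ((0, [1, 2, 3, 4, 5, 6, 7, 3, 2, 1, 4, 5, 8, 7, 3, 2, 4, 3, 5, 6, 7, 8, 9, 6, 5, 4, 3, 2]), 1001, 0),
    ((0, [1, 2, 3, 4, 5, 6, 7, 3, 2, 1, 4, 3, 5, 8, 7, 3, 2, 4, 3, 5, 7, 8, 9, 6, 5, 4, 3, 7]), 901, 0),
    ((0, [1, 2, 3, 4, 5, 6, 7, 3, 2, 1, 4, 3, 2, 5, 8, 7, 3, 2, 4, 3, 7, 8, 9, 6, 5, 4, 3, 7]), 1001, 0),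
    ((0, [1, 2, 3, 4, 5, 6, 7, 3, 2, 1, 4, 5, 8, 7, 3, 2, 1, 4, 3, 2, 5, 4, 7, 3, 2, 4, 8, 9]), 1001, 0),
    ((0, [1, 2, 3, 4, 5, 6, 7, 3, 2, 1, 4, 5, 8, 7, 3, 2, 1, 4, 3, 2, 5, 4, 7, 3, 2, 8, 9, 6]), 901, 0),
    ((0, [1, 2, 3, 4, 5, 6, 7, 3, 2, 1, 4, 5, 8, 7, 3, 2, 1, 4, 3, 5, 4, 7, 3, 2, 8, 9, 6, 5]), 1001, 0),
    ((0, [1, 2, 3, 4, 5, 6, 7, 3, 2, 1, 4, 3, 5, 4, 7, 8, 7, 3, 2, 4, 3, 5, 4, 7, 3, 8, 7, 9]), 701, 0),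
    ((0, [1, 2, 3, 4, 5, 6, 7, 3, 2, 1, 4, 5, 8, 7, 3, 2, 1, 4, 3, 2, 5, 4, 7, 3, 8, 7, 9, 6]), 901, 0),
    ((0, [1, 2, 3, 4, 5, 6, 7, 3, 2, 1, 4, 3, 5, 4, 8, 7, 3, 2, 1, 4, 3, 5, 4, 7, 3, 8, 7, 9]), 1001, 0),
    ((0, [1, 2, 3, 4, 5, 6, 7, 3, 2, 1, 4, 3, 2, 5, 4, 8, 7, 3, 2, 4, 3, 5, 4, 7, 3, 8, 7, 9]), 1001, 0),
    ((0, [1, 2, 3, 4, 5, 6, 7, 3, 2, 1, 4, 3, 2, 5, 8, 7, 3, 2, 1, 0, 4, 3, 5, 6, 7, 8, 9, 6]), 1001, 0),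
    ((0, [1, 2, 3, 4, 5, 6, 7, 3, 2, 1, 4, 3, 2, 5, 8, 7, 3, 2, 1, 4, 3, 5, 6, 7, 8, 9, 6, 5]), 1001, 0),
    ((0, [1, 2, 3, 4, 5, 6, 7, 3, 2, 1, 4, 3, 2, 5, 8, 7, 3, 2, 4, 3, 5, 6, 7, 8, 9, 6, 5, 4]), 1001, 0),
    ((0, [1, 2, 3, 4, 5, 6, 7, 3, 2, 1, 4, 5, 8, 7, 3, 2, 4, 3, 5, 4, 7, 3, 2, 8, 9, 6, 5, 4]), 1001, 0),
    ((0, [1, 2, 3, 4, 5, 6, 7, 3, 2, 1, 4, 3, 2, 5, 4, 3, 8, 7, 3, 2, 4, 3, 5, 4, 7, 3, 2, 8]), 1001, 0),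
    ((0, [1, 2, 3, 4, 5, 6, 7, 3, 2, 1, 4, 3, 5, 8, 7, 3, 2, 4, 3, 5, 4, 7, 3, 8, 9, 6, 5, 4]), 1001, 0),
    ((0, [1, 2, 3, 4, 5, 6, 7, 3, 2, 1, 4, 3, 8, 7, 3, 2, 1, 4, 3, 2, 5, 4, 7, 3, 2, 9, 6, 5]), 1001, 0),
    ((0, [1, 2, 3, 4, 5, 6, 7, 3, 2, 1, 4, 3, 2, 5, 8, 7, 3, 2, 1, 4, 3, 2, 5, 4, 6, 9, 6, 5]), 1001, 0),
    ((0, [1, 2, 3, 4, 5, 6, 7, 3, 2, 1, 4, 3, 5, 8, 7, 3, 2, 1, 4, 3, 2, 5, 4, 7, 3, 8, 7, 9]), 901, 0),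
    ((0, [1, 2, 3, 4, 5, 6, 7, 3, 2, 1, 4, 3, 5, 4, 8, 7, 3, 2, 1, 4, 3, 2, 5, 4, 7, 3, 8, 7]), 901, 0),
    ((0, [1, 2, 3, 4, 5, 6, 7, 3, 2, 1, 4, 3, 2, 5, 8, 7, 3, 2, 1, 4, 3, 2, 5, 4, 7, 3, 8, 7]), 1001, 0),
    ((0, [1, 2, 3, 4, 5, 6, 7, 3, 2, 1, 4, 3, 2, 5, 4, 8, 7, 3, 2, 4, 3, 5, 4, 7, 3, 2, 8, 9]), 1001, 0),
    ((0, [1, 2, 3, 4, 5, 6, 7, 3, 2, 1, 4, 3, 5, 4, 8, 7, 3, 2, 4, 3, 5, 4, 7, 3, 2, 8, 9, 6]), 1001, 0),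
    ((0, [1, 2, 3, 4, 5, 6, 7, 3, 2, 1, 4, 3, 5, 4, 8, 7, 3, 2, 4, 3, 5, 4, 7, 3, 2, 9, 6, 5]), 1001, 0)]

/-- Part 24 of the cycles. -/
def reps24 : List ((Nat × List Nat) × Nat × Nat) :=
  [
    ((0, [1, 2, 3, 4, 5, 6, 7, 3, 2, 1, 4, 3, 5, 8, 7, 3, 2, 4, 3, 5, 4, 7, 3, 2, 8, 9, 6, 5]), 1001, 0),
    ((0, [1, 2, 3, 4, 5, 6, 7, 3, 2, 1, 4, 3, 5, 4, 8, 7, 3, 2, 1, 4, 3, 2, 5, 4, 7, 3, 2, 8]), 901, 0),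
    ((0, [1, 2, 3, 4, 5, 6, 7, 3, 2, 1, 4, 3, 2, 5, 8, 7, 3, 2, 1, 4, 3, 2, 5, 4, 7, 3, 2, 9]), 1001, 0),
    ((0, [1, 2, 3, 4, 5, 6, 7, 3, 2, 1, 4, 3, 5, 8, 7, 3, 2, 1, 4, 3, 2, 5, 4, 7, 3, 2, 8, 9]), 901, 0),
    ((0, [1, 2, 3, 4, 5, 6, 7, 3, 2, 1, 4, 3, 8, 7, 3, 2, 1, 0, 4, 3, 5, 4, 7, 3, 2, 9, 6, 5]), 1001, 0),
    ((0, [1, 2, 3, 4, 5, 6, 7, 3, 2, 1, 4, 3, 2, 5, 8, 7, 3, 2, 1, 0, 4, 3, 2, 5, 6, 9, 6, 5]), 1001, 0),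
    ((0, [1, 2, 3, 4, 5, 6, 7, 3, 2, 1, 4, 3, 2, 5, 8, 7, 3, 2, 1, 0, 4, 3, 5, 6, 7, 9, 6, 5]), 1001, 0),
    ((0, [1, 2, 3, 4, 5, 6, 7, 3, 2, 1, 4, 8, 7, 3, 2, 1, 0, 4, 3, 5, 4, 7, 3, 2, 1, 0, 9, 6]), 1001, 0),
    ((0, [1, 2, 3, 4, 5, 6, 7, 3, 2, 1, 4, 8, 7, 3, 2, 1, 0, 4, 3, 5, 4, 7, 3, 2, 1, 9, 6, 5]), 1001, 0),
    ((0, [1, 2, 3, 4, 5, 6, 7, 3, 2, 1, 4, 3, 2, 5, 8, 7, 3, 2, 1, 4, 3, 2, 5, 6, 7, 3, 8, 9]), 1001, 0),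
    ((0, [1, 2, 3, 4, 5, 6, 7, 3, 2, 1, 4, 3, 2, 5, 4, 8, 7, 3, 2, 1, 0, 4, 3, 5, 6, 7, 8, 9]), 1001, 0),
    ((0, [1, 2, 3, 4, 5, 6, 7, 3, 2, 1, 4, 3, 2, 5, 4, 8, 7, 3, 2, 1, 4, 3, 5, 6, 7, 8, 9, 6]), 1001, 0),
    ((0, [1, 2, 3, 4, 5, 6, 7, 3, 2, 1, 4, 3, 8, 7, 3, 2, 1, 4, 3, 5, 4, 7, 3, 2, 1, 0, 9, 6]), 1001, 0),
    ((0, [1, 2, 3, 4, 5, 6, 7, 3, 2, 1, 4, 3, 5, 4, 8, 7, 3, 2, 1, 4, 3, 2, 7, 3, 4, 5, 6, 9]), 1001, 0),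
    ((0, [1, 2, 3, 4, 5, 6, 7, 3, 2, 1, 4, 5, 8, 7, 3, 2, 1, 0, 4, 3, 5, 4, 7, 3, 2, 1, 8, 9]), 1001, 0),
    ((0, [1, 2, 3, 4, 5, 6, 7, 3, 2, 1, 4, 3, 5, 8, 7, 3, 2, 1, 4, 3, 2, 7, 3, 4, 5, 6, 8, 9]), 1001, 0),
    ((0, [1, 2, 3, 4, 5, 6, 7, 3, 2, 1, 4, 5, 8, 7, 3, 2, 1, 4, 3, 2, 7, 3, 4, 5, 6, 8, 9, 6]), 1001, 0),
    ((0, [1, 2, 3, 4, 5, 6, 7, 3, 2, 1, 4, 5, 8, 7, 3, 2, 1, 4, 3, 5, 4, 7, 3, 2, 1, 8, 9, 6]), 1001, 0),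
    ((0, [1, 2, 3, 4, 5, 6, 7, 3, 2, 1, 4, 5, 8, 7, 3, 2, 4, 3, 5, 4, 7, 3, 2, 1, 8, 9, 6, 5]), 1001, 0),
    ((0, [1, 2, 3, 4, 5, 6, 7, 3, 2, 1, 4, 3, 5, 8, 7, 3, 2, 4, 3, 5, 4, 7, 3, 2, 1, 0, 8, 9]), 1001, 0),
    ((0, [1, 2, 3, 4, 5, 6, 7, 3, 2, 1, 4, 3, 2, 5, 4, 3, 8, 7, 3, 2, 4, 3, 5, 6, 7, 8, 9, 6]), 1001, 0),
    ((0, [1, 2, 3, 4, 5, 6, 7, 3, 2, 1, 4, 3, 2, 5, 4, 8, 7, 3, 2, 1, 0, 4, 3, 5, 4, 6, 5, 9]), 1001, 0),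
    ((0, [1, 2, 3, 4, 5, 6, 7, 3, 2, 1, 4, 3, 2, 5, 8, 7, 3, 2, 4, 3, 5, 4, 7, 3, 2, 1, 8, 9]), 1001, 0),
    ((0, [1, 2, 3, 4, 5, 6, 7, 3, 2, 4, 3, 5, 7, 8, 7, 3, 2, 1, 4, 3, 2, 9, 6, 5, 4, 3, 7, 8]), 1001, 0),
    ((0, [1, 2, 3, 4, 5, 6, 7, 3, 2, 4, 3, 5, 8, 7, 3, 2, 1, 0, 4, 3, 2, 9, 6, 5, 4, 3, 7, 8]), 901, 0),
    ((0, [1, 2, 3, 4, 5, 6, 7, 3, 2, 1, 4, 3, 5, 8, 7, 3, 2, 1, 4, 3, 2, 9, 6, 5, 4, 3, 7, 8]), 1001, 0),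
    ((0, [1, 2, 3, 4, 5, 6, 7, 3, 2, 4, 3, 5, 8, 7, 3, 2, 1, 4, 3, 2, 5, 9, 6, 5, 4, 3, 7, 8]), 1001, 0),
    ((0, [1, 2, 3, 4, 5, 6, 7, 3, 2, 1, 4, 3, 5, 8, 7, 3, 2, 4, 3, 7, 9, 6, 5, 4, 3, 2, 1, 0]), 1001, 0),
    ((0, [1, 2, 3, 4, 5, 6, 7, 3, 2, 1, 4, 5, 8, 7, 3, 2, 1, 4, 3, 7, 8, 9, 6, 5, 4, 3, 2, 1]), 1001, 0),
    ((0, [1, 2, 3, 4, 5, 6, 7, 3, 2, 1, 4, 5, 8, 7, 3, 2, 4, 3, 5, 7, 8, 9, 6, 5, 4, 3, 2, 1]), 1001, 0),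
    ((0, [1, 2, 3, 4, 5, 6, 7, 3, 2, 1, 4, 5, 8, 7, 3, 2, 4, 3, 7, 8, 9, 6, 5, 4, 3, 2, 1, 7]), 1001, 0),
    ((0, [1, 2, 3, 4, 5, 6, 7, 3, 2, 1, 4, 5, 8, 7, 3, 2, 4, 3, 7, 8, 9, 6, 5, 4, 3, 2, 1, 0]), 1001, 0),
    ((0, [1, 2, 3, 4, 5, 6, 7, 3, 2, 1, 4, 3, 5, 4, 7, 3, 8, 7, 3, 2, 4, 5, 6, 9, 6, 5, 4, 3, 2]), 1001, 0),
    ((0, [1, 2, 3, 4, 5, 6, 7, 3, 2, 1, 4, 3, 5, 4, 7, 8, 7, 3, 2, 1, 4, 5, 6, 9, 6, 5, 4, 3, 2]), 1001, 0),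
    ((0, [1, 2, 3, 4, 5, 6, 7, 3, 2, 1, 4, 3, 2, 5, 4, 8, 7, 3, 2, 1, 4, 5, 6, 9, 6, 5, 4, 3, 7]), 1001, 0),
    ((0, [1, 2, 3, 4, 5, 6, 7, 3, 2, 1, 4, 3, 5, 4, 7, 8, 7, 3, 2, 1, 4, 5, 6, 9, 6, 5, 4, 3, 7]), 1001, 0),
    ((0, [1, 2, 3, 4, 5, 6, 7, 3, 2, 1, 4, 3, 2, 5, 4, 8, 7, 3, 2, 1, 4, 5, 6, 9, 6, 5, 4, 3, 2]), 1001, 0),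
    ((0, [1, 2, 3, 4, 5, 6, 7, 3, 2, 1, 4, 3, 2, 5, 4, 8, 7, 3, 2, 4, 5, 6, 9, 6, 5, 4, 3, 7, 8]), 1001, 0),
    ((0, [1, 2, 3, 4, 5, 6, 7, 3, 2, 1, 4, 3, 2, 5, 4, 3, 8, 7, 3, 4, 5, 6, 9, 6, 5, 4, 3, 2, 1]), 1001, 0),
    ((0, [1, 2, 3, 4, 5, 6, 7, 3, 2, 4, 3, 5, 4, 8, 7, 3, 2, 1, 4, 3, 2, 5, 4, 9, 6, 5, 4, 3, 2]), 901, 0),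
    ((0, [1, 2, 3, 4, 5, 6, 7, 3, 2, 4, 3, 5, 7, 8, 7, 3, 2, 1, 4, 3, 2, 5, 7, 9, 6, 5, 4, 3, 2]), 901, 0),
    ((0, [1, 2, 3, 4, 5, 6, 7, 3, 2, 4, 3, 5, 4, 8, 7, 3, 2, 1, 4, 3, 2, 5, 7, 9, 6, 5, 4, 3, 2]), 1001, 0),
    ((0, [1, 2, 3, 4, 5, 6, 7, 3, 2, 1, 4, 3, 2, 5, 4, 3, 8, 7, 3, 2, 1, 4, 3, 5, 4, 9, 6, 5, 4]), 901, 0),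
    ((0, [1, 2, 3, 4, 5, 6, 7, 3, 2, 1, 4, 3, 2, 5, 4, 3, 8, 7, 3, 2, 4, 3, 5, 4, 6, 9, 6, 5, 4]), 901, 0),
    ((0, [1, 2, 3, 4, 5, 6, 7, 3, 2, 1, 4, 3, 2, 5, 4, 3, 8, 7, 3, 2, 1, 0, 4, 5, 6, 9, 6, 5, 4]), 901, 0),
    ((0, [1, 2, 3, 4, 5, 6, 7, 3, 2, 1, 4, 3, 5, 4, 7, 8, 7, 3, 2, 4, 5, 6, 9, 6, 5, 4, 3, 7, 8]), 1001, 0),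
    ((0, [1, 2, 3, 4, 5, 6, 7, 3, 2, 1, 4, 3, 2, 5, 4, 7, 8, 7, 3, 2, 1, 4, 5, 9, 6, 5, 4, 3, 2]), 1001, 0),
    ((0, [1, 2, 3, 4, 5, 6, 7, 3, 2, 1, 4, 3, 5, 4, 8, 7, 3, 2, 1, 4, 5, 6, 9, 6, 5, 4, 3, 7, 8]), 1001, 0),
    ((0, [1, 2, 3, 4, 5, 6, 7, 3, 2, 1, 4, 3, 5, 4, 8, 7, 3, 2, 4, 3, 5, 6, 9, 6, 5, 4, 3, 7, 8]), 1001, 0),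
    ((0, [1, 2, 3, 4, 5, 6, 7, 3, 2, 1, 4, 3, 2, 5, 4, 7, 8, 7, 3, 2, 1, 4, 5, 9, 6, 5, 4, 3, 7]), 1001, 0),
    ((0, [1, 2, 3, 4, 5, 6, 7, 3, 2, 1, 8, 7, 3, 2, 4, 3, 5, 4, 7, 3, 2, 1, 0, 9, 6, 5, 4, 3, 7]), 1001, 0),
    ((0, [1, 2, 3, 4, 5, 6, 7, 3, 2, 1, 4, 5, 8, 7, 3, 2, 1, 0, 4, 3, 2, 5, 4, 6, 9, 6, 5, 4, 3]), 1001, 0),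
    ((0, [1, 2, 3, 4, 5, 6, 7, 3, 2, 1, 4, 5, 8, 7, 3, 2, 1, 4, 3, 2, 5, 4, 9, 6, 5, 4, 3, 7, 8]), 1001, 0),
    ((0, [1, 2, 3, 4, 5, 6, 7, 3, 2, 1, 4, 5, 8, 7, 3, 2, 1, 4, 3, 2, 5, 4, 7, 9, 6, 5, 4, 3, 7]), 1001, 0),
    ((0, [1, 2, 3, 4, 5, 6, 7, 3, 2, 1, 4, 5, 8, 7, 3, 2, 1, 4, 3, 2, 5, 4, 6, 7, 9, 6, 5, 4, 3]), 1001, 0),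
    ((0, [1, 2, 3, 4, 5, 6, 7, 3, 2, 1, 4, 3, 5, 4, 7, 8, 7, 3, 2, 4, 3, 5, 4, 6, 9, 6, 5, 4, 3]), 1001, 0),
    ((0, [1, 2, 3, 4, 5, 6, 7, 3, 2, 4, 5, 8, 7, 3, 2, 1, 4, 3, 2, 5, 7, 3, 4, 9, 6, 5, 4, 3, 7]), 1001, 0),
    ((0, [1, 2, 3, 4, 5, 6, 7, 3, 2, 4, 5, 8, 7, 3, 2, 1, 4, 3, 2, 5, 6, 7, 3, 4, 9, 6, 5, 4, 3]), 1001, 0),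
    ((0, [1, 2, 3, 4, 5, 6, 7, 3, 2, 1, 4, 3, 5, 4, 8, 7, 3, 2, 1, 0, 4, 3, 5, 4, 6, 9, 6, 5, 4]), 1001, 0),
    ((0, [1, 2, 3, 4, 5, 6, 7, 3, 2, 1, 4, 3, 5, 4, 8, 7, 3, 2, 1, 4, 3, 5, 4, 9, 6, 5, 4, 3, 2]), 1001, 0),
    ((0, [1, 2, 3, 4, 5, 6, 7, 3, 2, 4, 5, 8, 7, 3, 2, 1, 4, 3, 2, 5, 7, 3, 4, 9, 6, 5, 4, 3, 2]), 1001, 0),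
    ((0, [1, 2, 3, 4, 5, 6, 7, 3, 2, 1, 4, 3, 5, 4, 7, 8, 7, 3, 2, 1, 4, 3, 5, 4, 7, 9, 6, 5, 4]), 1001, 0),
    ((0, [1, 2, 3, 4, 5, 6, 7, 3, 2, 1, 4, 5, 8, 7, 3, 2, 1, 4, 3, 2, 5, 6, 7, 3, 4, 9, 6, 5, 4]), 1001, 0),
    ((0, [1, 2, 3, 4, 5, 6, 7, 3, 2, 1, 4, 3, 5, 4, 7, 8, 7, 3, 2, 1, 4, 3, 5, 4, 6, 7, 9, 6, 5]), 1001, 0),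
    ((0, [1, 2, 3, 4, 5, 6, 7, 3, 2, 1, 4, 3, 5, 4, 7, 8, 7, 3, 2, 1, 4, 3, 2, 5, 4, 9, 6, 5, 4]), 1001, 0),
    ((0, [1, 2, 3, 4, 5, 6, 7, 3, 2, 1, 4, 3, 5, 4, 8, 7, 3, 2, 1, 4, 3, 2, 5, 4, 6, 9, 6, 5, 4]), 1001, 0),
    ((0, [1, 2, 3, 4, 5, 6, 7, 3, 2, 4, 3, 5, 8, 7, 3, 2, 1, 4, 3, 2, 5, 6, 7, 3, 4, 9, 6, 5, 4]), 1001, 0),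
    ((0, [1, 2, 3, 4, 5, 6, 7, 3, 2, 1, 4, 3, 5, 4, 7, 8, 7, 3, 2, 1, 4, 3, 2, 5, 4, 6, 9, 6, 5]), 1001, 0),
    ((0, [1, 2, 3, 4, 5, 6, 7, 3, 2, 1, 4, 5, 8, 7, 3, 2, 1, 4, 3, 2, 5, 7, 3, 4, 9, 6, 5, 4, 3]), 1001, 0),
    ((0, [1, 2, 3, 4, 5, 6, 7, 3, 2, 1, 4, 3, 5, 4, 8, 7, 3, 2, 1, 4, 3, 5, 4, 9, 6, 5, 4, 3, 7]), 1001, 0),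
    ((0, [1, 2, 3, 4, 5, 6, 7, 3, 2, 1, 4, 3, 5, 4, 8, 7, 3, 2, 4, 3, 5, 4, 9, 6, 5, 4, 3, 7, 8]), 1001, 0),
    ((0, [1, 2, 3, 4, 5, 6, 7, 3, 2, 4, 5, 8, 7, 3, 2, 1, 4, 3, 2, 5, 7, 3, 4, 5, 9, 6, 5, 4, 3]), 1001, 0),
    ((0, [1, 2, 3, 4, 5, 6, 7, 3, 2, 1, 4, 3, 5, 4, 8, 7, 3, 2, 1, 4, 3, 5, 4, 6, 7, 9, 6, 5, 4]), 1001, 0),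
    ((0, [1, 2, 3, 4, 5, 6, 7, 3, 2, 1, 4, 3, 2, 5, 4, 8, 7, 3, 2, 4, 3, 5, 4, 6, 9, 6, 5, 4, 3]), 1001, 0),
    ((0, [1, 2, 3, 4, 5, 6, 7, 3, 2, 1, 4, 3, 2, 5, 4, 7, 8, 7, 3, 2, 4, 3, 5, 4, 9, 6, 5, 4, 3]), 1001, 0),
    ((0, [1, 2, 3, 4, 5, 6, 7, 3, 2, 1, 4, 3, 5, 7, 8, 7, 3, 2, 1, 4, 3, 5, 4, 6, 7, 9, 6, 5, 4]), 1001, 0),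
    ((0, [1, 2, 3, 4, 5, 6, 7, 3, 2, 1, 4, 3, 5, 7, 8, 7, 3, 2, 1, 4, 3, 2, 5, 4, 6, 9, 6, 5, 4]), 1001, 0),
    ((0, [1, 2, 3, 4, 5, 6, 7, 3, 2, 1, 4, 3, 5, 7, 8, 7, 3, 2, 1, 4, 3, 2, 5, 4, 9, 6, 5, 4, 3]), 1001, 0),
    ((0, [1, 2, 3, 4, 5, 6, 7, 3, 2, 1, 4, 3, 5, 8, 7, 3, 2, 1, 4, 3, 2, 5, 4, 6, 9, 6, 5, 4, 3]), 1001, 0),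
    ((0, [1, 2, 3, 4, 5, 6, 7, 3, 2, 4, 3, 5, 4, 8, 7, 3, 2, 1, 4, 3, 2, 5, 7, 3, 4, 9, 6, 5, 4]), 1001, 0),
    ((0, [1, 2, 3, 4, 5, 6, 7, 3, 2, 4, 3, 5, 8, 7, 3, 2, 1, 4, 3, 2, 5, 4, 7, 3, 4, 9, 6, 5, 4]), 1001, 0),
    ((0, [1, 2, 3, 4, 5, 6, 7, 3, 2, 1, 4, 3, 5, 4, 8, 7, 3, 2, 1, 0, 4, 3, 2, 5, 4, 3, 9, 6, 5]), 1001, 0),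
    ((0, [1, 2, 3, 4, 5, 6, 7, 3, 2, 1, 4, 3, 5, 4, 8, 7, 3, 2, 1, 4, 3, 2, 5, 7, 3, 4, 9, 6, 5]), 1001, 0),
    ((0, [1, 2, 3, 4, 5, 6, 7, 3, 2, 1, 4, 3, 5, 4, 8, 7, 3, 2, 4, 3, 5, 4, 7, 9, 6, 5, 4, 3, 7]), 1001, 0),
    ((0, [1, 2, 3, 4, 5, 6, 7, 3, 2, 1, 4, 3, 5, 4, 8, 7, 3, 2, 4, 3, 5, 4, 6, 7, 9, 6, 5, 4, 3]), 1001, 0),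
    ((0, [1, 2, 3, 4, 5, 6, 7, 3, 2, 1, 4, 3, 2, 5, 4, 8, 7, 3, 2, 1, 0, 4, 3, 5, 4, 9, 6, 5, 4]), 1001, 0),
    ((0, [1, 2, 3, 4, 5, 6, 7, 3, 2, 1, 4, 3, 8, 7, 3, 2, 4, 3, 5, 4, 7, 3, 2, 1, 0, 9, 6, 5, 4]), 1001, 0),
    ((0, [1, 2, 3, 4, 5, 6, 7, 3, 2, 1, 4, 3, 5, 4, 7, 3, 8, 7, 3, 2, 4, 3, 5, 7, 8, 9, 6, 5, 4]), 1001, 0),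
    ((0, [1, 2, 3, 4, 5, 6, 7, 3, 2, 1, 4, 3, 5, 7, 8, 7, 3, 2, 1, 4, 3, 2, 5, 7, 3, 8, 9, 6, 5]), 901, 0),
    ((0, [1, 2, 3, 4, 5, 6, 7, 3, 2, 1, 4, 3, 2, 5, 4, 7, 8, 7, 3, 2, 1, 4, 3, 2, 7, 8, 9, 6, 5]), 1001, 0),
    ((0, [1, 2, 3, 4, 5, 6, 7, 3, 2, 1, 4, 3, 2, 5, 4, 8, 7, 3, 2, 1, 0, 4, 3, 2, 7, 8, 9, 6, 5]), 1001, 0),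
    ((0, [1, 2, 3, 4, 5, 6, 7, 3, 2, 1, 4, 3, 2, 5, 4, 8, 7, 3, 2, 1, 0, 4, 3, 7, 8, 9, 6, 5, 4]), 901, 0),
    ((0, [1, 2, 3, 4, 5, 6, 7, 3, 2, 1, 4, 3, 5, 8, 7, 3, 2, 1, 4, 3, 2, 7, 3, 4, 8, 9, 6, 5, 4]), 901, 0),
    ((0, [1, 2, 3, 4, 5, 6, 7, 3, 2, 1, 4, 3, 5, 4, 8, 7, 3, 2, 1, 4, 3, 2, 5, 7, 3, 8, 9, 6, 5]), 1001, 0),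
    ((0, [1, 2, 3, 4, 5, 6, 7, 3, 2, 1, 4, 3, 5, 4, 8, 7, 3, 2, 1, 4, 3, 2, 7, 3, 4, 8, 9, 6, 5]), 1001, 0),
    ((0, [1, 2, 3, 4, 5, 6, 7, 3, 2, 1, 4, 3, 2, 5, 4, 8, 7, 3, 2, 1, 0, 4, 3, 2, 1, 5, 7, 8, 9]), 1001, 0),
    ((0, [1, 2, 3, 4, 5, 6, 7, 3, 2, 1, 4, 3, 5, 4, 7, 3, 8, 7, 3, 2, 4, 3, 5, 6, 7, 8, 9, 6, 5]), 1001, 0),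
    ((0, [1, 2, 3, 4, 5, 6, 7, 3, 2, 1, 4, 3, 5, 4, 7, 8, 7, 3, 2, 1, 4, 3, 5, 6, 7, 8, 9, 6, 5]), 1001, 0),
    ((0, [1, 2, 3, 4, 5, 6, 7, 3, 2, 1, 4, 3, 5, 4, 8, 7, 3, 2, 1, 0, 4, 3, 5, 6, 7, 8, 9, 6, 5]), 1001, 0),
    ((0, [1, 2, 3, 4, 5, 6, 7, 3, 2, 1, 4, 3, 5, 8, 7, 3, 2, 1, 4, 3, 2, 5, 6, 7, 3, 8, 9, 6, 5]), 1001, 0),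
    ((0, [1, 2, 3, 4, 5, 6, 7, 3, 2, 1, 4, 3, 5, 4, 8, 7, 3, 2, 1, 4, 3, 2, 5, 6, 7, 8, 9, 6, 5]), 1001, 0),
    ((0, [1, 2, 3, 4, 5, 6, 7, 3, 2, 1, 4, 3, 5, 8, 7, 3, 2, 1, 0, 4, 3, 2, 5, 6, 7, 8, 9, 6, 5]), 901, 0),
    ((0, [1, 2, 3, 4, 5, 6, 7, 3, 2, 1, 4, 3, 5, 7, 8, 7, 3, 2, 1, 4, 3, 2, 5, 6, 7, 3, 8, 9, 6]), 1001, 0),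
    ((0, [1, 2, 3, 4, 5, 6, 7, 3, 2, 4, 3, 5, 8, 7, 3, 2, 1, 4, 3, 2, 5, 4, 3, 7, 3, 8, 9, 6, 5]), 1001, 0),
    ((0, [1, 2, 3, 4, 5, 6, 7, 3, 2, 1, 4, 3, 5, 4, 8, 7, 3, 2, 1, 4, 3, 2, 5, 6, 7, 3, 8, 9, 6]), 901, 0),
    ((0, [1, 2, 3, 4, 5, 6, 7, 3, 2, 1, 4, 5, 8, 7, 3, 2, 1, 4, 3, 2, 5, 6, 7, 8, 9, 6, 5, 4, 3]), 1001, 0),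
    ((0, [1, 2, 3, 4, 5, 6, 7, 3, 2, 1, 4, 5, 8, 7, 3, 2, 1, 0, 4, 3, 2, 5, 4, 7, 8, 9, 6, 5, 4]), 1001, 0),
    ((0, [1, 2, 3, 4, 5, 6, 7, 3, 2, 1, 4, 5, 8, 7, 3, 2, 1, 4, 3, 2, 5, 4, 7, 8, 9, 6, 5, 4, 3]), 1001, 0),
    ((0, [1, 2, 3, 4, 5, 6, 7, 3, 2, 1, 4, 5, 8, 7, 3, 2, 1, 0, 4, 3, 5, 4, 6, 7, 8, 9, 6, 5, 4]), 1001, 0),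
    ((0, [1, 2, 3, 4, 5, 6, 7, 3, 2, 1, 4, 3, 5, 4, 8, 7, 3, 2, 4, 3, 5, 6, 7, 8, 9, 6, 5, 4, 3]), 1001, 0),
    ((0, [1, 2, 3, 4, 5, 6, 7, 3, 2, 1, 4, 3, 5, 4, 7, 8, 7, 3, 2, 4, 3, 5, 4, 7, 8, 9, 6, 5, 4]), 1001, 0),
    ((0, [1, 2, 3, 4, 5, 6, 7, 3, 2, 1, 4, 5, 8, 7, 3, 2, 1, 4, 3, 2, 5, 7, 3, 4, 8, 9, 6, 5, 4]), 1001, 0),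
    ((0, [1, 2, 3, 4, 5, 6, 7, 3, 2, 1, 4, 3, 5, 4, 8, 7, 3, 2, 1, 4, 3, 5, 4, 7, 8, 9, 6, 5, 4]), 1001, 0),
    ((0, [1, 2, 3, 4, 5, 6, 7, 3, 2, 1, 4, 3, 5, 7, 8, 7, 3, 2, 1, 4, 3, 5, 4, 7, 8, 9, 6, 5, 4]), 1001, 0),
    ((0, [1, 2, 3, 4, 5, 6, 7, 3, 2, 1, 4, 3, 5, 8, 7, 3, 2, 1, 4, 3, 2, 5, 4, 7, 8, 9, 6, 5, 4]), 1001, 0),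
    ((0, [1, 2, 3, 4, 5, 6, 7, 3, 2, 1, 4, 3, 5, 7, 8, 7, 3, 2, 4, 3, 5, 4, 6, 7, 8, 9, 6, 5, 4]), 1001, 0),
    ((0, [1, 2, 3, 4, 5, 6, 7, 3, 2, 1, 4, 3, 5, 4, 8, 7, 3, 2, 4, 3, 5, 4, 6, 7, 8, 9, 6, 5, 4]), 1001, 0),
    ((0, [1, 2, 3, 4, 5, 6, 7, 3, 2, 1, 4, 3, 5, 8, 7, 3, 2, 1, 4, 3, 5, 4, 6, 7, 8, 9, 6, 5, 4]), 1001, 0),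
    ((0, [1, 2, 3, 4, 5, 6, 7, 3, 2, 1, 4, 3, 5, 4, 8, 7, 3, 2, 4, 3, 5, 4, 7, 8, 9, 6, 5, 4, 3]), 1001, 0),
    ((0, [1, 2, 3, 4, 5, 6, 7, 3, 2, 1, 4, 3, 5, 4, 7, 3, 8, 7, 3, 2, 4, 3, 5, 4, 6, 7, 8, 9, 6]), 1001, 0)]

/-- Part 25 of the cycles. -/
def reps25 : List ((Nat × List Nat) × Nat × Nat) :=
  [
    ((0, [1, 2, 3, 4, 5, 6, 7, 3, 2, 1, 4, 3, 5, 4, 7, 3, 8, 7, 3, 2, 4, 3, 5, 4, 7, 8, 9, 6, 5]), 1001, 0),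
    ((0, [1, 2, 3, 4, 5, 6, 7, 3, 2, 1, 4, 3, 5, 4, 8, 7, 3, 2, 1, 4, 3, 2, 5, 7, 3, 4, 5, 8, 9]), 1001, 0),
    ((0, [1, 2, 3, 4, 5, 6, 7, 3, 2, 1, 4, 3, 5, 4, 7, 8, 7, 3, 2, 1, 4, 3, 5, 4, 7, 8, 9, 6, 5]), 1001, 0),
    ((0, [1, 2, 3, 4, 5, 6, 7, 3, 2, 1, 4, 3, 5, 4, 8, 7, 3, 2, 1, 0, 4, 3, 5, 4, 7, 8, 9, 6, 5]), 1001, 0),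
    ((0, [1, 2, 3, 4, 5, 6, 7, 3, 2, 1, 4, 3, 5, 8, 7, 3, 2, 1, 4, 3, 2, 5, 7, 3, 4, 8, 9, 6, 5]), 1001, 0),
    ((0, [1, 2, 3, 4, 5, 6, 7, 3, 2, 1, 4, 3, 5, 4, 8, 7, 3, 2, 1, 4, 3, 2, 5, 4, 7, 8, 9, 6, 5]), 1001, 0),
    ((0, [1, 2, 3, 4, 5, 6, 7, 3, 2, 1, 4, 3, 5, 7, 8, 7, 3, 2, 1, 4, 3, 2, 5, 4, 7, 8, 9, 6, 5]), 1001, 0),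
    ((0, [1, 2, 3, 4, 5, 6, 7, 3, 2, 1, 4, 3, 5, 4, 7, 8, 7, 3, 2, 4, 3, 5, 4, 6, 7, 8, 9, 6, 5]), 1001, 0),
    ((0, [1, 2, 3, 4, 5, 6, 7, 3, 2, 1, 4, 5, 8, 7, 3, 2, 1, 4, 3, 2, 5, 6, 7, 3, 4, 8, 9, 6, 5]), 1001, 0),
    ((0, [1, 2, 3, 4, 5, 6, 7, 3, 2, 1, 4, 3, 5, 4, 8, 7, 3, 2, 1, 4, 3, 5, 4, 6, 7, 8, 9, 6, 5]), 1001, 0),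
    ((0, [1, 2, 3, 4, 5, 6, 7, 3, 2, 1, 4, 3, 5, 7, 8, 7, 3, 2, 1, 4, 3, 5, 4, 6, 7, 8, 9, 6, 5]), 1001, 0),
    ((0, [1, 2, 3, 4, 5, 6, 7, 3, 2, 1, 4, 3, 5, 8, 7, 3, 2, 1, 4, 3, 2, 5, 4, 6, 7, 8, 9, 6, 5]), 1001, 0),
    ((0, [1, 2, 3, 4, 5, 6, 7, 3, 2, 1, 4, 3, 2, 5, 4, 7, 8, 7, 3, 2, 1, 4, 3, 2, 7, 3, 9, 6, 5]), 1001, 0),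
    ((0, [1, 2, 3, 4, 5, 6, 7, 3, 2, 1, 4, 3, 2, 5, 8, 7, 3, 2, 1, 4, 3, 2, 7, 3, 4, 8, 9, 6, 5]), 1001, 0),
    ((0, [1, 2, 3, 4, 5, 6, 7, 3, 2, 1, 4, 3, 2, 5, 7, 8, 7, 3, 2, 1, 4, 3, 2, 7, 3, 8, 9, 6, 5]), 1001, 0),
    ((0, [1, 2, 3, 4, 5, 6, 7, 3, 2, 1, 4, 3, 2, 5, 4, 7, 8, 7, 3, 2, 1, 4, 3, 2, 5, 7, 3, 8, 9]), 901, 0),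
    ((0, [1, 2, 3, 4, 5, 6, 7, 3, 2, 1, 4, 3, 2, 5, 4, 8, 7, 3, 2, 1, 4, 3, 2, 7, 3, 4, 5, 8, 9]), 1001, 0),
    ((0, [1, 2, 3, 4, 5, 6, 7, 3, 2, 1, 4, 5, 8, 7, 3, 2, 1, 0, 4, 3, 5, 4, 7, 8, 9, 6, 5, 4, 3]), 1001, 0),
    ((0, [1, 2, 3, 4, 5, 6, 7, 3, 2, 1, 4, 3, 5, 7, 8, 7, 3, 2, 4, 3, 5, 4, 7, 8, 9, 6, 5, 4, 3]), 1001, 0),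
    ((0, [1, 2, 3, 4, 5, 6, 7, 3, 2, 1, 4, 3, 5, 7, 8, 7, 3, 2, 4, 3, 5, 4, 6, 7, 9, 6, 5, 4, 3]), 1001, 0),
    ((0, [1, 2, 3, 4, 5, 6, 7, 3, 2, 1, 4, 5, 8, 7, 3, 2, 1, 4, 3, 2, 5, 4, 6, 7, 3, 8, 9, 6, 5]), 1001, 0),
    ((0, [1, 2, 3, 4, 5, 6, 7, 3, 2, 1, 4, 3, 5, 4, 7, 8, 7, 3, 2, 1, 4, 3, 5, 4, 7, 3, 9, 6, 5]), 1001, 0),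
    ((0, [1, 2, 3, 4, 5, 6, 7, 3, 2, 1, 4, 3, 5, 4, 7, 8, 7, 3, 2, 4, 3, 5, 4, 7, 3, 8, 9, 6, 5]), 1001, 0),
    ((0, [1, 2, 3, 4, 5, 6, 7, 3, 2, 1, 4, 5, 8, 7, 3, 2, 1, 4, 3, 2, 5, 4, 7, 3, 4, 8, 9, 6, 5]), 1001, 0),
    ((0, [1, 2, 3, 4, 5, 6, 7, 3, 2, 1, 4, 5, 8, 7, 3, 2, 1, 4, 3, 2, 5, 4, 6, 7, 3, 4, 9, 6, 5]), 1001, 0),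
    ((0, [1, 2, 3, 4, 5, 6, 7, 3, 2, 1, 4, 3, 2, 5, 7, 8, 7, 3, 2, 1, 0, 4, 3, 5, 7, 8, 9, 6, 5]), 1001, 0),
    ((0, [1, 2, 3, 4, 5, 6, 7, 3, 2, 1, 4, 3, 2, 5, 4, 8, 7, 3, 2, 1, 4, 3, 2, 7, 3, 8, 9, 6, 5]), 901, 0),
    ((0, [1, 2, 3, 4, 5, 6, 7, 3, 2, 1, 4, 3, 5, 4, 8, 7, 3, 2, 1, 0, 4, 3, 2, 7, 3, 8, 9, 6, 5]), 901, 0),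
    ((0, [1, 2, 3, 4, 5, 6, 7, 3, 2, 1, 4, 3, 5, 4, 8, 7, 3, 2, 1, 0, 4, 3, 2, 5, 7, 3, 8, 9, 6]), 1001, 0),
    ((0, [1, 2, 3, 4, 5, 6, 7, 3, 2, 4, 3, 5, 4, 8, 7, 3, 2, 1, 4, 3, 2, 5, 4, 3, 7, 8, 9, 6, 5]), 901, 0),
    ((0, [1, 2, 3, 4, 5, 6, 7, 3, 2, 1, 4, 3, 5, 8, 7, 3, 2, 1, 4, 3, 5, 4, 7, 8, 9, 6, 5, 4, 3]), 1001, 0),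
    ((0, [1, 2, 3, 4, 5, 6, 7, 3, 2, 1, 4, 3, 5, 8, 7, 3, 2, 4, 3, 5, 4, 6, 7, 8, 9, 6, 5, 4, 3]), 1001, 0),
    ((0, [1, 2, 3, 4, 5, 6, 7, 3, 2, 1, 4, 3, 2, 5, 8, 7, 3, 2, 1, 4, 3, 2, 7, 8, 9, 6, 5, 4, 3]), 901, 0),
    ((0, [1, 2, 3, 4, 5, 6, 7, 3, 2, 1, 4, 3, 5, 8, 7, 3, 2, 1, 4, 3, 2, 5, 7, 8, 9, 6, 5, 4, 3]), 1001, 0),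
    ((0, [1, 2, 3, 4, 5, 6, 7, 3, 2, 1, 4, 3, 5, 8, 7, 3, 2, 1, 4, 3, 2, 5, 4, 7, 9, 6, 5, 4, 3]), 1001, 0),
    ((0, [1, 2, 3, 4, 5, 6, 7, 3, 2, 1, 4, 3, 5, 7, 8, 7, 3, 2, 1, 4, 3, 5, 4, 7, 3, 8, 9, 6, 5]), 1001, 0),
    ((0, [1, 2, 3, 4, 5, 6, 7, 3, 2, 1, 4, 3, 2, 5, 8, 7, 3, 2, 1, 4, 3, 5, 4, 6, 5, 7, 9, 6, 5]), 1001, 0),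
    ((0, [1, 2, 3, 4, 5, 6, 7, 3, 2, 1, 4, 3, 2, 5, 8, 7, 3, 2, 4, 3, 5, 4, 6, 5, 7, 8, 9, 6, 5]), 1001, 0),
    ((0, [1, 2, 3, 4, 5, 6, 7, 3, 2, 1, 4, 3, 5, 4, 7, 8, 7, 3, 2, 1, 4, 3, 2, 5, 4, 3, 9, 6, 5]), 1001, 0),
    ((0, [1, 2, 3, 4, 5, 6, 7, 3, 2, 1, 4, 3, 5, 4, 8, 7, 3, 2, 1, 4, 3, 2, 5, 4, 3, 6, 9, 6, 5]), 1001, 0),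
    ((0, [1, 2, 3, 4, 5, 6, 7, 3, 2, 1, 4, 3, 5, 8, 7, 3, 2, 1, 4, 3, 2, 5, 4, 7, 3, 4, 5, 8, 9]), 1001, 0),
    ((0, [1, 2, 3, 4, 5, 6, 7, 3, 2, 1, 4, 3, 2, 5, 7, 8, 7, 3, 2, 1, 4, 3, 2, 5, 4, 7, 3, 8, 9]), 901, 0),
    ((0, [1, 2, 3, 4, 5, 6, 7, 3, 2, 1, 4, 3, 5, 8, 7, 3, 2, 1, 4, 3, 2, 5, 4, 7, 3, 4, 9, 6, 5]), 1001, 0),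
    ((0, [1, 2, 3, 4, 5, 6, 7, 3, 2, 1, 4, 3, 5, 7, 8, 7, 3, 2, 1, 4, 3, 2, 5, 4, 7, 3, 9, 6, 5]), 1001, 0),
    ((0, [1, 2, 3, 4, 5, 6, 7, 3, 2, 1, 4, 3, 5, 4, 8, 7, 3, 2, 1, 4, 3, 5, 4, 7, 3, 8, 9, 6, 5]), 1001, 0),
    ((0, [1, 2, 3, 4, 5, 6, 7, 3, 2, 1, 4, 3, 5, 4, 8, 7, 3, 2, 1, 4, 3, 5, 4, 6, 7, 3, 9, 6, 5]), 1001, 0),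
    ((0, [1, 2, 3, 4, 5, 6, 7, 3, 2, 1, 4, 3, 5, 4, 8, 7, 3, 2, 4, 3, 5, 4, 6, 7, 3, 8, 9, 6, 5]), 1001, 0),
    ((0, [1, 2, 3, 4, 5, 6, 7, 3, 2, 1, 4, 3, 2, 5, 7, 8, 7, 3, 2, 1, 4, 3, 5, 4, 7, 8, 9, 6, 5]), 1001, 0),
    ((0, [1, 2, 3, 4, 5, 6, 7, 3, 2, 1, 4, 3, 5, 4, 8, 7, 3, 2, 1, 4, 3, 2, 5, 4, 7, 3, 9, 6, 5]), 1001, 0),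
    ((0, [1, 2, 3, 4, 5, 6, 7, 3, 2, 1, 4, 3, 5, 8, 7, 3, 2, 1, 4, 3, 2, 5, 4, 7, 3, 8, 9, 6, 5]), 1001, 0),
    ((0, [1, 2, 3, 4, 5, 6, 7, 3, 2, 1, 4, 3, 5, 8, 7, 3, 2, 1, 4, 3, 2, 5, 4, 6, 7, 3, 9, 6, 5]), 1001, 0),
    ((0, [1, 2, 3, 4, 5, 6, 7, 3, 2, 1, 4, 3, 2, 5, 8, 7, 3, 2, 4, 3, 5, 4, 6, 7, 3, 2, 1, 8, 9]), 1001, 0),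
    ((0, [1, 2, 3, 4, 5, 6, 7, 3, 2, 1, 4, 3, 5, 8, 7, 3, 2, 1, 4, 3, 2, 5, 6, 7, 3, 4, 5, 8, 9]), 1001, 0),
    ((0, [1, 2, 3, 4, 5, 6, 7, 3, 2, 1, 4, 3, 2, 5, 4, 8, 7, 3, 2, 4, 3, 5, 4, 6, 7, 3, 2, 8, 9]), 1001, 0),
    ((0, [1, 2, 3, 4, 5, 6, 7, 3, 2, 1, 4, 3, 5, 4, 8, 7, 3, 2, 1, 0, 4, 3, 5, 4, 6, 5, 7, 8, 9]), 1001, 0),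
    ((0, [1, 2, 3, 4, 5, 6, 7, 3, 2, 1, 4, 3, 5, 4, 8, 7, 3, 2, 1, 4, 3, 2, 5, 4, 6, 5, 7, 8, 9]), 1001, 0),
    ((0, [1, 2, 3, 4, 5, 6, 7, 3, 2, 1, 4, 3, 5, 4, 8, 7, 3, 2, 1, 0, 4, 3, 2, 5, 4, 6, 5, 7, 8]), 1001, 0),
    ((0, [1, 2, 3, 4, 5, 6, 7, 3, 2, 1, 4, 3, 2, 5, 8, 7, 3, 2, 1, 0, 4, 3, 2, 5, 4, 3, 7, 3, 8]), 1001, 0),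
    ((0, [1, 2, 3, 4, 5, 6, 7, 3, 2, 1, 4, 3, 2, 5, 4, 8, 7, 3, 2, 1, 0, 4, 3, 2, 5, 4, 3, 7, 8]), 1001, 0),
    ((0, [1, 2, 3, 4, 5, 6, 7, 3, 2, 4, 3, 5, 8, 7, 3, 2, 1, 4, 3, 2, 5, 4, 3, 7, 3, 4, 5, 8, 9]), 1001, 0),
    ((0, [1, 2, 3, 4, 5, 6, 7, 3, 2, 1, 4, 3, 5, 7, 8, 7, 3, 2, 1, 4, 3, 2, 5, 4, 7, 3, 2, 8, 9]), 1001, 0),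
    ((0, [1, 2, 3, 4, 5, 6, 7, 3, 2, 1, 4, 3, 2, 5, 7, 8, 7, 3, 2, 1, 0, 4, 3, 2, 1, 7, 9, 6, 5]), 1001, 0),
    ((0, [1, 2, 3, 4, 5, 6, 7, 3, 2, 1, 4, 3, 2, 5, 7, 8, 7, 3, 2, 1, 0, 4, 3, 2, 7, 8, 9, 6, 5]), 1001, 0),
    ((0, [1, 2, 3, 4, 5, 6, 7, 3, 2, 1, 4, 3, 2, 5, 7, 8, 7, 3, 2, 1, 0, 4, 3, 7, 8, 9, 6, 5, 4]), 1001, 0),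
    ((0, [1, 2, 3, 4, 5, 6, 7, 3, 2, 1, 4, 3, 2, 5, 8, 7, 3, 2, 1, 0, 4, 3, 2, 7, 8, 9, 6, 5, 4]), 1001, 0),
    ((0, [1, 2, 3, 4, 5, 6, 7, 3, 2, 1, 4, 3, 2, 5, 7, 8, 7, 3, 2, 1, 0, 4, 3, 2, 1, 5, 7, 8, 9]), 1001, 0),
    ((0, [1, 2, 3, 4, 5, 6, 7, 3, 2, 1, 4, 3, 2, 5, 8, 7, 3, 2, 1, 0, 4, 3, 2, 1, 7, 8, 9, 6, 5]), 1001, 0),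
    ((0, [1, 2, 3, 4, 5, 6, 7, 3, 2, 1, 4, 3, 2, 5, 8, 7, 3, 2, 1, 0, 4, 3, 2, 1, 5, 4, 7, 8, 9]), 901, 0),
    ((0, [1, 2, 3, 4, 5, 6, 7, 3, 2, 1, 4, 3, 2, 5, 7, 8, 7, 3, 2, 1, 4, 3, 2, 7, 3, 4, 9, 6, 5]), 1001, 0),
    ((0, [1, 2, 3, 4, 5, 6, 7, 3, 2, 1, 4, 3, 2, 5, 8, 7, 3, 2, 1, 0, 4, 3, 2, 7, 3, 8, 9, 6, 5]), 1001, 0),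
    ((0, [1, 2, 3, 4, 5, 6, 7, 3, 2, 1, 4, 3, 2, 5, 7, 8, 7, 3, 2, 1, 4, 3, 2, 7, 3, 4, 5, 8, 9]), 1001, 0),
    ((0, [1, 2, 3, 4, 5, 6, 7, 3, 2, 1, 4, 3, 2, 5, 8, 7, 3, 2, 1, 0, 4, 3, 2, 7, 9, 6, 5, 4, 3]), 1001, 0),
    ((0, [1, 2, 3, 4, 5, 6, 7, 3, 2, 1, 4, 3, 2, 5, 8, 7, 3, 2, 1, 0, 4, 3, 2, 5, 4, 7, 3, 8, 9]), 1001, 0),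
    ((0, [1, 2, 3, 4, 5, 6, 7, 3, 2, 1, 4, 3, 5, 8, 7, 3, 2, 1, 0, 4, 3, 5, 4, 7, 8, 9, 6, 5, 4]), 1001, 0),
    ((0, [1, 2, 3, 4, 5, 6, 7, 3, 2, 1, 4, 3, 5, 7, 8, 7, 3, 2, 1, 0, 4, 3, 5, 4, 7, 8, 9, 6, 5]), 1001, 0),
    ((0, [1, 2, 3, 4, 5, 6, 7, 3, 2, 1, 4, 3, 5, 8, 7, 3, 2, 1, 0, 4, 3, 2, 5, 4, 7, 8, 9, 6, 5]), 1001, 0),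
    ((0, [1, 2, 3, 4, 5, 6, 7, 3, 2, 1, 4, 3, 5, 7, 8, 7, 3, 2, 1, 4, 3, 2, 5, 7, 3, 4, 9, 6, 5]), 1001, 0),
    ((0, [1, 2, 3, 4, 5, 6, 7, 3, 2, 1, 4, 3, 5, 8, 7, 3, 2, 1, 0, 4, 3, 5, 4, 7, 3, 8, 9, 6, 5]), 1001, 0),
    ((0, [1, 2, 3, 4, 5, 6, 7, 3, 2, 1, 4, 3, 5, 8, 7, 3, 2, 1, 0, 4, 3, 2, 5, 4, 7, 3, 9, 6, 5]), 1001, 0),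
    ((0, [1, 2, 3, 4, 5, 6, 7, 3, 2, 1, 4, 3, 8, 7, 3, 2, 1, 4, 3, 2, 5, 4, 3, 7, 8, 9, 6, 5, 4]), 1001, 0),
    ((0, [1, 2, 3, 4, 5, 6, 7, 3, 2, 1, 4, 3, 5, 8, 7, 3, 2, 1, 0, 4, 3, 5, 4, 6, 7, 8, 9, 6, 5]), 1001, 0),
    ((0, [1, 2, 3, 4, 5, 6, 7, 3, 2, 1, 4, 3, 5, 8, 7, 3, 2, 1, 4, 3, 2, 5, 4, 3, 7, 8, 9, 6, 5]), 1001, 0),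
    ((0, [1, 2, 3, 4, 5, 6, 7, 3, 2, 1, 4, 3, 2, 5, 7, 8, 7, 3, 2, 1, 0, 4, 3, 5, 4, 7, 9, 6, 5]), 1001, 0),
    ((0, [1, 2, 3, 4, 5, 6, 7, 3, 2, 1, 4, 3, 5, 8, 7, 3, 2, 1, 4, 3, 2, 5, 4, 3, 7, 3, 9, 6, 5]), 1001, 0),
    ((0, [1, 2, 3, 4, 5, 6, 7, 3, 2, 1, 4, 3, 2, 7, 8, 7, 3, 2, 1, 4, 3, 2, 5, 4, 3, 7, 9, 6, 5]), 1001, 0),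
    ((0, [1, 2, 3, 4, 5, 6, 7, 3, 2, 1, 4, 3, 8, 7, 3, 2, 1, 4, 3, 2, 5, 4, 3, 7, 3, 8, 9, 6, 5]), 1001, 0),
    ((0, [1, 2, 3, 4, 5, 6, 7, 3, 2, 1, 4, 3, 2, 5, 4, 8, 7, 3, 2, 1, 4, 3, 2, 5, 4, 3, 7, 8, 9]), 1001, 0),
    ((0, [1, 2, 3, 4, 5, 6, 7, 3, 2, 1, 4, 3, 2, 5, 8, 7, 3, 2, 1, 4, 3, 2, 5, 4, 3, 7, 3, 8, 9]), 1001, 0),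
    ((0, [1, 2, 3, 4, 5, 6, 7, 3, 2, 1, 4, 3, 2, 5, 4, 8, 7, 3, 2, 1, 0, 4, 3, 5, 7, 9, 6, 5, 4]), 901, 0),
    ((0, [1, 2, 3, 4, 5, 6, 7, 3, 2, 1, 4, 3, 2, 5, 4, 7, 8, 7, 3, 2, 1, 4, 3, 5, 7, 8, 9, 6, 5]), 1001, 0),
    ((0, [1, 2, 3, 4, 5, 6, 7, 3, 2, 1, 4, 3, 2, 5, 4, 8, 7, 3, 2, 1, 0, 4, 3, 5, 7, 8, 9, 6, 5]), 1001, 0),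
    ((0, [1, 2, 3, 4, 5, 6, 7, 3, 2, 1, 4, 3, 2, 5, 4, 3, 8, 7, 3, 2, 1, 4, 3, 5, 7, 8, 9, 6, 5]), 1001, 0),
    ((0, [1, 2, 3, 4, 5, 6, 7, 3, 2, 1, 4, 3, 2, 5, 4, 8, 7, 3, 2, 1, 0, 4, 3, 5, 4, 7, 8, 9, 6]), 1001, 0),
    ((0, [1, 2, 3, 4, 5, 6, 7, 3, 2, 1, 4, 3, 2, 5, 4, 7, 8, 7, 3, 2, 1, 4, 3, 2, 5, 7, 8, 9, 6]), 1001, 0),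
    ((0, [1, 2, 3, 4, 5, 6, 7, 3, 2, 1, 4, 3, 5, 8, 7, 3, 2, 1, 4, 3, 2, 7, 3, 4, 5, 8, 9, 6, 5]), 1001, 0),
    ((0, [1, 2, 3, 4, 5, 6, 7, 3, 2, 1, 4, 3, 2, 5, 4, 8, 7, 3, 2, 1, 4, 3, 2, 5, 7, 8, 9, 6, 5]), 1001, 0),
    ((0, [1, 2, 3, 4, 5, 6, 7, 3, 2, 1, 4, 3, 2, 5, 4, 8, 7, 3, 2, 1, 0, 4, 3, 2, 5, 7, 8, 9, 6]), 1001, 0),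
    ((0, [1, 2, 3, 4, 5, 6, 7, 3, 2, 1, 4, 3, 5, 8, 7, 3, 2, 1, 4, 3, 2, 5, 7, 3, 4, 5, 8, 9, 6]), 1001, 0),
    ((0, [1, 2, 3, 4, 5, 6, 7, 3, 2, 1, 4, 3, 2, 5, 4, 8, 7, 3, 2, 1, 4, 3, 5, 7, 8, 9, 6, 5, 4]), 1001, 0),
    ((0, [1, 2, 3, 4, 5, 6, 7, 3, 2, 1, 4, 5, 8, 7, 3, 2, 1, 4, 3, 2, 7, 3, 4, 5, 8, 9, 6, 5, 4]), 901, 0),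
    ((0, [1, 2, 3, 4, 5, 6, 7, 3, 2, 1, 4, 3, 2, 5, 4, 7, 8, 7, 3, 2, 1, 4, 3, 5, 4, 7, 9, 6, 5]), 1001, 0),
    ((0, [1, 2, 3, 4, 5, 6, 7, 3, 2, 1, 4, 3, 2, 5, 4, 7, 8, 7, 3, 2, 1, 4, 3, 2, 5, 4, 9, 6, 5]), 1001, 0),
    ((0, [1, 2, 3, 4, 5, 6, 7, 3, 2, 1, 4, 3, 2, 5, 4, 8, 7, 3, 2, 1, 4, 3, 5, 4, 7, 9, 6, 5, 4]), 1001, 0),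
    ((0, [1, 2, 3, 4, 5, 6, 7, 3, 2, 1, 4, 3, 2, 5, 4, 8, 7, 3, 2, 1, 4, 3, 2, 5, 4, 9, 6, 5, 4]), 1001, 0),
    ((0, [1, 2, 3, 4, 5, 6, 7, 3, 2, 4, 3, 5, 8, 7, 3, 2, 1, 4, 3, 2, 5, 7, 3, 4, 5, 9, 6, 5, 4]), 1001, 0),
    ((0, [1, 2, 3, 4, 5, 6, 7, 3, 2, 1, 4, 5, 8, 7, 3, 2, 1, 4, 3, 2, 5, 7, 3, 4, 5, 9, 6, 5, 4]), 1001, 0),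
    ((0, [1, 2, 3, 4, 5, 6, 7, 3, 2, 1, 4, 3, 2, 5, 4, 7, 8, 7, 3, 2, 4, 3, 5, 4, 7, 8, 9, 6, 5]), 1001, 0),
    ((0, [1, 2, 3, 4, 5, 6, 7, 3, 2, 1, 4, 5, 8, 7, 3, 2, 1, 4, 3, 2, 5, 7, 3, 4, 5, 8, 9, 6, 5]), 1001, 0),
    ((0, [1, 2, 3, 4, 5, 6, 7, 3, 2, 1, 4, 3, 2, 5, 4, 8, 7, 3, 2, 1, 4, 3, 5, 4, 7, 8, 9, 6, 5]), 1001, 0),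
    ((0, [1, 2, 3, 4, 5, 6, 7, 3, 2, 1, 4, 3, 2, 5, 8, 7, 3, 2, 1, 4, 3, 5, 4, 7, 8, 9, 6, 5, 4]), 1001, 0),
    ((0, [1, 2, 3, 4, 5, 6, 7, 3, 2, 1, 4, 3, 2, 5, 7, 8, 7, 3, 2, 4, 3, 5, 4, 7, 8, 9, 6, 5, 4]), 1001, 0),
    ((0, [1, 2, 3, 4, 5, 6, 7, 3, 2, 1, 4, 3, 2, 5, 4, 7, 8, 7, 3, 2, 4, 3, 5, 4, 7, 3, 9, 6, 5]), 1001, 0),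
    ((0, [1, 2, 3, 4, 5, 6, 7, 3, 2, 1, 4, 5, 8, 7, 3, 2, 1, 4, 3, 2, 5, 4, 7, 3, 4, 5, 9, 6, 5]), 1001, 0),
    ((0, [1, 2, 3, 4, 5, 6, 7, 3, 2, 1, 4, 3, 2, 5, 4, 8, 7, 3, 2, 1, 4, 3, 5, 4, 7, 3, 9, 6, 5]), 1001, 0),
    ((0, [1, 2, 3, 4, 5, 6, 7, 3, 2, 1, 4, 3, 2, 5, 4, 8, 7, 3, 2, 4, 3, 5, 4, 7, 3, 8, 9, 6, 5]), 1001, 0),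
    ((0, [1, 2, 3, 4, 5, 6, 7, 3, 2, 1, 4, 3, 2, 5, 8, 7, 3, 2, 1, 4, 3, 5, 4, 7, 3, 8, 9, 6, 5]), 1001, 0),
    ((0, [1, 2, 3, 4, 5, 6, 7, 3, 2, 1, 4, 3, 5, 4, 8, 7, 3, 2, 1, 4, 3, 2, 7, 3, 4, 5, 9, 6, 5]), 1001, 0),
    ((0, [1, 2, 3, 4, 5, 6, 7, 3, 2, 1, 4, 3, 2, 5, 4, 8, 7, 3, 2, 1, 0, 4, 3, 2, 1, 5, 7, 9, 6]), 1001, 0),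
    ((0, [1, 2, 3, 4, 5, 6, 7, 3, 2, 1, 4, 3, 5, 4, 8, 7, 3, 2, 1, 4, 3, 2, 7, 3, 4, 5, 8, 9, 6]), 1001, 0),
    ((0, [1, 2, 3, 4, 5, 6, 7, 3, 2, 4, 3, 5, 4, 8, 7, 3, 2, 1, 4, 3, 2, 5, 7, 3, 4, 5, 9, 6, 5]), 1001, 0)]

/-- Part 26 of the cycles. -/
def reps26 : List ((Nat × List Nat) × Nat × Nat) :=
  [
    ((0, [1, 2, 3, 4, 5, 6, 7, 3, 2, 1, 4, 3, 2, 5, 8, 7, 3, 2, 1, 4, 3, 2, 7, 3, 4, 5, 8, 9, 6]), 1001, 0),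
    ((0, [1, 2, 3, 4, 5, 6, 7, 3, 2, 1, 4, 3, 2, 5, 7, 8, 7, 3, 2, 1, 4, 3, 2, 5, 7, 3, 8, 9, 6]), 901, 0),
    ((0, [1, 2, 3, 4, 5, 6, 7, 3, 2, 1, 4, 3, 2, 5, 4, 8, 7, 3, 2, 1, 4, 3, 2, 5, 7, 3, 8, 9, 6]), 1001, 0),
    ((0, [1, 2, 3, 4, 5, 6, 7, 3, 2, 1, 4, 3, 2, 5, 8, 7, 3, 2, 1, 4, 3, 2, 5, 7, 3, 8, 9, 6, 5]), 901, 0),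
    ((0, [1, 2, 3, 4, 5, 6, 7, 3, 2, 1, 4, 3, 2, 5, 4, 8, 7, 3, 2, 1, 4, 3, 2, 5, 4, 3, 9, 6, 5]), 1001, 0),
    ((0, [1, 2, 3, 4, 5, 6, 7, 3, 2, 1, 4, 3, 2, 5, 7, 8, 7, 3, 2, 1, 4, 3, 2, 5, 4, 3, 9, 6, 5]), 1001, 0),
    ((0, [1, 2, 3, 4, 5, 6, 7, 3, 2, 1, 4, 3, 2, 5, 8, 7, 3, 2, 1, 4, 3, 2, 5, 4, 7, 3, 8, 9, 6]), 1001, 0),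
    ((0, [1, 2, 3, 4, 5, 6, 7, 3, 2, 1, 4, 3, 2, 5, 8, 7, 3, 2, 1, 4, 3, 2, 5, 4, 7, 3, 9, 6, 5]), 1001, 0),
    ((0, [1, 2, 3, 4, 5, 6, 7, 3, 2, 1, 4, 3, 2, 5, 8, 7, 3, 2, 1, 0, 4, 3, 2, 5, 7, 8, 9, 6, 5]), 1001, 0),
    ((0, [1, 2, 3, 4, 5, 6, 7, 3, 2, 1, 4, 3, 2, 5, 7, 8, 7, 3, 2, 1, 0, 4, 3, 2, 5, 7, 8, 9, 6]), 1001, 0),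
    ((0, [1, 2, 3, 4, 5, 6, 7, 3, 2, 1, 4, 3, 2, 5, 8, 7, 3, 2, 1, 0, 4, 3, 5, 7, 8, 9, 6, 5, 4]), 1001, 0),
    ((0, [1, 2, 3, 4, 5, 6, 7, 3, 2, 1, 4, 3, 2, 5, 8, 7, 3, 2, 1, 0, 4, 3, 5, 4, 7, 9, 6, 5, 4]), 1001, 0),
    ((0, [1, 2, 3, 4, 5, 6, 7, 3, 2, 1, 4, 3, 2, 5, 8, 7, 3, 2, 1, 0, 4, 3, 2, 5, 4, 9, 6, 5, 4]), 1001, 0),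
    ((0, [1, 2, 3, 4, 5, 6, 7, 3, 2, 1, 4, 3, 2, 5, 7, 8, 7, 3, 2, 1, 0, 4, 3, 2, 5, 4, 9, 6, 5]), 1001, 0),
    ((0, [1, 2, 3, 4, 5, 6, 7, 3, 2, 1, 4, 3, 2, 5, 8, 7, 3, 2, 1, 0, 4, 3, 5, 4, 7, 8, 9, 6, 5]), 1001, 0),
    ((0, [1, 2, 3, 4, 5, 6, 7, 3, 2, 1, 4, 3, 2, 5, 8, 7, 3, 2, 1, 0, 4, 3, 5, 4, 7, 3, 9, 6, 5]), 1001, 0),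
    ((0, [1, 2, 3, 4, 5, 6, 7, 3, 2, 1, 4, 3, 2, 5, 7, 8, 7, 3, 2, 1, 0, 4, 3, 2, 1, 5, 9, 6, 5]), 1001, 0),
    ((0, [1, 2, 3, 4, 5, 6, 7, 3, 2, 1, 4, 3, 2, 5, 8, 7, 3, 2, 1, 0, 4, 3, 2, 1, 5, 7, 9, 6, 5]), 1001, 0),
    ((0, [1, 2, 3, 4, 5, 6, 7, 3, 2, 1, 4, 3, 2, 5, 8, 7, 3, 2, 1, 0, 4, 3, 2, 1, 5, 7, 8, 9, 6]), 1001, 0),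
    ((0, [1, 2, 3, 4, 5, 6, 7, 3, 2, 1, 4, 3, 2, 5, 8, 7, 3, 2, 1, 0, 4, 3, 2, 1, 5, 4, 9, 6, 5]), 1001, 0),
    ((0, [1, 2, 3, 4, 5, 6, 7, 3, 2, 1, 4, 3, 2, 5, 8, 7, 3, 2, 1, 0, 4, 3, 2, 5, 7, 3, 9, 6, 5]), 1001, 0),
    ((0, [1, 2, 3, 4, 5, 6, 7, 3, 2, 1, 4, 3, 2, 5, 8, 7, 3, 2, 1, 0, 4, 3, 2, 5, 7, 3, 8, 9, 6]), 1001, 0),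
    ((0, [1, 2, 3, 4, 5, 6, 7, 3, 2, 1, 4, 3, 2, 5, 8, 7, 3, 2, 4, 3, 5, 4, 7, 8, 9, 6, 5, 4, 3]), 1001, 0),
    ((0, [1, 2, 3, 4, 5, 6, 7, 3, 2, 1, 4, 3, 2, 5, 4, 8, 7, 3, 2, 4, 3, 5, 7, 8, 9, 6, 5, 4, 3]), 1001, 0),
    ((0, [1, 2, 3, 4, 5, 6, 7, 3, 2, 1, 4, 3, 2, 5, 4, 8, 7, 3, 2, 4, 3, 5, 4, 7, 9, 6, 5, 4, 3]), 1001, 0),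
    ((0, [1, 2, 3, 4, 5, 6, 7, 3, 2, 1, 4, 3, 2, 5, 8, 7, 3, 2, 1, 4, 3, 2, 5, 4, 9, 6, 5, 4, 3]), 1001, 0),
    ((0, [1, 2, 3, 4, 5, 6, 7, 3, 2, 1, 4, 3, 2, 5, 8, 7, 3, 2, 1, 0, 4, 3, 2, 5, 4, 3, 9, 6, 5]), 1001, 0),
    ((0, [1, 2, 3, 4, 5, 6, 7, 3, 2, 1, 4, 3, 5, 4, 8, 7, 3, 2, 1, 4, 3, 2, 5, 4, 6, 5, 9, 6, 5]), 1001, 0),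
    ((0, [1, 2, 3, 4, 5, 6, 7, 3, 2, 1, 4, 3, 2, 5, 4, 8, 7, 3, 2, 1, 0, 4, 3, 5, 4, 6, 5, 7, 8]), 1001, 0),
    ((0, [1, 2, 3, 4, 5, 6, 7, 3, 2, 1, 4, 3, 2, 5, 8, 7, 3, 2, 1, 4, 3, 5, 4, 7, 3, 2, 1, 0, 8]), 1001, 0),
    ((0, [1, 2, 3, 4, 5, 6, 7, 3, 2, 1, 4, 3, 2, 5, 4, 8, 7, 3, 2, 1, 0, 4, 3, 2, 1, 5, 6, 7, 8]), 1001, 0),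
    ((0, [1, 2, 3, 4, 5, 6, 7, 3, 2, 1, 4, 3, 8, 7, 3, 2, 1, 4, 3, 2, 5, 4, 3, 7, 3, 2, 1, 0, 8]), 1001, 0),
    ((0, [1, 2, 3, 4, 5, 6, 7, 3, 2, 1, 4, 3, 2, 5, 4, 8, 7, 3, 2, 1, 4, 3, 2, 5, 4, 3, 6, 7, 8]), 1001, 0),
    ((0, [1, 2, 3, 4, 5, 6, 7, 3, 2, 1, 4, 3, 2, 5, 8, 7, 3, 2, 1, 0, 4, 3, 2, 5, 4, 7, 3, 2, 8]), 1001, 0),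
    ((0, [1, 2, 3, 4, 5, 6, 7, 3, 2, 1, 4, 3, 2, 5, 7, 3, 8, 7, 3, 2, 1, 4, 3, 2, 7, 3, 9, 6, 5]), 1001, 0),
    ((0, [1, 2, 3, 4, 5, 6, 7, 3, 2, 1, 4, 3, 2, 5, 7, 3, 8, 7, 3, 2, 1, 4, 3, 2, 7, 3, 8, 9, 6]), 1001, 0),
    ((0, [1, 2, 3, 4, 5, 6, 7, 3, 2, 1, 4, 3, 2, 5, 4, 3, 8, 7, 3, 2, 1, 4, 3, 2, 7, 3, 8, 9, 6]), 1001, 0),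
    ((0, [1, 2, 3, 4, 5, 6, 7, 3, 2, 4, 3, 5, 4, 8, 7, 3, 2, 1, 0, 4, 3, 2, 7, 9, 6, 5, 4, 3, 2]), 901, 0),
    ((0, [1, 2, 3, 4, 5, 6, 7, 3, 2, 4, 3, 5, 4, 8, 7, 3, 2, 1, 4, 3, 2, 5, 7, 9, 6, 5, 4, 3, 7]), 1001, 0),
    ((0, [1, 2, 3, 4, 5, 6, 7, 3, 2, 1, 4, 3, 5, 4, 8, 7, 3, 2, 4, 3, 7, 8, 9, 6, 5, 4, 3, 7, 8]), 1001, 0),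
    ((0, [1, 2, 3, 4, 5, 6, 7, 3, 2, 1, 4, 3, 5, 4, 8, 7, 3, 2, 4, 3, 7, 9, 6, 5, 4, 3, 2, 7, 8]), 1001, 0),
    ((0, [1, 2, 3, 4, 5, 6, 7, 3, 2, 1, 4, 3, 5, 4, 8, 7, 3, 2, 4, 3, 5, 4, 7, 9, 6, 5, 4, 3, 2]), 1001, 0),
    ((0, [1, 2, 3, 4, 5, 6, 7, 3, 2, 1, 4, 3, 2, 5, 7, 3, 8, 7, 3, 2, 1, 0, 4, 3, 2, 1, 9, 6, 5]), 1001, 0),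
    ((0, [1, 2, 3, 4, 5, 6, 7, 3, 2, 1, 4, 5, 8, 7, 3, 2, 1, 4, 3, 2, 7, 3, 8, 9, 6, 5, 4, 3, 2]), 701, 0),
    ((0, [1, 2, 3, 4, 5, 6, 7, 3, 2, 1, 4, 5, 8, 7, 3, 2, 1, 4, 3, 2, 5, 7, 8, 9, 6, 5, 4, 3, 2]), 1001, 0),
    ((0, [1, 2, 3, 4, 5, 6, 7, 3, 2, 1, 4, 5, 8, 7, 3, 2, 1, 0, 4, 3, 5, 7, 8, 9, 6, 5, 4, 3, 2]), 901, 0),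
    ((0, [1, 2, 3, 4, 5, 6, 7, 3, 2, 1, 4, 5, 8, 7, 3, 2, 1, 4, 3, 5, 4, 7, 8, 9, 6, 5, 4, 3, 2]), 1001, 0),
    ((0, [1, 2, 3, 4, 5, 6, 7, 3, 2, 1, 4, 5, 8, 7, 3, 2, 1, 4, 3, 5, 6, 7, 8, 9, 6, 5, 4, 3, 2]), 1001, 0),
    ((0, [1, 2, 3, 4, 5, 6, 7, 3, 2, 1, 4, 3, 5, 4, 7, 8, 7, 3, 2, 4, 3, 7, 8, 9, 6, 5, 4, 3, 2]), 1001, 0),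
    ((0, [1, 2, 3, 4, 5, 6, 7, 3, 2, 1, 4, 3, 2, 5, 7, 8, 7, 3, 2, 4, 3, 7, 8, 9, 6, 5, 4, 3, 2]), 1001, 0),
    ((0, [1, 2, 3, 4, 5, 6, 7, 3, 2, 1, 4, 5, 8, 7, 3, 2, 4, 3, 5, 4, 6, 7, 8, 9, 6, 5, 4, 3, 2]), 1001, 0),
    ((0, [1, 2, 3, 4, 5, 6, 7, 3, 2, 1, 4, 5, 8, 7, 3, 2, 1, 4, 3, 2, 5, 7, 8, 9, 6, 5, 4, 3, 7]), 1001, 0),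
    ((0, [1, 2, 3, 4, 5, 6, 7, 3, 2, 1, 4, 3, 5, 4, 7, 8, 7, 3, 2, 4, 3, 7, 8, 9, 6, 5, 4, 3, 7]), 1001, 0),
    ((0, [1, 2, 3, 4, 5, 6, 7, 3, 2, 1, 4, 3, 5, 4, 8, 7, 3, 2, 1, 4, 3, 7, 8, 9, 6, 5, 4, 3, 7]), 1001, 0),
    ((0, [1, 2, 3, 4, 5, 6, 7, 3, 2, 4, 3, 5, 8, 7, 3, 2, 1, 4, 3, 2, 7, 9, 6, 5, 4, 3, 2, 7, 8]), 1001, 0),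
    ((0, [1, 2, 3, 4, 5, 6, 7, 3, 2, 1, 4, 3, 2, 8, 7, 3, 2, 4, 3, 5, 4, 6, 7, 3, 2, 9, 6, 5, 4]), 1001, 0),
    ((0, [1, 2, 3, 4, 5, 6, 7, 3, 2, 1, 4, 3, 5, 4, 8, 7, 3, 2, 4, 3, 5, 4, 6, 5, 9, 6, 5, 4, 3]), 1001, 0),
    ((0, [1, 2, 3, 4, 5, 6, 7, 3, 2, 4, 5, 8, 7, 3, 2, 1, 4, 3, 2, 5, 6, 7, 3, 4, 5, 9, 6, 5, 4]), 1001, 0),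
    ((0, [1, 2, 3, 4, 5, 6, 7, 3, 2, 1, 4, 3, 2, 8, 7, 3, 2, 4, 3, 5, 4, 6, 7, 3, 2, 1, 9, 6, 5]), 1001, 0),
    ((0, [1, 2, 3, 4, 5, 6, 7, 3, 2, 1, 4, 3, 2, 5, 8, 7, 3, 2, 4, 3, 5, 4, 6, 7, 3, 9, 6, 5, 4]), 1001, 0),
    ((0, [1, 2, 3, 4, 5, 6, 7, 3, 2, 1, 4, 3, 5, 4, 8, 7, 3, 2, 1, 4, 3, 5, 4, 6, 5, 7, 9, 6, 5]), 1001, 0),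
    ((0, [1, 2, 3, 4, 5, 6, 7, 3, 2, 1, 4, 3, 2, 8, 7, 3, 2, 4, 3, 5, 4, 7, 3, 2, 9, 6, 5, 4, 3]), 1001, 0),
    ((0, [1, 2, 3, 4, 5, 6, 7, 3, 2, 1, 4, 3, 2, 5, 8, 7, 3, 2, 1, 4, 3, 5, 4, 6, 7, 3, 9, 6, 5]), 1001, 0),
    ((0, [1, 2, 3, 4, 5, 6, 7, 3, 2, 1, 4, 3, 2, 5, 8, 7, 3, 2, 4, 3, 5, 4, 6, 7, 3, 8, 9, 6, 5]), 1001, 0),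
    ((0, [1, 2, 3, 4, 5, 6, 7, 3, 2, 1, 4, 3, 5, 4, 8, 7, 3, 2, 4, 3, 5, 4, 6, 5, 7, 8, 9, 6, 5]), 1001, 0),
    ((0, [1, 2, 3, 4, 5, 6, 7, 3, 2, 1, 4, 5, 8, 7, 3, 2, 1, 4, 3, 2, 5, 6, 7, 3, 4, 5, 8, 9, 6]), 1001, 0),
    ((0, [1, 2, 3, 4, 5, 6, 7, 3, 2, 1, 4, 3, 5, 4, 8, 7, 3, 2, 1, 4, 3, 5, 4, 6, 5, 7, 8, 9, 6]), 1001, 0),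
    ((0, [1, 2, 3, 4, 5, 6, 7, 3, 2, 1, 4, 3, 2, 5, 8, 7, 3, 2, 1, 4, 3, 5, 4, 6, 7, 8, 9, 6, 5]), 1001, 0),
    ((0, [1, 2, 3, 4, 5, 6, 7, 3, 2, 1, 4, 3, 5, 4, 7, 8, 7, 3, 2, 4, 3, 5, 4, 7, 3, 2, 9, 6, 5]), 1001, 0),
    ((0, [1, 2, 3, 4, 5, 6, 7, 3, 2, 1, 4, 3, 5, 4, 7, 8, 7, 3, 2, 4, 3, 5, 4, 7, 3, 2, 8, 9, 6]), 901, 0),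
    ((0, [1, 2, 3, 4, 5, 6, 7, 3, 2, 1, 4, 3, 2, 8, 7, 3, 2, 1, 4, 3, 2, 5, 4, 3, 7, 8, 9, 6, 5]), 1001, 0),
    ((0, [1, 2, 3, 4, 5, 6, 7, 3, 2, 1, 4, 3, 2, 5, 8, 7, 3, 2, 1, 0, 4, 3, 5, 4, 6, 7, 9, 6, 5]), 1001, 0),
    ((0, [1, 2, 3, 4, 5, 6, 7, 3, 2, 1, 4, 3, 2, 5, 8, 7, 3, 2, 1, 0, 4, 3, 5, 4, 6, 7, 8, 9, 6]), 901, 0),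
    ((0, [1, 2, 3, 4, 5, 6, 7, 3, 2, 1, 4, 3, 2, 5, 8, 7, 3, 2, 1, 4, 3, 2, 5, 4, 3, 7, 3, 9, 6]), 1001, 0),
    ((0, [1, 2, 3, 4, 5, 6, 7, 3, 2, 1, 4, 5, 8, 7, 3, 2, 1, 4, 3, 2, 7, 3, 4, 5, 6, 9, 6, 5, 4]), 901, 0),
    ((0, [1, 2, 3, 4, 5, 6, 7, 3, 2, 1, 4, 3, 5, 8, 7, 3, 2, 4, 3, 5, 6, 7, 8, 9, 6, 5, 4, 3, 2]), 901, 0),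
    ((0, [1, 2, 3, 4, 5, 6, 7, 3, 2, 1, 4, 3, 5, 8, 7, 3, 2, 4, 3, 5, 4, 7, 8, 9, 6, 5, 4, 3, 2]), 1001, 0),
    ((0, [1, 2, 3, 4, 5, 6, 7, 3, 2, 1, 4, 3, 5, 4, 8, 7, 3, 2, 4, 3, 5, 7, 8, 9, 6, 5, 4, 3, 2]), 1001, 0),
    ((0, [1, 2, 3, 4, 5, 6, 7, 3, 2, 1, 4, 3, 2, 5, 4, 8, 7, 3, 2, 4, 3, 7, 8, 9, 6, 5, 4, 3, 2]), 1001, 0),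
    ((0, [1, 2, 3, 4, 5, 6, 7, 3, 2, 1, 4, 3, 2, 5, 8, 7, 3, 2, 4, 3, 5, 7, 8, 9, 6, 5, 4, 3, 2]), 1001, 0),
    ((0, [1, 2, 3, 4, 5, 6, 7, 3, 2, 1, 4, 3, 5, 4, 8, 7, 3, 2, 1, 4, 3, 7, 8, 9, 6, 5, 4, 3, 2]), 1001, 0),
    ((0, [1, 2, 3, 4, 5, 6, 7, 3, 2, 4, 3, 5, 4, 8, 7, 3, 2, 1, 0, 4, 3, 2, 9, 6, 5, 4, 3, 7, 8]), 1001, 0),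
    ((0, [1, 2, 3, 4, 5, 6, 7, 3, 2, 4, 3, 5, 4, 8, 7, 3, 2, 1, 4, 3, 2, 5, 9, 6, 5, 4, 3, 7, 8]), 1001, 0),
    ((0, [1, 2, 3, 4, 5, 6, 7, 3, 2, 1, 4, 3, 5, 4, 8, 7, 3, 2, 4, 3, 5, 4, 7, 3, 8, 9, 6, 5, 4]), 1001, 0),
    ((0, [1, 2, 3, 4, 5, 6, 7, 3, 2, 1, 4, 3, 2, 5, 4, 8, 7, 3, 2, 1, 4, 3, 2, 5, 4, 6, 9, 6, 5]), 1001, 0),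
    ((0, [1, 2, 3, 4, 5, 6, 7, 3, 2, 1, 4, 3, 2, 5, 4, 8, 7, 3, 2, 1, 4, 3, 5, 4, 6, 5, 9, 6, 5]), 1001, 0),
    ((0, [1, 2, 3, 4, 5, 6, 7, 3, 2, 1, 4, 3, 2, 5, 4, 8, 7, 3, 2, 1, 4, 3, 5, 4, 6, 7, 9, 6, 5]), 1001, 0),
    ((0, [1, 2, 3, 4, 5, 6, 7, 3, 2, 1, 4, 3, 2, 8, 7, 3, 2, 4, 3, 5, 4, 7, 3, 2, 1, 0, 9, 6, 5]), 1001, 0),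
    ((0, [1, 2, 3, 4, 5, 6, 7, 3, 2, 1, 4, 3, 2, 8, 7, 3, 2, 1, 4, 3, 5, 4, 7, 3, 2, 1, 9, 6, 5]), 1001, 0),
    ((0, [1, 2, 3, 4, 5, 6, 7, 3, 2, 1, 4, 3, 2, 5, 8, 7, 3, 2, 4, 3, 5, 4, 7, 3, 2, 1, 9, 6, 5]), 1001, 0),
    ((0, [1, 2, 3, 4, 5, 6, 7, 3, 2, 1, 4, 3, 2, 5, 8, 7, 3, 2, 1, 4, 3, 2, 7, 3, 8, 7, 9, 6, 5]), 901, 0),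
    ((0, [1, 2, 3, 4, 5, 6, 7, 3, 2, 1, 4, 3, 2, 5, 8, 7, 3, 2, 1, 0, 4, 3, 2, 5, 7, 3, 8, 7, 9]), 1001, 0),
    ((0, [1, 2, 3, 4, 5, 6, 7, 3, 2, 1, 4, 3, 2, 5, 8, 7, 3, 2, 1, 4, 3, 2, 5, 7, 3, 8, 7, 9, 6]), 1001, 0),
    ((0, [1, 2, 3, 4, 5, 6, 7, 3, 2, 1, 4, 3, 2, 5, 8, 7, 3, 2, 1, 0, 4, 3, 2, 5, 6, 7, 3, 8, 7]), 1001, 0),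
    ((0, [1, 2, 3, 4, 5, 6, 7, 3, 2, 1, 4, 5, 8, 7, 3, 2, 1, 4, 3, 2, 5, 4, 6, 7, 3, 8, 7, 9, 6]), 901, 0),
    ((0, [1, 2, 3, 4, 5, 6, 7, 3, 2, 1, 4, 5, 8, 7, 3, 2, 1, 0, 4, 3, 5, 7, 8, 9, 6, 5, 4, 3, 7]), 901, 0),
    ((0, [1, 2, 3, 4, 5, 6, 7, 3, 2, 1, 4, 5, 8, 7, 3, 2, 1, 4, 3, 5, 4, 7, 8, 9, 6, 5, 4, 3, 7]), 1001, 0),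
    ((0, [1, 2, 3, 4, 5, 6, 7, 3, 2, 1, 4, 5, 8, 7, 3, 2, 1, 4, 3, 5, 6, 7, 8, 9, 6, 5, 4, 3, 7]), 1001, 0),
    ((0, [1, 2, 3, 4, 5, 6, 7, 3, 2, 1, 4, 5, 8, 7, 3, 2, 4, 3, 5, 4, 6, 7, 8, 9, 6, 5, 4, 3, 7]), 1001, 0),
    ((0, [1, 2, 3, 4, 5, 6, 7, 3, 2, 1, 4, 5, 8, 7, 3, 2, 4, 3, 5, 4, 7, 3, 8, 9, 6, 5, 4, 3, 7]), 1001, 0),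
    ((0, [1, 2, 3, 4, 5, 6, 7, 3, 2, 1, 4, 5, 8, 7, 3, 2, 4, 3, 5, 4, 7, 3, 8, 9, 6, 5, 4, 3, 2]), 1001, 0),
    ((0, [1, 2, 3, 4, 5, 6, 7, 3, 2, 1, 4, 3, 2, 5, 7, 8, 7, 3, 2, 4, 3, 7, 8, 9, 6, 5, 4, 3, 7]), 1001, 0),
    ((0, [1, 2, 3, 4, 5, 6, 7, 3, 2, 1, 4, 3, 5, 8, 7, 3, 2, 1, 0, 4, 3, 7, 8, 9, 6, 5, 4, 3, 7]), 1001, 0),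
    ((0, [1, 2, 3, 4, 5, 6, 7, 3, 2, 1, 4, 3, 2, 5, 8, 7, 3, 2, 1, 4, 3, 7, 8, 9, 6, 5, 4, 3, 7]), 1001, 0),
    ((0, [1, 2, 3, 4, 5, 6, 7, 3, 2, 1, 4, 3, 5, 8, 7, 3, 2, 4, 3, 5, 4, 7, 8, 9, 6, 5, 4, 3, 7]), 1001, 0),
    ((0, [1, 2, 3, 4, 5, 6, 7, 3, 2, 1, 4, 3, 5, 8, 7, 3, 2, 4, 3, 5, 6, 7, 8, 9, 6, 5, 4, 3, 7]), 901, 0),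
    ((0, [1, 2, 3, 4, 5, 6, 7, 3, 2, 1, 4, 3, 2, 5, 8, 7, 3, 2, 4, 3, 5, 7, 8, 9, 6, 5, 4, 3, 7]), 1001, 0),
    ((0, [1, 2, 3, 4, 5, 6, 7, 3, 2, 1, 4, 3, 2, 5, 8, 7, 3, 2, 4, 3, 5, 4, 6, 7, 8, 9, 6, 5, 4]), 1001, 0),
    ((0, [1, 2, 3, 4, 5, 6, 7, 3, 2, 1, 4, 3, 5, 8, 7, 3, 2, 1, 4, 3, 2, 7, 8, 9, 6, 5, 4, 3, 7]), 1001, 0),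
    ((0, [1, 2, 3, 4, 5, 6, 7, 3, 2, 1, 4, 3, 2, 5, 4, 8, 7, 3, 2, 4, 3, 5, 4, 6, 5, 7, 3, 8, 9]), 901, 0),
    ((0, [1, 2, 3, 4, 5, 6, 7, 3, 2, 1, 4, 5, 8, 7, 3, 2, 1, 4, 3, 2, 5, 4, 7, 3, 2, 4, 8, 9, 6]), 1001, 0),
    ((0, [1, 2, 3, 4, 5, 6, 7, 3, 2, 1, 4, 5, 8, 7, 3, 2, 1, 4, 3, 2, 5, 4, 7, 3, 2, 4, 5, 8, 9]), 1001, 0),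
    ((0, [1, 2, 3, 4, 5, 6, 7, 3, 2, 1, 4, 5, 8, 7, 3, 2, 1, 4, 3, 2, 5, 4, 7, 3, 2, 8, 9, 6, 5]), 1001, 0),
    ((0, [1, 2, 3, 4, 5, 6, 7, 3, 2, 1, 4, 5, 8, 7, 3, 2, 1, 0, 4, 3, 5, 4, 7, 3, 2, 8, 9, 6, 5]), 1001, 0),
    ((0, [1, 2, 3, 4, 5, 6, 7, 3, 2, 1, 4, 3, 5, 4, 7, 8, 7, 3, 2, 4, 3, 5, 4, 7, 3, 8, 7, 9, 6]), 901, 0),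
    ((0, [1, 2, 3, 4, 5, 6, 7, 3, 2, 1, 4, 3, 5, 4, 8, 7, 3, 2, 1, 4, 3, 5, 4, 7, 3, 8, 7, 9, 6]), 1001, 0),
    ((0, [1, 2, 3, 4, 5, 6, 7, 3, 2, 1, 4, 5, 8, 7, 3, 2, 1, 4, 3, 2, 5, 4, 7, 3, 4, 5, 8, 7, 9]), 1001, 0),
    ((0, [1, 2, 3, 4, 5, 6, 7, 3, 2, 1, 4, 5, 8, 7, 3, 2, 1, 4, 3, 2, 5, 4, 7, 3, 8, 7, 9, 6, 5]), 1001, 0),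
    ((0, [1, 2, 3, 4, 5, 6, 7, 3, 2, 1, 4, 3, 5, 4, 8, 7, 3, 2, 4, 3, 5, 4, 7, 3, 8, 7, 9, 6, 5]), 1001, 0),
    ((0, [1, 2, 3, 4, 5, 6, 7, 3, 2, 1, 4, 3, 5, 4, 8, 7, 3, 2, 1, 4, 3, 5, 4, 6, 7, 3, 8, 7, 9]), 1001, 0)]

/-- Part 27 of the cycles. -/
def reps27 : List ((Nat × List Nat) × Nat × Nat) :=
  [
    ((0, [1, 2, 3, 4, 5, 6, 7, 3, 2, 1, 4, 3, 2, 5, 4, 8, 7, 3, 2, 4, 3, 5, 4, 7, 3, 8, 7, 9, 6]), 1001, 0),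
    ((0, [1, 2, 3, 4, 5, 6, 7, 3, 2, 1, 4, 3, 2, 5, 8, 7, 3, 2, 1, 0, 4, 3, 5, 6, 7, 8, 9, 6, 5]), 1001, 0),
    ((0, [1, 2, 3, 4, 5, 6, 7, 3, 2, 1, 4, 3, 5, 8, 7, 3, 2, 1, 4, 3, 2, 7, 8, 9, 6, 5, 4, 3, 2]), 1001, 0),
    ((0, [1, 2, 3, 4, 5, 6, 7, 3, 2, 1, 4, 3, 2, 5, 8, 7, 3, 2, 1, 4, 3, 7, 8, 9, 6, 5, 4, 3, 2]), 1001, 0),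
    ((0, [1, 2, 3, 4, 5, 6, 7, 3, 2, 1, 4, 3, 2, 5, 8, 7, 3, 2, 4, 3, 5, 4, 7, 3, 8, 9, 6, 5, 4]), 1001, 0),
    ((0, [1, 2, 3, 4, 5, 6, 7, 3, 2, 1, 4, 3, 2, 5, 8, 7, 3, 2, 1, 0, 4, 3, 2, 5, 4, 6, 9, 6, 5]), 1001, 0),
    ((0, [1, 2, 3, 4, 5, 6, 7, 3, 2, 1, 4, 3, 5, 4, 8, 7, 3, 2, 1, 4, 3, 2, 5, 4, 7, 3, 8, 7, 9]), 901, 0),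
    ((0, [1, 2, 3, 4, 5, 6, 7, 3, 2, 1, 4, 3, 2, 5, 8, 7, 3, 2, 1, 4, 3, 2, 5, 4, 7, 3, 8, 7, 9]), 1001, 0),
    ((0, [1, 2, 3, 4, 5, 6, 7, 3, 2, 1, 4, 3, 5, 8, 7, 3, 2, 1, 4, 3, 2, 5, 4, 7, 3, 8, 7, 9, 6]), 901, 0),
    ((0, [1, 2, 3, 4, 5, 6, 7, 3, 2, 1, 4, 3, 5, 4, 8, 7, 3, 2, 1, 4, 3, 2, 5, 4, 6, 7, 3, 8, 7]), 901, 0),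
    ((0, [1, 2, 3, 4, 5, 6, 7, 3, 2, 1, 4, 3, 5, 4, 8, 7, 3, 2, 1, 4, 3, 2, 5, 4, 3, 7, 3, 8, 7]), 901, 0),
    ((0, [1, 2, 3, 4, 5, 6, 7, 3, 2, 1, 4, 3, 2, 5, 8, 7, 3, 2, 1, 4, 3, 2, 5, 4, 6, 7, 3, 8, 7]), 1001, 0),
    ((0, [1, 2, 3, 4, 5, 6, 7, 3, 2, 1, 4, 3, 2, 5, 4, 3, 8, 7, 3, 2, 4, 3, 5, 4, 7, 3, 2, 8, 9]), 1001, 0),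
    ((0, [1, 2, 3, 4, 5, 6, 7, 3, 2, 1, 4, 3, 2, 5, 4, 8, 7, 3, 2, 4, 3, 5, 4, 7, 3, 2, 8, 9, 6]), 1001, 0),
    ((0, [1, 2, 3, 4, 5, 6, 7, 3, 2, 1, 4, 3, 5, 4, 8, 7, 3, 2, 4, 3, 5, 4, 7, 3, 2, 8, 9, 6, 5]), 1001, 0),
    ((0, [1, 2, 3, 4, 5, 6, 7, 3, 2, 1, 4, 3, 2, 5, 8, 7, 3, 2, 4, 3, 5, 4, 7, 3, 2, 8, 9, 6, 5]), 1001, 0),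
    ((0, [1, 2, 3, 4, 5, 6, 7, 3, 2, 1, 4, 3, 5, 8, 7, 3, 2, 4, 3, 5, 4, 7, 3, 2, 8, 9, 6, 5, 4]), 1001, 0),
    ((0, [1, 2, 3, 4, 5, 6, 7, 3, 2, 1, 4, 3, 5, 4, 8, 7, 3, 2, 1, 4, 3, 2, 5, 4, 7, 3, 2, 8, 9]), 901, 0),
    ((0, [1, 2, 3, 4, 5, 6, 7, 3, 2, 1, 4, 3, 5, 4, 8, 7, 3, 2, 1, 4, 3, 5, 4, 6, 7, 3, 2, 8, 9]), 1001, 0),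
    ((0, [1, 2, 3, 4, 5, 6, 7, 3, 2, 1, 4, 3, 2, 5, 8, 7, 3, 2, 1, 4, 3, 2, 5, 4, 7, 3, 2, 8, 9]), 1001, 0),
    ((0, [1, 2, 3, 4, 5, 6, 7, 3, 2, 1, 4, 3, 5, 8, 7, 3, 2, 1, 4, 3, 2, 5, 4, 7, 3, 2, 8, 9, 6]), 901, 0),
    ((0, [1, 2, 3, 4, 5, 6, 7, 3, 2, 1, 4, 3, 2, 5, 8, 7, 3, 2, 1, 4, 3, 2, 5, 4, 7, 3, 2, 9, 6]), 1001, 0),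
    ((0, [1, 2, 3, 4, 5, 6, 7, 3, 2, 1, 4, 3, 5, 8, 7, 3, 2, 1, 4, 3, 2, 5, 4, 7, 3, 2, 9, 6, 5]), 1001, 0),
    ((0, [1, 2, 3, 4, 5, 6, 7, 3, 2, 1, 4, 3, 5, 8, 7, 3, 2, 1, 4, 3, 5, 4, 7, 3, 2, 8, 9, 6, 5]), 1001, 0),
    ((0, [1, 2, 3, 4, 5, 6, 7, 3, 2, 1, 4, 3, 2, 5, 8, 7, 3, 2, 1, 4, 3, 2, 5, 4, 3, 6, 9, 6, 5]), 1001, 0),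
    ((0, [1, 2, 3, 4, 5, 6, 7, 3, 2, 1, 4, 3, 2, 5, 8, 7, 3, 2, 1, 0, 4, 3, 2, 5, 6, 9, 6, 5, 4]), 1001, 0),
    ((0, [1, 2, 3, 4, 5, 6, 7, 3, 2, 1, 4, 3, 2, 5, 8, 7, 3, 2, 1, 0, 4, 3, 2, 1, 5, 6, 9, 6, 5]), 1001, 0),
    ((0, [1, 2, 3, 4, 5, 6, 7, 3, 2, 1, 4, 8, 7, 3, 2, 1, 0, 4, 3, 5, 4, 7, 3, 2, 1, 0, 9, 6, 5]), 1001, 0),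
    ((0, [1, 2, 3, 4, 5, 6, 7, 3, 2, 1, 4, 8, 7, 3, 2, 1, 0, 4, 3, 5, 4, 7, 3, 2, 9, 6, 5, 4, 3]), 1001, 0),
    ((0, [1, 2, 3, 4, 5, 6, 7, 3, 2, 1, 4, 3, 2, 5, 8, 7, 3, 2, 1, 4, 3, 2, 5, 6, 7, 3, 8, 9, 6]), 1001, 0),
    ((0, [1, 2, 3, 4, 5, 6, 7, 3, 2, 1, 4, 3, 2, 5, 8, 7, 3, 2, 1, 0, 4, 3, 2, 1, 5, 6, 7, 8, 9]), 1001, 0),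
    ((0, [1, 2, 3, 4, 5, 6, 7, 3, 2, 1, 4, 3, 2, 5, 8, 7, 3, 2, 1, 0, 4, 3, 2, 5, 6, 7, 3, 8, 9]), 1001, 0),
    ((0, [1, 2, 3, 4, 5, 6, 7, 3, 2, 1, 4, 3, 2, 5, 4, 8, 7, 3, 2, 1, 0, 4, 3, 2, 5, 6, 7, 8, 9]), 1001, 0),
    ((0, [1, 2, 3, 4, 5, 6, 7, 3, 2, 1, 4, 3, 2, 5, 4, 8, 7, 3, 2, 1, 0, 4, 3, 5, 6, 7, 8, 9, 6]), 1001, 0),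
    ((0, [1, 2, 3, 4, 5, 6, 7, 3, 2, 1, 4, 3, 2, 5, 4, 8, 7, 3, 2, 1, 4, 3, 5, 6, 7, 8, 9, 6, 5]), 1001, 0),
    ((0, [1, 2, 3, 4, 5, 6, 7, 3, 2, 1, 4, 3, 8, 7, 3, 2, 1, 4, 3, 5, 4, 7, 3, 2, 9, 6, 5, 4, 3]), 1001, 0),
    ((0, [1, 2, 3, 4, 5, 6, 7, 3, 2, 1, 4, 3, 8, 7, 3, 2, 1, 0, 4, 3, 5, 4, 7, 3, 2, 1, 9, 6, 5]), 1001, 0),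
    ((0, [1, 2, 3, 4, 5, 6, 7, 3, 2, 1, 4, 3, 5, 4, 8, 7, 3, 2, 1, 4, 3, 2, 7, 3, 4, 5, 6, 9, 6]), 1001, 0),
    ((0, [1, 2, 3, 4, 5, 6, 7, 3, 2, 1, 4, 5, 8, 7, 3, 2, 1, 0, 4, 3, 5, 4, 7, 3, 2, 1, 8, 9, 6]), 1001, 0),
    ((0, [1, 2, 3, 4, 5, 6, 7, 3, 2, 1, 4, 3, 5, 4, 8, 7, 3, 2, 1, 4, 3, 2, 7, 3, 4, 5, 6, 8, 9]), 1001, 0),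
    ((0, [1, 2, 3, 4, 5, 6, 7, 3, 2, 1, 4, 3, 5, 8, 7, 3, 2, 1, 4, 3, 2, 7, 3, 4, 5, 6, 8, 9, 6]), 1001, 0),
    ((0, [1, 2, 3, 4, 5, 6, 7, 3, 2, 1, 4, 5, 8, 7, 3, 2, 1, 4, 3, 5, 4, 7, 3, 2, 1, 8, 9, 6, 5]), 1001, 0),
    ((0, [1, 2, 3, 4, 5, 6, 7, 3, 2, 1, 4, 5, 8, 7, 3, 2, 1, 4, 3, 2, 7, 3, 4, 5, 6, 8, 9, 6, 5]), 1001, 0),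
    ((0, [1, 2, 3, 4, 5, 6, 7, 3, 2, 1, 4, 3, 5, 8, 7, 3, 2, 4, 3, 5, 4, 7, 3, 2, 1, 0, 8, 9, 6]), 1001, 0),
    ((0, [1, 2, 3, 4, 5, 6, 7, 3, 2, 1, 4, 3, 5, 8, 7, 3, 2, 4, 3, 5, 4, 7, 3, 2, 1, 8, 9, 6, 5]), 1001, 0),
    ((0, [1, 2, 3, 4, 5, 6, 7, 3, 2, 1, 4, 3, 8, 7, 3, 2, 1, 4, 3, 2, 5, 4, 7, 3, 2, 1, 9, 6, 5]), 1001, 0),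
    ((0, [1, 2, 3, 4, 5, 6, 7, 3, 2, 1, 4, 3, 2, 5, 8, 7, 3, 2, 1, 4, 3, 2, 5, 6, 7, 3, 8, 7, 9]), 1001, 0),
    ((0, [1, 2, 3, 4, 5, 6, 7, 3, 2, 1, 4, 3, 2, 5, 4, 3, 8, 7, 3, 2, 4, 3, 5, 6, 7, 8, 9, 6, 5]), 1001, 0),
    ((0, [1, 2, 3, 4, 5, 6, 7, 3, 2, 1, 4, 3, 8, 7, 3, 2, 1, 4, 3, 2, 5, 4, 3, 7, 3, 2, 1, 8, 9]), 1001, 0),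
    ((0, [1, 2, 3, 4, 5, 6, 7, 3, 2, 1, 4, 3, 2, 5, 8, 7, 3, 2, 4, 3, 5, 4, 7, 3, 2, 1, 0, 8, 9]), 1001, 0),
    ((0, [1, 2, 3, 4, 5, 6, 7, 3, 2, 1, 4, 3, 2, 5, 8, 7, 3, 2, 4, 3, 5, 4, 7, 3, 2, 1, 8, 9, 6]), 1001, 0),
    ((0, [1, 2, 3, 4, 5, 6, 7, 3, 2, 1, 4, 3, 2, 5, 4, 8, 7, 3, 2, 1, 0, 4, 3, 5, 4, 6, 5, 9, 6]), 1001, 0),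
    ((0, [1, 2, 3, 4, 5, 6, 7, 3, 2, 1, 4, 3, 2, 5, 8, 7, 3, 2, 1, 4, 3, 2, 7, 3, 4, 5, 6, 8, 9]), 1001, 0),
    ((0, [1, 2, 3, 4, 5, 6, 7, 3, 2, 1, 4, 5, 8, 7, 3, 2, 1, 4, 3, 2, 5, 4, 7, 3, 2, 1, 9, 6, 5]), 1001, 0),
    ((0, [1, 2, 3, 4, 5, 6, 7, 3, 2, 1, 4, 3, 5, 4, 8, 7, 3, 2, 4, 3, 5, 4, 7, 3, 2, 1, 9, 6, 5]), 1001, 0),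
    ((0, [1, 2, 3, 4, 5, 6, 7, 3, 2, 1, 4, 5, 8, 7, 3, 2, 4, 3, 5, 4, 7, 3, 2, 8, 9, 6, 5, 4, 3]), 1001, 0),
    ((0, [1, 2, 3, 4, 5, 6, 7, 3, 2, 1, 4, 3, 2, 5, 4, 3, 8, 7, 3, 2, 4, 3, 5, 4, 7, 8, 9, 6, 5]), 1001, 0),
    ((0, [1, 2, 3, 4, 5, 6, 7, 3, 2, 4, 3, 5, 7, 8, 7, 3, 2, 1, 0, 4, 3, 2, 9, 6, 5, 4, 3, 7, 8]), 901, 0),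
    ((0, [1, 2, 3, 4, 5, 6, 7, 3, 2, 4, 3, 5, 7, 8, 7, 3, 2, 1, 4, 3, 2, 7, 9, 6, 5, 4, 3, 7, 8]), 901, 0),
    ((0, [1, 2, 3, 4, 5, 6, 7, 3, 2, 4, 3, 5, 7, 8, 7, 3, 2, 1, 4, 3, 2, 5, 9, 6, 5, 4, 3, 7, 8]), 1001, 0),
    ((0, [1, 2, 3, 4, 5, 6, 7, 3, 2, 1, 4, 3, 5, 8, 7, 3, 2, 1, 4, 3, 2, 5, 9, 6, 5, 4, 3, 7, 8]), 1001, 0),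
    ((0, [1, 2, 3, 4, 5, 6, 7, 3, 2, 1, 4, 3, 2, 5, 8, 7, 3, 2, 1, 4, 3, 2, 9, 6, 5, 4, 3, 7, 8]), 1001, 0),
    ((0, [1, 2, 3, 4, 5, 6, 7, 3, 2, 4, 3, 5, 8, 7, 3, 2, 1, 4, 3, 2, 5, 6, 9, 6, 5, 4, 3, 7, 8]), 1001, 0),
    ((0, [1, 2, 3, 4, 5, 6, 7, 3, 2, 4, 3, 5, 8, 7, 3, 2, 1, 4, 3, 2, 5, 4, 9, 6, 5, 4, 3, 7, 8]), 901, 0),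
    ((0, [1, 2, 3, 4, 5, 6, 7, 3, 2, 4, 3, 5, 8, 7, 3, 2, 1, 0, 4, 3, 2, 5, 9, 6, 5, 4, 3, 7, 8]), 901, 0),
    ((0, [1, 2, 3, 4, 5, 6, 7, 3, 2, 1, 4, 3, 2, 5, 8, 7, 3, 2, 4, 3, 7, 8, 9, 6, 5, 4, 3, 2, 1]), 1001, 0),
    ((0, [1, 2, 3, 4, 5, 6, 7, 3, 2, 1, 4, 3, 5, 8, 7, 3, 2, 4, 3, 5, 7, 9, 6, 5, 4, 3, 2, 1, 0]), 1001, 0),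
    ((0, [1, 2, 3, 4, 5, 6, 7, 3, 2, 1, 4, 3, 5, 8, 7, 3, 2, 4, 3, 5, 4, 7, 9, 6, 5, 4, 3, 2, 1]), 1001, 0),
    ((0, [1, 2, 3, 4, 5, 6, 7, 3, 2, 1, 4, 5, 8, 7, 3, 2, 1, 4, 3, 5, 7, 8, 9, 6, 5, 4, 3, 2, 1]), 1001, 0),
    ((0, [1, 2, 3, 4, 5, 6, 7, 3, 2, 1, 4, 5, 8, 7, 3, 2, 1, 4, 3, 2, 7, 9, 6, 5, 4, 3, 2, 1, 0]), 1001, 0),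
    ((0, [1, 2, 3, 4, 5, 6, 7, 3, 2, 1, 4, 5, 8, 7, 3, 2, 4, 3, 5, 4, 7, 8, 9, 6, 5, 4, 3, 2, 1]), 1001, 0),
    ((0, [1, 2, 3, 4, 5, 6, 7, 3, 2, 1, 4, 5, 8, 7, 3, 2, 4, 3, 5, 6, 7, 8, 9, 6, 5, 4, 3, 2, 1]), 1001, 0),
    ((0, [1, 2, 3, 4, 5, 6, 7, 3, 2, 1, 4, 5, 8, 7, 3, 2, 4, 3, 5, 7, 8, 9, 6, 5, 4, 3, 2, 1, 7]), 1001, 0),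
    ((0, [1, 2, 3, 4, 5, 6, 7, 3, 2, 1, 4, 5, 8, 7, 3, 2, 1, 0, 4, 3, 7, 8, 9, 6, 5, 4, 3, 2, 1]), 901, 0),
    ((0, [1, 2, 3, 4, 5, 6, 7, 3, 2, 1, 4, 5, 8, 7, 3, 2, 1, 4, 3, 7, 8, 9, 6, 5, 4, 3, 2, 7, 3]), 1001, 0),
    ((0, [1, 2, 3, 4, 5, 6, 7, 3, 2, 1, 4, 5, 8, 7, 3, 2, 1, 4, 3, 7, 8, 9, 6, 5, 4, 3, 2, 1, 0]), 1001, 0),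
    ((0, [1, 2, 3, 4, 5, 6, 7, 3, 2, 1, 4, 3, 5, 4, 8, 7, 3, 2, 1, 4, 3, 5, 4, 7, 3, 2, 8, 7, 3]), 1001, 0),
    ((0, [1, 2, 3, 4, 5, 6, 7, 3, 2, 1, 4, 5, 8, 7, 3, 2, 4, 3, 5, 7, 8, 9, 6, 5, 4, 3, 2, 1, 0]), 1001, 0),
    ((0, [1, 2, 3, 4, 5, 6, 7, 3, 2, 1, 4, 5, 8, 7, 3, 2, 4, 3, 7, 8, 9, 6, 5, 4, 3, 2, 1, 0, 7]), 1001, 0),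
    ((0, [1, 2, 3, 4, 5, 6, 7, 3, 2, 4, 3, 5, 4, 7, 8, 7, 3, 2, 1, 4, 3, 2, 5, 4, 9, 6, 5, 4, 3, 2]), 901, 0),
    ((0, [1, 2, 3, 4, 5, 6, 7, 3, 2, 4, 3, 5, 4, 8, 7, 3, 2, 1, 0, 4, 3, 2, 5, 4, 9, 6, 5, 4, 3, 2]), 1001, 0),
    ((0, [1, 2, 3, 4, 5, 6, 7, 3, 2, 4, 3, 5, 4, 8, 7, 3, 2, 1, 0, 4, 3, 2, 5, 7, 9, 6, 5, 4, 3, 2]), 901, 0),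
    ((0, [1, 2, 3, 4, 5, 6, 7, 3, 2, 1, 4, 3, 5, 4, 7, 3, 8, 7, 3, 2, 4, 3, 5, 4, 9, 6, 5, 4, 3, 2]), 1001, 0),
    ((0, [1, 2, 3, 4, 5, 6, 7, 3, 2, 1, 4, 5, 8, 7, 3, 2, 1, 0, 4, 3, 2, 5, 4, 7, 9, 6, 5, 4, 3, 7]), 1001, 0),
    ((0, [1, 2, 3, 4, 5, 6, 7, 3, 2, 1, 4, 5, 8, 7, 3, 2, 1, 4, 3, 2, 5, 4, 7, 9, 6, 5, 4, 3, 7, 8]), 1001, 0),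
    ((0, [1, 2, 3, 4, 5, 6, 7, 3, 2, 1, 4, 5, 8, 7, 3, 2, 1, 4, 3, 2, 5, 4, 6, 7, 9, 6, 5, 4, 3, 7]), 1001, 0),
    ((0, [1, 2, 3, 4, 5, 6, 7, 3, 2, 1, 4, 3, 5, 4, 7, 8, 7, 3, 2, 1, 4, 3, 5, 4, 9, 6, 5, 4, 3, 7]), 1001, 0),
    ((0, [1, 2, 3, 4, 5, 6, 7, 3, 2, 1, 4, 3, 5, 4, 7, 8, 7, 3, 2, 1, 4, 3, 5, 4, 9, 6, 5, 4, 3, 2]), 1001, 0),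
    ((0, [1, 2, 3, 4, 5, 6, 7, 3, 2, 1, 4, 3, 5, 4, 8, 7, 3, 2, 1, 4, 3, 5, 4, 6, 9, 6, 5, 4, 3, 2]), 1001, 0),
    ((0, [1, 2, 3, 4, 5, 6, 7, 3, 2, 1, 4, 3, 2, 5, 4, 8, 7, 3, 2, 1, 4, 3, 5, 4, 9, 6, 5, 4, 3, 7]), 1001, 0),
    ((0, [1, 2, 3, 4, 5, 6, 7, 3, 2, 1, 4, 3, 5, 4, 7, 8, 7, 3, 2, 4, 3, 5, 4, 7, 9, 6, 5, 4, 3, 7]), 1001, 0),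
    ((0, [1, 2, 3, 4, 5, 6, 7, 3, 2, 1, 4, 5, 8, 7, 3, 2, 1, 4, 3, 2, 5, 7, 3, 4, 9, 6, 5, 4, 3, 7]), 1001, 0),
    ((0, [1, 2, 3, 4, 5, 6, 7, 3, 2, 1, 4, 5, 8, 7, 3, 2, 1, 4, 3, 2, 5, 6, 7, 3, 4, 9, 6, 5, 4, 3]), 1001, 0),
    ((0, [1, 2, 3, 4, 5, 6, 7, 3, 2, 1, 4, 3, 5, 4, 7, 8, 7, 3, 2, 4, 3, 5, 4, 9, 6, 5, 4, 3, 7, 8]), 1001, 0),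
    ((0, [1, 2, 3, 4, 5, 6, 7, 3, 2, 4, 5, 8, 7, 3, 2, 1, 4, 3, 2, 5, 7, 3, 4, 5, 9, 6, 5, 4, 3, 7]), 1001, 0),
    ((0, [1, 2, 3, 4, 5, 6, 7, 3, 2, 1, 4, 3, 8, 7, 3, 2, 4, 3, 5, 4, 7, 3, 2, 1, 9, 6, 5, 4, 3, 7]), 1001, 0),
    ((0, [1, 2, 3, 4, 5, 6, 7, 3, 2, 1, 4, 3, 5, 4, 8, 7, 3, 2, 1, 4, 3, 5, 4, 6, 9, 6, 5, 4, 3, 7]), 1001, 0),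
    ((0, [1, 2, 3, 4, 5, 6, 7, 3, 2, 1, 4, 3, 2, 5, 4, 8, 7, 3, 2, 1, 4, 3, 5, 4, 9, 6, 5, 4, 3, 2]), 1001, 0),
    ((0, [1, 2, 3, 4, 5, 6, 7, 3, 2, 1, 4, 3, 5, 4, 8, 7, 3, 2, 1, 4, 3, 5, 4, 9, 6, 5, 4, 3, 7, 8]), 1001, 0),
    ((0, [1, 2, 3, 4, 5, 6, 7, 3, 2, 1, 4, 3, 5, 4, 8, 7, 3, 2, 4, 3, 5, 4, 6, 9, 6, 5, 4, 3, 7, 8]), 1001, 0),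
    ((0, [1, 2, 3, 4, 5, 6, 7, 3, 2, 1, 4, 3, 5, 4, 8, 7, 3, 2, 1, 4, 3, 2, 5, 4, 9, 6, 5, 4, 3, 2]), 1001, 0),
    ((0, [1, 2, 3, 4, 5, 6, 7, 3, 2, 1, 4, 3, 2, 5, 4, 8, 7, 3, 2, 4, 3, 5, 4, 9, 6, 5, 4, 3, 7, 8]), 1001, 0),
    ((0, [1, 2, 3, 4, 5, 6, 7, 3, 2, 1, 4, 3, 8, 7, 3, 2, 4, 3, 5, 4, 7, 3, 2, 9, 6, 5, 4, 3, 7, 8]), 1001, 0),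
    ((0, [1, 2, 3, 4, 5, 6, 7, 3, 2, 1, 4, 3, 2, 5, 4, 8, 7, 3, 2, 4, 3, 5, 4, 7, 9, 6, 5, 4, 3, 7]), 1001, 0),
    ((0, [1, 2, 3, 4, 5, 6, 7, 3, 2, 1, 4, 3, 5, 4, 8, 7, 3, 2, 1, 0, 4, 3, 2, 1, 5, 4, 9, 6, 5, 4]), 1001, 0),
    ((0, [1, 2, 3, 4, 5, 6, 7, 3, 2, 1, 4, 3, 5, 4, 8, 7, 3, 2, 1, 0, 4, 3, 2, 5, 4, 3, 9, 6, 5, 4]), 1001, 0),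
    ((0, [1, 2, 3, 4, 5, 6, 7, 3, 2, 1, 4, 3, 5, 4, 8, 7, 3, 2, 1, 0, 4, 3, 2, 5, 4, 3, 7, 9, 6, 5]), 1001, 0),
    ((0, [1, 2, 3, 4, 5, 6, 7, 3, 2, 1, 4, 3, 5, 8, 7, 3, 2, 4, 3, 5, 4, 7, 3, 2, 9, 6, 5, 4, 3, 7]), 1001, 0),
    ((0, [1, 2, 3, 4, 5, 6, 7, 3, 2, 1, 4, 3, 5, 4, 8, 7, 3, 2, 4, 3, 5, 4, 7, 9, 6, 5, 4, 3, 7, 8]), 1001, 0),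
    ((0, [1, 2, 3, 4, 5, 6, 7, 3, 2, 1, 4, 3, 5, 4, 8, 7, 3, 2, 4, 3, 5, 4, 6, 7, 9, 6, 5, 4, 3, 7]), 1001, 0),
    ((0, [1, 2, 3, 4, 5, 6, 7, 3, 2, 1, 4, 3, 2, 5, 4, 8, 7, 3, 2, 1, 0, 4, 3, 5, 4, 6, 9, 6, 5, 4]), 1001, 0),
    ((0, [1, 2, 3, 4, 5, 6, 7, 3, 2, 1, 4, 3, 2, 5, 4, 8, 7, 3, 2, 1, 0, 4, 3, 2, 1, 7, 8, 9, 6, 5]), 1001, 0),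
    ((0, [1, 2, 3, 4, 5, 6, 7, 3, 2, 1, 4, 3, 5, 4, 8, 7, 3, 2, 1, 4, 3, 2, 7, 3, 4, 8, 9, 6, 5, 4]), 901, 0),
    ((0, [1, 2, 3, 4, 5, 6, 7, 3, 2, 1, 4, 3, 5, 4, 7, 3, 8, 7, 3, 2, 4, 3, 5, 6, 7, 8, 9, 6, 5, 4]), 1001, 0),
    ((0, [1, 2, 3, 4, 5, 6, 7, 3, 2, 1, 4, 3, 5, 7, 8, 7, 3, 2, 1, 4, 3, 2, 5, 6, 7, 3, 8, 9, 6, 5]), 901, 0),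
    ((0, [1, 2, 3, 4, 5, 6, 7, 3, 2, 1, 4, 3, 5, 4, 8, 7, 3, 2, 1, 4, 3, 2, 5, 6, 7, 3, 8, 9, 6, 5]), 1001, 0),
    ((0, [1, 2, 3, 4, 5, 6, 7, 3, 2, 1, 4, 3, 5, 4, 7, 3, 8, 7, 3, 2, 4, 3, 5, 4, 7, 8, 9, 6, 5, 4]), 1001, 0),
    ((0, [1, 2, 3, 4, 5, 6, 7, 3, 2, 1, 4, 5, 8, 7, 3, 2, 1, 0, 4, 3, 2, 5, 4, 7, 8, 9, 6, 5, 4, 3]), 1001, 0),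
    ((0, [1, 2, 3, 4, 5, 6, 7, 3, 2, 1, 4, 5, 8, 7, 3, 2, 1, 0, 4, 3, 2, 5, 4, 6, 7, 8, 9, 6, 5, 4]), 1001, 0),
    ((0, [1, 2, 3, 4, 5, 6, 7, 3, 2, 1, 4, 5, 8, 7, 3, 2, 1, 4, 3, 2, 5, 4, 6, 7, 8, 9, 6, 5, 4, 3]), 1001, 0)]

/-- Part 28 of the cycles. -/
def reps28 : List ((Nat × List Nat) × Nat × Nat) :=
  [
    ((0, [1, 2, 3, 4, 5, 6, 7, 3, 2, 1, 4, 3, 5, 4, 7, 8, 7, 3, 2, 1, 4, 3, 5, 4, 7, 8, 9, 6, 5, 4]), 1001, 0),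
    ((0, [1, 2, 3, 4, 5, 6, 7, 3, 2, 1, 4, 3, 5, 4, 8, 7, 3, 2, 1, 0, 4, 3, 5, 4, 7, 8, 9, 6, 5, 4]), 1001, 0),
    ((0, [1, 2, 3, 4, 5, 6, 7, 3, 2, 1, 4, 3, 5, 8, 7, 3, 2, 1, 4, 3, 2, 5, 7, 3, 4, 8, 9, 6, 5, 4]), 1001, 0),
    ((0, [1, 2, 3, 4, 5, 6, 7, 3, 2, 1, 4, 3, 5, 4, 8, 7, 3, 2, 1, 4, 3, 2, 5, 4, 7, 8, 9, 6, 5, 4]), 1001, 0),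
    ((0, [1, 2, 3, 4, 5, 6, 7, 3, 2, 1, 4, 3, 5, 4, 7, 8, 7, 3, 2, 4, 3, 5, 4, 7, 8, 9, 6, 5, 4, 3]), 1001, 0),
    ((0, [1, 2, 3, 4, 5, 6, 7, 3, 2, 1, 4, 5, 8, 7, 3, 2, 1, 4, 3, 2, 5, 7, 3, 4, 8, 9, 6, 5, 4, 3]), 1001, 0),
    ((0, [1, 2, 3, 4, 5, 6, 7, 3, 2, 1, 4, 3, 5, 4, 7, 8, 7, 3, 2, 4, 3, 5, 4, 6, 7, 8, 9, 6, 5, 4]), 1001, 0),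
    ((0, [1, 2, 3, 4, 5, 6, 7, 3, 2, 1, 4, 5, 8, 7, 3, 2, 1, 4, 3, 2, 5, 6, 7, 3, 4, 8, 9, 6, 5, 4]), 1001, 0),
    ((0, [1, 2, 3, 4, 5, 6, 7, 3, 2, 1, 4, 3, 5, 4, 8, 7, 3, 2, 1, 4, 3, 5, 4, 6, 7, 8, 9, 6, 5, 4]), 1001, 0),
    ((0, [1, 2, 3, 4, 5, 6, 7, 3, 2, 1, 4, 3, 5, 7, 8, 7, 3, 2, 1, 4, 3, 5, 4, 6, 7, 8, 9, 6, 5, 4]), 1001, 0),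
    ((0, [1, 2, 3, 4, 5, 6, 7, 3, 2, 1, 4, 3, 5, 8, 7, 3, 2, 1, 4, 3, 2, 5, 4, 6, 7, 8, 9, 6, 5, 4]), 1001, 0),
    ((0, [1, 2, 3, 4, 5, 6, 7, 3, 2, 1, 4, 3, 5, 4, 8, 7, 3, 2, 1, 4, 3, 5, 4, 7, 8, 9, 6, 5, 4, 3]), 1001, 0),
    ((0, [1, 2, 3, 4, 5, 6, 7, 3, 2, 1, 4, 3, 5, 4, 8, 7, 3, 2, 4, 3, 5, 4, 6, 7, 8, 9, 6, 5, 4, 3]), 1001, 0),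
    ((0, [1, 2, 3, 4, 5, 6, 7, 3, 2, 1, 4, 3, 5, 4, 7, 3, 8, 7, 3, 2, 4, 3, 5, 4, 6, 7, 8, 9, 6, 5]), 1001, 0),
    ((0, [1, 2, 3, 4, 5, 6, 7, 3, 2, 1, 4, 3, 5, 4, 7, 8, 7, 3, 2, 1, 4, 3, 2, 5, 4, 7, 8, 9, 6, 5]), 1001, 0),
    ((0, [1, 2, 3, 4, 5, 6, 7, 3, 2, 1, 4, 3, 5, 4, 8, 7, 3, 2, 1, 0, 4, 3, 2, 5, 4, 7, 8, 9, 6, 5]), 1001, 0),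
    ((0, [1, 2, 3, 4, 5, 6, 7, 3, 2, 1, 4, 3, 5, 4, 8, 7, 3, 2, 1, 4, 3, 2, 5, 7, 3, 4, 8, 9, 6, 5]), 1001, 0),
    ((0, [1, 2, 3, 4, 5, 6, 7, 3, 2, 1, 4, 3, 5, 4, 8, 7, 3, 2, 1, 0, 4, 3, 5, 4, 6, 7, 8, 9, 6, 5]), 1001, 0),
    ((0, [1, 2, 3, 4, 5, 6, 7, 3, 2, 1, 4, 3, 5, 8, 7, 3, 2, 1, 4, 3, 2, 5, 6, 7, 3, 4, 8, 9, 6, 5]), 1001, 0),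
    ((0, [1, 2, 3, 4, 5, 6, 7, 3, 2, 1, 4, 3, 5, 4, 8, 7, 3, 2, 1, 4, 3, 2, 5, 4, 6, 7, 8, 9, 6, 5]), 1001, 0),
    ((0, [1, 2, 3, 4, 5, 6, 7, 3, 2, 1, 4, 3, 5, 7, 8, 7, 3, 2, 1, 4, 3, 2, 5, 4, 6, 7, 8, 9, 6, 5]), 1001, 0),
    ((0, [1, 2, 3, 4, 5, 6, 7, 3, 2, 4, 3, 5, 8, 7, 3, 2, 1, 4, 3, 2, 5, 4, 3, 7, 3, 4, 8, 9, 6, 5]), 1001, 0),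
    ((0, [1, 2, 3, 4, 5, 6, 7, 3, 2, 1, 4, 3, 2, 5, 4, 7, 8, 7, 3, 2, 1, 4, 3, 2, 7, 3, 8, 9, 6, 5]), 1001, 0),
    ((0, [1, 2, 3, 4, 5, 6, 7, 3, 2, 1, 4, 3, 5, 7, 8, 7, 3, 2, 1, 4, 3, 5, 4, 7, 8, 9, 6, 5, 4, 3]), 1001, 0),
    ((0, [1, 2, 3, 4, 5, 6, 7, 3, 2, 1, 4, 3, 5, 7, 8, 7, 3, 2, 4, 3, 5, 4, 6, 7, 8, 9, 6, 5, 4, 3]), 1001, 0),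
    ((0, [1, 2, 3, 4, 5, 6, 7, 3, 2, 1, 4, 3, 2, 5, 7, 8, 7, 3, 2, 1, 4, 3, 2, 7, 8, 9, 6, 5, 4, 3]), 1001, 0),
    ((0, [1, 2, 3, 4, 5, 6, 7, 3, 2, 1, 4, 3, 5, 8, 7, 3, 2, 1, 4, 3, 2, 5, 7, 3, 4, 9, 6, 5, 4, 3]), 1001, 0),
    ((0, [1, 2, 3, 4, 5, 6, 7, 3, 2, 1, 4, 3, 5, 7, 8, 7, 3, 2, 1, 4, 3, 2, 5, 4, 7, 9, 6, 5, 4, 3]), 1001, 0),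
    ((0, [1, 2, 3, 4, 5, 6, 7, 3, 2, 1, 4, 3, 5, 4, 7, 3, 8, 7, 3, 2, 4, 3, 5, 4, 7, 3, 8, 9, 6, 5]), 1001, 0),
    ((0, [1, 2, 3, 4, 5, 6, 7, 3, 2, 1, 4, 3, 5, 4, 7, 8, 7, 3, 2, 4, 3, 5, 4, 6, 7, 3, 8, 9, 6, 5]), 1001, 0),
    ((0, [1, 2, 3, 4, 5, 6, 7, 3, 2, 1, 4, 5, 8, 7, 3, 2, 1, 4, 3, 2, 5, 4, 6, 7, 3, 4, 8, 9, 6, 5]), 1001, 0),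
    ((0, [1, 2, 3, 4, 5, 6, 7, 3, 2, 1, 4, 3, 5, 4, 8, 7, 3, 2, 1, 0, 4, 3, 2, 5, 7, 3, 8, 9, 6, 5]), 901, 0),
    ((0, [1, 2, 3, 4, 5, 6, 7, 3, 2, 1, 4, 3, 5, 4, 8, 7, 3, 2, 1, 4, 3, 2, 5, 4, 7, 9, 6, 5, 4, 3]), 1001, 0),
    ((0, [1, 2, 3, 4, 5, 6, 7, 3, 2, 1, 4, 3, 5, 8, 7, 3, 2, 1, 4, 3, 2, 5, 4, 7, 8, 9, 6, 5, 4, 3]), 1001, 0),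
    ((0, [1, 2, 3, 4, 5, 6, 7, 3, 2, 1, 4, 3, 5, 8, 7, 3, 2, 1, 4, 3, 2, 5, 4, 6, 7, 9, 6, 5, 4, 3]), 1001, 0),
    ((0, [1, 2, 3, 4, 5, 6, 7, 3, 2, 1, 4, 3, 2, 5, 8, 7, 3, 2, 1, 4, 3, 5, 4, 6, 5, 7, 8, 9, 6, 5]), 1001, 0),
    ((0, [1, 2, 3, 4, 5, 6, 7, 3, 2, 1, 4, 3, 5, 4, 7, 8, 7, 3, 2, 1, 4, 3, 2, 5, 4, 7, 3, 9, 6, 5]), 1001, 0),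
    ((0, [1, 2, 3, 4, 5, 6, 7, 3, 2, 1, 4, 3, 5, 8, 7, 3, 2, 1, 4, 3, 2, 5, 4, 7, 3, 4, 8, 9, 6, 5]), 1001, 0),
    ((0, [1, 2, 3, 4, 5, 6, 7, 3, 2, 1, 4, 3, 5, 7, 8, 7, 3, 2, 1, 4, 3, 2, 5, 4, 7, 3, 8, 9, 6, 5]), 1001, 0),
    ((0, [1, 2, 3, 4, 5, 6, 7, 3, 2, 1, 4, 3, 5, 4, 8, 7, 3, 2, 1, 4, 3, 2, 5, 4, 7, 3, 4, 9, 6, 5]), 1001, 0),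
    ((0, [1, 2, 3, 4, 5, 6, 7, 3, 2, 1, 4, 3, 5, 8, 7, 3, 2, 1, 4, 3, 2, 5, 4, 6, 7, 3, 4, 9, 6, 5]), 1001, 0),
    ((0, [1, 2, 3, 4, 5, 6, 7, 3, 2, 1, 4, 3, 5, 7, 8, 7, 3, 2, 1, 4, 3, 2, 5, 4, 6, 7, 3, 9, 6, 5]), 1001, 0),
    ((0, [1, 2, 3, 4, 5, 6, 7, 3, 2, 1, 4, 3, 5, 4, 8, 7, 3, 2, 1, 0, 4, 3, 5, 4, 7, 3, 8, 9, 6, 5]), 1001, 0),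
    ((0, [1, 2, 3, 4, 5, 6, 7, 3, 2, 1, 4, 3, 5, 4, 8, 7, 3, 2, 1, 4, 3, 5, 4, 6, 7, 3, 8, 9, 6, 5]), 1001, 0),
    ((0, [1, 2, 3, 4, 5, 6, 7, 3, 2, 1, 4, 3, 5, 4, 8, 7, 3, 2, 1, 0, 4, 3, 2, 5, 4, 7, 3, 9, 6, 5]), 1001, 0),
    ((0, [1, 2, 3, 4, 5, 6, 7, 3, 2, 1, 4, 3, 5, 4, 8, 7, 3, 2, 1, 4, 3, 2, 5, 4, 7, 3, 8, 9, 6, 5]), 1001, 0),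
    ((0, [1, 2, 3, 4, 5, 6, 7, 3, 2, 1, 4, 3, 5, 4, 8, 7, 3, 2, 1, 4, 3, 2, 5, 4, 6, 7, 3, 9, 6, 5]), 1001, 0),
    ((0, [1, 2, 3, 4, 5, 6, 7, 3, 2, 1, 4, 3, 5, 8, 7, 3, 2, 1, 4, 3, 2, 5, 4, 6, 7, 3, 8, 9, 6, 5]), 1001, 0),
    ((0, [1, 2, 3, 4, 5, 6, 7, 3, 2, 1, 4, 3, 5, 8, 7, 3, 2, 1, 4, 3, 2, 5, 4, 3, 7, 3, 4, 9, 6, 5]), 1001, 0),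
    ((0, [1, 2, 3, 4, 5, 6, 7, 3, 2, 1, 4, 3, 5, 4, 8, 7, 3, 2, 1, 0, 4, 3, 2, 5, 4, 6, 5, 7, 8, 9]), 1001, 0),
    ((0, [1, 2, 3, 4, 5, 6, 7, 3, 2, 1, 4, 3, 2, 5, 8, 7, 3, 2, 1, 0, 4, 3, 2, 5, 4, 3, 7, 3, 8, 9]), 1001, 0),
    ((0, [1, 2, 3, 4, 5, 6, 7, 3, 2, 1, 4, 3, 2, 5, 4, 8, 7, 3, 2, 1, 0, 4, 3, 2, 5, 4, 3, 7, 8, 9]), 1001, 0),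
    ((0, [1, 2, 3, 4, 5, 6, 7, 3, 2, 1, 4, 3, 2, 5, 7, 8, 7, 3, 2, 1, 0, 4, 3, 2, 1, 7, 8, 9, 6, 5]), 1001, 0),
    ((0, [1, 2, 3, 4, 5, 6, 7, 3, 2, 1, 4, 3, 2, 5, 8, 7, 3, 2, 1, 0, 4, 3, 2, 1, 7, 8, 9, 6, 5, 4]), 1001, 0),
    ((0, [1, 2, 3, 4, 5, 6, 7, 3, 2, 1, 4, 3, 2, 5, 7, 8, 7, 3, 2, 1, 4, 3, 2, 7, 3, 4, 8, 9, 6, 5]), 1001, 0),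
    ((0, [1, 2, 3, 4, 5, 6, 7, 3, 2, 1, 4, 3, 2, 5, 8, 7, 3, 2, 1, 0, 4, 3, 2, 7, 8, 9, 6, 5, 4, 3]), 1001, 0),
    ((0, [1, 2, 3, 4, 5, 6, 7, 3, 2, 1, 4, 3, 5, 7, 8, 7, 3, 2, 1, 0, 4, 3, 5, 4, 7, 8, 9, 6, 5, 4]), 1001, 0),
    ((0, [1, 2, 3, 4, 5, 6, 7, 3, 2, 1, 4, 3, 5, 8, 7, 3, 2, 1, 0, 4, 3, 2, 5, 4, 7, 8, 9, 6, 5, 4]), 1001, 0),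
    ((0, [1, 2, 3, 4, 5, 6, 7, 3, 2, 1, 4, 3, 5, 8, 7, 3, 2, 1, 0, 4, 3, 5, 4, 7, 8, 9, 6, 5, 4, 3]), 1001, 0),
    ((0, [1, 2, 3, 4, 5, 6, 7, 3, 2, 1, 4, 3, 5, 8, 7, 3, 2, 1, 0, 4, 3, 2, 5, 4, 7, 9, 6, 5, 4, 3]), 1001, 0),
    ((0, [1, 2, 3, 4, 5, 6, 7, 3, 2, 1, 4, 3, 5, 7, 8, 7, 3, 2, 1, 0, 4, 3, 2, 5, 4, 7, 8, 9, 6, 5]), 1001, 0),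
    ((0, [1, 2, 3, 4, 5, 6, 7, 3, 2, 1, 4, 3, 5, 7, 8, 7, 3, 2, 1, 4, 3, 2, 5, 7, 3, 4, 8, 9, 6, 5]), 1001, 0),
    ((0, [1, 2, 3, 4, 5, 6, 7, 3, 2, 1, 4, 3, 5, 8, 7, 3, 2, 1, 0, 4, 3, 2, 5, 4, 7, 3, 8, 9, 6, 5]), 1001, 0),
    ((0, [1, 2, 3, 4, 5, 6, 7, 3, 2, 1, 4, 3, 5, 7, 8, 7, 3, 2, 1, 4, 3, 2, 5, 4, 7, 3, 4, 9, 6, 5]), 1001, 0),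
    ((0, [1, 2, 3, 4, 5, 6, 7, 3, 2, 1, 4, 3, 5, 7, 8, 7, 3, 2, 1, 0, 4, 3, 2, 5, 4, 7, 3, 9, 6, 5]), 1001, 0),
    ((0, [1, 2, 3, 4, 5, 6, 7, 3, 2, 1, 4, 3, 5, 8, 7, 3, 2, 1, 4, 3, 2, 5, 4, 3, 7, 8, 9, 6, 5, 4]), 1001, 0),
    ((0, [1, 2, 3, 4, 5, 6, 7, 3, 2, 1, 4, 3, 5, 8, 7, 3, 2, 1, 0, 4, 3, 5, 4, 6, 7, 8, 9, 6, 5, 4]), 1001, 0),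
    ((0, [1, 2, 3, 4, 5, 6, 7, 3, 2, 1, 4, 3, 8, 7, 3, 2, 1, 4, 3, 2, 5, 4, 3, 7, 8, 9, 6, 5, 4, 3]), 1001, 0),
    ((0, [1, 2, 3, 4, 5, 6, 7, 3, 2, 1, 4, 3, 5, 8, 7, 3, 2, 1, 4, 3, 2, 5, 4, 3, 7, 9, 6, 5, 4, 3]), 1001, 0),
    ((0, [1, 2, 3, 4, 5, 6, 7, 3, 2, 1, 4, 3, 5, 7, 8, 7, 3, 2, 1, 4, 3, 2, 5, 4, 3, 7, 8, 9, 6, 5]), 1001, 0),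
    ((0, [1, 2, 3, 4, 5, 6, 7, 3, 2, 1, 4, 3, 5, 4, 8, 7, 3, 2, 1, 4, 3, 2, 5, 4, 3, 7, 8, 9, 6, 5]), 1001, 0),
    ((0, [1, 2, 3, 4, 5, 6, 7, 3, 2, 1, 4, 3, 2, 5, 7, 8, 7, 3, 2, 1, 0, 4, 3, 5, 4, 7, 8, 9, 6, 5]), 1001, 0),
    ((0, [1, 2, 3, 4, 5, 6, 7, 3, 2, 1, 4, 3, 5, 7, 8, 7, 3, 2, 1, 4, 3, 2, 5, 4, 3, 7, 3, 9, 6, 5]), 1001, 0),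
    ((0, [1, 2, 3, 4, 5, 6, 7, 3, 2, 1, 4, 3, 5, 8, 7, 3, 2, 1, 4, 3, 2, 5, 4, 3, 7, 3, 8, 9, 6, 5]), 1001, 0),
    ((0, [1, 2, 3, 4, 5, 6, 7, 3, 2, 1, 4, 3, 5, 4, 8, 7, 3, 2, 1, 4, 3, 2, 5, 4, 3, 7, 3, 9, 6, 5]), 1001, 0),
    ((0, [1, 2, 3, 4, 5, 6, 7, 3, 2, 1, 4, 3, 2, 7, 8, 7, 3, 2, 1, 4, 3, 2, 5, 4, 3, 7, 8, 9, 6, 5]), 1001, 0),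
    ((0, [1, 2, 3, 4, 5, 6, 7, 3, 2, 1, 4, 3, 2, 5, 4, 7, 8, 7, 3, 2, 1, 4, 3, 2, 5, 7, 8, 9, 6, 5]), 1001, 0),
    ((0, [1, 2, 3, 4, 5, 6, 7, 3, 2, 1, 4, 3, 2, 5, 4, 8, 7, 3, 2, 1, 0, 4, 3, 2, 5, 7, 8, 9, 6, 5]), 1001, 0),
    ((0, [1, 2, 3, 4, 5, 6, 7, 3, 2, 1, 4, 3, 2, 5, 4, 8, 7, 3, 2, 1, 0, 4, 3, 5, 7, 8, 9, 6, 5, 4]), 901, 0),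
    ((0, [1, 2, 3, 4, 5, 6, 7, 3, 2, 1, 4, 3, 5, 8, 7, 3, 2, 1, 4, 3, 2, 7, 3, 4, 5, 8, 9, 6, 5, 4]), 901, 0),
    ((0, [1, 2, 3, 4, 5, 6, 7, 3, 2, 1, 4, 3, 2, 5, 4, 8, 7, 3, 2, 1, 0, 4, 3, 5, 4, 7, 9, 6, 5, 4]), 1001, 0),
    ((0, [1, 2, 3, 4, 5, 6, 7, 3, 2, 1, 4, 3, 2, 5, 4, 8, 7, 3, 2, 1, 0, 4, 3, 2, 5, 4, 9, 6, 5, 4]), 1001, 0),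
    ((0, [1, 2, 3, 4, 5, 6, 7, 3, 2, 1, 4, 3, 2, 5, 4, 7, 8, 7, 3, 2, 1, 4, 3, 5, 4, 7, 8, 9, 6, 5]), 1001, 0),
    ((0, [1, 2, 3, 4, 5, 6, 7, 3, 2, 1, 4, 3, 2, 5, 4, 8, 7, 3, 2, 1, 0, 4, 3, 5, 4, 7, 8, 9, 6, 5]), 1001, 0),
    ((0, [1, 2, 3, 4, 5, 6, 7, 3, 2, 1, 4, 3, 5, 8, 7, 3, 2, 1, 4, 3, 2, 5, 7, 3, 4, 5, 8, 9, 6, 5]), 1001, 0),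
    ((0, [1, 2, 3, 4, 5, 6, 7, 3, 2, 1, 4, 3, 2, 5, 4, 8, 7, 3, 2, 1, 4, 3, 2, 5, 4, 7, 8, 9, 6, 5]), 1001, 0),
    ((0, [1, 2, 3, 4, 5, 6, 7, 3, 2, 1, 4, 3, 2, 5, 7, 8, 7, 3, 2, 1, 4, 3, 2, 5, 4, 7, 8, 9, 6, 5]), 1001, 0),
    ((0, [1, 2, 3, 4, 5, 6, 7, 3, 2, 1, 4, 3, 2, 5, 4, 8, 7, 3, 2, 1, 4, 3, 5, 4, 7, 8, 9, 6, 5, 4]), 1001, 0),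
    ((0, [1, 2, 3, 4, 5, 6, 7, 3, 2, 1, 4, 5, 8, 7, 3, 2, 1, 4, 3, 2, 5, 7, 3, 4, 5, 8, 9, 6, 5, 4]), 1001, 0),
    ((0, [1, 2, 3, 4, 5, 6, 7, 3, 2, 1, 4, 3, 2, 5, 4, 7, 8, 7, 3, 2, 4, 3, 5, 4, 7, 8, 9, 6, 5, 4]), 1001, 0),
    ((0, [1, 2, 3, 4, 5, 6, 7, 3, 2, 1, 4, 3, 2, 5, 4, 7, 8, 7, 3, 2, 1, 4, 3, 5, 4, 7, 3, 9, 6, 5]), 1001, 0),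
    ((0, [1, 2, 3, 4, 5, 6, 7, 3, 2, 1, 4, 3, 2, 5, 4, 7, 8, 7, 3, 2, 4, 3, 5, 4, 7, 3, 8, 9, 6, 5]), 1001, 0),
    ((0, [1, 2, 3, 4, 5, 6, 7, 3, 2, 1, 4, 5, 8, 7, 3, 2, 1, 4, 3, 2, 5, 4, 7, 3, 4, 5, 8, 9, 6, 5]), 1001, 0),
    ((0, [1, 2, 3, 4, 5, 6, 7, 3, 2, 1, 4, 3, 2, 5, 4, 8, 7, 3, 2, 1, 4, 3, 5, 4, 7, 3, 8, 9, 6, 5]), 1001, 0),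
    ((0, [1, 2, 3, 4, 5, 6, 7, 3, 2, 1, 4, 3, 5, 4, 8, 7, 3, 2, 1, 4, 3, 2, 7, 3, 4, 5, 8, 9, 6, 5]), 1001, 0),
    ((0, [1, 2, 3, 4, 5, 6, 7, 3, 2, 1, 4, 3, 2, 5, 4, 8, 7, 3, 2, 1, 0, 4, 3, 2, 1, 5, 7, 8, 9, 6]), 1001, 0),
    ((0, [1, 2, 3, 4, 5, 6, 7, 3, 2, 1, 4, 3, 5, 4, 8, 7, 3, 2, 1, 4, 3, 2, 5, 7, 3, 4, 5, 8, 9, 6]), 1001, 0),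
    ((0, [1, 2, 3, 4, 5, 6, 7, 3, 2, 1, 4, 3, 5, 4, 8, 7, 3, 2, 1, 4, 3, 2, 5, 7, 3, 4, 5, 9, 6, 5]), 1001, 0),
    ((0, [1, 2, 3, 4, 5, 6, 7, 3, 2, 4, 3, 5, 4, 8, 7, 3, 2, 1, 4, 3, 2, 5, 7, 3, 4, 5, 9, 6, 5, 4]), 1001, 0),
    ((0, [1, 2, 3, 4, 5, 6, 7, 3, 2, 1, 4, 3, 2, 5, 4, 7, 8, 7, 3, 2, 1, 4, 3, 2, 5, 7, 3, 9, 6, 5]), 1001, 0),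
    ((0, [1, 2, 3, 4, 5, 6, 7, 3, 2, 1, 4, 3, 2, 5, 4, 7, 8, 7, 3, 2, 1, 4, 3, 2, 5, 7, 3, 8, 9, 6]), 901, 0),
    ((0, [1, 2, 3, 4, 5, 6, 7, 3, 2, 1, 4, 3, 2, 5, 8, 7, 3, 2, 1, 4, 3, 2, 7, 3, 4, 5, 8, 9, 6, 5]), 1001, 0),
    ((0, [1, 2, 3, 4, 5, 6, 7, 3, 2, 1, 4, 3, 2, 5, 7, 8, 7, 3, 2, 1, 4, 3, 2, 5, 7, 3, 8, 9, 6, 5]), 1001, 0),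
    ((0, [1, 2, 3, 4, 5, 6, 7, 3, 2, 1, 4, 3, 2, 5, 4, 8, 7, 3, 2, 1, 4, 3, 2, 7, 3, 4, 5, 8, 9, 6]), 1001, 0),
    ((0, [1, 2, 3, 4, 5, 6, 7, 3, 2, 1, 4, 3, 2, 5, 4, 8, 7, 3, 2, 1, 4, 3, 2, 5, 7, 3, 8, 9, 6, 5]), 901, 0),
    ((0, [1, 2, 3, 4, 5, 6, 7, 3, 2, 1, 4, 3, 2, 5, 4, 7, 8, 7, 3, 2, 1, 4, 3, 2, 5, 4, 3, 9, 6, 5]), 1001, 0),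
    ((0, [1, 2, 3, 4, 5, 6, 7, 3, 2, 1, 4, 3, 5, 8, 7, 3, 2, 1, 4, 3, 2, 5, 4, 7, 3, 4, 5, 8, 9, 6]), 1001, 0),
    ((0, [1, 2, 3, 4, 5, 6, 7, 3, 2, 1, 4, 3, 2, 5, 7, 8, 7, 3, 2, 1, 4, 3, 2, 5, 4, 7, 3, 8, 9, 6]), 901, 0),
    ((0, [1, 2, 3, 4, 5, 6, 7, 3, 2, 1, 4, 3, 2, 5, 7, 8, 7, 3, 2, 1, 4, 3, 2, 5, 4, 7, 3, 9, 6, 5]), 1001, 0),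
    ((0, [1, 2, 3, 4, 5, 6, 7, 3, 2, 1, 4, 3, 2, 5, 4, 8, 7, 3, 2, 1, 4, 3, 2, 5, 4, 7, 3, 9, 6, 5]), 1001, 0),
    ((0, [1, 2, 3, 4, 5, 6, 7, 3, 2, 1, 4, 3, 2, 5, 8, 7, 3, 2, 1, 4, 3, 2, 5, 4, 7, 3, 8, 9, 6, 5]), 1001, 0),
    ((0, [1, 2, 3, 4, 5, 6, 7, 3, 2, 1, 4, 3, 2, 5, 7, 8, 7, 3, 2, 1, 0, 4, 3, 2, 5, 7, 8, 9, 6, 5]), 1001, 0),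
    ((0, [1, 2, 3, 4, 5, 6, 7, 3, 2, 1, 4, 3, 2, 5, 8, 7, 3, 2, 1, 0, 4, 3, 2, 5, 4, 7, 8, 9, 6, 5]), 1001, 0),
    ((0, [1, 2, 3, 4, 5, 6, 7, 3, 2, 1, 4, 3, 2, 5, 8, 7, 3, 2, 1, 0, 4, 3, 5, 4, 7, 8, 9, 6, 5, 4]), 1001, 0),
    ((0, [1, 2, 3, 4, 5, 6, 7, 3, 2, 1, 4, 3, 2, 5, 8, 7, 3, 2, 1, 0, 4, 3, 5, 4, 7, 3, 8, 9, 6, 5]), 1001, 0),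
    ((0, [1, 2, 3, 4, 5, 6, 7, 3, 2, 1, 4, 3, 2, 5, 7, 8, 7, 3, 2, 1, 0, 4, 3, 2, 1, 5, 7, 9, 6, 5]), 1001, 0),
    ((0, [1, 2, 3, 4, 5, 6, 7, 3, 2, 1, 4, 3, 2, 5, 7, 8, 7, 3, 2, 1, 0, 4, 3, 2, 1, 5, 7, 8, 9, 6]), 1001, 0),
    ((0, [1, 2, 3, 4, 5, 6, 7, 3, 2, 1, 4, 3, 2, 5, 8, 7, 3, 2, 1, 0, 4, 3, 2, 1, 5, 7, 8, 9, 6, 5]), 1001, 0),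
    ((0, [1, 2, 3, 4, 5, 6, 7, 3, 2, 1, 4, 3, 2, 5, 8, 7, 3, 2, 1, 0, 4, 3, 2, 1, 5, 4, 7, 8, 9, 6]), 901, 0),
    ((0, [1, 2, 3, 4, 5, 6, 7, 3, 2, 1, 4, 3, 2, 5, 8, 7, 3, 2, 1, 0, 4, 3, 2, 1, 5, 4, 7, 9, 6, 5]), 1001, 0)]

/-- Part 29 of the cycles. -/
def reps29 : List ((Nat × List Nat) × Nat × Nat) :=
  [
    ((0, [1, 2, 3, 4, 5, 6, 7, 3, 2, 1, 4, 3, 2, 5, 7, 8, 7, 3, 2, 1, 0, 4, 3, 2, 1, 5, 4, 9, 6, 5]), 1001, 0),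
    ((0, [1, 2, 3, 4, 5, 6, 7, 3, 2, 1, 4, 3, 2, 5, 8, 7, 3, 2, 1, 0, 4, 3, 2, 5, 7, 3, 8, 9, 6, 5]), 1001, 0),
    ((0, [1, 2, 3, 4, 5, 6, 7, 3, 2, 1, 4, 3, 2, 5, 7, 8, 7, 3, 2, 1, 4, 3, 2, 7, 3, 4, 5, 9, 6, 5]), 1001, 0),
    ((0, [1, 2, 3, 4, 5, 6, 7, 3, 2, 1, 4, 3, 2, 5, 7, 8, 7, 3, 2, 1, 4, 3, 2, 7, 3, 4, 5, 8, 9, 6]), 1001, 0),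
    ((0, [1, 2, 3, 4, 5, 6, 7, 3, 2, 1, 4, 3, 2, 5, 8, 7, 3, 2, 1, 0, 4, 3, 2, 5, 4, 7, 3, 8, 9, 6]), 1001, 0),
    ((0, [1, 2, 3, 4, 5, 6, 7, 3, 2, 1, 4, 3, 2, 5, 8, 7, 3, 2, 1, 4, 3, 5, 4, 7, 8, 9, 6, 5, 4, 3]), 1001, 0),
    ((0, [1, 2, 3, 4, 5, 6, 7, 3, 2, 1, 4, 3, 2, 5, 4, 8, 7, 3, 2, 4, 3, 5, 4, 7, 8, 9, 6, 5, 4, 3]), 1001, 0),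
    ((0, [1, 2, 3, 4, 5, 6, 7, 3, 2, 1, 4, 3, 2, 5, 8, 7, 3, 2, 1, 4, 3, 2, 5, 7, 8, 9, 6, 5, 4, 3]), 901, 0),
    ((0, [1, 2, 3, 4, 5, 6, 7, 3, 2, 1, 4, 3, 2, 5, 8, 7, 3, 2, 1, 4, 3, 2, 5, 4, 7, 9, 6, 5, 4, 3]), 1001, 0),
    ((0, [1, 2, 3, 4, 5, 6, 7, 3, 2, 1, 4, 3, 2, 5, 8, 7, 3, 2, 1, 0, 4, 3, 2, 5, 7, 9, 6, 5, 4, 3]), 1001, 0),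
    ((0, [1, 2, 3, 4, 5, 6, 7, 3, 2, 1, 4, 3, 2, 5, 7, 8, 7, 3, 2, 1, 4, 3, 2, 5, 4, 9, 6, 5, 4, 3]), 1001, 0),
    ((0, [1, 2, 3, 4, 5, 6, 7, 3, 2, 1, 4, 3, 2, 5, 8, 7, 3, 2, 1, 0, 4, 3, 2, 5, 4, 9, 6, 5, 4, 3]), 1001, 0),
    ((0, [1, 2, 3, 4, 5, 6, 7, 3, 2, 1, 4, 5, 8, 7, 3, 2, 1, 4, 3, 2, 5, 7, 3, 4, 5, 9, 6, 5, 4, 3]), 1001, 0),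
    ((0, [1, 2, 3, 4, 5, 6, 7, 3, 2, 1, 4, 3, 2, 5, 8, 7, 3, 2, 1, 0, 4, 3, 2, 1, 5, 4, 3, 9, 6, 5]), 1001, 0),
    ((0, [1, 2, 3, 4, 5, 6, 7, 3, 2, 1, 4, 3, 2, 5, 4, 8, 7, 3, 2, 1, 0, 4, 3, 2, 5, 4, 6, 5, 7, 8]), 1001, 0),
    ((0, [1, 2, 3, 4, 5, 6, 7, 3, 2, 1, 4, 3, 2, 5, 7, 3, 8, 7, 3, 2, 1, 4, 3, 2, 7, 3, 8, 9, 6, 5]), 1001, 0),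
    ((0, [1, 2, 3, 4, 5, 6, 7, 3, 2, 1, 4, 3, 2, 5, 7, 8, 7, 3, 2, 1, 4, 3, 2, 7, 9, 6, 5, 4, 3, 7]), 1001, 0),
    ((0, [1, 2, 3, 4, 5, 6, 7, 3, 2, 4, 3, 5, 4, 8, 7, 3, 2, 1, 0, 4, 3, 2, 5, 4, 9, 6, 5, 4, 3, 7]), 1001, 0),
    ((0, [1, 2, 3, 4, 5, 6, 7, 3, 2, 1, 4, 5, 8, 7, 3, 2, 1, 4, 3, 2, 7, 3, 8, 9, 6, 5, 4, 3, 7, 8]), 801, 0),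
    ((0, [1, 2, 3, 4, 5, 6, 7, 3, 2, 1, 4, 3, 5, 4, 8, 7, 3, 2, 4, 3, 5, 7, 8, 9, 6, 5, 4, 3, 7, 8]), 1001, 0),
    ((0, [1, 2, 3, 4, 5, 6, 7, 3, 2, 1, 4, 3, 2, 5, 8, 7, 3, 2, 1, 0, 4, 3, 2, 1, 9, 6, 5, 4, 3, 7]), 1001, 0),
    ((0, [1, 2, 3, 4, 5, 6, 7, 3, 2, 1, 4, 3, 5, 8, 7, 3, 2, 1, 4, 3, 2, 5, 4, 7, 9, 6, 5, 4, 3, 7]), 1001, 0),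
    ((0, [1, 2, 3, 4, 5, 6, 7, 3, 2, 1, 4, 3, 5, 4, 8, 7, 3, 2, 4, 3, 5, 7, 9, 6, 5, 4, 3, 2, 7, 8]), 1001, 0),
    ((0, [1, 2, 3, 4, 5, 6, 7, 3, 2, 1, 4, 3, 2, 5, 4, 8, 7, 3, 2, 4, 3, 5, 4, 7, 9, 6, 5, 4, 3, 2]), 1001, 0),
    ((0, [1, 2, 3, 4, 5, 6, 7, 3, 2, 1, 4, 3, 2, 5, 7, 3, 8, 7, 3, 2, 1, 0, 4, 3, 2, 9, 6, 5, 4, 3]), 1001, 0),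
    ((0, [1, 2, 3, 4, 5, 6, 7, 3, 2, 1, 4, 5, 8, 7, 3, 2, 1, 4, 3, 2, 5, 7, 3, 8, 9, 6, 5, 4, 3, 2]), 901, 0),
    ((0, [1, 2, 3, 4, 5, 6, 7, 3, 2, 1, 4, 5, 8, 7, 3, 2, 1, 4, 3, 2, 7, 3, 4, 8, 9, 6, 5, 4, 3, 2]), 1001, 0),
    ((0, [1, 2, 3, 4, 5, 6, 7, 3, 2, 1, 4, 5, 8, 7, 3, 2, 1, 4, 3, 2, 5, 4, 7, 8, 9, 6, 5, 4, 3, 2]), 1001, 0),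
    ((0, [1, 2, 3, 4, 5, 6, 7, 3, 2, 1, 4, 5, 8, 7, 3, 2, 1, 4, 3, 2, 5, 6, 7, 8, 9, 6, 5, 4, 3, 2]), 1001, 0),
    ((0, [1, 2, 3, 4, 5, 6, 7, 3, 2, 1, 4, 5, 8, 7, 3, 2, 1, 0, 4, 3, 5, 4, 7, 8, 9, 6, 5, 4, 3, 2]), 1001, 0),
    ((0, [1, 2, 3, 4, 5, 6, 7, 3, 2, 1, 4, 5, 8, 7, 3, 2, 1, 0, 4, 3, 5, 6, 7, 8, 9, 6, 5, 4, 3, 2]), 901, 0),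
    ((0, [1, 2, 3, 4, 5, 6, 7, 3, 2, 1, 4, 3, 5, 4, 7, 8, 7, 3, 2, 4, 3, 5, 4, 7, 9, 6, 5, 4, 3, 2]), 1001, 0),
    ((0, [1, 2, 3, 4, 5, 6, 7, 3, 2, 1, 4, 3, 5, 4, 7, 8, 7, 3, 2, 4, 3, 5, 7, 8, 9, 6, 5, 4, 3, 2]), 1001, 0),
    ((0, [1, 2, 3, 4, 5, 6, 7, 3, 2, 1, 4, 3, 5, 7, 8, 7, 3, 2, 4, 3, 5, 4, 7, 8, 9, 6, 5, 4, 3, 2]), 1001, 0),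
    ((0, [1, 2, 3, 4, 5, 6, 7, 3, 2, 1, 4, 3, 2, 5, 7, 8, 7, 3, 2, 4, 3, 5, 7, 8, 9, 6, 5, 4, 3, 2]), 1001, 0),
    ((0, [1, 2, 3, 4, 5, 6, 7, 3, 2, 1, 4, 5, 8, 7, 3, 2, 1, 4, 3, 2, 5, 4, 7, 8, 9, 6, 5, 4, 3, 7]), 1001, 0),
    ((0, [1, 2, 3, 4, 5, 6, 7, 3, 2, 1, 4, 5, 8, 7, 3, 2, 1, 4, 3, 2, 5, 6, 7, 8, 9, 6, 5, 4, 3, 7]), 1001, 0),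
    ((0, [1, 2, 3, 4, 5, 6, 7, 3, 2, 1, 4, 3, 5, 4, 7, 8, 7, 3, 2, 4, 3, 5, 7, 8, 9, 6, 5, 4, 3, 7]), 1001, 0),
    ((0, [1, 2, 3, 4, 5, 6, 7, 3, 2, 1, 4, 3, 5, 4, 8, 7, 3, 2, 1, 4, 3, 5, 7, 8, 9, 6, 5, 4, 3, 7]), 1001, 0),
    ((0, [1, 2, 3, 4, 5, 6, 7, 3, 2, 1, 4, 3, 5, 4, 8, 7, 3, 2, 4, 3, 5, 4, 7, 8, 9, 6, 5, 4, 3, 7]), 1001, 0),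
    ((0, [1, 2, 3, 4, 5, 6, 7, 3, 2, 4, 3, 5, 8, 7, 3, 2, 1, 4, 3, 2, 5, 7, 9, 6, 5, 4, 3, 2, 7, 8]), 1001, 0),
    ((0, [1, 2, 3, 4, 5, 6, 7, 3, 2, 1, 4, 5, 8, 7, 3, 2, 1, 4, 3, 2, 5, 4, 7, 3, 4, 8, 9, 6, 5, 4]), 1001, 0),
    ((0, [1, 2, 3, 4, 5, 6, 7, 3, 2, 1, 4, 3, 5, 4, 7, 8, 7, 3, 2, 4, 3, 7, 9, 6, 5, 4, 3, 2, 1, 0]), 1001, 0),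
    ((0, [1, 2, 3, 4, 5, 6, 7, 3, 2, 1, 4, 3, 2, 8, 7, 3, 2, 4, 3, 5, 4, 6, 7, 3, 2, 9, 6, 5, 4, 3]), 1001, 0),
    ((0, [1, 2, 3, 4, 5, 6, 7, 3, 2, 1, 4, 3, 5, 4, 8, 7, 3, 2, 1, 0, 4, 3, 5, 4, 6, 5, 9, 6, 5, 4]), 1001, 0),
    ((0, [1, 2, 3, 4, 5, 6, 7, 3, 2, 1, 4, 3, 2, 5, 4, 8, 7, 3, 2, 4, 3, 5, 4, 6, 5, 9, 6, 5, 4, 3]), 1001, 0),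
    ((0, [1, 2, 3, 4, 5, 6, 7, 3, 2, 1, 4, 3, 5, 8, 7, 3, 2, 1, 4, 3, 2, 5, 4, 6, 5, 9, 6, 5, 4, 3]), 1001, 0),
    ((0, [1, 2, 3, 4, 5, 6, 7, 3, 2, 1, 4, 3, 2, 5, 8, 7, 3, 2, 4, 3, 5, 4, 6, 7, 3, 8, 9, 6, 5, 4]), 1001, 0),
    ((0, [1, 2, 3, 4, 5, 6, 7, 3, 2, 1, 4, 5, 8, 7, 3, 2, 1, 4, 3, 2, 5, 6, 7, 3, 4, 5, 8, 9, 6, 5]), 1001, 0),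
    ((0, [1, 2, 3, 4, 5, 6, 7, 3, 2, 1, 4, 3, 5, 4, 8, 7, 3, 2, 4, 3, 5, 4, 6, 5, 7, 8, 9, 6, 5, 4]), 1001, 0),
    ((0, [1, 2, 3, 4, 5, 6, 7, 3, 2, 1, 4, 3, 2, 5, 8, 7, 3, 2, 1, 4, 3, 5, 4, 6, 7, 3, 8, 9, 6, 5]), 1001, 0),
    ((0, [1, 2, 3, 4, 5, 6, 7, 3, 2, 1, 4, 3, 5, 7, 8, 7, 3, 2, 1, 4, 3, 5, 4, 7, 3, 2, 8, 9, 6, 5]), 1001, 0),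
    ((0, [1, 2, 3, 4, 5, 6, 7, 3, 2, 1, 4, 3, 2, 5, 8, 7, 3, 2, 4, 3, 5, 4, 6, 7, 3, 2, 1, 8, 9, 6]), 1001, 0),
    ((0, [1, 2, 3, 4, 5, 6, 7, 3, 2, 1, 4, 3, 5, 8, 7, 3, 2, 1, 4, 3, 2, 5, 6, 7, 3, 4, 5, 8, 9, 6]), 1001, 0),
    ((0, [1, 2, 3, 4, 5, 6, 7, 3, 2, 1, 4, 3, 5, 4, 8, 7, 3, 2, 1, 0, 4, 3, 5, 4, 6, 5, 7, 8, 9, 6]), 1001, 0),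
    ((0, [1, 2, 3, 4, 5, 6, 7, 3, 2, 1, 4, 3, 5, 4, 8, 7, 3, 2, 1, 4, 3, 2, 5, 4, 6, 5, 7, 8, 9, 6]), 1001, 0),
    ((0, [1, 2, 3, 4, 5, 6, 7, 3, 2, 1, 4, 5, 8, 7, 3, 2, 1, 4, 3, 2, 5, 4, 6, 7, 3, 4, 5, 9, 6, 5]), 1001, 0),
    ((0, [1, 2, 3, 4, 5, 6, 7, 3, 2, 1, 4, 3, 2, 5, 4, 8, 7, 3, 2, 4, 3, 5, 4, 6, 7, 3, 2, 8, 9, 6]), 1001, 0),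
    ((0, [1, 2, 3, 4, 5, 6, 7, 3, 2, 4, 3, 5, 8, 7, 3, 2, 1, 4, 3, 2, 5, 4, 7, 3, 4, 5, 9, 6, 5, 4]), 1001, 0),
    ((0, [1, 2, 3, 4, 5, 6, 7, 3, 2, 4, 3, 5, 8, 7, 3, 2, 1, 4, 3, 2, 5, 4, 3, 7, 3, 4, 5, 8, 9, 6]), 1001, 0),
    ((0, [1, 2, 3, 4, 5, 6, 7, 3, 2, 1, 4, 3, 5, 4, 8, 7, 3, 2, 4, 3, 5, 4, 6, 5, 7, 9, 6, 5, 4, 3]), 1001, 0),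
    ((0, [1, 2, 3, 4, 5, 6, 7, 3, 2, 1, 4, 3, 2, 8, 7, 3, 2, 4, 3, 5, 4, 7, 3, 2, 1, 0, 9, 6, 5, 4]), 1001, 0),
    ((0, [1, 2, 3, 4, 5, 6, 7, 3, 2, 1, 4, 3, 5, 4, 7, 8, 7, 3, 2, 4, 3, 5, 4, 7, 3, 2, 1, 9, 6, 5]), 1001, 0),
    ((0, [1, 2, 3, 4, 5, 6, 7, 3, 2, 1, 4, 3, 5, 4, 7, 8, 7, 3, 2, 4, 3, 5, 4, 7, 3, 2, 8, 9, 6, 5]), 1001, 0),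
    ((0, [1, 2, 3, 4, 5, 6, 7, 3, 2, 1, 4, 3, 5, 7, 8, 7, 3, 2, 1, 4, 3, 2, 5, 4, 7, 3, 2, 9, 6, 5]), 1001, 0),
    ((0, [1, 2, 3, 4, 5, 6, 7, 3, 2, 1, 4, 3, 5, 7, 8, 7, 3, 2, 1, 4, 3, 2, 5, 4, 7, 3, 2, 8, 9, 6]), 1001, 0),
    ((0, [1, 2, 3, 4, 5, 6, 7, 3, 2, 1, 4, 3, 2, 8, 7, 3, 2, 1, 4, 3, 2, 5, 4, 3, 7, 8, 9, 6, 5, 4]), 1001, 0),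
    ((0, [1, 2, 3, 4, 5, 6, 7, 3, 2, 1, 4, 3, 2, 5, 8, 7, 3, 2, 1, 4, 3, 2, 5, 4, 3, 7, 8, 9, 6, 5]), 1001, 0),
    ((0, [1, 2, 3, 4, 5, 6, 7, 3, 2, 1, 4, 3, 2, 5, 8, 7, 3, 2, 1, 0, 4, 3, 5, 4, 6, 7, 8, 9, 6, 5]), 1001, 0),
    ((0, [1, 2, 3, 4, 5, 6, 7, 3, 2, 1, 4, 3, 2, 5, 4, 8, 7, 3, 2, 1, 4, 3, 2, 5, 4, 3, 7, 8, 9, 6]), 1001, 0),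
    ((0, [1, 2, 3, 4, 5, 6, 7, 3, 2, 1, 4, 3, 2, 5, 8, 7, 3, 2, 1, 4, 3, 2, 5, 4, 3, 7, 3, 9, 6, 5]), 1001, 0),
    ((0, [1, 2, 3, 4, 5, 6, 7, 3, 2, 1, 4, 3, 2, 5, 8, 7, 3, 2, 1, 4, 3, 2, 5, 4, 3, 7, 3, 8, 9, 6]), 1001, 0),
    ((0, [1, 2, 3, 4, 5, 6, 7, 3, 2, 1, 4, 3, 5, 8, 7, 3, 2, 4, 3, 5, 4, 7, 3, 2, 9, 6, 5, 4, 3, 2]), 1001, 0),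
    ((0, [1, 2, 3, 4, 5, 6, 7, 3, 2, 1, 4, 3, 5, 8, 7, 3, 2, 4, 3, 5, 4, 7, 3, 2, 1, 0, 9, 6, 5, 4]), 1001, 0),
    ((0, [1, 2, 3, 4, 5, 6, 7, 3, 2, 1, 4, 3, 5, 4, 8, 7, 3, 2, 4, 3, 5, 4, 6, 7, 9, 6, 5, 4, 3, 2]), 1001, 0),
    ((0, [1, 2, 3, 4, 5, 6, 7, 3, 2, 1, 4, 3, 5, 4, 8, 7, 3, 2, 4, 3, 5, 6, 7, 8, 9, 6, 5, 4, 3, 2]), 1001, 0),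
    ((0, [1, 2, 3, 4, 5, 6, 7, 3, 2, 1, 4, 3, 5, 8, 7, 3, 2, 4, 3, 5, 4, 6, 7, 8, 9, 6, 5, 4, 3, 2]), 1001, 0),
    ((0, [1, 2, 3, 4, 5, 6, 7, 3, 2, 1, 4, 3, 5, 4, 8, 7, 3, 2, 4, 3, 5, 4, 7, 8, 9, 6, 5, 4, 3, 2]), 1001, 0),
    ((0, [1, 2, 3, 4, 5, 6, 7, 3, 2, 1, 4, 3, 2, 5, 8, 7, 3, 2, 4, 3, 5, 4, 7, 8, 9, 6, 5, 4, 3, 2]), 1001, 0),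
    ((0, [1, 2, 3, 4, 5, 6, 7, 3, 2, 1, 4, 3, 2, 5, 4, 8, 7, 3, 2, 4, 3, 5, 7, 8, 9, 6, 5, 4, 3, 2]), 1001, 0),
    ((0, [1, 2, 3, 4, 5, 6, 7, 3, 2, 1, 4, 3, 2, 5, 4, 3, 8, 7, 3, 2, 4, 3, 7, 8, 9, 6, 5, 4, 3, 2]), 1001, 0),
    ((0, [1, 2, 3, 4, 5, 6, 7, 3, 2, 1, 4, 3, 8, 7, 3, 2, 1, 4, 3, 5, 4, 7, 3, 2, 1, 0, 9, 6, 5, 4]), 1001, 0),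
    ((0, [1, 2, 3, 4, 5, 6, 7, 3, 2, 1, 4, 3, 5, 4, 8, 7, 3, 2, 1, 4, 3, 5, 7, 8, 9, 6, 5, 4, 3, 2]), 1001, 0),
    ((0, [1, 2, 3, 4, 5, 6, 7, 3, 2, 4, 3, 5, 4, 8, 7, 3, 2, 1, 0, 4, 3, 2, 5, 9, 6, 5, 4, 3, 7, 8]), 1001, 0),
    ((0, [1, 2, 3, 4, 5, 6, 7, 3, 2, 1, 4, 3, 5, 4, 8, 7, 3, 2, 4, 3, 5, 4, 6, 7, 3, 8, 9, 6, 5, 4]), 1001, 0),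
    ((0, [1, 2, 3, 4, 5, 6, 7, 3, 2, 1, 4, 3, 2, 5, 4, 8, 7, 3, 2, 4, 3, 5, 4, 7, 3, 8, 9, 6, 5, 4]), 1001, 0),
    ((0, [1, 2, 3, 4, 5, 6, 7, 3, 2, 1, 4, 3, 2, 5, 4, 8, 7, 3, 2, 1, 4, 3, 2, 5, 4, 6, 5, 9, 6, 5]), 1001, 0),
    ((0, [1, 2, 3, 4, 5, 6, 7, 3, 2, 1, 4, 3, 2, 5, 8, 7, 3, 2, 1, 4, 3, 2, 7, 3, 4, 8, 9, 6, 5, 4]), 901, 0),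
    ((0, [1, 2, 3, 4, 5, 6, 7, 3, 2, 1, 4, 3, 2, 5, 8, 7, 3, 2, 1, 4, 3, 2, 7, 3, 4, 8, 7, 9, 6, 5]), 1001, 0),
    ((0, [1, 2, 3, 4, 5, 6, 7, 3, 2, 1, 4, 3, 2, 5, 7, 8, 7, 3, 2, 1, 4, 3, 2, 7, 3, 8, 7, 9, 6, 5]), 1001, 0),
    ((0, [1, 2, 3, 4, 5, 6, 7, 3, 2, 1, 4, 3, 2, 5, 4, 8, 7, 3, 2, 1, 4, 3, 2, 7, 3, 8, 7, 9, 6, 5]), 901, 0),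
    ((0, [1, 2, 3, 4, 5, 6, 7, 3, 2, 1, 4, 3, 2, 5, 8, 7, 3, 2, 1, 0, 4, 3, 2, 7, 3, 8, 7, 9, 6, 5]), 1001, 0),
    ((0, [1, 2, 3, 4, 5, 6, 7, 3, 2, 1, 4, 3, 2, 5, 8, 7, 3, 2, 1, 4, 3, 2, 5, 7, 3, 8, 7, 9, 6, 5]), 901, 0),
    ((0, [1, 2, 3, 4, 5, 6, 7, 3, 2, 1, 4, 3, 2, 5, 4, 8, 7, 3, 2, 1, 4, 3, 2, 7, 3, 4, 5, 8, 7, 9]), 1001, 0),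
    ((0, [1, 2, 3, 4, 5, 6, 7, 3, 2, 1, 4, 3, 2, 5, 8, 7, 3, 2, 1, 0, 4, 3, 2, 5, 7, 3, 8, 7, 9, 6]), 1001, 0),
    ((0, [1, 2, 3, 4, 5, 6, 7, 3, 2, 1, 4, 5, 8, 7, 3, 2, 1, 4, 3, 2, 5, 4, 6, 7, 3, 8, 7, 9, 6, 5]), 1001, 0),
    ((0, [1, 2, 3, 4, 5, 6, 7, 3, 2, 1, 4, 3, 2, 5, 4, 3, 8, 7, 3, 2, 1, 4, 3, 2, 7, 3, 4, 5, 8, 9]), 1001, 0),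
    ((0, [1, 2, 3, 4, 5, 6, 7, 3, 2, 1, 4, 5, 8, 7, 3, 2, 1, 0, 4, 3, 5, 4, 7, 8, 9, 6, 5, 4, 3, 7]), 1001, 0),
    ((0, [1, 2, 3, 4, 5, 6, 7, 3, 2, 1, 4, 5, 8, 7, 3, 2, 1, 0, 4, 3, 5, 6, 7, 8, 9, 6, 5, 4, 3, 7]), 901, 0),
    ((0, [1, 2, 3, 4, 5, 6, 7, 3, 2, 1, 4, 3, 2, 5, 7, 8, 7, 3, 2, 4, 3, 5, 7, 8, 9, 6, 5, 4, 3, 7]), 1001, 0),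
    ((0, [1, 2, 3, 4, 5, 6, 7, 3, 2, 1, 4, 3, 5, 7, 8, 7, 3, 2, 1, 4, 3, 2, 7, 8, 9, 6, 5, 4, 3, 2]), 901, 0),
    ((0, [1, 2, 3, 4, 5, 6, 7, 3, 2, 1, 4, 3, 2, 5, 7, 8, 7, 3, 2, 1, 4, 3, 2, 7, 9, 6, 5, 4, 3, 2]), 1001, 0),
    ((0, [1, 2, 3, 4, 5, 6, 7, 3, 2, 1, 4, 3, 2, 5, 8, 7, 3, 2, 1, 0, 4, 3, 7, 8, 9, 6, 5, 4, 3, 7]), 1001, 0),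
    ((0, [1, 2, 3, 4, 5, 6, 7, 3, 2, 1, 4, 3, 5, 7, 8, 7, 3, 2, 4, 3, 5, 4, 7, 8, 9, 6, 5, 4, 3, 7]), 1001, 0),
    ((0, [1, 2, 3, 4, 5, 6, 7, 3, 2, 1, 4, 3, 5, 8, 7, 3, 2, 1, 4, 3, 5, 4, 7, 8, 9, 6, 5, 4, 3, 7]), 1001, 0),
    ((0, [1, 2, 3, 4, 5, 6, 7, 3, 2, 1, 4, 3, 5, 8, 7, 3, 2, 4, 3, 5, 4, 6, 7, 8, 9, 6, 5, 4, 3, 7]), 1001, 0),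
    ((0, [1, 2, 3, 4, 5, 6, 7, 3, 2, 1, 4, 3, 2, 5, 8, 7, 3, 2, 4, 3, 5, 4, 7, 8, 9, 6, 5, 4, 3, 7]), 1001, 0),
    ((0, [1, 2, 3, 4, 5, 6, 7, 3, 2, 1, 4, 3, 8, 7, 3, 2, 1, 4, 3, 2, 5, 4, 3, 7, 3, 8, 9, 6, 5, 4]), 1001, 0),
    ((0, [1, 2, 3, 4, 5, 6, 7, 3, 2, 1, 4, 3, 5, 7, 8, 7, 3, 2, 1, 4, 3, 2, 7, 8, 9, 6, 5, 4, 3, 7]), 901, 0),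
    ((0, [1, 2, 3, 4, 5, 6, 7, 3, 2, 1, 4, 3, 5, 4, 8, 7, 3, 2, 1, 4, 3, 2, 7, 8, 9, 6, 5, 4, 3, 7]), 1001, 0),
    ((0, [1, 2, 3, 4, 5, 6, 7, 3, 2, 1, 4, 3, 2, 5, 8, 7, 3, 2, 1, 4, 3, 2, 7, 8, 9, 6, 5, 4, 3, 7]), 901, 0),
    ((0, [1, 2, 3, 4, 5, 6, 7, 3, 2, 1, 4, 3, 5, 8, 7, 3, 2, 1, 4, 3, 2, 5, 7, 8, 9, 6, 5, 4, 3, 7]), 1001, 0),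
    ((0, [1, 2, 3, 4, 5, 6, 7, 3, 2, 1, 4, 3, 2, 5, 4, 8, 7, 3, 2, 4, 3, 5, 4, 6, 5, 7, 3, 8, 9, 6]), 901, 0),
    ((0, [1, 2, 3, 4, 5, 6, 7, 3, 2, 1, 4, 3, 5, 4, 8, 7, 3, 2, 4, 3, 7, 8, 9, 6, 5, 4, 3, 2, 7, 3]), 1001, 0),
    ((0, [1, 2, 3, 4, 5, 6, 7, 3, 2, 1, 4, 3, 2, 5, 4, 8, 7, 3, 2, 4, 3, 5, 4, 6, 7, 3, 8, 9, 6, 5]), 1001, 0),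
    ((0, [1, 2, 3, 4, 5, 6, 7, 3, 2, 1, 4, 3, 5, 8, 7, 3, 2, 1, 4, 3, 2, 5, 4, 7, 3, 2, 4, 5, 8, 9]), 1001, 0),
    ((0, [1, 2, 3, 4, 5, 6, 7, 3, 2, 1, 4, 5, 8, 7, 3, 2, 1, 4, 3, 2, 5, 4, 7, 3, 2, 4, 8, 9, 6, 5]), 1001, 0),
    ((0, [1, 2, 3, 4, 5, 6, 7, 3, 2, 1, 4, 3, 5, 8, 7, 3, 2, 1, 4, 3, 2, 5, 4, 7, 3, 2, 4, 9, 6, 5]), 1001, 0),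
    ((0, [1, 2, 3, 4, 5, 6, 7, 3, 2, 1, 4, 5, 8, 7, 3, 2, 1, 4, 3, 2, 5, 4, 7, 3, 2, 4, 5, 8, 9, 6]), 1001, 0),
    ((0, [1, 2, 3, 4, 5, 6, 7, 3, 2, 1, 4, 5, 8, 7, 3, 2, 1, 4, 3, 2, 5, 4, 7, 3, 2, 8, 9, 6, 5, 4]), 1001, 0)]

/-- Part 30 of the cycles. -/
def reps30 : List ((Nat × List Nat) × Nat × Nat) :=
  [
    ((0, [1, 2, 3, 4, 5, 6, 7, 3, 2, 1, 4, 5, 8, 7, 3, 2, 1, 0, 4, 3, 5, 4, 7, 3, 2, 8, 9, 6, 5, 4]), 1001, 0),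
    ((0, [1, 2, 3, 4, 5, 6, 7, 3, 2, 1, 4, 3, 5, 4, 8, 7, 3, 2, 1, 4, 3, 5, 4, 6, 7, 3, 8, 7, 9, 6]), 1001, 0),
    ((0, [1, 2, 3, 4, 5, 6, 7, 3, 2, 1, 4, 3, 5, 4, 7, 8, 7, 3, 2, 4, 3, 5, 4, 7, 3, 8, 7, 9, 6, 5]), 1001, 0),
    ((0, [1, 2, 3, 4, 5, 6, 7, 3, 2, 1, 4, 5, 8, 7, 3, 2, 1, 4, 3, 2, 5, 4, 7, 3, 4, 8, 7, 9, 6, 5]), 1001, 0),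
    ((0, [1, 2, 3, 4, 5, 6, 7, 3, 2, 1, 4, 3, 5, 4, 8, 7, 3, 2, 4, 3, 5, 4, 6, 7, 3, 8, 7, 9, 6, 5]), 1001, 0),
    ((0, [1, 2, 3, 4, 5, 6, 7, 3, 2, 1, 4, 5, 8, 7, 3, 2, 1, 4, 3, 2, 5, 4, 7, 3, 4, 5, 8, 7, 9, 6]), 1001, 0),
    ((0, [1, 2, 3, 4, 5, 6, 7, 3, 2, 1, 4, 3, 2, 5, 4, 8, 7, 3, 2, 4, 3, 5, 4, 7, 3, 8, 7, 9, 6, 5]), 1001, 0),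
    ((0, [1, 2, 3, 4, 5, 6, 7, 3, 2, 1, 4, 3, 5, 4, 8, 7, 3, 2, 4, 3, 5, 4, 7, 3, 8, 7, 9, 6, 5, 4]), 1001, 0),
    ((0, [1, 2, 3, 4, 5, 6, 7, 3, 2, 1, 4, 3, 2, 5, 8, 7, 3, 2, 1, 0, 4, 3, 2, 7, 9, 6, 5, 4, 3, 2]), 1001, 0),
    ((0, [1, 2, 3, 4, 5, 6, 7, 3, 2, 1, 4, 3, 2, 5, 8, 7, 3, 2, 1, 0, 4, 3, 7, 8, 9, 6, 5, 4, 3, 2]), 1001, 0),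
    ((0, [1, 2, 3, 4, 5, 6, 7, 3, 2, 1, 4, 3, 2, 5, 8, 7, 3, 2, 1, 4, 3, 2, 7, 8, 9, 6, 5, 4, 3, 2]), 901, 0),
    ((0, [1, 2, 3, 4, 5, 6, 7, 3, 2, 1, 4, 3, 5, 8, 7, 3, 2, 1, 4, 3, 2, 5, 7, 8, 9, 6, 5, 4, 3, 2]), 1001, 0),
    ((0, [1, 2, 3, 4, 5, 6, 7, 3, 2, 1, 4, 3, 5, 8, 7, 3, 2, 1, 4, 3, 2, 5, 4, 7, 9, 6, 5, 4, 3, 2]), 1001, 0),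
    ((0, [1, 2, 3, 4, 5, 6, 7, 3, 2, 1, 4, 3, 5, 8, 7, 3, 2, 1, 4, 3, 5, 4, 7, 8, 9, 6, 5, 4, 3, 2]), 1001, 0),
    ((0, [1, 2, 3, 4, 5, 6, 7, 3, 2, 1, 4, 3, 5, 8, 7, 3, 2, 4, 3, 5, 4, 7, 3, 8, 9, 6, 5, 4, 3, 2]), 1001, 0),
    ((0, [1, 2, 3, 4, 5, 6, 7, 3, 2, 1, 4, 3, 5, 8, 7, 3, 2, 1, 0, 4, 3, 5, 4, 7, 3, 8, 9, 6, 5, 4]), 1001, 0),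
    ((0, [1, 2, 3, 4, 5, 6, 7, 3, 2, 1, 4, 3, 5, 8, 7, 3, 2, 4, 3, 5, 4, 7, 3, 8, 9, 6, 5, 4, 3, 7]), 1001, 0),
    ((0, [1, 2, 3, 4, 5, 6, 7, 3, 2, 1, 4, 3, 8, 7, 3, 2, 1, 4, 3, 2, 5, 4, 3, 7, 3, 2, 8, 9, 6, 5]), 1001, 0),
    ((0, [1, 2, 3, 4, 5, 6, 7, 3, 2, 1, 4, 3, 2, 5, 4, 8, 7, 3, 2, 1, 4, 3, 2, 5, 4, 7, 3, 8, 7, 9]), 1001, 0),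
    ((0, [1, 2, 3, 4, 5, 6, 7, 3, 2, 1, 4, 3, 5, 4, 8, 7, 3, 2, 1, 4, 3, 2, 5, 4, 7, 3, 8, 7, 9, 6]), 901, 0),
    ((0, [1, 2, 3, 4, 5, 6, 7, 3, 2, 1, 4, 3, 2, 5, 8, 7, 3, 2, 1, 4, 3, 2, 5, 4, 7, 3, 8, 7, 9, 6]), 1001, 0),
    ((0, [1, 2, 3, 4, 5, 6, 7, 3, 2, 1, 4, 3, 5, 8, 7, 3, 2, 1, 4, 3, 2, 5, 4, 7, 3, 8, 7, 9, 6, 5]), 1001, 0),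
    ((0, [1, 2, 3, 4, 5, 6, 7, 3, 2, 1, 4, 3, 5, 7, 8, 7, 3, 2, 1, 4, 3, 2, 5, 4, 6, 7, 3, 8, 7, 9]), 1001, 0),
    ((0, [1, 2, 3, 4, 5, 6, 7, 3, 2, 1, 4, 3, 5, 4, 8, 7, 3, 2, 1, 4, 3, 2, 5, 4, 6, 7, 3, 8, 7, 9]), 901, 0),
    ((0, [1, 2, 3, 4, 5, 6, 7, 3, 2, 1, 4, 3, 5, 4, 8, 7, 3, 2, 1, 4, 3, 2, 5, 4, 3, 7, 3, 8, 7, 9]), 901, 0),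
    ((0, [1, 2, 3, 4, 5, 6, 7, 3, 2, 1, 4, 3, 2, 5, 8, 7, 3, 2, 1, 4, 3, 2, 5, 4, 6, 7, 3, 8, 7, 9]), 1001, 0),
    ((0, [1, 2, 3, 4, 5, 6, 7, 3, 2, 1, 4, 3, 2, 5, 4, 3, 8, 7, 3, 2, 4, 3, 5, 4, 7, 3, 2, 8, 9, 6]), 1001, 0),
    ((0, [1, 2, 3, 4, 5, 6, 7, 3, 2, 1, 4, 3, 2, 5, 4, 8, 7, 3, 2, 4, 3, 5, 4, 7, 3, 2, 8, 9, 6, 5]), 1001, 0),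
    ((0, [1, 2, 3, 4, 5, 6, 7, 3, 2, 1, 4, 3, 5, 4, 8, 7, 3, 2, 4, 3, 5, 4, 7, 3, 2, 8, 9, 6, 5, 4]), 1001, 0),
    ((0, [1, 2, 3, 4, 5, 6, 7, 3, 2, 1, 4, 3, 5, 4, 8, 7, 3, 2, 1, 4, 3, 2, 5, 4, 7, 3, 2, 8, 9, 6]), 901, 0),
    ((0, [1, 2, 3, 4, 5, 6, 7, 3, 2, 1, 4, 3, 5, 4, 8, 7, 3, 2, 1, 4, 3, 5, 4, 6, 7, 3, 2, 8, 9, 6]), 1001, 0),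
    ((0, [1, 2, 3, 4, 5, 6, 7, 3, 2, 1, 4, 3, 2, 5, 8, 7, 3, 2, 1, 0, 4, 3, 2, 5, 4, 7, 3, 2, 8, 9]), 1001, 0),
    ((0, [1, 2, 3, 4, 5, 6, 7, 3, 2, 1, 4, 3, 2, 5, 8, 7, 3, 2, 1, 4, 3, 2, 5, 4, 7, 3, 2, 8, 9, 6]), 1001, 0),
    ((0, [1, 2, 3, 4, 5, 6, 7, 3, 2, 1, 4, 3, 5, 8, 7, 3, 2, 1, 0, 4, 3, 2, 5, 4, 7, 3, 2, 9, 6, 5]), 1001, 0),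
    ((0, [1, 2, 3, 4, 5, 6, 7, 3, 2, 1, 4, 3, 5, 8, 7, 3, 2, 1, 0, 4, 3, 5, 4, 7, 3, 2, 8, 9, 6, 5]), 1001, 0),
    ((0, [1, 2, 3, 4, 5, 6, 7, 3, 2, 1, 4, 3, 5, 8, 7, 3, 2, 1, 4, 3, 2, 5, 4, 7, 3, 2, 8, 9, 6, 5]), 1001, 0),
    ((0, [1, 2, 3, 4, 5, 6, 7, 3, 2, 1, 4, 3, 2, 5, 8, 7, 3, 2, 1, 4, 3, 2, 5, 4, 7, 3, 2, 9, 6, 5]), 1001, 0),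
    ((0, [1, 2, 3, 4, 5, 6, 7, 3, 2, 1, 4, 3, 2, 5, 8, 7, 3, 2, 1, 0, 4, 3, 2, 1, 5, 6, 7, 9, 6, 5]), 1001, 0),
    ((0, [1, 2, 3, 4, 5, 6, 7, 3, 2, 1, 4, 3, 2, 5, 8, 7, 3, 2, 1, 4, 3, 2, 5, 6, 7, 3, 8, 9, 6, 5]), 901, 0),
    ((0, [1, 2, 3, 4, 5, 6, 7, 3, 2, 1, 4, 3, 2, 5, 8, 7, 3, 2, 1, 0, 4, 3, 2, 1, 5, 6, 7, 8, 9, 6]), 1001, 0),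
    ((0, [1, 2, 3, 4, 5, 6, 7, 3, 2, 1, 4, 3, 2, 5, 8, 7, 3, 2, 1, 0, 4, 3, 2, 5, 6, 7, 3, 8, 9, 6]), 1001, 0),
    ((0, [1, 2, 3, 4, 5, 6, 7, 3, 2, 1, 4, 3, 2, 5, 4, 8, 7, 3, 2, 1, 0, 4, 3, 2, 5, 6, 7, 8, 9, 6]), 1001, 0),
    ((0, [1, 2, 3, 4, 5, 6, 7, 3, 2, 1, 4, 3, 2, 5, 4, 8, 7, 3, 2, 1, 0, 4, 3, 5, 6, 7, 8, 9, 6, 5]), 1001, 0),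
    ((0, [1, 2, 3, 4, 5, 6, 7, 3, 2, 1, 4, 3, 2, 5, 8, 7, 3, 2, 1, 4, 3, 2, 5, 4, 6, 9, 6, 5, 4, 3]), 1001, 0),
    ((0, [1, 2, 3, 4, 5, 6, 7, 3, 2, 1, 4, 3, 2, 5, 8, 7, 3, 2, 1, 0, 4, 3, 2, 1, 5, 4, 6, 9, 6, 5]), 1001, 0),
    ((0, [1, 2, 3, 4, 5, 6, 7, 3, 2, 1, 4, 5, 8, 7, 3, 2, 1, 0, 4, 3, 5, 4, 7, 3, 2, 1, 8, 9, 6, 5]), 1001, 0),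
    ((0, [1, 2, 3, 4, 5, 6, 7, 3, 2, 1, 4, 3, 5, 4, 8, 7, 3, 2, 1, 4, 3, 2, 7, 3, 4, 5, 6, 8, 9, 6]), 1001, 0),
    ((0, [1, 2, 3, 4, 5, 6, 7, 3, 2, 1, 4, 3, 5, 8, 7, 3, 2, 1, 4, 3, 2, 7, 3, 4, 5, 6, 8, 9, 6, 5]), 1001, 0),
    ((0, [1, 2, 3, 4, 5, 6, 7, 3, 2, 1, 4, 5, 8, 7, 3, 2, 1, 4, 3, 2, 7, 3, 4, 5, 6, 8, 9, 6, 5, 4]), 901, 0),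
    ((0, [1, 2, 3, 4, 5, 6, 7, 3, 2, 1, 4, 3, 5, 8, 7, 3, 2, 1, 0, 4, 3, 5, 4, 7, 3, 2, 1, 9, 6, 5]), 1001, 0),
    ((0, [1, 2, 3, 4, 5, 6, 7, 3, 2, 1, 4, 3, 5, 8, 7, 3, 2, 4, 3, 5, 4, 7, 3, 2, 1, 0, 8, 9, 6, 5]), 1001, 0),
    ((0, [1, 2, 3, 4, 5, 6, 7, 3, 2, 1, 4, 3, 2, 8, 7, 3, 2, 1, 4, 3, 5, 4, 7, 3, 2, 9, 6, 5, 4, 3]), 1001, 0),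
    ((0, [1, 2, 3, 4, 5, 6, 7, 3, 2, 1, 4, 3, 2, 5, 8, 7, 3, 2, 4, 3, 5, 4, 7, 3, 2, 1, 8, 9, 6, 5]), 1001, 0),
    ((0, [1, 2, 3, 4, 5, 6, 7, 3, 2, 1, 4, 3, 2, 5, 4, 8, 7, 3, 2, 1, 4, 3, 2, 5, 4, 3, 6, 9, 6, 5]), 1001, 0),
    ((0, [1, 2, 3, 4, 5, 6, 7, 3, 2, 1, 4, 3, 2, 5, 8, 7, 3, 2, 1, 4, 3, 2, 5, 6, 7, 3, 8, 7, 9, 6]), 1001, 0),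
    ((0, [1, 2, 3, 4, 5, 6, 7, 3, 2, 1, 4, 3, 2, 5, 4, 3, 8, 7, 3, 2, 1, 4, 3, 5, 6, 7, 8, 9, 6, 5]), 1001, 0),
    ((0, [1, 2, 3, 4, 5, 6, 7, 3, 2, 1, 4, 3, 2, 5, 4, 3, 8, 7, 3, 2, 1, 4, 3, 5, 4, 7, 8, 9, 6, 5]), 1001, 0),
    ((0, [1, 2, 3, 4, 5, 6, 7, 3, 2, 1, 4, 3, 8, 7, 3, 2, 1, 4, 3, 2, 5, 4, 3, 7, 3, 2, 1, 0, 8, 9]), 1001, 0),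
    ((0, [1, 2, 3, 4, 5, 6, 7, 3, 2, 1, 4, 3, 8, 7, 3, 2, 1, 4, 3, 2, 5, 4, 3, 7, 3, 2, 1, 8, 9, 6]), 1001, 0),
    ((0, [1, 2, 3, 4, 5, 6, 7, 3, 2, 1, 4, 3, 2, 5, 8, 7, 3, 2, 4, 3, 5, 4, 7, 3, 2, 1, 0, 8, 9, 6]), 1001, 0),
    ((0, [1, 2, 3, 4, 5, 6, 7, 3, 2, 1, 4, 3, 2, 5, 8, 7, 3, 2, 1, 4, 3, 2, 7, 3, 4, 5, 6, 8, 9, 6]), 1001, 0),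
    ((0, [1, 2, 3, 4, 5, 6, 7, 3, 2, 1, 4, 5, 8, 7, 3, 2, 1, 4, 3, 2, 5, 4, 7, 3, 2, 1, 8, 9, 6, 5]), 1001, 0),
    ((0, [1, 2, 3, 4, 5, 6, 7, 3, 2, 1, 4, 5, 8, 7, 3, 2, 1, 4, 3, 5, 4, 7, 3, 2, 9, 6, 5, 4, 3, 7]), 1001, 0),
    ((0, [1, 2, 3, 4, 5, 6, 7, 3, 2, 1, 4, 5, 8, 7, 3, 2, 1, 4, 3, 5, 4, 7, 3, 2, 8, 9, 6, 5, 4, 3]), 1001, 0),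
    ((0, [1, 2, 3, 4, 5, 6, 7, 3, 2, 1, 4, 3, 5, 8, 7, 3, 2, 1, 4, 3, 5, 4, 7, 3, 2, 9, 6, 5, 4, 3]), 1001, 0),
    ((0, [1, 2, 3, 4, 5, 6, 7, 3, 2, 1, 4, 3, 5, 4, 8, 7, 3, 2, 4, 3, 5, 4, 7, 3, 2, 1, 8, 9, 6, 5]), 1001, 0),
    ((0, [1, 2, 3, 4, 5, 6, 7, 3, 2, 1, 4, 3, 5, 4, 8, 7, 3, 2, 4, 3, 5, 4, 7, 3, 2, 1, 0, 9, 6, 5]), 1001, 0),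
    ((0, [1, 2, 3, 4, 5, 6, 7, 3, 2, 1, 4, 3, 5, 8, 7, 3, 2, 1, 4, 3, 2, 5, 4, 7, 3, 2, 1, 9, 6, 5]), 1001, 0),
    ((0, [1, 2, 3, 4, 5, 6, 7, 3, 2, 4, 3, 5, 4, 8, 7, 3, 2, 1, 4, 3, 2, 5, 6, 9, 6, 5, 4, 3, 7, 8]), 1001, 0),
    ((0, [1, 2, 3, 4, 5, 6, 7, 3, 2, 1, 4, 5, 8, 7, 3, 2, 1, 4, 3, 5, 4, 7, 3, 2, 9, 6, 5, 4, 3, 2]), 1001, 0),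
    ((0, [1, 2, 3, 4, 5, 6, 7, 3, 2, 1, 4, 5, 8, 7, 3, 2, 4, 3, 5, 4, 7, 3, 2, 8, 9, 6, 5, 4, 3, 2]), 1001, 0),
    ((0, [1, 2, 3, 4, 5, 6, 7, 3, 2, 1, 4, 3, 2, 5, 4, 3, 8, 7, 3, 2, 4, 3, 5, 4, 6, 7, 8, 9, 6, 5]), 1001, 0),
    ((0, [1, 2, 3, 4, 5, 6, 7, 3, 2, 1, 4, 3, 2, 5, 4, 3, 8, 7, 3, 2, 4, 3, 5, 4, 7, 3, 8, 9, 6, 5]), 1001, 0),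
    ((0, [1, 2, 3, 4, 5, 6, 7, 3, 2, 1, 4, 3, 2, 5, 4, 3, 8, 7, 3, 2, 4, 3, 5, 4, 7, 8, 9, 6, 5, 4]), 901, 0),
    ((0, [1, 2, 3, 4, 5, 6, 7, 3, 2, 4, 3, 5, 4, 8, 7, 3, 2, 1, 4, 3, 2, 5, 4, 9, 6, 5, 4, 3, 7, 8]), 901, 0),
    ((0, [1, 2, 3, 4, 5, 6, 7, 3, 2, 4, 3, 5, 7, 8, 7, 3, 2, 1, 4, 3, 2, 5, 7, 9, 6, 5, 4, 3, 7, 8]), 901, 0),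
    ((0, [1, 2, 3, 4, 5, 6, 7, 3, 2, 4, 3, 5, 4, 8, 7, 3, 2, 1, 4, 3, 2, 7, 9, 6, 5, 4, 3, 2, 7, 8]), 1001, 0),
    ((0, [1, 2, 3, 4, 5, 6, 7, 3, 2, 4, 3, 5, 4, 8, 7, 3, 2, 1, 0, 4, 3, 2, 7, 9, 6, 5, 4, 3, 7, 8]), 901, 0),
    ((0, [1, 2, 3, 4, 5, 6, 7, 3, 2, 4, 3, 5, 7, 8, 7, 3, 2, 1, 0, 4, 3, 2, 5, 9, 6, 5, 4, 3, 7, 8]), 901, 0),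
    ((0, [1, 2, 3, 4, 5, 6, 7, 3, 2, 4, 3, 5, 4, 8, 7, 3, 2, 1, 0, 4, 3, 2, 1, 9, 6, 5, 4, 3, 7, 8]), 1001, 0),
    ((0, [1, 2, 3, 4, 5, 6, 7, 3, 2, 1, 4, 3, 2, 5, 8, 7, 3, 2, 1, 0, 4, 3, 2, 9, 6, 5, 4, 3, 7, 8]), 1001, 0),
    ((0, [1, 2, 3, 4, 5, 6, 7, 3, 2, 4, 3, 5, 7, 8, 7, 3, 2, 1, 4, 3, 2, 5, 4, 9, 6, 5, 4, 3, 7, 8]), 901, 0),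
    ((0, [1, 2, 3, 4, 5, 6, 7, 3, 2, 4, 3, 5, 7, 8, 7, 3, 2, 1, 4, 3, 2, 5, 6, 9, 6, 5, 4, 3, 7, 8]), 1001, 0),
    ((0, [1, 2, 3, 4, 5, 6, 7, 3, 2, 4, 3, 5, 8, 7, 3, 2, 1, 4, 3, 2, 5, 4, 3, 9, 6, 5, 4, 3, 7, 8]), 1001, 0),
    ((0, [1, 2, 3, 4, 5, 6, 7, 3, 2, 1, 4, 3, 5, 8, 7, 3, 2, 1, 4, 3, 2, 5, 6, 9, 6, 5, 4, 3, 7, 8]), 1001, 0),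
    ((0, [1, 2, 3, 4, 5, 6, 7, 3, 2, 1, 4, 3, 5, 8, 7, 3, 2, 1, 4, 3, 2, 5, 4, 9, 6, 5, 4, 3, 7, 8]), 1001, 0),
    ((0, [1, 2, 3, 4, 5, 6, 7, 3, 2, 1, 4, 3, 2, 5, 8, 7, 3, 2, 1, 4, 3, 2, 5, 9, 6, 5, 4, 3, 7, 8]), 1001, 0),
    ((0, [1, 2, 3, 4, 5, 6, 7, 3, 2, 1, 4, 3, 2, 5, 8, 7, 3, 2, 1, 4, 3, 2, 7, 9, 6, 5, 4, 3, 7, 8]), 901, 0),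
    ((0, [1, 2, 3, 4, 5, 6, 7, 3, 2, 1, 4, 3, 5, 4, 8, 7, 3, 2, 1, 4, 3, 7, 8, 9, 6, 5, 4, 3, 2, 1]), 1001, 0),
    ((0, [1, 2, 3, 4, 5, 6, 7, 3, 2, 1, 4, 8, 7, 3, 2, 1, 4, 3, 5, 4, 7, 3, 2, 9, 6, 5, 4, 3, 7, 8]), 1001, 0),
    ((0, [1, 2, 3, 4, 5, 6, 7, 3, 2, 1, 4, 3, 5, 4, 8, 7, 3, 2, 4, 3, 7, 8, 9, 6, 5, 4, 3, 2, 1, 0]), 1001, 0),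
    ((0, [1, 2, 3, 4, 5, 6, 7, 3, 2, 1, 4, 3, 5, 4, 8, 7, 3, 2, 4, 3, 7, 8, 9, 6, 5, 4, 3, 2, 1, 7]), 1001, 0),
    ((0, [1, 2, 3, 4, 5, 6, 7, 3, 2, 4, 3, 5, 7, 8, 7, 3, 2, 1, 4, 3, 2, 7, 9, 6, 5, 4, 3, 2, 7, 8]), 901, 0),
    ((0, [1, 2, 3, 4, 5, 6, 7, 3, 2, 1, 4, 3, 2, 5, 8, 7, 3, 2, 1, 4, 3, 7, 8, 9, 6, 5, 4, 3, 2, 1]), 1001, 0),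
    ((0, [1, 2, 3, 4, 5, 6, 7, 3, 2, 1, 4, 3, 2, 5, 8, 7, 3, 2, 4, 3, 5, 7, 8, 9, 6, 5, 4, 3, 2, 1]), 1001, 0),
    ((0, [1, 2, 3, 4, 5, 6, 7, 3, 2, 1, 4, 3, 2, 5, 8, 7, 3, 2, 4, 3, 5, 4, 7, 9, 6, 5, 4, 3, 2, 1]), 1001, 0),
    ((0, [1, 2, 3, 4, 5, 6, 7, 3, 2, 1, 4, 3, 5, 8, 7, 3, 2, 4, 3, 5, 4, 7, 8, 9, 6, 5, 4, 3, 2, 1]), 1001, 0),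
    ((0, [1, 2, 3, 4, 5, 6, 7, 3, 2, 1, 4, 3, 5, 8, 7, 3, 2, 4, 3, 5, 4, 6, 7, 9, 6, 5, 4, 3, 2, 1]), 1001, 0),
    ((0, [1, 2, 3, 4, 5, 6, 7, 3, 2, 1, 4, 5, 8, 7, 3, 2, 1, 4, 3, 5, 4, 7, 8, 9, 6, 5, 4, 3, 2, 1]), 1001, 0),
    ((0, [1, 2, 3, 4, 5, 6, 7, 3, 2, 1, 4, 5, 8, 7, 3, 2, 1, 4, 3, 2, 5, 7, 9, 6, 5, 4, 3, 2, 1, 0]), 1001, 0),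
    ((0, [1, 2, 3, 4, 5, 6, 7, 3, 2, 1, 4, 5, 8, 7, 3, 2, 1, 4, 3, 2, 7, 8, 9, 6, 5, 4, 3, 2, 1, 0]), 1001, 0),
    ((0, [1, 2, 3, 4, 5, 6, 7, 3, 2, 1, 4, 5, 8, 7, 3, 2, 1, 0, 4, 3, 5, 7, 8, 9, 6, 5, 4, 3, 2, 1]), 901, 0),
    ((0, [1, 2, 3, 4, 5, 6, 7, 3, 2, 1, 4, 5, 8, 7, 3, 2, 1, 0, 4, 3, 5, 4, 7, 9, 6, 5, 4, 3, 2, 1]), 1001, 0),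
    ((0, [1, 2, 3, 4, 5, 6, 7, 3, 2, 1, 4, 5, 8, 7, 3, 2, 1, 0, 4, 3, 7, 8, 9, 6, 5, 4, 3, 2, 7, 3]), 1001, 0),
    ((0, [1, 2, 3, 4, 5, 6, 7, 3, 2, 1, 4, 3, 5, 7, 8, 7, 3, 2, 4, 3, 5, 4, 7, 9, 6, 5, 4, 3, 2, 1]), 1001, 0),
    ((0, [1, 2, 3, 4, 5, 6, 7, 3, 2, 1, 4, 5, 8, 7, 3, 2, 1, 4, 3, 2, 7, 8, 9, 6, 5, 4, 3, 2, 7, 3]), 1001, 0),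
    ((0, [1, 2, 3, 4, 5, 6, 7, 3, 2, 1, 4, 5, 8, 7, 3, 2, 1, 4, 3, 5, 7, 8, 9, 6, 5, 4, 3, 2, 1, 0]), 1001, 0),
    ((0, [1, 2, 3, 4, 5, 6, 7, 3, 2, 1, 4, 5, 8, 7, 3, 2, 1, 4, 3, 7, 8, 9, 6, 5, 4, 3, 2, 1, 7, 3]), 1001, 0),
    ((0, [1, 2, 3, 4, 5, 6, 7, 3, 2, 1, 4, 5, 8, 7, 3, 2, 1, 4, 3, 5, 7, 8, 9, 6, 5, 4, 3, 2, 7, 3]), 1001, 0),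
    ((0, [1, 2, 3, 4, 5, 6, 7, 3, 2, 1, 4, 5, 8, 7, 3, 2, 1, 0, 4, 3, 7, 8, 9, 6, 5, 4, 3, 2, 1, 0]), 1001, 0),
    ((0, [1, 2, 3, 4, 5, 6, 7, 3, 2, 1, 4, 3, 5, 7, 8, 7, 3, 2, 4, 3, 7, 8, 9, 6, 5, 4, 3, 2, 1, 0]), 1001, 0),
    ((0, [1, 2, 3, 4, 5, 6, 7, 3, 2, 1, 4, 5, 8, 7, 3, 2, 1, 4, 3, 2, 5, 4, 7, 3, 2, 1, 4, 9, 6, 5]), 1001, 0),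
    ((0, [1, 2, 3, 4, 5, 6, 7, 3, 2, 1, 4, 3, 5, 8, 7, 3, 2, 1, 4, 3, 7, 8, 9, 6, 5, 4, 3, 2, 7, 3]), 1001, 0),
    ((0, [1, 2, 3, 4, 5, 6, 7, 3, 2, 1, 4, 3, 2, 5, 8, 7, 3, 2, 4, 3, 7, 8, 9, 6, 5, 4, 3, 2, 1, 7]), 1001, 0),
    ((0, [1, 2, 3, 4, 5, 6, 7, 3, 2, 1, 4, 3, 2, 5, 8, 7, 3, 2, 1, 0, 4, 3, 2, 5, 7, 3, 4, 9, 6, 5]), 1001, 0),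
    ((0, [1, 2, 3, 4, 5, 6, 7, 3, 2, 1, 4, 3, 5, 4, 8, 7, 3, 2, 1, 4, 3, 5, 4, 7, 3, 2, 8, 7, 3, 9]), 1001, 0),
    ((0, [1, 2, 3, 4, 5, 6, 7, 3, 2, 1, 4, 3, 2, 5, 8, 7, 3, 2, 1, 4, 3, 2, 5, 7, 3, 4, 8, 9, 6, 5]), 1001, 0),
    ((0, [1, 2, 3, 4, 5, 6, 7, 3, 2, 1, 4, 5, 8, 7, 3, 2, 4, 3, 5, 6, 7, 8, 9, 6, 5, 4, 3, 2, 1, 0]), 1001, 0),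
    ((0, [1, 2, 3, 4, 5, 6, 7, 3, 2, 1, 4, 5, 8, 7, 3, 2, 4, 3, 5, 4, 7, 8, 9, 6, 5, 4, 3, 2, 1, 0]), 1001, 0),
    ((0, [1, 2, 3, 4, 5, 6, 7, 3, 2, 1, 4, 5, 8, 7, 3, 2, 4, 3, 5, 7, 8, 9, 6, 5, 4, 3, 2, 1, 0, 7]), 1001, 0)]

/-- Part 31 of the cycles. -/
def reps31 : List ((Nat × List Nat) × Nat × Nat) :=
  [
    ((0, [1, 2, 3, 4, 5, 6, 7, 3, 2, 1, 4, 3, 5, 4, 7, 3, 8, 7, 3, 2, 4, 3, 5, 4, 6, 9, 6, 5, 4, 3, 2]), 1001, 0),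
    ((0, [1, 2, 3, 4, 5, 6, 7, 3, 2, 1, 4, 3, 5, 4, 7, 8, 7, 3, 2, 1, 4, 3, 5, 4, 6, 9, 6, 5, 4, 3, 7]), 1001, 0),
    ((0, [1, 2, 3, 4, 5, 6, 7, 3, 2, 1, 4, 3, 5, 4, 7, 8, 7, 3, 2, 1, 4, 3, 5, 4, 6, 9, 6, 5, 4, 3, 2]), 1001, 0),
    ((0, [1, 2, 3, 4, 5, 6, 7, 3, 2, 1, 4, 3, 2, 5, 4, 8, 7, 3, 2, 1, 4, 3, 5, 4, 6, 9, 6, 5, 4, 3, 7]), 1001, 0),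
    ((0, [1, 2, 3, 4, 5, 6, 7, 3, 2, 1, 4, 5, 8, 7, 3, 2, 1, 4, 3, 2, 5, 6, 7, 3, 4, 9, 6, 5, 4, 3, 7]), 1001, 0),
    ((0, [1, 2, 3, 4, 5, 6, 7, 3, 2, 1, 4, 3, 5, 4, 7, 8, 7, 3, 2, 4, 3, 5, 4, 6, 9, 6, 5, 4, 3, 7, 8]), 1001, 0),
    ((0, [1, 2, 3, 4, 5, 6, 7, 3, 2, 1, 4, 3, 2, 5, 4, 7, 8, 7, 3, 2, 1, 4, 3, 5, 4, 9, 6, 5, 4, 3, 7]), 1001, 0),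
    ((0, [1, 2, 3, 4, 5, 6, 7, 3, 2, 1, 4, 5, 8, 7, 3, 2, 1, 4, 3, 2, 5, 7, 3, 4, 9, 6, 5, 4, 3, 7, 8]), 1001, 0),
    ((0, [1, 2, 3, 4, 5, 6, 7, 3, 2, 1, 4, 3, 2, 5, 4, 8, 7, 3, 2, 1, 4, 3, 5, 4, 6, 9, 6, 5, 4, 3, 2]), 1001, 0),
    ((0, [1, 2, 3, 4, 5, 6, 7, 3, 2, 1, 4, 3, 5, 4, 7, 8, 7, 3, 2, 1, 4, 3, 2, 5, 4, 9, 6, 5, 4, 3, 2]), 1001, 0),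
    ((0, [1, 2, 3, 4, 5, 6, 7, 3, 2, 1, 4, 3, 5, 4, 8, 7, 3, 2, 1, 4, 3, 2, 5, 4, 6, 9, 6, 5, 4, 3, 2]), 1001, 0),
    ((0, [1, 2, 3, 4, 5, 6, 7, 3, 2, 1, 4, 3, 2, 5, 4, 7, 8, 7, 3, 2, 4, 3, 5, 4, 9, 6, 5, 4, 3, 7, 8]), 1001, 0),
    ((0, [1, 2, 3, 4, 5, 6, 7, 3, 2, 1, 4, 3, 2, 5, 4, 8, 7, 3, 2, 4, 3, 5, 4, 6, 9, 6, 5, 4, 3, 7, 8]), 1001, 0),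
    ((0, [1, 2, 3, 4, 5, 6, 7, 3, 2, 1, 4, 3, 2, 5, 4, 8, 7, 3, 2, 4, 3, 5, 4, 6, 7, 9, 6, 5, 4, 3, 7]), 1001, 0),
    ((0, [1, 2, 3, 4, 5, 6, 7, 3, 2, 1, 4, 5, 8, 7, 3, 2, 1, 4, 3, 2, 5, 7, 3, 4, 5, 9, 6, 5, 4, 3, 7]), 1001, 0),
    ((0, [1, 2, 3, 4, 5, 6, 7, 3, 2, 1, 4, 3, 2, 5, 4, 7, 8, 7, 3, 2, 4, 3, 5, 4, 7, 9, 6, 5, 4, 3, 7]), 1001, 0),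
    ((0, [1, 2, 3, 4, 5, 6, 7, 3, 2, 1, 4, 3, 2, 5, 4, 8, 7, 3, 2, 1, 4, 3, 2, 5, 4, 9, 6, 5, 4, 3, 2]), 1001, 0),
    ((0, [1, 2, 3, 4, 5, 6, 7, 3, 2, 1, 4, 3, 8, 7, 3, 2, 1, 4, 3, 5, 4, 7, 3, 2, 1, 9, 6, 5, 4, 3, 2]), 1001, 0),
    ((0, [1, 2, 3, 4, 5, 6, 7, 3, 2, 1, 4, 3, 5, 4, 7, 3, 8, 7, 3, 2, 4, 3, 5, 4, 6, 7, 8, 9, 6, 5, 4]), 1001, 0),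
    ((0, [1, 2, 3, 4, 5, 6, 7, 3, 2, 1, 4, 3, 5, 4, 8, 7, 3, 2, 1, 4, 3, 2, 5, 7, 3, 4, 8, 9, 6, 5, 4]), 1001, 0),
    ((0, [1, 2, 3, 4, 5, 6, 7, 3, 2, 1, 4, 3, 5, 4, 7, 8, 7, 3, 2, 1, 4, 3, 5, 4, 7, 8, 9, 6, 5, 4, 3]), 1001, 0),
    ((0, [1, 2, 3, 4, 5, 6, 7, 3, 2, 1, 4, 3, 5, 4, 7, 8, 7, 3, 2, 1, 4, 3, 5, 4, 6, 7, 8, 9, 6, 5, 4]), 1001, 0),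
    ((0, [1, 2, 3, 4, 5, 6, 7, 3, 2, 1, 4, 3, 5, 4, 8, 7, 3, 2, 1, 0, 4, 3, 5, 4, 6, 7, 8, 9, 6, 5, 4]), 1001, 0),
    ((0, [1, 2, 3, 4, 5, 6, 7, 3, 2, 1, 4, 3, 5, 8, 7, 3, 2, 1, 4, 3, 2, 5, 6, 7, 3, 4, 8, 9, 6, 5, 4]), 1001, 0),
    ((0, [1, 2, 3, 4, 5, 6, 7, 3, 2, 1, 4, 3, 5, 4, 8, 7, 3, 2, 1, 4, 3, 2, 5, 4, 6, 7, 8, 9, 6, 5, 4]), 1001, 0),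
    ((0, [1, 2, 3, 4, 5, 6, 7, 3, 2, 4, 3, 5, 8, 7, 3, 2, 1, 4, 3, 2, 5, 4, 3, 7, 3, 4, 8, 9, 6, 5, 4]), 1001, 0),
    ((0, [1, 2, 3, 4, 5, 6, 7, 3, 2, 1, 4, 5, 8, 7, 3, 2, 1, 4, 3, 2, 5, 6, 7, 3, 4, 8, 9, 6, 5, 4, 3]), 1001, 0),
    ((0, [1, 2, 3, 4, 5, 6, 7, 3, 2, 1, 4, 3, 5, 4, 8, 7, 3, 2, 1, 0, 4, 3, 5, 4, 7, 8, 9, 6, 5, 4, 3]), 1001, 0),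
    ((0, [1, 2, 3, 4, 5, 6, 7, 3, 2, 1, 4, 3, 5, 4, 8, 7, 3, 2, 1, 4, 3, 5, 4, 6, 7, 8, 9, 6, 5, 4, 3]), 1001, 0),
    ((0, [1, 2, 3, 4, 5, 6, 7, 3, 2, 1, 4, 3, 5, 4, 8, 7, 3, 2, 1, 0, 4, 3, 2, 1, 5, 4, 7, 8, 9, 6, 5]), 1001, 0),
    ((0, [1, 2, 3, 4, 5, 6, 7, 3, 2, 1, 4, 3, 5, 4, 7, 8, 7, 3, 2, 1, 4, 3, 2, 5, 4, 6, 7, 8, 9, 6, 5]), 1001, 0),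
    ((0, [1, 2, 3, 4, 5, 6, 7, 3, 2, 1, 4, 3, 5, 4, 8, 7, 3, 2, 1, 0, 4, 3, 2, 5, 4, 6, 7, 8, 9, 6, 5]), 1001, 0),
    ((0, [1, 2, 3, 4, 5, 6, 7, 3, 2, 1, 4, 3, 5, 4, 8, 7, 3, 2, 1, 0, 4, 3, 2, 5, 4, 3, 7, 8, 9, 6, 5]), 1001, 0),
    ((0, [1, 2, 3, 4, 5, 6, 7, 3, 2, 1, 4, 3, 2, 5, 4, 7, 8, 7, 3, 2, 1, 4, 3, 2, 7, 8, 9, 6, 5, 4, 3]), 1001, 0),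
    ((0, [1, 2, 3, 4, 5, 6, 7, 3, 2, 1, 4, 3, 5, 4, 7, 8, 7, 3, 2, 1, 4, 3, 2, 5, 4, 7, 9, 6, 5, 4, 3]), 1001, 0),
    ((0, [1, 2, 3, 4, 5, 6, 7, 3, 2, 1, 4, 3, 5, 8, 7, 3, 2, 1, 4, 3, 2, 5, 7, 3, 4, 8, 9, 6, 5, 4, 3]), 1001, 0),
    ((0, [1, 2, 3, 4, 5, 6, 7, 3, 2, 1, 4, 3, 5, 7, 8, 7, 3, 2, 1, 4, 3, 2, 5, 4, 7, 8, 9, 6, 5, 4, 3]), 1001, 0),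
    ((0, [1, 2, 3, 4, 5, 6, 7, 3, 2, 1, 4, 3, 5, 4, 8, 7, 3, 2, 1, 4, 3, 2, 5, 7, 3, 4, 9, 6, 5, 4, 3]), 1001, 0),
    ((0, [1, 2, 3, 4, 5, 6, 7, 3, 2, 1, 4, 3, 5, 8, 7, 3, 2, 1, 4, 3, 2, 5, 6, 7, 3, 4, 9, 6, 5, 4, 3]), 1001, 0),
    ((0, [1, 2, 3, 4, 5, 6, 7, 3, 2, 1, 4, 3, 5, 7, 8, 7, 3, 2, 1, 4, 3, 2, 5, 4, 6, 7, 9, 6, 5, 4, 3]), 1001, 0),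
    ((0, [1, 2, 3, 4, 5, 6, 7, 3, 2, 1, 4, 3, 5, 4, 8, 7, 3, 2, 1, 4, 3, 2, 5, 4, 7, 8, 9, 6, 5, 4, 3]), 1001, 0),
    ((0, [1, 2, 3, 4, 5, 6, 7, 3, 2, 1, 4, 3, 5, 4, 8, 7, 3, 2, 1, 4, 3, 2, 5, 4, 6, 7, 9, 6, 5, 4, 3]), 1001, 0),
    ((0, [1, 2, 3, 4, 5, 6, 7, 3, 2, 1, 4, 3, 5, 8, 7, 3, 2, 1, 4, 3, 2, 5, 4, 6, 7, 8, 9, 6, 5, 4, 3]), 1001, 0),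
    ((0, [1, 2, 3, 4, 5, 6, 7, 3, 2, 4, 3, 5, 8, 7, 3, 2, 1, 4, 3, 2, 5, 4, 3, 7, 3, 4, 9, 6, 5, 4, 3]), 1001, 0),
    ((0, [1, 2, 3, 4, 5, 6, 7, 3, 2, 1, 4, 3, 5, 4, 7, 8, 7, 3, 2, 1, 4, 3, 2, 5, 4, 7, 3, 8, 9, 6, 5]), 1001, 0),
    ((0, [1, 2, 3, 4, 5, 6, 7, 3, 2, 1, 4, 3, 5, 4, 8, 7, 3, 2, 1, 4, 3, 2, 5, 4, 7, 3, 4, 8, 9, 6, 5]), 1001, 0),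
    ((0, [1, 2, 3, 4, 5, 6, 7, 3, 2, 1, 4, 3, 5, 4, 7, 8, 7, 3, 2, 1, 4, 3, 2, 5, 4, 6, 7, 3, 9, 6, 5]), 1001, 0),
    ((0, [1, 2, 3, 4, 5, 6, 7, 3, 2, 1, 4, 3, 5, 8, 7, 3, 2, 1, 4, 3, 2, 5, 4, 6, 7, 3, 4, 8, 9, 6, 5]), 1001, 0),
    ((0, [1, 2, 3, 4, 5, 6, 7, 3, 2, 1, 4, 3, 5, 7, 8, 7, 3, 2, 1, 4, 3, 2, 5, 4, 6, 7, 3, 8, 9, 6, 5]), 1001, 0),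
    ((0, [1, 2, 3, 4, 5, 6, 7, 3, 2, 1, 4, 3, 5, 4, 8, 7, 3, 2, 1, 0, 4, 3, 2, 5, 4, 3, 7, 3, 9, 6, 5]), 1001, 0),
    ((0, [1, 2, 3, 4, 5, 6, 7, 3, 2, 1, 4, 3, 5, 4, 8, 7, 3, 2, 1, 0, 4, 3, 5, 4, 6, 7, 3, 8, 9, 6, 5]), 1001, 0),
    ((0, [1, 2, 3, 4, 5, 6, 7, 3, 2, 1, 4, 3, 5, 4, 8, 7, 3, 2, 1, 0, 4, 3, 2, 5, 4, 7, 3, 8, 9, 6, 5]), 1001, 0),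
    ((0, [1, 2, 3, 4, 5, 6, 7, 3, 2, 1, 4, 3, 5, 4, 8, 7, 3, 2, 1, 0, 4, 3, 2, 1, 5, 4, 7, 3, 9, 6, 5]), 1001, 0),
    ((0, [1, 2, 3, 4, 5, 6, 7, 3, 2, 1, 4, 3, 5, 4, 8, 7, 3, 2, 1, 0, 4, 3, 2, 5, 4, 6, 7, 3, 9, 6, 5]), 1001, 0),
    ((0, [1, 2, 3, 4, 5, 6, 7, 3, 2, 1, 4, 3, 5, 4, 8, 7, 3, 2, 1, 4, 3, 2, 5, 4, 6, 7, 3, 8, 9, 6, 5]), 1001, 0),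
    ((0, [1, 2, 3, 4, 5, 6, 7, 3, 2, 1, 4, 3, 5, 8, 7, 3, 2, 1, 4, 3, 2, 5, 4, 3, 7, 3, 4, 8, 9, 6, 5]), 1001, 0),
    ((0, [1, 2, 3, 4, 5, 6, 7, 3, 2, 1, 4, 3, 5, 7, 8, 7, 3, 2, 1, 4, 3, 2, 5, 7, 3, 4, 8, 9, 6, 5, 4]), 1001, 0),
    ((0, [1, 2, 3, 4, 5, 6, 7, 3, 2, 1, 4, 3, 5, 7, 8, 7, 3, 2, 1, 0, 4, 3, 2, 5, 4, 7, 9, 6, 5, 4, 3]), 1001, 0),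
    ((0, [1, 2, 3, 4, 5, 6, 7, 3, 2, 1, 4, 3, 5, 7, 8, 7, 3, 2, 1, 4, 3, 2, 5, 7, 3, 4, 9, 6, 5, 4, 3]), 1001, 0),
    ((0, [1, 2, 3, 4, 5, 6, 7, 3, 2, 1, 4, 3, 5, 8, 7, 3, 2, 1, 0, 4, 3, 2, 5, 4, 7, 8, 9, 6, 5, 4, 3]), 1001, 0),
    ((0, [1, 2, 3, 4, 5, 6, 7, 3, 2, 1, 4, 3, 5, 4, 8, 7, 3, 2, 1, 0, 4, 3, 2, 5, 7, 3, 4, 8, 9, 6, 5]), 1001, 0),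
    ((0, [1, 2, 3, 4, 5, 6, 7, 3, 2, 1, 4, 3, 5, 7, 8, 7, 3, 2, 1, 4, 3, 2, 5, 4, 7, 3, 4, 8, 9, 6, 5]), 1001, 0),
    ((0, [1, 2, 3, 4, 5, 6, 7, 3, 2, 1, 4, 3, 5, 7, 8, 7, 3, 2, 1, 0, 4, 3, 2, 5, 4, 7, 3, 8, 9, 6, 5]), 1001, 0),
    ((0, [1, 2, 3, 4, 5, 6, 7, 3, 2, 1, 4, 3, 5, 4, 8, 7, 3, 2, 1, 0, 4, 3, 2, 5, 4, 7, 3, 4, 9, 6, 5]), 1001, 0),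
    ((0, [1, 2, 3, 4, 5, 6, 7, 3, 2, 1, 4, 3, 5, 4, 8, 7, 3, 2, 1, 4, 3, 2, 5, 4, 3, 7, 8, 9, 6, 5, 4]), 1001, 0),
    ((0, [1, 2, 3, 4, 5, 6, 7, 3, 2, 1, 4, 3, 5, 8, 7, 3, 2, 1, 4, 3, 2, 5, 4, 3, 7, 8, 9, 6, 5, 4, 3]), 1001, 0),
    ((0, [1, 2, 3, 4, 5, 6, 7, 3, 2, 1, 4, 3, 5, 7, 8, 7, 3, 2, 1, 4, 3, 2, 5, 4, 3, 7, 9, 6, 5, 4, 3]), 1001, 0),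
    ((0, [1, 2, 3, 4, 5, 6, 7, 3, 2, 1, 4, 3, 5, 4, 7, 8, 7, 3, 2, 1, 4, 3, 2, 5, 4, 3, 7, 8, 9, 6, 5]), 1001, 0),
    ((0, [1, 2, 3, 4, 5, 6, 7, 3, 2, 1, 4, 3, 5, 7, 8, 7, 3, 2, 1, 4, 3, 2, 5, 4, 3, 7, 3, 8, 9, 6, 5]), 1001, 0),
    ((0, [1, 2, 3, 4, 5, 6, 7, 3, 2, 1, 4, 3, 5, 4, 7, 8, 7, 3, 2, 1, 4, 3, 2, 5, 4, 3, 7, 3, 9, 6, 5]), 1001, 0),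
    ((0, [1, 2, 3, 4, 5, 6, 7, 3, 2, 1, 4, 3, 5, 4, 8, 7, 3, 2, 1, 4, 3, 2, 5, 4, 3, 7, 3, 8, 9, 6, 5]), 1001, 0),
    ((0, [1, 2, 3, 4, 5, 6, 7, 3, 2, 1, 4, 3, 2, 5, 4, 7, 8, 7, 3, 2, 1, 4, 3, 2, 5, 4, 7, 8, 9, 6, 5]), 1001, 0),
    ((0, [1, 2, 3, 4, 5, 6, 7, 3, 2, 1, 4, 3, 2, 5, 4, 8, 7, 3, 2, 1, 0, 4, 3, 2, 5, 4, 7, 8, 9, 6, 5]), 1001, 0),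
    ((0, [1, 2, 3, 4, 5, 6, 7, 3, 2, 1, 4, 3, 2, 5, 4, 8, 7, 3, 2, 1, 0, 4, 3, 5, 4, 7, 8, 9, 6, 5, 4]), 1001, 0),
    ((0, [1, 2, 3, 4, 5, 6, 7, 3, 2, 1, 4, 3, 2, 5, 4, 8, 7, 3, 2, 1, 4, 3, 2, 5, 4, 7, 8, 9, 6, 5, 4]), 1001, 0),
    ((0, [1, 2, 3, 4, 5, 6, 7, 3, 2, 1, 4, 3, 5, 8, 7, 3, 2, 1, 4, 3, 2, 5, 7, 3, 4, 5, 8, 9, 6, 5, 4]), 1001, 0),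
    ((0, [1, 2, 3, 4, 5, 6, 7, 3, 2, 1, 4, 3, 2, 5, 4, 7, 8, 7, 3, 2, 1, 4, 3, 5, 4, 7, 8, 9, 6, 5, 4]), 1001, 0),
    ((0, [1, 2, 3, 4, 5, 6, 7, 3, 2, 1, 4, 3, 2, 5, 4, 7, 8, 7, 3, 2, 1, 4, 3, 5, 4, 7, 3, 8, 9, 6, 5]), 1001, 0),
    ((0, [1, 2, 3, 4, 5, 6, 7, 3, 2, 1, 4, 3, 2, 5, 4, 8, 7, 3, 2, 1, 0, 4, 3, 5, 4, 7, 3, 8, 9, 6, 5]), 1001, 0),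
    ((0, [1, 2, 3, 4, 5, 6, 7, 3, 2, 1, 4, 3, 2, 5, 4, 8, 7, 3, 2, 1, 0, 4, 3, 2, 1, 5, 7, 8, 9, 6, 5]), 1001, 0),
    ((0, [1, 2, 3, 4, 5, 6, 7, 3, 2, 1, 4, 3, 5, 4, 8, 7, 3, 2, 1, 4, 3, 2, 7, 3, 4, 5, 8, 9, 6, 5, 4]), 901, 0),
    ((0, [1, 2, 3, 4, 5, 6, 7, 3, 2, 1, 4, 3, 2, 5, 4, 8, 7, 3, 2, 1, 0, 4, 3, 2, 1, 5, 4, 9, 6, 5, 4]), 1001, 0),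
    ((0, [1, 2, 3, 4, 5, 6, 7, 3, 2, 1, 4, 3, 5, 4, 8, 7, 3, 2, 1, 4, 3, 2, 5, 7, 3, 4, 5, 8, 9, 6, 5]), 1001, 0),
    ((0, [1, 2, 3, 4, 5, 6, 7, 3, 2, 1, 4, 3, 2, 5, 4, 7, 8, 7, 3, 2, 1, 4, 3, 2, 5, 7, 3, 8, 9, 6, 5]), 1001, 0),
    ((0, [1, 2, 3, 4, 5, 6, 7, 3, 2, 1, 4, 3, 2, 5, 4, 7, 8, 7, 3, 2, 1, 4, 3, 2, 5, 4, 7, 3, 9, 6, 5]), 1001, 0),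
    ((0, [1, 2, 3, 4, 5, 6, 7, 3, 2, 1, 4, 3, 5, 8, 7, 3, 2, 1, 4, 3, 2, 5, 4, 7, 3, 4, 5, 8, 9, 6, 5]), 1001, 0),
    ((0, [1, 2, 3, 4, 5, 6, 7, 3, 2, 1, 4, 3, 2, 5, 7, 8, 7, 3, 2, 1, 4, 3, 2, 5, 4, 7, 3, 8, 9, 6, 5]), 1001, 0),
    ((0, [1, 2, 3, 4, 5, 6, 7, 3, 2, 1, 4, 3, 5, 4, 8, 7, 3, 2, 1, 4, 3, 2, 5, 4, 7, 3, 4, 5, 9, 6, 5]), 1001, 0),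
    ((0, [1, 2, 3, 4, 5, 6, 7, 3, 2, 1, 4, 3, 2, 5, 4, 8, 7, 3, 2, 1, 0, 4, 3, 2, 5, 4, 7, 3, 9, 6, 5]), 1001, 0),
    ((0, [1, 2, 3, 4, 5, 6, 7, 3, 2, 1, 4, 3, 2, 5, 4, 8, 7, 3, 2, 1, 4, 3, 2, 5, 4, 7, 3, 8, 9, 6, 5]), 1001, 0),
    ((0, [1, 2, 3, 4, 5, 6, 7, 3, 2, 1, 4, 3, 2, 5, 7, 8, 7, 3, 2, 1, 0, 4, 3, 2, 5, 4, 7, 8, 9, 6, 5]), 1001, 0),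
    ((0, [1, 2, 3, 4, 5, 6, 7, 3, 2, 1, 4, 3, 2, 5, 7, 8, 7, 3, 2, 1, 0, 4, 3, 2, 1, 5, 7, 8, 9, 6, 5]), 1001, 0),
    ((0, [1, 2, 3, 4, 5, 6, 7, 3, 2, 1, 4, 3, 2, 5, 8, 7, 3, 2, 1, 0, 4, 3, 2, 1, 5, 7, 8, 9, 6, 5, 4]), 1001, 0),
    ((0, [1, 2, 3, 4, 5, 6, 7, 3, 2, 1, 4, 3, 2, 5, 8, 7, 3, 2, 1, 0, 4, 3, 2, 1, 5, 4, 7, 8, 9, 6, 5]), 1001, 0),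
    ((0, [1, 2, 3, 4, 5, 6, 7, 3, 2, 1, 4, 3, 2, 5, 7, 8, 7, 3, 2, 1, 4, 3, 2, 7, 3, 4, 5, 8, 9, 6, 5]), 1001, 0),
    ((0, [1, 2, 3, 4, 5, 6, 7, 3, 2, 1, 4, 3, 2, 5, 8, 7, 3, 2, 1, 0, 4, 3, 2, 5, 4, 7, 3, 8, 9, 6, 5]), 1001, 0),
    ((0, [1, 2, 3, 4, 5, 6, 7, 3, 2, 1, 4, 3, 2, 5, 4, 8, 7, 3, 2, 1, 4, 3, 5, 4, 7, 8, 9, 6, 5, 4, 3]), 1001, 0),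
    ((0, [1, 2, 3, 4, 5, 6, 7, 3, 2, 1, 4, 3, 2, 5, 8, 7, 3, 2, 1, 4, 3, 2, 5, 4, 7, 8, 9, 6, 5, 4, 3]), 1001, 0),
    ((0, [1, 2, 3, 4, 5, 6, 7, 3, 2, 1, 4, 3, 2, 5, 8, 7, 3, 2, 1, 0, 4, 3, 2, 5, 7, 8, 9, 6, 5, 4, 3]), 1001, 0),
    ((0, [1, 2, 3, 4, 5, 6, 7, 3, 2, 1, 4, 3, 2, 5, 7, 8, 7, 3, 2, 1, 4, 3, 2, 5, 7, 8, 9, 6, 5, 4, 3]), 1001, 0),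
    ((0, [1, 2, 3, 4, 5, 6, 7, 3, 2, 1, 4, 3, 5, 8, 7, 3, 2, 1, 4, 3, 2, 5, 7, 3, 4, 5, 9, 6, 5, 4, 3]), 1001, 0),
    ((0, [1, 2, 3, 4, 5, 6, 7, 3, 2, 1, 4, 3, 2, 5, 7, 8, 7, 3, 2, 1, 4, 3, 2, 5, 4, 7, 9, 6, 5, 4, 3]), 1001, 0),
    ((0, [1, 2, 3, 4, 5, 6, 7, 3, 2, 1, 4, 5, 8, 7, 3, 2, 1, 4, 3, 2, 5, 7, 3, 4, 5, 8, 9, 6, 5, 4, 3]), 1001, 0),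
    ((0, [1, 2, 3, 4, 5, 6, 7, 3, 2, 1, 4, 3, 2, 5, 4, 7, 8, 7, 3, 2, 4, 3, 5, 4, 7, 8, 9, 6, 5, 4, 3]), 1001, 0),
    ((0, [1, 2, 3, 4, 5, 6, 7, 3, 2, 1, 4, 3, 5, 8, 7, 3, 2, 1, 4, 3, 2, 5, 7, 3, 4, 9, 6, 5, 4, 3, 7]), 1001, 0),
    ((0, [1, 2, 3, 4, 5, 6, 7, 3, 2, 1, 4, 3, 5, 7, 8, 7, 3, 2, 1, 4, 3, 2, 5, 4, 7, 9, 6, 5, 4, 3, 7]), 1001, 0),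
    ((0, [1, 2, 3, 4, 5, 6, 7, 3, 2, 1, 4, 3, 2, 5, 7, 8, 7, 3, 2, 1, 0, 4, 3, 2, 1, 9, 6, 5, 4, 3, 7]), 1001, 0),
    ((0, [1, 2, 3, 4, 5, 6, 7, 3, 2, 1, 4, 3, 5, 8, 7, 3, 2, 1, 4, 3, 2, 5, 4, 3, 7, 9, 6, 5, 4, 3, 7]), 1001, 0),
    ((0, [1, 2, 3, 4, 5, 6, 7, 3, 2, 1, 4, 3, 2, 5, 7, 8, 7, 3, 2, 1, 4, 3, 2, 5, 7, 9, 6, 5, 4, 3, 7]), 1001, 0),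
    ((0, [1, 2, 3, 4, 5, 6, 7, 3, 2, 1, 4, 3, 5, 4, 8, 7, 3, 2, 4, 3, 5, 4, 7, 8, 9, 6, 5, 4, 3, 7, 8]), 1001, 0),
    ((0, [1, 2, 3, 4, 5, 6, 7, 3, 2, 1, 4, 5, 8, 7, 3, 2, 1, 4, 3, 2, 5, 7, 3, 8, 9, 6, 5, 4, 3, 7, 8]), 901, 0),
    ((0, [1, 2, 3, 4, 5, 6, 7, 3, 2, 1, 4, 3, 2, 5, 8, 7, 3, 2, 1, 0, 4, 3, 2, 1, 5, 9, 6, 5, 4, 3, 7]), 1001, 0),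
    ((0, [1, 2, 3, 4, 5, 6, 7, 3, 2, 1, 4, 3, 5, 4, 8, 7, 3, 2, 1, 4, 3, 2, 5, 4, 7, 9, 6, 5, 4, 3, 7]), 1001, 0),
    ((0, [1, 2, 3, 4, 5, 6, 7, 3, 2, 1, 4, 3, 2, 5, 8, 7, 3, 2, 1, 4, 3, 2, 5, 4, 7, 9, 6, 5, 4, 3, 7]), 1001, 0),
    ((0, [1, 2, 3, 4, 5, 6, 7, 3, 2, 1, 4, 3, 5, 4, 8, 7, 3, 2, 1, 4, 3, 5, 4, 7, 9, 6, 5, 4, 3, 2, 1]), 1001, 0),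
    ((0, [1, 2, 3, 4, 5, 6, 7, 3, 2, 1, 4, 3, 5, 8, 7, 3, 2, 1, 4, 3, 2, 5, 4, 6, 7, 9, 6, 5, 4, 3, 7]), 1001, 0),
    ((0, [1, 2, 3, 4, 5, 6, 7, 3, 2, 1, 4, 3, 2, 5, 4, 8, 7, 3, 2, 1, 0, 4, 3, 5, 4, 6, 7, 9, 6, 5, 4]), 1001, 0),
    ((0, [1, 2, 3, 4, 5, 6, 7, 3, 2, 1, 4, 3, 5, 4, 8, 7, 3, 2, 4, 3, 5, 4, 7, 9, 6, 5, 4, 3, 2, 1, 7]), 1001, 0),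
    ((0, [1, 2, 3, 4, 5, 6, 7, 3, 2, 1, 4, 3, 5, 4, 8, 7, 3, 2, 4, 3, 5, 4, 7, 9, 6, 5, 4, 3, 2, 7, 8]), 1001, 0),
    ((0, [1, 2, 3, 4, 5, 6, 7, 3, 2, 1, 4, 3, 2, 5, 4, 8, 7, 3, 2, 4, 3, 5, 4, 6, 7, 9, 6, 5, 4, 3, 2]), 1001, 0)]

/-- Part 32 of the cycles. -/
def reps32 : List ((Nat × List Nat) × Nat × Nat) :=
  [
    ((0, [1, 2, 3, 4, 5, 6, 7, 3, 2, 1, 4, 3, 2, 5, 7, 3, 8, 7, 3, 2, 1, 4, 3, 2, 7, 9, 6, 5, 4, 3, 7]), 1001, 0),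
    ((0, [1, 2, 3, 4, 5, 6, 7, 3, 2, 1, 4, 5, 8, 7, 3, 2, 1, 4, 3, 2, 5, 4, 7, 9, 6, 5, 4, 3, 2, 7, 8]), 1001, 0),
    ((0, [1, 2, 3, 4, 5, 6, 7, 3, 2, 1, 4, 5, 8, 7, 3, 2, 1, 4, 3, 2, 5, 6, 7, 3, 8, 9, 6, 5, 4, 3, 2]), 901, 0),
    ((0, [1, 2, 3, 4, 5, 6, 7, 3, 2, 1, 4, 5, 8, 7, 3, 2, 1, 4, 3, 2, 5, 4, 6, 7, 8, 9, 6, 5, 4, 3, 2]), 1001, 0),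
    ((0, [1, 2, 3, 4, 5, 6, 7, 3, 2, 1, 4, 5, 8, 7, 3, 2, 1, 4, 3, 2, 5, 7, 3, 4, 8, 9, 6, 5, 4, 3, 2]), 1001, 0),
    ((0, [1, 2, 3, 4, 5, 6, 7, 3, 2, 1, 4, 5, 8, 7, 3, 2, 1, 0, 4, 3, 5, 4, 6, 7, 8, 9, 6, 5, 4, 3, 2]), 1001, 0),
    ((0, [1, 2, 3, 4, 5, 6, 7, 3, 2, 1, 4, 3, 5, 8, 7, 3, 2, 1, 4, 3, 2, 5, 7, 3, 4, 9, 6, 5, 4, 3, 2]), 1001, 0),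
    ((0, [1, 2, 3, 4, 5, 6, 7, 3, 2, 1, 4, 3, 5, 8, 7, 3, 2, 1, 4, 3, 2, 7, 3, 4, 8, 9, 6, 5, 4, 3, 2]), 1001, 0),
    ((0, [1, 2, 3, 4, 5, 6, 7, 3, 2, 1, 4, 5, 8, 7, 3, 2, 1, 4, 3, 2, 7, 3, 4, 5, 8, 9, 6, 5, 4, 3, 2]), 1001, 0),
    ((0, [1, 2, 3, 4, 5, 6, 7, 3, 2, 1, 4, 3, 5, 4, 7, 8, 7, 3, 2, 4, 3, 5, 4, 7, 8, 9, 6, 5, 4, 3, 2]), 1001, 0),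
    ((0, [1, 2, 3, 4, 5, 6, 7, 3, 2, 1, 4, 3, 5, 4, 7, 8, 7, 3, 2, 4, 3, 5, 6, 7, 8, 9, 6, 5, 4, 3, 2]), 1001, 0),
    ((0, [1, 2, 3, 4, 5, 6, 7, 3, 2, 1, 4, 3, 5, 7, 8, 7, 3, 2, 4, 3, 5, 4, 6, 7, 8, 9, 6, 5, 4, 3, 2]), 1001, 0),
    ((0, [1, 2, 3, 4, 5, 6, 7, 3, 2, 1, 4, 3, 2, 5, 4, 7, 8, 7, 3, 2, 4, 3, 5, 4, 7, 9, 6, 5, 4, 3, 2]), 1001, 0),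
    ((0, [1, 2, 3, 4, 5, 6, 7, 3, 2, 1, 4, 3, 2, 5, 7, 8, 7, 3, 2, 4, 3, 5, 4, 7, 8, 9, 6, 5, 4, 3, 2]), 1001, 0),
    ((0, [1, 2, 3, 4, 5, 6, 7, 3, 2, 1, 4, 5, 8, 7, 3, 2, 1, 4, 3, 2, 5, 4, 7, 8, 9, 6, 5, 4, 3, 7, 8]), 1001, 0),
    ((0, [1, 2, 3, 4, 5, 6, 7, 3, 2, 1, 4, 5, 8, 7, 3, 2, 1, 4, 3, 2, 5, 4, 6, 7, 8, 9, 6, 5, 4, 3, 7]), 1001, 0),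
    ((0, [1, 2, 3, 4, 5, 6, 7, 3, 2, 1, 4, 3, 5, 4, 7, 8, 7, 3, 2, 4, 3, 5, 6, 7, 8, 9, 6, 5, 4, 3, 7]), 1001, 0),
    ((0, [1, 2, 3, 4, 5, 6, 7, 3, 2, 1, 4, 3, 5, 4, 8, 7, 3, 2, 1, 4, 3, 5, 6, 7, 8, 9, 6, 5, 4, 3, 7]), 1001, 0),
    ((0, [1, 2, 3, 4, 5, 6, 7, 3, 2, 1, 4, 3, 5, 4, 8, 7, 3, 2, 4, 3, 5, 6, 7, 8, 9, 6, 5, 4, 3, 7, 8]), 1001, 0),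
    ((0, [1, 2, 3, 4, 5, 6, 7, 3, 2, 1, 4, 5, 8, 7, 3, 2, 1, 4, 3, 2, 5, 7, 3, 4, 8, 9, 6, 5, 4, 3, 7]), 1001, 0),
    ((0, [1, 2, 3, 4, 5, 6, 7, 3, 2, 1, 4, 3, 5, 4, 7, 8, 7, 3, 2, 4, 3, 5, 4, 7, 8, 9, 6, 5, 4, 3, 7]), 1001, 0),
    ((0, [1, 2, 3, 4, 5, 6, 7, 3, 2, 1, 4, 3, 5, 4, 8, 7, 3, 2, 1, 4, 3, 5, 4, 7, 8, 9, 6, 5, 4, 3, 7]), 1001, 0),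
    ((0, [1, 2, 3, 4, 5, 6, 7, 3, 2, 1, 4, 3, 5, 4, 8, 7, 3, 2, 4, 3, 5, 4, 6, 7, 8, 9, 6, 5, 4, 3, 7]), 1001, 0),
    ((0, [1, 2, 3, 4, 5, 6, 7, 3, 2, 1, 4, 3, 2, 5, 4, 8, 7, 3, 2, 4, 3, 5, 4, 7, 8, 9, 6, 5, 4, 3, 7]), 1001, 0),
    ((0, [1, 2, 3, 4, 5, 6, 7, 3, 2, 1, 4, 5, 8, 7, 3, 2, 1, 4, 3, 2, 5, 4, 7, 3, 8, 9, 6, 5, 4, 3, 2]), 1001, 0),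
    ((0, [1, 2, 3, 4, 5, 6, 7, 3, 2, 1, 4, 5, 8, 7, 3, 2, 1, 4, 3, 2, 5, 4, 6, 7, 3, 4, 8, 9, 6, 5, 4]), 1001, 0),
    ((0, [1, 2, 3, 4, 5, 6, 7, 3, 2, 1, 4, 5, 8, 7, 3, 2, 1, 4, 3, 2, 5, 4, 7, 3, 4, 5, 8, 9, 6, 5, 4]), 1001, 0),
    ((0, [1, 2, 3, 4, 5, 6, 7, 3, 2, 1, 4, 3, 5, 4, 7, 8, 7, 3, 2, 4, 3, 5, 7, 9, 6, 5, 4, 3, 2, 1, 0]), 1001, 0),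
    ((0, [1, 2, 3, 4, 5, 6, 7, 3, 2, 1, 4, 3, 5, 4, 7, 8, 7, 3, 2, 4, 3, 5, 4, 7, 9, 6, 5, 4, 3, 2, 1]), 1001, 0),
    ((0, [1, 2, 3, 4, 5, 6, 7, 3, 2, 1, 4, 3, 5, 4, 7, 8, 7, 3, 2, 4, 3, 7, 9, 6, 5, 4, 3, 2, 1, 7, 8]), 1001, 0),
    ((0, [1, 2, 3, 4, 5, 6, 7, 3, 2, 1, 4, 3, 5, 4, 7, 8, 7, 3, 2, 4, 3, 7, 8, 9, 6, 5, 4, 3, 2, 1, 0]), 1001, 0),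
    ((0, [1, 2, 3, 4, 5, 6, 7, 3, 2, 1, 4, 3, 2, 8, 7, 3, 2, 4, 3, 5, 4, 7, 3, 2, 1, 9, 6, 5, 4, 3, 7]), 1001, 0),
    ((0, [1, 2, 3, 4, 5, 6, 7, 3, 2, 1, 4, 5, 8, 7, 3, 2, 1, 4, 3, 2, 5, 6, 7, 3, 4, 5, 9, 6, 5, 4, 3]), 1001, 0),
    ((0, [1, 2, 3, 4, 5, 6, 7, 3, 2, 1, 4, 3, 5, 4, 8, 7, 3, 2, 1, 4, 3, 5, 4, 6, 5, 9, 6, 5, 4, 3, 7]), 1001, 0),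
    ((0, [1, 2, 3, 4, 5, 6, 7, 3, 2, 1, 4, 3, 5, 4, 8, 7, 3, 2, 4, 3, 5, 4, 6, 5, 9, 6, 5, 4, 3, 7, 8]), 1001, 0),
    ((0, [1, 2, 3, 4, 5, 6, 7, 3, 2, 1, 4, 5, 8, 7, 3, 2, 1, 4, 3, 2, 5, 6, 7, 3, 4, 5, 8, 9, 6, 5, 4]), 1001, 0),
    ((0, [1, 2, 3, 4, 5, 6, 7, 3, 2, 1, 4, 3, 5, 8, 7, 3, 2, 1, 4, 3, 2, 5, 6, 7, 3, 4, 5, 8, 9, 6, 5]), 1001, 0),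
    ((0, [1, 2, 3, 4, 5, 6, 7, 3, 2, 1, 4, 3, 5, 4, 8, 7, 3, 2, 1, 4, 3, 5, 4, 6, 5, 7, 8, 9, 6, 5, 4]), 1001, 0),
    ((0, [1, 2, 3, 4, 5, 6, 7, 3, 2, 1, 4, 3, 5, 4, 8, 7, 3, 2, 1, 0, 4, 3, 5, 4, 6, 5, 7, 8, 9, 6, 5]), 1001, 0),
    ((0, [1, 2, 3, 4, 5, 6, 7, 3, 2, 1, 4, 3, 5, 4, 8, 7, 3, 2, 1, 0, 4, 3, 2, 5, 4, 6, 5, 7, 8, 9, 6]), 1001, 0),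
    ((0, [1, 2, 3, 4, 5, 6, 7, 3, 2, 1, 4, 3, 2, 5, 4, 8, 7, 3, 2, 4, 3, 5, 4, 6, 7, 3, 2, 8, 9, 6, 5]), 1001, 0),
    ((0, [1, 2, 3, 4, 5, 6, 7, 3, 2, 1, 4, 5, 8, 7, 3, 2, 1, 4, 3, 2, 5, 4, 6, 7, 3, 4, 5, 8, 9, 6, 5]), 1001, 0),
    ((0, [1, 2, 3, 4, 5, 6, 7, 3, 2, 1, 4, 3, 2, 5, 4, 8, 7, 3, 2, 1, 0, 4, 3, 2, 5, 4, 3, 9, 6, 5, 4]), 1001, 0),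
    ((0, [1, 2, 3, 4, 5, 6, 7, 3, 2, 4, 3, 5, 8, 7, 3, 2, 1, 4, 3, 2, 5, 4, 3, 7, 3, 4, 5, 8, 9, 6, 5]), 1001, 0),
    ((0, [1, 2, 3, 4, 5, 6, 7, 3, 2, 1, 4, 3, 2, 5, 4, 8, 7, 3, 2, 1, 0, 4, 3, 2, 5, 4, 3, 7, 8, 9, 6]), 1001, 0),
    ((0, [1, 2, 3, 4, 5, 6, 7, 3, 2, 1, 4, 3, 5, 8, 7, 3, 2, 1, 4, 3, 2, 5, 4, 6, 7, 3, 4, 5, 9, 6, 5]), 1001, 0),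
    ((0, [1, 2, 3, 4, 5, 6, 7, 3, 2, 1, 4, 3, 2, 5, 8, 7, 3, 2, 1, 0, 4, 3, 2, 5, 4, 3, 7, 3, 9, 6, 5]), 1001, 0),
    ((0, [1, 2, 3, 4, 5, 6, 7, 3, 2, 1, 4, 3, 2, 5, 8, 7, 3, 2, 1, 0, 4, 3, 2, 5, 4, 3, 7, 3, 8, 9, 6]), 1001, 0),
    ((0, [1, 2, 3, 4, 5, 6, 7, 3, 2, 1, 4, 3, 2, 5, 4, 8, 7, 3, 2, 1, 0, 4, 3, 5, 4, 6, 5, 9, 6, 5, 4]), 1001, 0),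
    ((0, [1, 2, 3, 4, 5, 6, 7, 3, 2, 1, 4, 3, 5, 7, 8, 7, 3, 2, 1, 4, 3, 5, 4, 7, 3, 2, 9, 6, 5, 4, 3]), 1001, 0),
    ((0, [1, 2, 3, 4, 5, 6, 7, 3, 2, 1, 4, 3, 5, 4, 8, 7, 3, 2, 1, 4, 3, 2, 5, 4, 6, 5, 7, 3, 9, 6, 5]), 1001, 0),
    ((0, [1, 2, 3, 4, 5, 6, 7, 3, 2, 1, 4, 3, 5, 7, 8, 7, 3, 2, 1, 4, 3, 2, 5, 4, 7, 3, 2, 8, 9, 6, 5]), 1001, 0),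
    ((0, [1, 2, 3, 4, 5, 6, 7, 3, 2, 1, 4, 3, 2, 5, 7, 8, 7, 3, 2, 1, 4, 3, 2, 5, 4, 3, 7, 8, 9, 6, 5]), 1001, 0),
    ((0, [1, 2, 3, 4, 5, 6, 7, 3, 2, 1, 4, 3, 2, 5, 4, 8, 7, 3, 2, 1, 4, 3, 2, 5, 4, 3, 7, 8, 9, 6, 5]), 1001, 0),
    ((0, [1, 2, 3, 4, 5, 6, 7, 3, 2, 1, 4, 3, 2, 5, 8, 7, 3, 2, 1, 4, 3, 2, 5, 4, 3, 7, 9, 6, 5, 4, 3]), 1001, 0),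
    ((0, [1, 2, 3, 4, 5, 6, 7, 3, 2, 1, 4, 3, 2, 5, 8, 7, 3, 2, 1, 4, 3, 2, 5, 4, 3, 7, 3, 8, 9, 6, 5]), 1001, 0),
    ((0, [1, 2, 3, 4, 5, 6, 7, 3, 2, 1, 4, 3, 2, 5, 4, 8, 7, 3, 2, 1, 4, 3, 2, 5, 4, 3, 7, 3, 9, 6, 5]), 1001, 0),
    ((0, [1, 2, 3, 4, 5, 6, 7, 3, 2, 1, 4, 3, 5, 8, 7, 3, 2, 4, 3, 5, 4, 7, 3, 2, 1, 0, 9, 6, 5, 4, 3]), 1001, 0),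
    ((0, [1, 2, 3, 4, 5, 6, 7, 3, 2, 1, 4, 3, 2, 5, 8, 7, 3, 2, 4, 3, 5, 4, 7, 3, 2, 1, 0, 9, 6, 5, 4]), 1001, 0),
    ((0, [1, 2, 3, 4, 5, 6, 7, 3, 2, 1, 4, 3, 5, 4, 8, 7, 3, 2, 4, 3, 5, 6, 7, 9, 6, 5, 4, 3, 2, 7, 8]), 1001, 0),
    ((0, [1, 2, 3, 4, 5, 6, 7, 3, 2, 1, 4, 3, 5, 4, 8, 7, 3, 2, 4, 3, 5, 4, 6, 5, 7, 9, 6, 5, 4, 3, 2]), 1001, 0),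
    ((0, [1, 2, 3, 4, 5, 6, 7, 3, 2, 1, 4, 3, 5, 4, 8, 7, 3, 2, 4, 3, 5, 4, 6, 7, 8, 9, 6, 5, 4, 3, 2]), 1001, 0),
    ((0, [1, 2, 3, 4, 5, 6, 7, 3, 2, 1, 4, 3, 5, 7, 8, 7, 3, 2, 4, 3, 5, 4, 7, 3, 8, 9, 6, 5, 4, 3, 2]), 1001, 0),
    ((0, [1, 2, 3, 4, 5, 6, 7, 3, 2, 1, 4, 3, 2, 5, 4, 8, 7, 3, 2, 4, 3, 5, 4, 7, 8, 9, 6, 5, 4, 3, 2]), 1001, 0),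
    ((0, [1, 2, 3, 4, 5, 6, 7, 3, 2, 1, 4, 3, 2, 5, 4, 3, 8, 7, 3, 2, 4, 3, 5, 7, 8, 9, 6, 5, 4, 3, 2]), 1001, 0),
    ((0, [1, 2, 3, 4, 5, 6, 7, 3, 2, 1, 4, 3, 5, 4, 8, 7, 3, 2, 1, 4, 3, 5, 6, 7, 8, 9, 6, 5, 4, 3, 2]), 1001, 0),
    ((0, [1, 2, 3, 4, 5, 6, 7, 3, 2, 1, 4, 3, 5, 4, 8, 7, 3, 2, 1, 4, 3, 2, 5, 4, 9, 6, 5, 4, 3, 7, 8]), 1001, 0),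
    ((0, [1, 2, 3, 4, 5, 6, 7, 3, 2, 1, 4, 3, 5, 4, 7, 8, 7, 3, 2, 4, 3, 5, 4, 7, 3, 2, 8, 9, 6, 5, 4]), 1001, 0),
    ((0, [1, 2, 3, 4, 5, 6, 7, 3, 2, 1, 4, 3, 5, 4, 8, 7, 3, 2, 4, 3, 5, 4, 7, 3, 8, 9, 6, 5, 4, 3, 7]), 1001, 0),
    ((0, [1, 2, 3, 4, 5, 6, 7, 3, 2, 1, 4, 3, 5, 4, 8, 7, 3, 2, 4, 3, 5, 4, 7, 3, 8, 9, 6, 5, 4, 3, 2]), 1001, 0),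
    ((0, [1, 2, 3, 4, 5, 6, 7, 3, 2, 1, 4, 3, 2, 5, 8, 7, 3, 2, 1, 4, 3, 2, 7, 3, 4, 5, 8, 9, 6, 5, 4]), 901, 0),
    ((0, [1, 2, 3, 4, 5, 6, 7, 3, 2, 1, 4, 3, 2, 5, 4, 8, 7, 3, 2, 1, 4, 3, 2, 7, 3, 4, 8, 7, 9, 6, 5]), 1001, 0),
    ((0, [1, 2, 3, 4, 5, 6, 7, 3, 2, 1, 4, 3, 2, 5, 7, 8, 7, 3, 2, 1, 4, 3, 2, 7, 3, 4, 8, 7, 9, 6, 5]), 1001, 0),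
    ((0, [1, 2, 3, 4, 5, 6, 7, 3, 2, 1, 4, 3, 2, 5, 8, 7, 3, 2, 1, 4, 3, 2, 7, 3, 4, 5, 8, 7, 9, 6, 5]), 1001, 0),
    ((0, [1, 2, 3, 4, 5, 6, 7, 3, 2, 1, 4, 3, 2, 5, 4, 8, 7, 3, 2, 1, 4, 3, 2, 5, 7, 3, 8, 7, 9, 6, 5]), 901, 0),
    ((0, [1, 2, 3, 4, 5, 6, 7, 3, 2, 1, 4, 3, 2, 5, 8, 7, 3, 2, 1, 0, 4, 3, 2, 5, 7, 3, 8, 7, 9, 6, 5]), 1001, 0),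
    ((0, [1, 2, 3, 4, 5, 6, 7, 3, 2, 1, 4, 3, 2, 5, 4, 8, 7, 3, 2, 1, 4, 3, 2, 7, 3, 4, 5, 8, 7, 9, 6]), 1001, 0),
    ((0, [1, 2, 3, 4, 5, 6, 7, 3, 2, 1, 4, 3, 2, 5, 4, 3, 8, 7, 3, 2, 1, 4, 3, 2, 7, 3, 4, 8, 9, 6, 5]), 1001, 0),
    ((0, [1, 2, 3, 4, 5, 6, 7, 3, 2, 1, 4, 3, 2, 5, 4, 3, 8, 7, 3, 2, 1, 4, 3, 2, 7, 3, 4, 5, 8, 9, 6]), 1001, 0),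
    ((0, [1, 2, 3, 4, 5, 6, 7, 3, 2, 1, 4, 5, 8, 7, 3, 2, 1, 0, 4, 3, 5, 4, 6, 7, 8, 9, 6, 5, 4, 3, 7]), 1001, 0),
    ((0, [1, 2, 3, 4, 5, 6, 7, 3, 2, 1, 4, 3, 5, 7, 8, 7, 3, 2, 1, 4, 3, 2, 5, 7, 8, 9, 6, 5, 4, 3, 2]), 901, 0),
    ((0, [1, 2, 3, 4, 5, 6, 7, 3, 2, 1, 4, 3, 5, 7, 8, 7, 3, 2, 1, 4, 3, 2, 5, 4, 7, 9, 6, 5, 4, 3, 2]), 1001, 0),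
    ((0, [1, 2, 3, 4, 5, 6, 7, 3, 2, 1, 4, 3, 5, 7, 8, 7, 3, 2, 1, 4, 3, 5, 4, 7, 8, 9, 6, 5, 4, 3, 2]), 1001, 0),
    ((0, [1, 2, 3, 4, 5, 6, 7, 3, 2, 4, 3, 5, 8, 7, 3, 2, 1, 4, 3, 2, 5, 4, 3, 7, 8, 9, 6, 5, 4, 3, 2]), 1001, 0),
    ((0, [1, 2, 3, 4, 5, 6, 7, 3, 2, 1, 4, 3, 8, 7, 3, 2, 1, 4, 3, 2, 5, 4, 3, 7, 8, 9, 6, 5, 4, 3, 2]), 1001, 0),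
    ((0, [1, 2, 3, 4, 5, 6, 7, 3, 2, 1, 4, 3, 2, 5, 7, 8, 7, 3, 2, 1, 4, 3, 2, 5, 7, 9, 6, 5, 4, 3, 2]), 1001, 0),
    ((0, [1, 2, 3, 4, 5, 6, 7, 3, 2, 1, 4, 3, 5, 7, 8, 7, 3, 2, 1, 4, 3, 5, 4, 7, 8, 9, 6, 5, 4, 3, 7]), 1001, 0),
    ((0, [1, 2, 3, 4, 5, 6, 7, 3, 2, 1, 4, 3, 5, 8, 7, 3, 2, 1, 0, 4, 3, 5, 4, 7, 8, 9, 6, 5, 4, 3, 7]), 1001, 0),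
    ((0, [1, 2, 3, 4, 5, 6, 7, 3, 2, 1, 4, 3, 5, 8, 7, 3, 2, 1, 4, 3, 5, 4, 6, 7, 8, 9, 6, 5, 4, 3, 7]), 1001, 0),
    ((0, [1, 2, 3, 4, 5, 6, 7, 3, 2, 1, 4, 3, 8, 7, 3, 2, 1, 4, 3, 2, 5, 4, 3, 7, 8, 9, 6, 5, 4, 3, 7]), 1001, 0),
    ((0, [1, 2, 3, 4, 5, 6, 7, 3, 2, 1, 4, 3, 2, 5, 7, 8, 7, 3, 2, 4, 3, 5, 4, 7, 8, 9, 6, 5, 4, 3, 7]), 1001, 0),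
    ((0, [1, 2, 3, 4, 5, 6, 7, 3, 2, 1, 4, 3, 5, 7, 8, 7, 3, 2, 4, 3, 5, 4, 7, 3, 8, 9, 6, 5, 4, 3, 7]), 1001, 0),
    ((0, [1, 2, 3, 4, 5, 6, 7, 3, 2, 1, 4, 3, 2, 5, 8, 7, 3, 2, 1, 0, 4, 3, 5, 4, 6, 7, 8, 9, 6, 5, 4]), 1001, 0),
    ((0, [1, 2, 3, 4, 5, 6, 7, 3, 2, 1, 4, 3, 5, 8, 7, 3, 2, 1, 4, 3, 5, 4, 6, 7, 8, 9, 6, 5, 4, 3, 2]), 1001, 0),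
    ((0, [1, 2, 3, 4, 5, 6, 7, 3, 2, 1, 4, 3, 2, 5, 7, 8, 7, 3, 2, 1, 4, 3, 2, 7, 8, 9, 6, 5, 4, 3, 7]), 1001, 0),
    ((0, [1, 2, 3, 4, 5, 6, 7, 3, 2, 1, 4, 3, 5, 7, 8, 7, 3, 2, 1, 4, 3, 2, 5, 7, 8, 9, 6, 5, 4, 3, 7]), 901, 0),
    ((0, [1, 2, 3, 4, 5, 6, 7, 3, 2, 1, 4, 3, 5, 4, 8, 7, 3, 2, 1, 4, 3, 2, 5, 7, 8, 9, 6, 5, 4, 3, 7]), 1001, 0),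
    ((0, [1, 2, 3, 4, 5, 6, 7, 3, 2, 1, 4, 3, 2, 5, 8, 7, 3, 2, 1, 4, 3, 2, 5, 7, 8, 9, 6, 5, 4, 3, 7]), 901, 0),
    ((0, [1, 2, 3, 4, 5, 6, 7, 3, 2, 1, 4, 3, 5, 8, 7, 3, 2, 1, 4, 3, 2, 5, 4, 7, 8, 9, 6, 5, 4, 3, 7]), 1001, 0),
    ((0, [1, 2, 3, 4, 5, 6, 7, 3, 2, 4, 3, 5, 8, 7, 3, 2, 1, 4, 3, 2, 5, 4, 3, 7, 8, 9, 6, 5, 4, 3, 7]), 1001, 0),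
    ((0, [1, 2, 3, 4, 5, 6, 7, 3, 2, 1, 4, 3, 5, 8, 7, 3, 2, 1, 4, 3, 2, 5, 4, 7, 3, 4, 8, 9, 6, 5, 4]), 1001, 0),
    ((0, [1, 2, 3, 4, 5, 6, 7, 3, 2, 1, 4, 3, 5, 8, 7, 3, 2, 1, 4, 3, 2, 5, 4, 3, 7, 3, 8, 9, 6, 5, 4]), 1001, 0),
    ((0, [1, 2, 3, 4, 5, 6, 7, 3, 2, 1, 4, 3, 5, 4, 7, 3, 8, 7, 3, 2, 4, 3, 5, 4, 7, 3, 2, 8, 9, 6, 5]), 1001, 0),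
    ((0, [1, 2, 3, 4, 5, 6, 7, 3, 2, 1, 4, 3, 5, 4, 8, 7, 3, 2, 4, 3, 5, 7, 8, 9, 6, 5, 4, 3, 2, 7, 3]), 1001, 0),
    ((0, [1, 2, 3, 4, 5, 6, 7, 3, 2, 1, 4, 3, 2, 5, 4, 8, 7, 3, 2, 4, 3, 5, 4, 6, 5, 7, 3, 8, 9, 6, 5]), 1001, 0),
    ((0, [1, 2, 3, 4, 5, 6, 7, 3, 2, 1, 4, 3, 2, 5, 4, 8, 7, 3, 2, 4, 3, 5, 4, 6, 7, 3, 8, 9, 6, 5, 4]), 1001, 0),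
    ((0, [1, 2, 3, 4, 5, 6, 7, 3, 2, 1, 4, 3, 5, 8, 7, 3, 2, 1, 4, 3, 2, 5, 4, 7, 3, 2, 4, 8, 9, 6, 5]), 1001, 0),
    ((0, [1, 2, 3, 4, 5, 6, 7, 3, 2, 1, 4, 3, 5, 8, 7, 3, 2, 1, 4, 3, 2, 5, 4, 7, 3, 2, 4, 5, 8, 9, 6]), 1001, 0),
    ((0, [1, 2, 3, 4, 5, 6, 7, 3, 2, 1, 4, 5, 8, 7, 3, 2, 1, 4, 3, 2, 5, 4, 7, 3, 2, 4, 5, 8, 9, 6, 5]), 1001, 0),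
    ((0, [1, 2, 3, 4, 5, 6, 7, 3, 2, 1, 4, 5, 8, 7, 3, 2, 1, 0, 4, 3, 2, 5, 4, 7, 3, 2, 8, 9, 6, 5, 4]), 1001, 0),
    ((0, [1, 2, 3, 4, 5, 6, 7, 3, 2, 1, 4, 5, 8, 7, 3, 2, 1, 4, 3, 2, 5, 4, 7, 3, 2, 4, 8, 9, 6, 5, 4]), 1001, 0),
    ((0, [1, 2, 3, 4, 5, 6, 7, 3, 2, 1, 4, 3, 2, 5, 7, 8, 7, 3, 2, 1, 4, 3, 2, 5, 7, 3, 4, 8, 9, 6, 5]), 1001, 0),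
    ((0, [1, 2, 3, 4, 5, 6, 7, 3, 2, 1, 4, 3, 5, 4, 7, 3, 8, 7, 3, 2, 4, 3, 5, 4, 7, 3, 8, 7, 9, 6, 5]), 1001, 0),
    ((0, [1, 2, 3, 4, 5, 6, 7, 3, 2, 1, 4, 3, 5, 4, 8, 7, 3, 2, 1, 0, 4, 3, 5, 4, 7, 3, 8, 7, 9, 6, 5]), 1001, 0),
    ((0, [1, 2, 3, 4, 5, 6, 7, 3, 2, 1, 4, 3, 5, 4, 7, 8, 7, 3, 2, 4, 3, 5, 4, 6, 7, 3, 8, 7, 9, 6, 5]), 1001, 0),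
    ((0, [1, 2, 3, 4, 5, 6, 7, 3, 2, 1, 4, 5, 8, 7, 3, 2, 1, 4, 3, 2, 5, 4, 6, 7, 3, 4, 8, 7, 9, 6, 5]), 1001, 0),
    ((0, [1, 2, 3, 4, 5, 6, 7, 3, 2, 1, 4, 5, 8, 7, 3, 2, 1, 4, 3, 2, 5, 4, 7, 3, 4, 5, 8, 7, 9, 6, 5]), 1001, 0),
    ((0, [1, 2, 3, 4, 5, 6, 7, 3, 2, 1, 4, 5, 8, 7, 3, 2, 1, 0, 4, 3, 2, 5, 4, 7, 3, 8, 7, 9, 6, 5, 4]), 1001, 0),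
    ((0, [1, 2, 3, 4, 5, 6, 7, 3, 2, 1, 4, 5, 8, 7, 3, 2, 1, 4, 3, 2, 5, 4, 7, 3, 4, 8, 7, 9, 6, 5, 4]), 1001, 0),
    ((0, [1, 2, 3, 4, 5, 6, 7, 3, 2, 1, 4, 3, 2, 5, 4, 8, 7, 3, 2, 4, 3, 5, 4, 7, 3, 8, 7, 9, 6, 5, 4]), 1001, 0)]

/-- Part 33 of the cycles. -/
def reps33 : List ((Nat × List Nat) × Nat × Nat) :=
  [
    ((0, [1, 2, 3, 4, 5, 6, 7, 3, 2, 1, 4, 3, 2, 5, 4, 8, 7, 3, 2, 4, 3, 5, 4, 6, 7, 3, 8, 7, 9, 6, 5]), 1001, 0),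
    ((0, [1, 2, 3, 4, 5, 6, 7, 3, 2, 1, 4, 3, 2, 5, 7, 3, 8, 7, 3, 2, 1, 4, 3, 2, 7, 3, 4, 8, 9, 6, 5]), 1001, 0),
    ((0, [1, 2, 3, 4, 5, 6, 7, 3, 2, 1, 4, 3, 2, 5, 8, 7, 3, 2, 1, 0, 4, 3, 2, 5, 7, 9, 6, 5, 4, 3, 2]), 1001, 0),
    ((0, [1, 2, 3, 4, 5, 6, 7, 3, 2, 1, 4, 3, 2, 5, 8, 7, 3, 2, 1, 4, 3, 2, 5, 7, 8, 9, 6, 5, 4, 3, 2]), 901, 0),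
    ((0, [1, 2, 3, 4, 5, 6, 7, 3, 2, 1, 4, 3, 5, 8, 7, 3, 2, 1, 0, 4, 3, 5, 4, 7, 8, 9, 6, 5, 4, 3, 2]), 1001, 0),
    ((0, [1, 2, 3, 4, 5, 6, 7, 3, 2, 1, 4, 3, 5, 8, 7, 3, 2, 1, 4, 3, 2, 5, 4, 7, 8, 9, 6, 5, 4, 3, 2]), 1001, 0),
    ((0, [1, 2, 3, 4, 5, 6, 7, 3, 2, 1, 4, 3, 2, 5, 8, 7, 3, 2, 1, 4, 3, 2, 5, 4, 7, 9, 6, 5, 4, 3, 2]), 1001, 0),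
    ((0, [1, 2, 3, 4, 5, 6, 7, 3, 2, 1, 4, 3, 5, 8, 7, 3, 2, 1, 4, 3, 2, 5, 4, 6, 7, 9, 6, 5, 4, 3, 2]), 1001, 0),
    ((0, [1, 2, 3, 4, 5, 6, 7, 3, 2, 1, 4, 3, 2, 5, 8, 7, 3, 2, 1, 0, 4, 3, 5, 4, 7, 3, 8, 9, 6, 5, 4]), 1001, 0),
    ((0, [1, 2, 3, 4, 5, 6, 7, 3, 2, 1, 4, 3, 5, 8, 7, 3, 2, 1, 0, 4, 3, 2, 5, 4, 7, 3, 8, 9, 6, 5, 4]), 1001, 0),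
    ((0, [1, 2, 3, 4, 5, 6, 7, 3, 2, 1, 4, 3, 5, 8, 7, 3, 2, 1, 4, 3, 2, 5, 4, 3, 7, 3, 2, 8, 9, 6, 5]), 1001, 0),
    ((0, [1, 2, 3, 4, 5, 6, 7, 3, 2, 1, 4, 3, 2, 5, 8, 7, 3, 2, 1, 4, 3, 2, 5, 4, 6, 7, 3, 8, 9, 6, 5]), 1001, 0),
    ((0, [1, 2, 3, 4, 5, 6, 7, 3, 2, 1, 4, 3, 2, 5, 4, 8, 7, 3, 2, 1, 4, 3, 2, 5, 4, 7, 3, 8, 7, 9, 6]), 1001, 0),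
    ((0, [1, 2, 3, 4, 5, 6, 7, 3, 2, 1, 4, 3, 5, 8, 7, 3, 2, 1, 4, 3, 2, 5, 4, 7, 3, 4, 8, 7, 9, 6, 5]), 1001, 0),
    ((0, [1, 2, 3, 4, 5, 6, 7, 3, 2, 1, 4, 3, 5, 7, 8, 7, 3, 2, 1, 4, 3, 2, 5, 4, 7, 3, 8, 7, 9, 6, 5]), 1001, 0),
    ((0, [1, 2, 3, 4, 5, 6, 7, 3, 2, 1, 4, 3, 5, 4, 8, 7, 3, 2, 1, 4, 3, 2, 5, 4, 7, 3, 8, 7, 9, 6, 5]), 1001, 0),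
    ((0, [1, 2, 3, 4, 5, 6, 7, 3, 2, 1, 4, 3, 5, 8, 7, 3, 2, 1, 0, 4, 3, 2, 5, 4, 7, 3, 8, 7, 9, 6, 5]), 1001, 0),
    ((0, [1, 2, 3, 4, 5, 6, 7, 3, 2, 1, 4, 3, 2, 5, 8, 7, 3, 2, 1, 4, 3, 2, 5, 4, 7, 3, 8, 7, 9, 6, 5]), 1001, 0),
    ((0, [1, 2, 3, 4, 5, 6, 7, 3, 2, 1, 4, 3, 5, 7, 8, 7, 3, 2, 1, 4, 3, 2, 5, 4, 6, 7, 3, 8, 7, 9, 6]), 1001, 0),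
    ((0, [1, 2, 3, 4, 5, 6, 7, 3, 2, 1, 4, 3, 5, 4, 8, 7, 3, 2, 1, 4, 3, 2, 5, 4, 6, 7, 3, 8, 7, 9, 6]), 901, 0),
    ((0, [1, 2, 3, 4, 5, 6, 7, 3, 2, 1, 4, 3, 5, 4, 8, 7, 3, 2, 1, 4, 3, 2, 5, 4, 3, 7, 3, 8, 7, 9, 6]), 901, 0),
    ((0, [1, 2, 3, 4, 5, 6, 7, 3, 2, 1, 4, 3, 5, 8, 7, 3, 2, 1, 4, 3, 2, 5, 4, 6, 7, 3, 8, 7, 9, 6, 5]), 1001, 0),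
    ((0, [1, 2, 3, 4, 5, 6, 7, 3, 2, 1, 4, 3, 5, 8, 7, 3, 2, 1, 4, 3, 2, 5, 4, 3, 7, 3, 8, 7, 9, 6, 5]), 1001, 0),
    ((0, [1, 2, 3, 4, 5, 6, 7, 3, 2, 1, 4, 3, 2, 5, 8, 7, 3, 2, 1, 4, 3, 2, 5, 4, 6, 7, 3, 8, 7, 9, 6]), 1001, 0),
    ((0, [1, 2, 3, 4, 5, 6, 7, 3, 2, 1, 4, 3, 2, 5, 4, 8, 7, 3, 2, 4, 3, 5, 4, 7, 3, 2, 8, 9, 6, 5, 4]), 1001, 0),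
    ((0, [1, 2, 3, 4, 5, 6, 7, 3, 2, 1, 4, 3, 5, 4, 8, 7, 3, 2, 1, 0, 4, 3, 5, 4, 7, 3, 2, 8, 9, 6, 5]), 1001, 0),
    ((0, [1, 2, 3, 4, 5, 6, 7, 3, 2, 1, 4, 3, 5, 4, 8, 7, 3, 2, 1, 4, 3, 2, 5, 4, 7, 3, 2, 8, 9, 6, 5]), 1001, 0),
    ((0, [1, 2, 3, 4, 5, 6, 7, 3, 2, 1, 4, 3, 2, 5, 8, 7, 3, 2, 1, 0, 4, 3, 2, 5, 4, 7, 3, 2, 8, 9, 6]), 1001, 0),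
    ((0, [1, 2, 3, 4, 5, 6, 7, 3, 2, 1, 4, 3, 5, 8, 7, 3, 2, 1, 0, 4, 3, 2, 5, 4, 7, 3, 2, 8, 9, 6, 5]), 1001, 0),
    ((0, [1, 2, 3, 4, 5, 6, 7, 3, 2, 1, 4, 3, 2, 5, 8, 7, 3, 2, 1, 0, 4, 3, 2, 5, 4, 7, 3, 2, 9, 6, 5]), 1001, 0),
    ((0, [1, 2, 3, 4, 5, 6, 7, 3, 2, 1, 4, 3, 2, 5, 8, 7, 3, 2, 1, 4, 3, 2, 5, 4, 7, 3, 2, 8, 9, 6, 5]), 1001, 0),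
    ((0, [1, 2, 3, 4, 5, 6, 7, 3, 2, 1, 4, 3, 5, 8, 7, 3, 2, 1, 4, 3, 2, 5, 4, 7, 3, 2, 8, 9, 6, 5, 4]), 1001, 0),
    ((0, [1, 2, 3, 4, 5, 6, 7, 3, 2, 1, 4, 3, 2, 5, 8, 7, 3, 2, 1, 4, 3, 2, 5, 4, 6, 7, 9, 6, 5, 4, 3]), 1001, 0),
    ((0, [1, 2, 3, 4, 5, 6, 7, 3, 2, 1, 4, 3, 8, 7, 3, 2, 1, 0, 4, 3, 5, 4, 7, 3, 2, 1, 0, 9, 6, 5, 4]), 1001, 0),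
    ((0, [1, 2, 3, 4, 5, 6, 7, 3, 2, 1, 4, 3, 2, 5, 8, 7, 3, 2, 1, 0, 4, 3, 2, 1, 5, 6, 7, 8, 9, 6, 5]), 1001, 0),
    ((0, [1, 2, 3, 4, 5, 6, 7, 3, 2, 1, 4, 3, 2, 5, 8, 7, 3, 2, 1, 0, 4, 3, 2, 5, 6, 7, 3, 8, 9, 6, 5]), 1001, 0),
    ((0, [1, 2, 3, 4, 5, 6, 7, 3, 2, 1, 4, 3, 2, 5, 8, 7, 3, 2, 1, 4, 3, 2, 5, 6, 7, 8, 9, 6, 5, 4, 3]), 901, 0),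
    ((0, [1, 2, 3, 4, 5, 6, 7, 3, 2, 1, 4, 3, 2, 5, 4, 8, 7, 3, 2, 1, 0, 4, 3, 2, 5, 6, 7, 8, 9, 6, 5]), 1001, 0),
    ((0, [1, 2, 3, 4, 5, 6, 7, 3, 2, 1, 4, 3, 2, 5, 4, 8, 7, 3, 2, 1, 4, 3, 2, 5, 6, 7, 3, 8, 9, 6, 5]), 901, 0),
    ((0, [1, 2, 3, 4, 5, 6, 7, 3, 2, 1, 4, 3, 2, 5, 4, 8, 7, 3, 2, 1, 0, 4, 3, 5, 6, 7, 8, 9, 6, 5, 4]), 901, 0),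
    ((0, [1, 2, 3, 4, 5, 6, 7, 3, 2, 1, 4, 3, 2, 5, 4, 8, 7, 3, 2, 1, 4, 3, 2, 5, 4, 6, 7, 8, 9, 6, 5]), 1001, 0),
    ((0, [1, 2, 3, 4, 5, 6, 7, 3, 2, 1, 4, 3, 2, 5, 4, 8, 7, 3, 2, 1, 0, 4, 3, 5, 4, 6, 7, 8, 9, 6, 5]), 1001, 0),
    ((0, [1, 2, 3, 4, 5, 6, 7, 3, 2, 1, 4, 3, 5, 4, 8, 7, 3, 2, 1, 4, 3, 2, 7, 3, 4, 5, 6, 8, 9, 6, 5]), 1001, 0),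
    ((0, [1, 2, 3, 4, 5, 6, 7, 3, 2, 1, 4, 3, 5, 8, 7, 3, 2, 1, 4, 3, 2, 7, 3, 4, 5, 6, 8, 9, 6, 5, 4]), 901, 0),
    ((0, [1, 2, 3, 4, 5, 6, 7, 3, 2, 1, 4, 3, 5, 8, 7, 3, 2, 4, 3, 5, 4, 7, 3, 2, 1, 0, 8, 9, 6, 5, 4]), 1001, 0),
    ((0, [1, 2, 3, 4, 5, 6, 7, 3, 2, 1, 4, 3, 5, 8, 7, 3, 2, 1, 0, 4, 3, 5, 4, 7, 3, 2, 1, 8, 9, 6, 5]), 1001, 0),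
    ((0, [1, 2, 3, 4, 5, 6, 7, 3, 2, 1, 4, 3, 5, 8, 7, 3, 2, 1, 4, 3, 2, 5, 7, 3, 4, 5, 6, 8, 9, 6, 5]), 1001, 0),
    ((0, [1, 2, 3, 4, 5, 6, 7, 3, 2, 1, 4, 3, 8, 7, 3, 2, 1, 4, 3, 2, 5, 4, 3, 7, 3, 2, 9, 6, 5, 4, 3]), 1001, 0),
    ((0, [1, 2, 3, 4, 5, 6, 7, 3, 2, 1, 4, 3, 8, 7, 3, 2, 1, 4, 3, 2, 5, 4, 7, 3, 2, 1, 0, 9, 6, 5, 4]), 1001, 0),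
    ((0, [1, 2, 3, 4, 5, 6, 7, 3, 2, 1, 4, 3, 8, 7, 3, 2, 1, 4, 3, 2, 5, 4, 3, 7, 3, 2, 1, 8, 9, 6, 5]), 1001, 0),
    ((0, [1, 2, 3, 4, 5, 6, 7, 3, 2, 1, 4, 3, 2, 5, 8, 7, 3, 2, 4, 3, 5, 4, 7, 3, 2, 1, 0, 8, 9, 6, 5]), 1001, 0),
    ((0, [1, 2, 3, 4, 5, 6, 7, 3, 2, 1, 4, 3, 2, 5, 8, 7, 3, 2, 1, 4, 3, 2, 5, 6, 7, 3, 8, 7, 9, 6, 5]), 901, 0),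
    ((0, [1, 2, 3, 4, 5, 6, 7, 3, 2, 1, 4, 3, 2, 5, 4, 8, 7, 3, 2, 1, 0, 4, 3, 2, 5, 4, 6, 5, 7, 8, 9]), 1001, 0),
    ((0, [1, 2, 3, 4, 5, 6, 7, 3, 2, 1, 4, 3, 8, 7, 3, 2, 1, 4, 3, 2, 5, 4, 3, 7, 3, 2, 1, 0, 8, 9, 6]), 1001, 0),
    ((0, [1, 2, 3, 4, 5, 6, 7, 3, 2, 1, 4, 3, 2, 5, 4, 8, 7, 3, 2, 1, 4, 3, 2, 5, 4, 6, 7, 3, 9, 6, 5]), 1001, 0),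
    ((0, [1, 2, 3, 4, 5, 6, 7, 3, 2, 1, 4, 3, 2, 5, 8, 7, 3, 2, 1, 4, 3, 2, 7, 3, 4, 5, 6, 8, 9, 6, 5]), 1001, 0),
    ((0, [1, 2, 3, 4, 5, 6, 7, 3, 2, 1, 4, 3, 5, 8, 7, 3, 2, 1, 0, 4, 3, 5, 4, 7, 3, 2, 9, 6, 5, 4, 3]), 1001, 0),
    ((0, [1, 2, 3, 4, 5, 6, 7, 3, 2, 1, 4, 5, 8, 7, 3, 2, 1, 4, 3, 5, 4, 7, 3, 2, 8, 9, 6, 5, 4, 3, 7]), 1001, 0),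
    ((0, [1, 2, 3, 4, 5, 6, 7, 3, 2, 1, 4, 3, 5, 8, 7, 3, 2, 1, 4, 3, 5, 4, 7, 3, 2, 8, 9, 6, 5, 4, 3]), 1001, 0),
    ((0, [1, 2, 3, 4, 5, 6, 7, 3, 2, 1, 4, 3, 2, 5, 8, 7, 3, 2, 1, 4, 3, 5, 4, 7, 3, 2, 9, 6, 5, 4, 3]), 1001, 0),
    ((0, [1, 2, 3, 4, 5, 6, 7, 3, 2, 1, 4, 3, 5, 4, 8, 7, 3, 2, 4, 3, 5, 4, 7, 3, 2, 1, 0, 8, 9, 6, 5]), 1001, 0),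
    ((0, [1, 2, 3, 4, 5, 6, 7, 3, 2, 1, 4, 3, 2, 5, 4, 8, 7, 3, 2, 4, 3, 5, 4, 7, 3, 2, 1, 0, 9, 6, 5]), 1001, 0),
    ((0, [1, 2, 3, 4, 5, 6, 7, 3, 2, 1, 4, 3, 5, 8, 7, 3, 2, 1, 4, 3, 2, 5, 4, 7, 3, 2, 1, 8, 9, 6, 5]), 1001, 0),
    ((0, [1, 2, 3, 4, 5, 6, 7, 3, 2, 1, 4, 3, 5, 8, 7, 3, 2, 1, 0, 4, 3, 2, 5, 4, 7, 3, 2, 1, 9, 6, 5]), 1001, 0),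
    ((0, [1, 2, 3, 4, 5, 6, 7, 3, 2, 1, 4, 3, 2, 5, 8, 7, 3, 2, 1, 4, 3, 2, 5, 4, 7, 3, 2, 1, 9, 6, 5]), 1001, 0),
    ((0, [1, 2, 3, 4, 5, 6, 7, 3, 2, 1, 4, 5, 8, 7, 3, 2, 4, 3, 5, 4, 7, 3, 2, 1, 8, 9, 6, 5, 4, 3, 7]), 1001, 0),
    ((0, [1, 2, 3, 4, 5, 6, 7, 3, 2, 1, 4, 3, 5, 8, 7, 3, 2, 4, 3, 5, 4, 7, 3, 2, 8, 9, 6, 5, 4, 3, 7]), 1001, 0),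
    ((0, [1, 2, 3, 4, 5, 6, 7, 3, 2, 1, 4, 3, 2, 5, 4, 8, 7, 3, 2, 1, 4, 3, 2, 5, 4, 7, 3, 4, 9, 6, 5]), 1001, 0),
    ((0, [1, 2, 3, 4, 5, 6, 7, 3, 2, 1, 4, 3, 2, 5, 4, 8, 7, 3, 2, 1, 4, 3, 2, 5, 7, 3, 4, 8, 9, 6, 5]), 1001, 0),
    ((0, [1, 2, 3, 4, 5, 6, 7, 3, 2, 1, 4, 5, 8, 7, 3, 2, 4, 3, 5, 4, 7, 3, 2, 1, 8, 9, 6, 5, 4, 3, 2]), 1001, 0),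
    ((0, [1, 2, 3, 4, 5, 6, 7, 3, 2, 1, 4, 3, 5, 8, 7, 3, 2, 1, 4, 3, 5, 4, 7, 3, 2, 9, 6, 5, 4, 3, 2]), 1001, 0),
    ((0, [1, 2, 3, 4, 5, 6, 7, 3, 2, 1, 4, 5, 8, 7, 3, 2, 1, 4, 3, 5, 4, 7, 3, 2, 8, 9, 6, 5, 4, 3, 2]), 1001, 0),
    ((0, [1, 2, 3, 4, 5, 6, 7, 3, 2, 1, 4, 3, 5, 8, 7, 3, 2, 4, 3, 5, 4, 7, 3, 2, 8, 9, 6, 5, 4, 3, 2]), 1001, 0),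
    ((0, [1, 2, 3, 4, 5, 6, 7, 3, 2, 1, 4, 3, 2, 5, 4, 3, 8, 7, 3, 2, 1, 0, 4, 3, 2, 1, 7, 8, 9, 6, 5]), 1001, 0),
    ((0, [1, 2, 3, 4, 5, 6, 7, 3, 2, 1, 4, 3, 2, 5, 4, 3, 8, 7, 3, 2, 4, 3, 5, 4, 6, 7, 3, 8, 9, 6, 5]), 1001, 0),
    ((0, [1, 2, 3, 4, 5, 6, 7, 3, 2, 1, 4, 3, 2, 5, 4, 3, 8, 7, 3, 2, 4, 3, 5, 4, 6, 7, 8, 9, 6, 5, 4]), 901, 0),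
    ((0, [1, 2, 3, 4, 5, 6, 7, 3, 2, 1, 4, 3, 2, 5, 4, 3, 8, 7, 3, 2, 4, 3, 5, 4, 7, 3, 2, 8, 9, 6, 5]), 1001, 0),
    ((0, [1, 2, 3, 4, 5, 6, 7, 3, 2, 1, 4, 3, 2, 5, 4, 3, 8, 7, 3, 2, 4, 3, 5, 4, 7, 3, 8, 7, 9, 6, 5]), 1001, 0),
    ((0, [1, 2, 3, 4, 5, 6, 7, 3, 2, 4, 3, 5, 4, 8, 7, 3, 2, 1, 4, 3, 2, 5, 4, 9, 6, 5, 4, 3, 2, 7, 8]), 901, 0),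
    ((0, [1, 2, 3, 4, 5, 6, 7, 3, 2, 4, 3, 5, 4, 7, 8, 7, 3, 2, 1, 4, 3, 2, 5, 4, 9, 6, 5, 4, 3, 7, 8]), 901, 0),
    ((0, [1, 2, 3, 4, 5, 6, 7, 3, 2, 4, 3, 5, 4, 8, 7, 3, 2, 1, 4, 3, 2, 5, 7, 9, 6, 5, 4, 3, 2, 7, 8]), 1001, 0),
    ((0, [1, 2, 3, 4, 5, 6, 7, 3, 2, 4, 3, 5, 4, 8, 7, 3, 2, 1, 0, 4, 3, 2, 5, 7, 9, 6, 5, 4, 3, 7, 8]), 901, 0),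
    ((0, [1, 2, 3, 4, 5, 6, 7, 3, 2, 4, 3, 5, 7, 8, 7, 3, 2, 1, 4, 3, 2, 5, 7, 9, 6, 5, 4, 3, 2, 7, 8]), 901, 0),
    ((0, [1, 2, 3, 4, 5, 6, 7, 3, 2, 1, 4, 3, 2, 5, 7, 8, 7, 3, 2, 1, 0, 4, 3, 2, 9, 6, 5, 4, 3, 7, 8]), 1001, 0),
    ((0, [1, 2, 3, 4, 5, 6, 7, 3, 2, 1, 4, 3, 5, 7, 8, 7, 3, 2, 1, 4, 3, 2, 5, 4, 9, 6, 5, 4, 3, 7, 8]), 1001, 0),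
    ((0, [1, 2, 3, 4, 5, 6, 7, 3, 2, 1, 4, 3, 5, 8, 7, 3, 2, 1, 0, 4, 3, 2, 5, 4, 9, 6, 5, 4, 3, 7, 8]), 1001, 0),
    ((0, [1, 2, 3, 4, 5, 6, 7, 3, 2, 1, 4, 3, 5, 8, 7, 3, 2, 1, 4, 3, 2, 5, 4, 3, 9, 6, 5, 4, 3, 7, 8]), 1001, 0),
    ((0, [1, 2, 3, 4, 5, 6, 7, 3, 2, 1, 4, 3, 5, 8, 7, 3, 2, 1, 4, 3, 2, 5, 4, 6, 9, 6, 5, 4, 3, 7, 8]), 1001, 0),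
    ((0, [1, 2, 3, 4, 5, 6, 7, 3, 2, 1, 4, 3, 2, 5, 8, 7, 3, 2, 1, 0, 4, 3, 2, 5, 9, 6, 5, 4, 3, 7, 8]), 1001, 0),
    ((0, [1, 2, 3, 4, 5, 6, 7, 3, 2, 1, 4, 3, 2, 5, 8, 7, 3, 2, 1, 4, 3, 2, 5, 4, 9, 6, 5, 4, 3, 7, 8]), 1001, 0),
    ((0, [1, 2, 3, 4, 5, 6, 7, 3, 2, 1, 4, 3, 5, 8, 7, 3, 2, 1, 4, 3, 2, 5, 4, 7, 9, 6, 5, 4, 3, 7, 8]), 1001, 0),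
    ((0, [1, 2, 3, 4, 5, 6, 7, 3, 2, 1, 4, 3, 5, 8, 7, 3, 2, 1, 0, 4, 3, 2, 7, 8, 9, 6, 5, 4, 3, 7, 8]), 1001, 0),
    ((0, [1, 2, 3, 4, 5, 6, 7, 3, 2, 1, 4, 3, 2, 5, 8, 7, 3, 2, 1, 4, 3, 2, 5, 7, 9, 6, 5, 4, 3, 7, 8]), 901, 0),
    ((0, [1, 2, 3, 4, 5, 6, 7, 3, 2, 1, 4, 3, 5, 4, 8, 7, 3, 2, 1, 4, 3, 7, 8, 9, 6, 5, 4, 3, 2, 7, 3]), 1001, 0),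
    ((0, [1, 2, 3, 4, 5, 6, 7, 3, 2, 1, 4, 3, 5, 8, 7, 3, 2, 1, 4, 3, 2, 7, 3, 8, 9, 6, 5, 4, 3, 7, 8]), 1001, 0),
    ((0, [1, 2, 3, 4, 5, 6, 7, 3, 2, 1, 4, 3, 5, 4, 8, 7, 3, 2, 1, 4, 3, 5, 7, 8, 9, 6, 5, 4, 3, 2, 1]), 1001, 0),
    ((0, [1, 2, 3, 4, 5, 6, 7, 3, 2, 1, 4, 8, 7, 3, 2, 1, 0, 4, 3, 5, 4, 7, 3, 2, 9, 6, 5, 4, 3, 7, 8]), 1001, 0),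
    ((0, [1, 2, 3, 4, 5, 6, 7, 3, 2, 1, 4, 3, 2, 5, 8, 7, 3, 2, 1, 4, 3, 2, 5, 6, 9, 6, 5, 4, 3, 7, 8]), 1001, 0),
    ((0, [1, 2, 3, 4, 5, 6, 7, 3, 2, 1, 4, 3, 8, 7, 3, 2, 1, 4, 3, 5, 4, 7, 3, 2, 9, 6, 5, 4, 3, 7, 8]), 1001, 0),
    ((0, [1, 2, 3, 4, 5, 6, 7, 3, 2, 1, 4, 3, 5, 4, 8, 7, 3, 2, 4, 3, 5, 7, 8, 9, 6, 5, 4, 3, 2, 1, 0]), 1001, 0),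
    ((0, [1, 2, 3, 4, 5, 6, 7, 3, 2, 1, 4, 3, 5, 4, 8, 7, 3, 2, 4, 3, 5, 7, 8, 9, 6, 5, 4, 3, 2, 1, 7]), 1001, 0),
    ((0, [1, 2, 3, 4, 5, 6, 7, 3, 2, 1, 4, 3, 2, 5, 8, 7, 3, 2, 1, 4, 3, 5, 7, 8, 9, 6, 5, 4, 3, 2, 1]), 1001, 0),
    ((0, [1, 2, 3, 4, 5, 6, 7, 3, 2, 1, 4, 3, 5, 8, 7, 3, 2, 4, 3, 5, 4, 7, 8, 9, 6, 5, 4, 3, 2, 1, 0]), 1001, 0),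
    ((0, [1, 2, 3, 4, 5, 6, 7, 3, 2, 1, 4, 3, 2, 5, 8, 7, 3, 2, 4, 3, 5, 4, 6, 7, 9, 6, 5, 4, 3, 2, 1]), 1001, 0),
    ((0, [1, 2, 3, 4, 5, 6, 7, 3, 2, 1, 4, 3, 5, 8, 7, 3, 2, 4, 3, 5, 4, 6, 7, 8, 9, 6, 5, 4, 3, 2, 1]), 1001, 0),
    ((0, [1, 2, 3, 4, 5, 6, 7, 3, 2, 1, 4, 5, 8, 7, 3, 2, 1, 4, 3, 2, 5, 7, 3, 4, 9, 6, 5, 4, 3, 2, 1]), 1001, 0),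
    ((0, [1, 2, 3, 4, 5, 6, 7, 3, 2, 1, 4, 5, 8, 7, 3, 2, 1, 4, 3, 2, 5, 6, 7, 9, 6, 5, 4, 3, 2, 1, 0]), 1001, 0),
    ((0, [1, 2, 3, 4, 5, 6, 7, 3, 2, 1, 4, 5, 8, 7, 3, 2, 1, 4, 3, 2, 5, 7, 8, 9, 6, 5, 4, 3, 2, 1, 0]), 1001, 0),
    ((0, [1, 2, 3, 4, 5, 6, 7, 3, 2, 1, 4, 5, 8, 7, 3, 2, 1, 0, 4, 3, 5, 4, 7, 8, 9, 6, 5, 4, 3, 2, 1]), 1001, 0),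
    ((0, [1, 2, 3, 4, 5, 6, 7, 3, 2, 1, 4, 5, 8, 7, 3, 2, 1, 0, 4, 3, 5, 6, 7, 8, 9, 6, 5, 4, 3, 2, 1]), 901, 0),
    ((0, [1, 2, 3, 4, 5, 6, 7, 3, 2, 1, 4, 5, 8, 7, 3, 2, 1, 0, 4, 3, 5, 4, 6, 7, 9, 6, 5, 4, 3, 2, 1]), 1001, 0),
    ((0, [1, 2, 3, 4, 5, 6, 7, 3, 2, 1, 4, 5, 8, 7, 3, 2, 1, 0, 4, 3, 5, 7, 8, 9, 6, 5, 4, 3, 2, 7, 3]), 1001, 0),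
    ((0, [1, 2, 3, 4, 5, 6, 7, 3, 2, 1, 4, 5, 8, 7, 3, 2, 1, 0, 4, 3, 2, 7, 8, 9, 6, 5, 4, 3, 2, 7, 3]), 1001, 0),
    ((0, [1, 2, 3, 4, 5, 6, 7, 3, 2, 1, 4, 5, 8, 7, 3, 2, 1, 4, 3, 2, 5, 7, 8, 9, 6, 5, 4, 3, 2, 7, 3]), 1001, 0),
    ((0, [1, 2, 3, 4, 5, 6, 7, 3, 2, 1, 4, 5, 8, 7, 3, 2, 1, 4, 3, 5, 6, 7, 8, 9, 6, 5, 4, 3, 2, 1, 0]), 1001, 0),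
    ((0, [1, 2, 3, 4, 5, 6, 7, 3, 2, 1, 4, 5, 8, 7, 3, 2, 1, 4, 3, 5, 4, 7, 8, 9, 6, 5, 4, 3, 2, 1, 0]), 1001, 0),
    ((0, [1, 2, 3, 4, 5, 6, 7, 3, 2, 1, 4, 5, 8, 7, 3, 2, 1, 0, 4, 3, 5, 7, 8, 9, 6, 5, 4, 3, 2, 1, 0]), 1001, 0),
    ((0, [1, 2, 3, 4, 5, 6, 7, 3, 2, 1, 4, 5, 8, 7, 3, 2, 1, 4, 3, 5, 7, 8, 9, 6, 5, 4, 3, 2, 1, 7, 3]), 1001, 0),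
    ((0, [1, 2, 3, 4, 5, 6, 7, 3, 2, 1, 4, 5, 8, 7, 3, 2, 1, 4, 3, 5, 4, 7, 8, 9, 6, 5, 4, 3, 2, 7, 3]), 1001, 0),
    ((0, [1, 2, 3, 4, 5, 6, 7, 3, 2, 1, 4, 5, 8, 7, 3, 2, 1, 4, 3, 5, 6, 7, 8, 9, 6, 5, 4, 3, 2, 7, 3]), 1001, 0)]

/-- Part 34 of the cycles. -/
def reps34 : List ((Nat × List Nat) × Nat × Nat) :=
  [
    ((0, [1, 2, 3, 4, 5, 6, 7, 3, 2, 1, 4, 3, 2, 5, 4, 7, 8, 7, 3, 2, 1, 4, 3, 2, 5, 7, 3, 4, 9, 6, 5]), 1001, 0),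
    ((0, [1, 2, 3, 4, 5, 6, 7, 3, 2, 1, 4, 3, 2, 5, 8, 7, 3, 2, 1, 4, 3, 2, 5, 7, 3, 4, 5, 8, 9, 6, 5]), 1001, 0),
    ((0, [1, 2, 3, 4, 5, 6, 7, 3, 2, 1, 4, 5, 8, 7, 3, 2, 1, 4, 3, 2, 5, 4, 7, 3, 2, 1, 4, 8, 9, 6, 5]), 1001, 0),
    ((0, [1, 2, 3, 4, 5, 6, 7, 3, 2, 4, 3, 8, 7, 3, 2, 1, 4, 3, 2, 5, 4, 3, 7, 8, 9, 6, 5, 4, 3, 2, 1]), 901, 0),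
    ((0, [1, 2, 3, 4, 5, 6, 7, 3, 2, 1, 4, 3, 2, 5, 8, 7, 3, 2, 1, 4, 3, 2, 5, 7, 3, 4, 9, 6, 5, 4, 3]), 1001, 0),
    ((0, [1, 2, 3, 4, 5, 6, 7, 3, 2, 1, 4, 3, 5, 8, 7, 3, 2, 1, 0, 4, 3, 5, 4, 7, 9, 6, 5, 4, 3, 2, 1]), 1001, 0),
    ((0, [1, 2, 3, 4, 5, 6, 7, 3, 2, 1, 4, 3, 5, 7, 8, 7, 3, 2, 1, 4, 3, 7, 8, 9, 6, 5, 4, 3, 2, 7, 3]), 1001, 0),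
    ((0, [1, 2, 3, 4, 5, 6, 7, 3, 2, 1, 4, 3, 5, 8, 7, 3, 2, 1, 4, 3, 5, 7, 8, 9, 6, 5, 4, 3, 2, 7, 3]), 1001, 0),
    ((0, [1, 2, 3, 4, 5, 6, 7, 3, 2, 1, 4, 3, 5, 8, 7, 3, 2, 1, 4, 3, 2, 7, 8, 9, 6, 5, 4, 3, 2, 7, 3]), 1001, 0),
    ((0, [1, 2, 3, 4, 5, 6, 7, 3, 2, 1, 4, 3, 2, 5, 8, 7, 3, 2, 4, 3, 5, 7, 8, 9, 6, 5, 4, 3, 2, 1, 7]), 1001, 0),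
    ((0, [1, 2, 3, 4, 5, 6, 7, 3, 2, 1, 4, 3, 2, 5, 8, 7, 3, 2, 1, 4, 3, 2, 5, 4, 7, 3, 4, 8, 9, 6, 5]), 1001, 0),
    ((0, [1, 2, 3, 4, 5, 6, 7, 3, 2, 1, 4, 5, 8, 7, 3, 2, 1, 4, 3, 2, 5, 4, 7, 3, 2, 1, 4, 5, 9, 6, 5]), 1001, 0),
    ((0, [1, 2, 3, 4, 5, 6, 7, 3, 2, 1, 4, 3, 2, 5, 8, 7, 3, 2, 1, 0, 4, 3, 2, 5, 7, 3, 4, 8, 9, 6, 5]), 1001, 0),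
    ((0, [1, 2, 3, 4, 5, 6, 7, 3, 2, 1, 4, 3, 5, 4, 8, 7, 3, 2, 1, 4, 3, 5, 4, 7, 3, 2, 8, 7, 3, 9, 6]), 1001, 0),
    ((0, [1, 2, 3, 4, 5, 6, 7, 3, 2, 1, 4, 3, 2, 5, 8, 7, 3, 2, 1, 4, 3, 2, 5, 7, 3, 4, 8, 9, 6, 5, 4]), 1001, 0),
    ((0, [1, 2, 3, 4, 5, 6, 7, 3, 2, 1, 4, 3, 2, 5, 8, 7, 3, 2, 1, 4, 3, 2, 5, 6, 7, 3, 4, 8, 9, 6, 5]), 1001, 0),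
    ((0, [1, 2, 3, 4, 5, 6, 7, 3, 2, 1, 4, 3, 2, 5, 8, 7, 3, 2, 1, 4, 3, 2, 5, 7, 3, 4, 8, 7, 9, 6, 5]), 1001, 0),
    ((0, [1, 2, 3, 4, 5, 6, 7, 3, 2, 1, 4, 3, 2, 5, 8, 7, 3, 2, 1, 0, 4, 3, 7, 8, 9, 6, 5, 4, 3, 2, 1]), 1001, 0),
    ((0, [1, 2, 3, 4, 5, 6, 7, 3, 2, 1, 4, 3, 5, 7, 8, 7, 3, 2, 1, 0, 4, 3, 7, 9, 6, 5, 4, 3, 2, 1, 0]), 1001, 0),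
    ((0, [1, 2, 3, 4, 5, 6, 7, 3, 2, 4, 3, 8, 7, 3, 2, 1, 4, 3, 2, 5, 4, 3, 7, 9, 6, 5, 4, 3, 2, 1, 0]), 1001, 0),
    ((0, [1, 2, 3, 4, 5, 6, 7, 3, 2, 1, 4, 5, 8, 7, 3, 2, 4, 3, 5, 4, 7, 8, 9, 6, 5, 4, 3, 2, 1, 0, 7]), 1001, 0),
    ((0, [1, 2, 3, 4, 5, 6, 7, 3, 2, 1, 4, 5, 8, 7, 3, 2, 4, 3, 5, 6, 7, 8, 9, 6, 5, 4, 3, 2, 1, 0, 7]), 1001, 0),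
    ((0, [1, 2, 3, 4, 5, 6, 7, 3, 2, 1, 4, 5, 8, 7, 3, 2, 1, 4, 3, 7, 8, 9, 6, 5, 4, 3, 2, 7, 3, 4, 5]), 1001, 0),
    ((0, [1, 2, 3, 4, 5, 6, 7, 3, 2, 1, 4, 3, 5, 4, 7, 8, 7, 3, 2, 1, 4, 3, 2, 5, 4, 6, 9, 6, 5, 4, 3, 2]), 1001, 0),
    ((0, [1, 2, 3, 4, 5, 6, 7, 3, 2, 1, 4, 3, 5, 4, 7, 8, 7, 3, 2, 1, 4, 3, 5, 4, 9, 6, 5, 4, 3, 2, 7, 3]), 1001, 0),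
    ((0, [1, 2, 3, 4, 5, 6, 7, 3, 2, 1, 4, 3, 5, 8, 7, 3, 2, 4, 3, 5, 4, 7, 3, 2, 1, 0, 9, 6, 5, 4, 3, 7]), 1001, 0),
    ((0, [1, 2, 3, 4, 5, 6, 7, 3, 2, 1, 4, 3, 2, 5, 4, 7, 8, 7, 3, 2, 1, 4, 3, 2, 5, 4, 9, 6, 5, 4, 3, 2]), 1001, 0),
    ((0, [1, 2, 3, 4, 5, 6, 7, 3, 2, 1, 4, 3, 2, 5, 4, 8, 7, 3, 2, 1, 4, 3, 2, 5, 4, 6, 9, 6, 5, 4, 3, 2]), 1001, 0),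
    ((0, [1, 2, 3, 4, 5, 6, 7, 3, 2, 1, 4, 3, 5, 4, 8, 7, 3, 2, 1, 0, 4, 3, 2, 5, 4, 3, 7, 8, 9, 6, 5, 4]), 1001, 0),
    ((0, [1, 2, 3, 4, 5, 6, 7, 3, 2, 1, 4, 3, 5, 4, 7, 8, 7, 3, 2, 1, 4, 3, 5, 4, 6, 7, 8, 9, 6, 5, 4, 3]), 1001, 0),
    ((0, [1, 2, 3, 4, 5, 6, 7, 3, 2, 1, 4, 3, 5, 4, 8, 7, 3, 2, 1, 0, 4, 3, 5, 4, 6, 7, 8, 9, 6, 5, 4, 3]), 1001, 0),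
    ((0, [1, 2, 3, 4, 5, 6, 7, 3, 2, 1, 4, 3, 5, 4, 7, 8, 7, 3, 2, 1, 4, 3, 2, 5, 4, 7, 8, 9, 6, 5, 4, 3]), 1001, 0),
    ((0, [1, 2, 3, 4, 5, 6, 7, 3, 2, 1, 4, 3, 5, 4, 8, 7, 3, 2, 1, 4, 3, 2, 5, 7, 3, 4, 8, 9, 6, 5, 4, 3]), 1001, 0),
    ((0, [1, 2, 3, 4, 5, 6, 7, 3, 2, 1, 4, 3, 5, 8, 7, 3, 2, 1, 4, 3, 2, 5, 6, 7, 3, 4, 8, 9, 6, 5, 4, 3]), 1001, 0),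
    ((0, [1, 2, 3, 4, 5, 6, 7, 3, 2, 1, 4, 3, 5, 7, 8, 7, 3, 2, 1, 4, 3, 2, 5, 4, 6, 7, 8, 9, 6, 5, 4, 3]), 1001, 0),
    ((0, [1, 2, 3, 4, 5, 6, 7, 3, 2, 1, 4, 3, 5, 4, 8, 7, 3, 2, 1, 0, 4, 3, 2, 5, 4, 3, 7, 9, 6, 5, 4, 3]), 1001, 0),
    ((0, [1, 2, 3, 4, 5, 6, 7, 3, 2, 1, 4, 3, 5, 4, 8, 7, 3, 2, 1, 0, 4, 3, 2, 5, 4, 7, 8, 9, 6, 5, 4, 3]), 1001, 0),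
    ((0, [1, 2, 3, 4, 5, 6, 7, 3, 2, 1, 4, 3, 5, 4, 8, 7, 3, 2, 1, 0, 4, 3, 2, 1, 5, 4, 7, 9, 6, 5, 4, 3]), 1001, 0),
    ((0, [1, 2, 3, 4, 5, 6, 7, 3, 2, 1, 4, 3, 5, 4, 8, 7, 3, 2, 1, 4, 3, 2, 5, 4, 6, 7, 8, 9, 6, 5, 4, 3]), 1001, 0),
    ((0, [1, 2, 3, 4, 5, 6, 7, 3, 2, 4, 3, 5, 8, 7, 3, 2, 1, 4, 3, 2, 5, 4, 3, 7, 3, 4, 8, 9, 6, 5, 4, 3]), 1001, 0),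
    ((0, [1, 2, 3, 4, 5, 6, 7, 3, 2, 1, 4, 3, 5, 4, 7, 8, 7, 3, 2, 1, 4, 3, 2, 5, 4, 6, 7, 3, 8, 9, 6, 5]), 1001, 0),
    ((0, [1, 2, 3, 4, 5, 6, 7, 3, 2, 1, 4, 3, 5, 4, 8, 7, 3, 2, 1, 0, 4, 3, 2, 5, 4, 3, 7, 3, 8, 9, 6, 5]), 1001, 0),
    ((0, [1, 2, 3, 4, 5, 6, 7, 3, 2, 1, 4, 3, 5, 4, 8, 7, 3, 2, 1, 0, 4, 3, 2, 1, 5, 4, 7, 3, 8, 9, 6, 5]), 1001, 0),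
    ((0, [1, 2, 3, 4, 5, 6, 7, 3, 2, 1, 4, 3, 5, 4, 8, 7, 3, 2, 1, 0, 4, 3, 2, 5, 4, 6, 7, 3, 8, 9, 6, 5]), 1001, 0),
    ((0, [1, 2, 3, 4, 5, 6, 7, 3, 2, 1, 4, 3, 5, 7, 8, 7, 3, 2, 1, 0, 4, 3, 2, 5, 4, 7, 8, 9, 6, 5, 4, 3]), 1001, 0),
    ((0, [1, 2, 3, 4, 5, 6, 7, 3, 2, 1, 4, 3, 5, 7, 8, 7, 3, 2, 1, 4, 3, 2, 5, 7, 3, 4, 8, 9, 6, 5, 4, 3]), 1001, 0),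
    ((0, [1, 2, 3, 4, 5, 6, 7, 3, 2, 1, 4, 3, 5, 4, 8, 7, 3, 2, 1, 0, 4, 3, 2, 5, 4, 7, 3, 4, 8, 9, 6, 5]), 1001, 0),
    ((0, [1, 2, 3, 4, 5, 6, 7, 3, 2, 1, 4, 3, 5, 4, 8, 7, 3, 2, 1, 4, 3, 2, 5, 4, 3, 7, 8, 9, 6, 5, 4, 3]), 1001, 0),
    ((0, [1, 2, 3, 4, 5, 6, 7, 3, 2, 1, 4, 3, 5, 7, 8, 7, 3, 2, 1, 4, 3, 2, 5, 4, 3, 7, 8, 9, 6, 5, 4, 3]), 1001, 0),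
    ((0, [1, 2, 3, 4, 5, 6, 7, 3, 2, 1, 4, 3, 5, 4, 7, 8, 7, 3, 2, 1, 4, 3, 2, 5, 4, 3, 7, 3, 8, 9, 6, 5]), 1001, 0),
    ((0, [1, 2, 3, 4, 5, 6, 7, 3, 2, 1, 4, 3, 2, 5, 4, 8, 7, 3, 2, 1, 0, 4, 3, 2, 1, 5, 4, 7, 8, 9, 6, 5]), 1001, 0),
    ((0, [1, 2, 3, 4, 5, 6, 7, 3, 2, 1, 4, 3, 5, 4, 8, 7, 3, 2, 1, 4, 3, 2, 5, 7, 3, 4, 5, 8, 9, 6, 5, 4]), 1001, 0),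
    ((0, [1, 2, 3, 4, 5, 6, 7, 3, 2, 1, 4, 3, 2, 5, 4, 7, 8, 7, 3, 2, 1, 4, 3, 2, 5, 4, 7, 3, 8, 9, 6, 5]), 1001, 0),
    ((0, [1, 2, 3, 4, 5, 6, 7, 3, 2, 1, 4, 3, 5, 4, 8, 7, 3, 2, 1, 4, 3, 2, 5, 4, 7, 3, 4, 5, 8, 9, 6, 5]), 1001, 0),
    ((0, [1, 2, 3, 4, 5, 6, 7, 3, 2, 1, 4, 3, 2, 5, 4, 8, 7, 3, 2, 1, 0, 4, 3, 2, 5, 4, 7, 3, 8, 9, 6, 5]), 1001, 0),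
    ((0, [1, 2, 3, 4, 5, 6, 7, 3, 2, 1, 4, 3, 2, 5, 7, 8, 7, 3, 2, 1, 0, 4, 3, 2, 1, 5, 4, 7, 8, 9, 6, 5]), 1001, 0),
    ((0, [1, 2, 3, 4, 5, 6, 7, 3, 2, 1, 4, 3, 2, 5, 8, 7, 3, 2, 1, 0, 4, 3, 2, 1, 5, 4, 7, 8, 9, 6, 5, 4]), 1001, 0),
    ((0, [1, 2, 3, 4, 5, 6, 7, 3, 2, 1, 4, 3, 2, 5, 7, 8, 7, 3, 2, 1, 0, 4, 3, 2, 5, 4, 7, 3, 8, 9, 6, 5]), 1001, 0),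
    ((0, [1, 2, 3, 4, 5, 6, 7, 3, 2, 1, 4, 3, 2, 5, 7, 8, 7, 3, 2, 1, 0, 4, 3, 2, 1, 5, 4, 7, 3, 9, 6, 5]), 1001, 0),
    ((0, [1, 2, 3, 4, 5, 6, 7, 3, 2, 1, 4, 3, 2, 5, 8, 7, 3, 2, 1, 0, 4, 3, 2, 1, 5, 4, 7, 3, 8, 9, 6, 5]), 1001, 0),
    ((0, [1, 2, 3, 4, 5, 6, 7, 3, 2, 1, 4, 3, 2, 5, 4, 8, 7, 3, 2, 1, 0, 4, 3, 5, 4, 7, 8, 9, 6, 5, 4, 3]), 1001, 0),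
    ((0, [1, 2, 3, 4, 5, 6, 7, 3, 2, 1, 4, 3, 2, 5, 4, 8, 7, 3, 2, 1, 4, 3, 2, 5, 4, 7, 8, 9, 6, 5, 4, 3]), 1001, 0),
    ((0, [1, 2, 3, 4, 5, 6, 7, 3, 2, 1, 4, 3, 2, 5, 8, 7, 3, 2, 1, 0, 4, 3, 2, 5, 4, 7, 8, 9, 6, 5, 4, 3]), 1001, 0),
    ((0, [1, 2, 3, 4, 5, 6, 7, 3, 2, 1, 4, 3, 5, 8, 7, 3, 2, 1, 4, 3, 2, 5, 7, 3, 4, 5, 8, 9, 6, 5, 4, 3]), 1001, 0),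
    ((0, [1, 2, 3, 4, 5, 6, 7, 3, 2, 1, 4, 3, 2, 5, 7, 8, 7, 3, 2, 1, 4, 3, 2, 5, 4, 7, 8, 9, 6, 5, 4, 3]), 1001, 0),
    ((0, [1, 2, 3, 4, 5, 6, 7, 3, 2, 1, 4, 3, 2, 5, 7, 8, 7, 3, 2, 1, 0, 4, 3, 2, 5, 4, 7, 9, 6, 5, 4, 3]), 1001, 0),
    ((0, [1, 2, 3, 4, 5, 6, 7, 3, 2, 1, 4, 3, 5, 4, 7, 8, 7, 3, 2, 1, 4, 3, 2, 5, 4, 7, 9, 6, 5, 4, 3, 7]), 1001, 0),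
    ((0, [1, 2, 3, 4, 5, 6, 7, 3, 2, 1, 4, 3, 5, 4, 8, 7, 3, 2, 1, 4, 3, 2, 5, 7, 3, 4, 9, 6, 5, 4, 3, 7]), 1001, 0),
    ((0, [1, 2, 3, 4, 5, 6, 7, 3, 2, 1, 4, 3, 5, 8, 7, 3, 2, 1, 4, 3, 2, 5, 6, 7, 3, 4, 9, 6, 5, 4, 3, 7]), 1001, 0),
    ((0, [1, 2, 3, 4, 5, 6, 7, 3, 2, 1, 4, 3, 5, 7, 8, 7, 3, 2, 1, 4, 3, 2, 5, 4, 6, 7, 9, 6, 5, 4, 3, 7]), 1001, 0),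
    ((0, [1, 2, 3, 4, 5, 6, 7, 3, 2, 1, 4, 3, 5, 7, 8, 7, 3, 2, 1, 0, 4, 3, 2, 5, 4, 7, 9, 6, 5, 4, 3, 7]), 1001, 0),
    ((0, [1, 2, 3, 4, 5, 6, 7, 3, 2, 1, 4, 3, 5, 8, 7, 3, 2, 1, 4, 3, 2, 5, 7, 3, 4, 5, 9, 6, 5, 4, 3, 7]), 1001, 0),
    ((0, [1, 2, 3, 4, 5, 6, 7, 3, 2, 1, 4, 3, 2, 5, 7, 8, 7, 3, 2, 1, 4, 3, 2, 5, 4, 7, 9, 6, 5, 4, 3, 7]), 1001, 0),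
    ((0, [1, 2, 3, 4, 5, 6, 7, 3, 2, 1, 4, 3, 2, 5, 4, 8, 7, 3, 2, 1, 4, 3, 2, 5, 4, 7, 9, 6, 5, 4, 3, 2]), 1001, 0),
    ((0, [1, 2, 3, 4, 5, 6, 7, 3, 2, 1, 4, 3, 5, 7, 8, 7, 3, 2, 1, 4, 3, 2, 5, 7, 3, 4, 9, 6, 5, 4, 3, 7]), 1001, 0),
    ((0, [1, 2, 3, 4, 5, 6, 7, 3, 2, 1, 4, 3, 5, 4, 8, 7, 3, 2, 1, 4, 3, 2, 5, 4, 7, 9, 6, 5, 4, 3, 2, 1]), 1001, 0),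
    ((0, [1, 2, 3, 4, 5, 6, 7, 3, 2, 1, 4, 3, 5, 4, 8, 7, 3, 2, 1, 4, 3, 2, 5, 4, 6, 7, 9, 6, 5, 4, 3, 7]), 1001, 0),
    ((0, [1, 2, 3, 4, 5, 6, 7, 3, 2, 4, 3, 5, 8, 7, 3, 2, 1, 4, 3, 2, 5, 4, 3, 7, 3, 4, 9, 6, 5, 4, 3, 7]), 1001, 0),
    ((0, [1, 2, 3, 4, 5, 6, 7, 3, 2, 1, 4, 3, 5, 7, 8, 7, 3, 2, 1, 4, 3, 2, 5, 4, 3, 7, 9, 6, 5, 4, 3, 7]), 1001, 0),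
    ((0, [1, 2, 3, 4, 5, 6, 7, 3, 2, 1, 4, 3, 2, 5, 8, 7, 3, 2, 1, 0, 4, 3, 2, 1, 5, 4, 9, 6, 5, 4, 3, 2]), 1001, 0),
    ((0, [1, 2, 3, 4, 5, 6, 7, 3, 2, 1, 4, 3, 2, 5, 7, 3, 8, 7, 3, 2, 1, 0, 4, 3, 2, 1, 7, 8, 9, 6, 5, 4]), 1001, 0),
    ((0, [1, 2, 3, 4, 5, 6, 7, 3, 2, 1, 4, 5, 8, 7, 3, 2, 1, 4, 3, 2, 5, 6, 7, 3, 9, 6, 5, 4, 3, 2, 7, 8]), 901, 0),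
    ((0, [1, 2, 3, 4, 5, 6, 7, 3, 2, 1, 4, 5, 8, 7, 3, 2, 1, 4, 3, 2, 5, 7, 3, 4, 9, 6, 5, 4, 3, 2, 7, 8]), 1001, 0),
    ((0, [1, 2, 3, 4, 5, 6, 7, 3, 2, 1, 4, 3, 5, 4, 7, 8, 7, 3, 2, 1, 4, 3, 5, 4, 7, 8, 9, 6, 5, 4, 3, 2]), 1001, 0),
    ((0, [1, 2, 3, 4, 5, 6, 7, 3, 2, 1, 4, 5, 8, 7, 3, 2, 1, 4, 3, 2, 5, 6, 7, 3, 4, 8, 9, 6, 5, 4, 3, 2]), 1001, 0),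
    ((0, [1, 2, 3, 4, 5, 6, 7, 3, 2, 1, 4, 3, 5, 8, 7, 3, 2, 1, 4, 3, 2, 5, 7, 3, 4, 8, 9, 6, 5, 4, 3, 2]), 1001, 0),
    ((0, [1, 2, 3, 4, 5, 6, 7, 3, 2, 1, 4, 5, 8, 7, 3, 2, 1, 4, 3, 2, 5, 7, 3, 4, 5, 8, 9, 6, 5, 4, 3, 2]), 1001, 0),
    ((0, [1, 2, 3, 4, 5, 6, 7, 3, 2, 1, 4, 3, 5, 8, 7, 3, 2, 1, 4, 3, 2, 5, 7, 3, 4, 5, 9, 6, 5, 4, 3, 2]), 1001, 0),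
    ((0, [1, 2, 3, 4, 5, 6, 7, 3, 2, 1, 4, 3, 5, 8, 7, 3, 2, 1, 4, 3, 2, 7, 3, 4, 5, 8, 9, 6, 5, 4, 3, 2]), 1001, 0),
    ((0, [1, 2, 3, 4, 5, 6, 7, 3, 2, 1, 4, 3, 5, 4, 7, 8, 7, 3, 2, 4, 3, 5, 4, 6, 7, 8, 9, 6, 5, 4, 3, 2]), 1001, 0),
    ((0, [1, 2, 3, 4, 5, 6, 7, 3, 2, 1, 4, 3, 2, 5, 4, 7, 8, 7, 3, 2, 4, 3, 5, 4, 7, 8, 9, 6, 5, 4, 3, 2]), 1001, 0),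
    ((0, [1, 2, 3, 4, 5, 6, 7, 3, 2, 1, 4, 3, 2, 5, 7, 3, 8, 7, 3, 2, 1, 4, 3, 2, 7, 8, 9, 6, 5, 4, 3, 7]), 1001, 0),
    ((0, [1, 2, 3, 4, 5, 6, 7, 3, 2, 1, 4, 3, 5, 4, 7, 8, 7, 3, 2, 1, 4, 3, 5, 4, 7, 8, 9, 6, 5, 4, 3, 7]), 1001, 0),
    ((0, [1, 2, 3, 4, 5, 6, 7, 3, 2, 1, 4, 5, 8, 7, 3, 2, 1, 4, 3, 2, 5, 6, 7, 3, 4, 8, 9, 6, 5, 4, 3, 7]), 1001, 0),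
    ((0, [1, 2, 3, 4, 5, 6, 7, 3, 2, 1, 4, 3, 5, 4, 7, 8, 7, 3, 2, 4, 3, 5, 4, 6, 7, 8, 9, 6, 5, 4, 3, 7]), 1001, 0),
    ((0, [1, 2, 3, 4, 5, 6, 7, 3, 2, 1, 4, 3, 5, 4, 8, 7, 3, 2, 1, 0, 4, 3, 5, 4, 7, 8, 9, 6, 5, 4, 3, 7]), 1001, 0),
    ((0, [1, 2, 3, 4, 5, 6, 7, 3, 2, 1, 4, 5, 8, 7, 3, 2, 1, 4, 3, 2, 5, 7, 3, 4, 5, 8, 9, 6, 5, 4, 3, 7]), 1001, 0),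
    ((0, [1, 2, 3, 4, 5, 6, 7, 3, 2, 1, 4, 3, 2, 5, 4, 7, 8, 7, 3, 2, 4, 3, 5, 4, 7, 8, 9, 6, 5, 4, 3, 7]), 1001, 0),
    ((0, [1, 2, 3, 4, 5, 6, 7, 3, 2, 1, 4, 5, 8, 7, 3, 2, 1, 4, 3, 2, 5, 4, 7, 3, 9, 6, 5, 4, 3, 2, 7, 8]), 1001, 0),
    ((0, [1, 2, 3, 4, 5, 6, 7, 3, 2, 1, 4, 5, 8, 7, 3, 2, 1, 4, 3, 2, 5, 4, 7, 3, 4, 8, 9, 6, 5, 4, 3, 2]), 1001, 0),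
    ((0, [1, 2, 3, 4, 5, 6, 7, 3, 2, 1, 4, 5, 8, 7, 3, 2, 1, 4, 3, 2, 5, 4, 6, 7, 3, 8, 9, 6, 5, 4, 3, 2]), 1001, 0),
    ((0, [1, 2, 3, 4, 5, 6, 7, 3, 2, 1, 4, 3, 5, 4, 7, 8, 7, 3, 2, 4, 3, 5, 4, 7, 8, 9, 6, 5, 4, 3, 2, 1]), 1001, 0),
    ((0, [1, 2, 3, 4, 5, 6, 7, 3, 2, 1, 4, 5, 8, 7, 3, 2, 1, 4, 3, 2, 5, 4, 7, 3, 4, 8, 9, 6, 5, 4, 3, 7]), 1001, 0),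
    ((0, [1, 2, 3, 4, 5, 6, 7, 3, 2, 1, 4, 3, 5, 4, 7, 8, 7, 3, 2, 4, 3, 5, 4, 6, 7, 9, 6, 5, 4, 3, 2, 1]), 1001, 0),
    ((0, [1, 2, 3, 4, 5, 6, 7, 3, 2, 1, 4, 3, 2, 8, 7, 3, 2, 4, 3, 5, 4, 6, 7, 3, 2, 9, 6, 5, 4, 3, 7, 8]), 1001, 0),
    ((0, [1, 2, 3, 4, 5, 6, 7, 3, 2, 1, 4, 5, 8, 7, 3, 2, 1, 4, 3, 2, 5, 6, 7, 3, 4, 5, 9, 6, 5, 4, 3, 7]), 1001, 0),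
    ((0, [1, 2, 3, 4, 5, 6, 7, 3, 2, 1, 4, 3, 5, 4, 8, 7, 3, 2, 1, 4, 3, 2, 5, 4, 6, 5, 9, 6, 5, 4, 3, 2]), 1001, 0),
    ((0, [1, 2, 3, 4, 5, 6, 7, 3, 2, 1, 4, 3, 2, 5, 8, 7, 3, 2, 4, 3, 5, 4, 6, 7, 3, 2, 1, 8, 9, 6, 5, 4]), 1001, 0),
    ((0, [1, 2, 3, 4, 5, 6, 7, 3, 2, 1, 4, 3, 5, 8, 7, 3, 2, 1, 4, 3, 2, 5, 6, 7, 3, 4, 5, 8, 9, 6, 5, 4]), 1001, 0),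
    ((0, [1, 2, 3, 4, 5, 6, 7, 3, 2, 1, 4, 5, 8, 7, 3, 2, 1, 4, 3, 2, 5, 6, 7, 3, 4, 5, 8, 9, 6, 5, 4, 3]), 1001, 0),
    ((0, [1, 2, 3, 4, 5, 6, 7, 3, 2, 1, 4, 3, 5, 4, 8, 7, 3, 2, 1, 0, 4, 3, 5, 4, 6, 5, 7, 8, 9, 6, 5, 4]), 1001, 0),
    ((0, [1, 2, 3, 4, 5, 6, 7, 3, 2, 1, 4, 3, 5, 4, 8, 7, 3, 2, 1, 4, 3, 2, 5, 4, 6, 5, 7, 8, 9, 6, 5, 4]), 1001, 0),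
    ((0, [1, 2, 3, 4, 5, 6, 7, 3, 2, 1, 4, 3, 5, 4, 8, 7, 3, 2, 1, 0, 4, 3, 2, 5, 4, 6, 5, 7, 8, 9, 6, 5]), 1001, 0),
    ((0, [1, 2, 3, 4, 5, 6, 7, 3, 2, 1, 4, 3, 2, 5, 4, 8, 7, 3, 2, 1, 0, 4, 3, 2, 5, 4, 3, 7, 8, 9, 6, 5]), 1001, 0),
    ((0, [1, 2, 3, 4, 5, 6, 7, 3, 2, 4, 3, 5, 8, 7, 3, 2, 1, 4, 3, 2, 5, 4, 3, 7, 3, 4, 5, 8, 9, 6, 5, 4]), 1001, 0),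
    ((0, [1, 2, 3, 4, 5, 6, 7, 3, 2, 1, 4, 3, 5, 8, 7, 3, 2, 1, 4, 3, 2, 5, 6, 7, 3, 4, 5, 9, 6, 5, 4, 3]), 1001, 0),
    ((0, [1, 2, 3, 4, 5, 6, 7, 3, 2, 1, 4, 3, 2, 5, 8, 7, 3, 2, 1, 0, 4, 3, 2, 5, 4, 3, 7, 9, 6, 5, 4, 3]), 1001, 0),
    ((0, [1, 2, 3, 4, 5, 6, 7, 3, 2, 1, 4, 3, 2, 5, 8, 7, 3, 2, 1, 0, 4, 3, 2, 1, 5, 4, 3, 7, 3, 9, 6, 5]), 1001, 0),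
    ((0, [1, 2, 3, 4, 5, 6, 7, 3, 2, 1, 4, 3, 5, 8, 7, 3, 2, 1, 4, 3, 2, 5, 4, 6, 7, 3, 4, 5, 8, 9, 6, 5]), 1001, 0),
    ((0, [1, 2, 3, 4, 5, 6, 7, 3, 2, 1, 4, 3, 2, 5, 8, 7, 3, 2, 1, 0, 4, 3, 2, 5, 4, 3, 7, 3, 8, 9, 6, 5]), 1001, 0)]

/-- Part 35 of the cycles. -/
def reps35 : List ((Nat × List Nat) × Nat × Nat) :=
  [
    ((0, [1, 2, 3, 4, 5, 6, 7, 3, 2, 1, 4, 3, 2, 5, 4, 8, 7, 3, 2, 1, 0, 4, 3, 2, 5, 4, 3, 7, 3, 9, 6, 5]), 1001, 0),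
    ((0, [1, 2, 3, 4, 5, 6, 7, 3, 2, 1, 4, 5, 8, 7, 3, 2, 1, 4, 3, 2, 5, 4, 6, 7, 3, 4, 5, 8, 9, 6, 5, 4]), 1001, 0),
    ((0, [1, 2, 3, 4, 5, 6, 7, 3, 2, 1, 4, 3, 2, 8, 7, 3, 2, 1, 4, 3, 5, 4, 7, 3, 2, 1, 9, 6, 5, 4, 3, 2]), 1001, 0),
    ((0, [1, 2, 3, 4, 5, 6, 7, 3, 2, 1, 4, 3, 5, 4, 7, 8, 7, 3, 2, 4, 3, 5, 4, 7, 3, 2, 1, 0, 8, 9, 6, 5]), 1001, 0),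
    ((0, [1, 2, 3, 4, 5, 6, 7, 3, 2, 1, 4, 3, 5, 7, 8, 7, 3, 2, 1, 4, 3, 5, 4, 7, 3, 2, 8, 9, 6, 5, 4, 3]), 1001, 0),
    ((0, [1, 2, 3, 4, 5, 6, 7, 3, 2, 1, 4, 3, 5, 4, 8, 7, 3, 2, 1, 4, 3, 2, 5, 4, 6, 5, 7, 3, 8, 9, 6, 5]), 1001, 0),
    ((0, [1, 2, 3, 4, 5, 6, 7, 3, 2, 1, 4, 3, 5, 8, 7, 3, 2, 1, 4, 3, 2, 5, 4, 3, 7, 3, 4, 5, 8, 9, 6, 5]), 1001, 0),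
    ((0, [1, 2, 3, 4, 5, 6, 7, 3, 2, 1, 4, 3, 5, 4, 8, 7, 3, 2, 1, 4, 3, 5, 4, 7, 3, 2, 9, 6, 5, 4, 3, 2]), 1001, 0),
    ((0, [1, 2, 3, 4, 5, 6, 7, 3, 2, 1, 4, 3, 5, 7, 8, 7, 3, 2, 1, 4, 3, 5, 4, 7, 3, 2, 9, 6, 5, 4, 3, 7]), 1001, 0),
    ((0, [1, 2, 3, 4, 5, 6, 7, 3, 2, 1, 4, 3, 2, 5, 4, 8, 7, 3, 2, 4, 3, 5, 4, 6, 5, 7, 9, 6, 5, 4, 3, 2]), 1001, 0),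
    ((0, [1, 2, 3, 4, 5, 6, 7, 3, 2, 1, 4, 3, 2, 5, 4, 8, 7, 3, 2, 1, 4, 3, 2, 5, 4, 3, 7, 8, 9, 6, 5, 4]), 1001, 0),
    ((0, [1, 2, 3, 4, 5, 6, 7, 3, 2, 1, 4, 3, 2, 5, 4, 7, 8, 7, 3, 2, 1, 4, 3, 2, 5, 4, 3, 7, 8, 9, 6, 5]), 1001, 0),
    ((0, [1, 2, 3, 4, 5, 6, 7, 3, 2, 1, 4, 3, 2, 5, 8, 7, 3, 2, 1, 4, 3, 2, 5, 4, 3, 7, 8, 9, 6, 5, 4, 3]), 1001, 0),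
    ((0, [1, 2, 3, 4, 5, 6, 7, 3, 2, 1, 4, 3, 2, 5, 4, 8, 7, 3, 2, 1, 4, 3, 2, 5, 4, 3, 7, 3, 8, 9, 6, 5]), 1001, 0),
    ((0, [1, 2, 3, 4, 5, 6, 7, 3, 2, 1, 4, 3, 2, 5, 7, 8, 7, 3, 2, 1, 4, 3, 2, 5, 4, 3, 7, 9, 6, 5, 4, 3]), 1001, 0),
    ((0, [1, 2, 3, 4, 5, 6, 7, 3, 2, 1, 4, 3, 2, 5, 7, 8, 7, 3, 2, 1, 4, 3, 2, 5, 4, 3, 7, 3, 8, 9, 6, 5]), 1001, 0),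
    ((0, [1, 2, 3, 4, 5, 6, 7, 3, 2, 1, 4, 3, 2, 5, 4, 7, 8, 7, 3, 2, 1, 4, 3, 2, 5, 4, 3, 7, 3, 9, 6, 5]), 1001, 0),
    ((0, [1, 2, 3, 4, 5, 6, 7, 3, 2, 1, 4, 3, 5, 4, 8, 7, 3, 2, 4, 3, 5, 4, 6, 5, 7, 8, 9, 6, 5, 4, 3, 2]), 1001, 0),
    ((0, [1, 2, 3, 4, 5, 6, 7, 3, 2, 1, 4, 3, 2, 5, 4, 8, 7, 3, 2, 1, 4, 3, 2, 5, 4, 9, 6, 5, 4, 3, 7, 8]), 1001, 0),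
    ((0, [1, 2, 3, 4, 5, 6, 7, 3, 2, 1, 4, 3, 5, 4, 8, 7, 3, 2, 1, 4, 3, 2, 5, 4, 7, 8, 9, 6, 5, 4, 3, 2]), 1001, 0),
    ((0, [1, 2, 3, 4, 5, 6, 7, 3, 2, 1, 4, 3, 5, 4, 8, 7, 3, 2, 1, 4, 3, 2, 5, 4, 7, 9, 6, 5, 4, 3, 7, 8]), 1001, 0),
    ((0, [1, 2, 3, 4, 5, 6, 7, 3, 2, 1, 4, 3, 5, 4, 8, 7, 3, 2, 1, 4, 3, 2, 5, 4, 3, 9, 6, 5, 4, 3, 7, 8]), 1001, 0),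
    ((0, [1, 2, 3, 4, 5, 6, 7, 3, 2, 1, 4, 3, 2, 5, 4, 8, 7, 3, 2, 4, 3, 5, 4, 6, 7, 8, 9, 6, 5, 4, 3, 2]), 1001, 0),
    ((0, [1, 2, 3, 4, 5, 6, 7, 3, 2, 1, 4, 3, 2, 5, 4, 8, 7, 3, 2, 4, 3, 5, 4, 6, 7, 8, 9, 6, 5, 4, 3, 7]), 1001, 0),
    ((0, [1, 2, 3, 4, 5, 6, 7, 3, 2, 1, 4, 3, 2, 5, 4, 8, 7, 3, 2, 1, 4, 3, 2, 7, 3, 4, 8, 7, 9, 6, 5, 4]), 901, 0),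
    ((0, [1, 2, 3, 4, 5, 6, 7, 3, 2, 1, 4, 3, 2, 5, 4, 8, 7, 3, 2, 1, 4, 3, 2, 7, 3, 4, 5, 8, 7, 9, 6, 5]), 1001, 0),
    ((0, [1, 2, 3, 4, 5, 6, 7, 3, 2, 1, 4, 3, 2, 5, 7, 8, 7, 3, 2, 1, 4, 3, 2, 7, 3, 4, 5, 8, 7, 9, 6, 5]), 1001, 0),
    ((0, [1, 2, 3, 4, 5, 6, 7, 3, 2, 1, 4, 3, 2, 5, 4, 3, 8, 7, 3, 2, 1, 4, 3, 2, 7, 3, 4, 5, 8, 9, 6, 5]), 1001, 0),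
    ((0, [1, 2, 3, 4, 5, 6, 7, 3, 2, 1, 4, 3, 5, 7, 8, 7, 3, 2, 1, 0, 4, 3, 5, 4, 7, 8, 9, 6, 5, 4, 3, 2]), 1001, 0),
    ((0, [1, 2, 3, 4, 5, 6, 7, 3, 2, 1, 4, 3, 5, 7, 8, 7, 3, 2, 1, 4, 3, 2, 5, 4, 7, 8, 9, 6, 5, 4, 3, 2]), 1001, 0),
    ((0, [1, 2, 3, 4, 5, 6, 7, 3, 2, 1, 4, 3, 5, 8, 7, 3, 2, 1, 4, 3, 2, 5, 4, 3, 7, 8, 9, 6, 5, 4, 3, 2]), 1001, 0),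
    ((0, [1, 2, 3, 4, 5, 6, 7, 3, 2, 1, 4, 3, 2, 5, 7, 8, 7, 3, 2, 1, 4, 3, 2, 5, 4, 7, 9, 6, 5, 4, 3, 2]), 1001, 0),
    ((0, [1, 2, 3, 4, 5, 6, 7, 3, 2, 1, 4, 3, 5, 7, 8, 7, 3, 2, 1, 0, 4, 3, 5, 4, 7, 8, 9, 6, 5, 4, 3, 7]), 1001, 0),
    ((0, [1, 2, 3, 4, 5, 6, 7, 3, 2, 1, 4, 3, 5, 8, 7, 3, 2, 1, 0, 4, 3, 5, 4, 6, 7, 8, 9, 6, 5, 4, 3, 7]), 1001, 0),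
    ((0, [1, 2, 3, 4, 5, 6, 7, 3, 2, 1, 4, 3, 8, 7, 3, 2, 1, 4, 3, 2, 5, 4, 3, 7, 3, 8, 9, 6, 5, 4, 3, 2]), 1001, 0),
    ((0, [1, 2, 3, 4, 5, 6, 7, 3, 2, 1, 4, 3, 8, 7, 3, 2, 1, 4, 3, 2, 5, 4, 3, 7, 3, 8, 9, 6, 5, 4, 3, 7]), 1001, 0),
    ((0, [1, 2, 3, 4, 5, 6, 7, 3, 2, 1, 4, 3, 5, 8, 7, 3, 2, 1, 0, 4, 3, 5, 4, 6, 7, 8, 9, 6, 5, 4, 3, 2]), 1001, 0),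
    ((0, [1, 2, 3, 4, 5, 6, 7, 3, 2, 1, 4, 3, 2, 5, 4, 7, 8, 7, 3, 2, 1, 4, 3, 2, 7, 8, 9, 6, 5, 4, 3, 7]), 1001, 0),
    ((0, [1, 2, 3, 4, 5, 6, 7, 3, 2, 1, 4, 3, 2, 5, 7, 8, 7, 3, 2, 1, 4, 3, 2, 5, 7, 8, 9, 6, 5, 4, 3, 7]), 1001, 0),
    ((0, [1, 2, 3, 4, 5, 6, 7, 3, 2, 1, 4, 3, 5, 8, 7, 3, 2, 1, 4, 3, 2, 5, 7, 3, 4, 8, 9, 6, 5, 4, 3, 7]), 1001, 0),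
    ((0, [1, 2, 3, 4, 5, 6, 7, 3, 2, 1, 4, 3, 5, 7, 8, 7, 3, 2, 1, 4, 3, 2, 5, 4, 7, 8, 9, 6, 5, 4, 3, 7]), 1001, 0),
    ((0, [1, 2, 3, 4, 5, 6, 7, 3, 2, 1, 4, 3, 5, 4, 8, 7, 3, 2, 1, 4, 3, 2, 5, 4, 7, 8, 9, 6, 5, 4, 3, 7]), 1001, 0),
    ((0, [1, 2, 3, 4, 5, 6, 7, 3, 2, 1, 4, 3, 5, 8, 7, 3, 2, 1, 0, 4, 3, 2, 5, 4, 7, 8, 9, 6, 5, 4, 3, 7]), 1001, 0),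
    ((0, [1, 2, 3, 4, 5, 6, 7, 3, 2, 1, 4, 3, 2, 5, 8, 7, 3, 2, 1, 4, 3, 2, 5, 4, 7, 8, 9, 6, 5, 4, 3, 7]), 1001, 0),
    ((0, [1, 2, 3, 4, 5, 6, 7, 3, 2, 1, 4, 3, 5, 7, 8, 7, 3, 2, 1, 4, 3, 2, 5, 6, 7, 8, 9, 6, 5, 4, 3, 7]), 901, 0),
    ((0, [1, 2, 3, 4, 5, 6, 7, 3, 2, 1, 4, 3, 5, 8, 7, 3, 2, 1, 4, 3, 2, 5, 4, 6, 7, 8, 9, 6, 5, 4, 3, 7]), 1001, 0),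
    ((0, [1, 2, 3, 4, 5, 6, 7, 3, 2, 1, 4, 3, 5, 8, 7, 3, 2, 1, 4, 3, 2, 5, 4, 3, 7, 8, 9, 6, 5, 4, 3, 7]), 1001, 0),
    ((0, [1, 2, 3, 4, 5, 6, 7, 3, 2, 1, 4, 3, 5, 8, 7, 3, 2, 1, 4, 3, 2, 5, 4, 7, 3, 4, 5, 8, 9, 6, 5, 4]), 1001, 0),
    ((0, [1, 2, 3, 4, 5, 6, 7, 3, 2, 1, 4, 3, 2, 5, 8, 7, 3, 2, 1, 4, 3, 2, 5, 4, 3, 7, 3, 8, 9, 6, 5, 4]), 1001, 0),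
    ((0, [1, 2, 3, 4, 5, 6, 7, 3, 2, 1, 4, 3, 2, 5, 4, 8, 7, 3, 2, 4, 3, 5, 4, 6, 5, 7, 3, 8, 9, 6, 5, 4]), 1001, 0),
    ((0, [1, 2, 3, 4, 5, 6, 7, 3, 2, 1, 4, 3, 5, 4, 7, 8, 7, 3, 2, 1, 4, 3, 2, 5, 4, 7, 3, 2, 8, 9, 6, 5]), 1001, 0),
    ((0, [1, 2, 3, 4, 5, 6, 7, 3, 2, 1, 4, 3, 5, 8, 7, 3, 2, 1, 4, 3, 2, 5, 4, 7, 3, 2, 4, 5, 8, 9, 6, 5]), 1001, 0),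
    ((0, [1, 2, 3, 4, 5, 6, 7, 3, 2, 1, 4, 5, 8, 7, 3, 2, 1, 4, 3, 2, 5, 4, 7, 3, 2, 4, 5, 8, 9, 6, 5, 4]), 1001, 0),
    ((0, [1, 2, 3, 4, 5, 6, 7, 3, 2, 1, 4, 3, 2, 5, 7, 8, 7, 3, 2, 1, 4, 3, 2, 5, 4, 7, 3, 4, 8, 9, 6, 5]), 1001, 0),
    ((0, [1, 2, 3, 4, 5, 6, 7, 3, 2, 1, 4, 3, 2, 5, 7, 8, 7, 3, 2, 1, 4, 3, 2, 5, 7, 3, 4, 8, 9, 6, 5, 4]), 1001, 0),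
    ((0, [1, 2, 3, 4, 5, 6, 7, 3, 2, 1, 4, 3, 5, 8, 7, 3, 2, 1, 4, 3, 2, 5, 4, 7, 3, 2, 4, 8, 9, 6, 5, 4]), 1001, 0),
    ((0, [1, 2, 3, 4, 5, 6, 7, 3, 2, 1, 4, 3, 2, 5, 7, 8, 7, 3, 2, 1, 4, 3, 2, 5, 7, 3, 4, 5, 8, 9, 6, 5]), 1001, 0),
    ((0, [1, 2, 3, 4, 5, 6, 7, 3, 2, 1, 4, 3, 5, 4, 8, 7, 3, 2, 1, 0, 4, 3, 5, 4, 6, 7, 3, 8, 7, 9, 6, 5]), 1001, 0),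
    ((0, [1, 2, 3, 4, 5, 6, 7, 3, 2, 1, 4, 3, 2, 5, 4, 8, 7, 3, 2, 1, 0, 4, 3, 5, 4, 7, 3, 8, 7, 9, 6, 5]), 1001, 0),
    ((0, [1, 2, 3, 4, 5, 6, 7, 3, 2, 1, 4, 3, 5, 4, 7, 8, 7, 3, 2, 4, 3, 5, 4, 6, 7, 3, 8, 7, 9, 6, 5, 4]), 1001, 0),
    ((0, [1, 2, 3, 4, 5, 6, 7, 3, 2, 1, 4, 5, 8, 7, 3, 2, 1, 4, 3, 2, 5, 4, 6, 7, 3, 4, 8, 7, 9, 6, 5, 4]), 1001, 0),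
    ((0, [1, 2, 3, 4, 5, 6, 7, 3, 2, 1, 4, 5, 8, 7, 3, 2, 1, 4, 3, 2, 5, 4, 7, 3, 4, 5, 8, 7, 9, 6, 5, 4]), 1001, 0),
    ((0, [1, 2, 3, 4, 5, 6, 7, 3, 2, 1, 4, 3, 2, 5, 4, 8, 7, 3, 2, 4, 3, 5, 4, 6, 7, 3, 2, 8, 7, 9, 6, 5]), 1001, 0),
    ((0, [1, 2, 3, 4, 5, 6, 7, 3, 2, 1, 4, 5, 8, 7, 3, 2, 1, 4, 3, 2, 5, 4, 6, 7, 3, 4, 5, 8, 7, 9, 6, 5]), 1001, 0),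
    ((0, [1, 2, 3, 4, 5, 6, 7, 3, 2, 1, 4, 3, 2, 5, 7, 3, 8, 7, 3, 2, 1, 4, 3, 2, 7, 3, 4, 5, 8, 9, 6, 5]), 1001, 0),
    ((0, [1, 2, 3, 4, 5, 6, 7, 3, 2, 1, 4, 3, 5, 8, 7, 3, 2, 1, 0, 4, 3, 2, 5, 4, 7, 8, 9, 6, 5, 4, 3, 2]), 1001, 0),
    ((0, [1, 2, 3, 4, 5, 6, 7, 3, 2, 1, 4, 3, 2, 5, 8, 7, 3, 2, 1, 4, 3, 2, 5, 4, 7, 8, 9, 6, 5, 4, 3, 2]), 1001, 0),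
    ((0, [1, 2, 3, 4, 5, 6, 7, 3, 2, 1, 4, 3, 5, 8, 7, 3, 2, 1, 4, 3, 2, 5, 4, 6, 7, 8, 9, 6, 5, 4, 3, 2]), 1001, 0),
    ((0, [1, 2, 3, 4, 5, 6, 7, 3, 2, 1, 4, 3, 5, 7, 8, 7, 3, 2, 1, 4, 3, 5, 4, 7, 3, 2, 9, 6, 5, 4, 3, 2]), 1001, 0),
    ((0, [1, 2, 3, 4, 5, 6, 7, 3, 2, 1, 4, 3, 5, 8, 7, 3, 2, 1, 0, 4, 3, 5, 4, 7, 3, 8, 9, 6, 5, 4, 3, 2]), 1001, 0),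
    ((0, [1, 2, 3, 4, 5, 6, 7, 3, 2, 1, 4, 3, 5, 8, 7, 3, 2, 1, 0, 4, 3, 5, 4, 7, 3, 8, 9, 6, 5, 4, 3, 7]), 1001, 0),
    ((0, [1, 2, 3, 4, 5, 6, 7, 3, 2, 1, 4, 3, 2, 5, 8, 7, 3, 2, 1, 0, 4, 3, 2, 5, 4, 7, 3, 8, 9, 6, 5, 4]), 1001, 0),
    ((0, [1, 2, 3, 4, 5, 6, 7, 3, 2, 1, 4, 3, 2, 5, 8, 7, 3, 2, 1, 4, 3, 2, 5, 4, 6, 5, 7, 3, 8, 9, 6, 5]), 1001, 0),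
    ((0, [1, 2, 3, 4, 5, 6, 7, 3, 2, 1, 4, 3, 2, 5, 8, 7, 3, 2, 1, 0, 4, 3, 2, 5, 4, 6, 7, 3, 8, 9, 6, 5]), 1001, 0),
    ((0, [1, 2, 3, 4, 5, 6, 7, 3, 2, 1, 4, 3, 5, 8, 7, 3, 2, 1, 4, 3, 2, 5, 4, 3, 7, 3, 2, 8, 9, 6, 5, 4]), 1001, 0),
    ((0, [1, 2, 3, 4, 5, 6, 7, 3, 2, 1, 4, 3, 5, 4, 7, 8, 7, 3, 2, 1, 4, 3, 2, 5, 4, 7, 3, 8, 7, 9, 6, 5]), 1001, 0),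
    ((0, [1, 2, 3, 4, 5, 6, 7, 3, 2, 1, 4, 3, 5, 4, 8, 7, 3, 2, 1, 0, 4, 3, 2, 5, 4, 7, 3, 8, 7, 9, 6, 5]), 1001, 0),
    ((0, [1, 2, 3, 4, 5, 6, 7, 3, 2, 1, 4, 3, 5, 4, 8, 7, 3, 2, 1, 4, 3, 2, 5, 4, 7, 3, 4, 8, 7, 9, 6, 5]), 1001, 0),
    ((0, [1, 2, 3, 4, 5, 6, 7, 3, 2, 1, 4, 3, 5, 7, 8, 7, 3, 2, 1, 0, 4, 3, 2, 5, 4, 7, 3, 8, 7, 9, 6, 5]), 1001, 0),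
    ((0, [1, 2, 3, 4, 5, 6, 7, 3, 2, 1, 4, 3, 5, 7, 8, 7, 3, 2, 1, 4, 3, 2, 5, 4, 7, 3, 4, 8, 7, 9, 6, 5]), 1001, 0),
    ((0, [1, 2, 3, 4, 5, 6, 7, 3, 2, 1, 4, 3, 5, 8, 7, 3, 2, 1, 4, 3, 2, 5, 4, 7, 3, 4, 5, 8, 7, 9, 6, 5]), 1001, 0),
    ((0, [1, 2, 3, 4, 5, 6, 7, 3, 2, 1, 4, 3, 2, 5, 4, 8, 7, 3, 2, 1, 4, 3, 2, 5, 4, 7, 3, 8, 7, 9, 6, 5]), 1001, 0),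
    ((0, [1, 2, 3, 4, 5, 6, 7, 3, 2, 1, 4, 3, 2, 5, 8, 7, 3, 2, 1, 0, 4, 3, 2, 5, 4, 7, 3, 8, 7, 9, 6, 5]), 1001, 0),
    ((0, [1, 2, 3, 4, 5, 6, 7, 3, 2, 1, 4, 3, 5, 8, 7, 3, 2, 1, 4, 3, 2, 5, 4, 6, 7, 3, 4, 8, 7, 9, 6, 5]), 1001, 0),
    ((0, [1, 2, 3, 4, 5, 6, 7, 3, 2, 1, 4, 3, 5, 7, 8, 7, 3, 2, 1, 4, 3, 2, 5, 4, 6, 7, 3, 8, 7, 9, 6, 5]), 1001, 0),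
    ((0, [1, 2, 3, 4, 5, 6, 7, 3, 2, 1, 4, 3, 5, 4, 8, 7, 3, 2, 1, 4, 3, 2, 5, 4, 6, 7, 3, 8, 7, 9, 6, 5]), 1001, 0),
    ((0, [1, 2, 3, 4, 5, 6, 7, 3, 2, 1, 4, 3, 5, 8, 7, 3, 2, 1, 4, 3, 2, 5, 4, 3, 7, 3, 4, 8, 7, 9, 6, 5]), 1001, 0),
    ((0, [1, 2, 3, 4, 5, 6, 7, 3, 2, 1, 4, 3, 5, 7, 8, 7, 3, 2, 1, 4, 3, 2, 5, 4, 3, 7, 3, 8, 7, 9, 6, 5]), 1001, 0),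
    ((0, [1, 2, 3, 4, 5, 6, 7, 3, 2, 1, 4, 3, 5, 4, 8, 7, 3, 2, 1, 4, 3, 2, 5, 4, 3, 7, 3, 8, 7, 9, 6, 5]), 1001, 0),
    ((0, [1, 2, 3, 4, 5, 6, 7, 3, 2, 1, 4, 3, 5, 8, 7, 3, 2, 1, 4, 3, 2, 5, 4, 7, 3, 4, 8, 7, 9, 6, 5, 4]), 1001, 0),
    ((0, [1, 2, 3, 4, 5, 6, 7, 3, 2, 1, 4, 3, 5, 8, 7, 3, 2, 1, 4, 3, 2, 5, 4, 3, 7, 3, 8, 7, 9, 6, 5, 4]), 1001, 0),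
    ((0, [1, 2, 3, 4, 5, 6, 7, 3, 2, 1, 4, 3, 5, 8, 7, 3, 2, 1, 0, 4, 3, 2, 5, 4, 7, 3, 8, 7, 9, 6, 5, 4]), 1001, 0),
    ((0, [1, 2, 3, 4, 5, 6, 7, 3, 2, 1, 4, 3, 2, 5, 8, 7, 3, 2, 1, 4, 3, 2, 5, 4, 3, 7, 3, 8, 7, 9, 6, 5]), 1001, 0),
    ((0, [1, 2, 3, 4, 5, 6, 7, 3, 2, 1, 4, 3, 2, 5, 8, 7, 3, 2, 1, 4, 3, 2, 5, 4, 6, 7, 3, 8, 7, 9, 6, 5]), 1001, 0),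
    ((0, [1, 2, 3, 4, 5, 6, 7, 3, 2, 1, 4, 3, 5, 4, 8, 7, 3, 2, 1, 4, 3, 2, 5, 4, 7, 3, 2, 4, 8, 9, 6, 5]), 1001, 0),
    ((0, [1, 2, 3, 4, 5, 6, 7, 3, 2, 1, 4, 3, 5, 4, 8, 7, 3, 2, 1, 4, 3, 2, 5, 4, 3, 7, 3, 2, 8, 9, 6, 5]), 1001, 0),
    ((0, [1, 2, 3, 4, 5, 6, 7, 3, 2, 1, 4, 3, 5, 4, 8, 7, 3, 2, 1, 0, 4, 3, 2, 5, 4, 7, 3, 2, 8, 9, 6, 5]), 1001, 0),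
    ((0, [1, 2, 3, 4, 5, 6, 7, 3, 2, 1, 4, 3, 2, 5, 4, 8, 7, 3, 2, 1, 0, 4, 3, 5, 4, 7, 3, 2, 8, 9, 6, 5]), 1001, 0),
    ((0, [1, 2, 3, 4, 5, 6, 7, 3, 2, 1, 4, 3, 2, 5, 4, 8, 7, 3, 2, 1, 4, 3, 2, 5, 4, 7, 3, 2, 8, 9, 6, 5]), 1001, 0),
    ((0, [1, 2, 3, 4, 5, 6, 7, 3, 2, 1, 4, 3, 5, 4, 8, 7, 3, 2, 1, 0, 4, 3, 5, 4, 6, 7, 3, 2, 8, 9, 6, 5]), 1001, 0),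
    ((0, [1, 2, 3, 4, 5, 6, 7, 3, 2, 1, 4, 3, 5, 4, 8, 7, 3, 2, 1, 4, 3, 2, 5, 4, 6, 7, 3, 2, 8, 9, 6, 5]), 1001, 0),
    ((0, [1, 2, 3, 4, 5, 6, 7, 3, 2, 1, 4, 3, 2, 5, 8, 7, 3, 2, 1, 0, 4, 3, 2, 5, 4, 7, 3, 2, 8, 9, 6, 5]), 1001, 0),
    ((0, [1, 2, 3, 4, 5, 6, 7, 3, 2, 1, 4, 3, 5, 8, 7, 3, 2, 1, 0, 4, 3, 2, 5, 4, 7, 3, 2, 8, 9, 6, 5, 4]), 1001, 0),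
    ((0, [1, 2, 3, 4, 5, 6, 7, 3, 2, 1, 4, 3, 5, 7, 8, 7, 3, 2, 1, 4, 3, 2, 5, 4, 7, 3, 2, 4, 8, 9, 6, 5]), 1001, 0),
    ((0, [1, 2, 3, 4, 5, 6, 7, 3, 2, 1, 4, 3, 5, 8, 7, 3, 2, 1, 4, 3, 2, 5, 4, 3, 7, 3, 2, 4, 8, 9, 6, 5]), 1001, 0),
    ((0, [1, 2, 3, 4, 5, 6, 7, 3, 2, 1, 4, 3, 2, 5, 4, 8, 7, 3, 2, 1, 0, 4, 3, 2, 1, 5, 4, 6, 9, 6, 5, 4]), 1001, 0),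
    ((0, [1, 2, 3, 4, 5, 6, 7, 3, 2, 1, 4, 3, 2, 5, 4, 8, 7, 3, 2, 1, 0, 4, 3, 2, 1, 5, 6, 7, 8, 9, 6, 5]), 1001, 0),
    ((0, [1, 2, 3, 4, 5, 6, 7, 3, 2, 1, 4, 3, 2, 5, 8, 7, 3, 2, 1, 4, 3, 2, 5, 4, 6, 7, 8, 9, 6, 5, 4, 3]), 1001, 0),
    ((0, [1, 2, 3, 4, 5, 6, 7, 3, 2, 1, 4, 3, 2, 5, 4, 8, 7, 3, 2, 1, 0, 4, 3, 5, 4, 6, 7, 8, 9, 6, 5, 4]), 1001, 0),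
    ((0, [1, 2, 3, 4, 5, 6, 7, 3, 2, 1, 4, 3, 2, 5, 8, 7, 3, 2, 1, 0, 4, 3, 2, 1, 5, 6, 9, 6, 5, 4, 3, 7]), 1001, 0),
    ((0, [1, 2, 3, 4, 5, 6, 7, 3, 2, 1, 4, 3, 2, 5, 8, 7, 3, 2, 1, 4, 3, 2, 5, 4, 6, 7, 9, 6, 5, 4, 3, 7]), 1001, 0),
    ((0, [1, 2, 3, 4, 5, 6, 7, 3, 2, 1, 4, 3, 2, 5, 8, 7, 3, 2, 1, 0, 4, 3, 2, 5, 6, 7, 9, 6, 5, 4, 3, 2]), 1001, 0),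
    ((0, [1, 2, 3, 4, 5, 6, 7, 3, 2, 1, 4, 3, 2, 5, 8, 7, 3, 2, 1, 4, 3, 2, 5, 4, 6, 7, 9, 6, 5, 4, 3, 2]), 1001, 0),
    ((0, [1, 2, 3, 4, 5, 6, 7, 3, 2, 1, 4, 3, 2, 5, 8, 7, 3, 2, 1, 4, 3, 2, 5, 6, 7, 8, 9, 6, 5, 4, 3, 2]), 901, 0),
    ((0, [1, 2, 3, 4, 5, 6, 7, 3, 2, 1, 4, 3, 2, 5, 8, 7, 3, 2, 1, 0, 4, 3, 2, 1, 5, 4, 6, 7, 8, 9, 6, 5]), 1001, 0),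
    ((0, [1, 2, 3, 4, 5, 6, 7, 3, 2, 1, 4, 3, 2, 5, 4, 8, 7, 3, 2, 1, 0, 4, 3, 2, 5, 4, 6, 7, 8, 9, 6, 5]), 1001, 0),
    ((0, [1, 2, 3, 4, 5, 6, 7, 3, 2, 1, 4, 3, 5, 4, 8, 7, 3, 2, 1, 4, 3, 2, 7, 3, 4, 5, 6, 8, 9, 6, 5, 4]), 901, 0),
    ((0, [1, 2, 3, 4, 5, 6, 7, 3, 2, 1, 4, 3, 5, 8, 7, 3, 2, 1, 4, 3, 2, 5, 7, 3, 4, 5, 6, 8, 9, 6, 5, 4]), 1001, 0),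
    ((0, [1, 2, 3, 4, 5, 6, 7, 3, 2, 1, 4, 3, 5, 4, 8, 7, 3, 2, 1, 4, 3, 2, 5, 7, 3, 4, 5, 6, 8, 9, 6, 5]), 1001, 0),
    ((0, [1, 2, 3, 4, 5, 6, 7, 3, 2, 1, 4, 3, 2, 5, 8, 7, 3, 2, 1, 4, 3, 2, 5, 4, 6, 5, 7, 9, 6, 5, 4, 3]), 1001, 0)]

/-- Part 36 of the cycles. -/
def reps36 : List ((Nat × List Nat) × Nat × Nat) :=
  [
    ((0, [1, 2, 3, 4, 5, 6, 7, 3, 2, 1, 4, 3, 2, 5, 4, 8, 7, 3, 2, 1, 0, 4, 3, 2, 5, 4, 3, 6, 9, 6, 5, 4]), 1001, 0),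
    ((0, [1, 2, 3, 4, 5, 6, 7, 3, 2, 1, 4, 3, 8, 7, 3, 2, 1, 4, 3, 2, 5, 4, 3, 7, 3, 2, 8, 9, 6, 5, 4, 3]), 1001, 0),
    ((0, [1, 2, 3, 4, 5, 6, 7, 3, 2, 1, 4, 3, 8, 7, 3, 2, 1, 4, 3, 2, 5, 4, 3, 7, 3, 2, 1, 0, 8, 9, 6, 5]), 1001, 0),
    ((0, [1, 2, 3, 4, 5, 6, 7, 3, 2, 1, 4, 3, 2, 5, 4, 8, 7, 3, 2, 1, 0, 4, 3, 5, 4, 6, 5, 7, 8, 9, 6, 5]), 1001, 0),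
    ((0, [1, 2, 3, 4, 5, 6, 7, 3, 2, 1, 4, 3, 2, 5, 8, 7, 3, 2, 4, 3, 5, 4, 7, 3, 2, 1, 0, 8, 9, 6, 5, 4]), 1001, 0),
    ((0, [1, 2, 3, 4, 5, 6, 7, 3, 2, 1, 4, 3, 2, 5, 4, 8, 7, 3, 2, 1, 4, 3, 2, 5, 4, 3, 6, 7, 8, 9, 6, 5]), 1001, 0),
    ((0, [1, 2, 3, 4, 5, 6, 7, 3, 2, 1, 4, 3, 2, 5, 8, 7, 3, 2, 1, 4, 3, 5, 4, 7, 3, 2, 1, 0, 8, 9, 6, 5]), 1001, 0),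
    ((0, [1, 2, 3, 4, 5, 6, 7, 3, 2, 1, 4, 3, 2, 5, 8, 7, 3, 2, 1, 0, 4, 3, 2, 5, 6, 7, 3, 8, 7, 9, 6, 5]), 1001, 0),
    ((0, [1, 2, 3, 4, 5, 6, 7, 3, 2, 1, 4, 3, 2, 5, 8, 7, 3, 2, 1, 4, 3, 2, 5, 6, 7, 8, 9, 6, 5, 4, 3, 7]), 901, 0),
    ((0, [1, 2, 3, 4, 5, 6, 7, 3, 2, 1, 4, 3, 5, 4, 8, 7, 3, 2, 1, 4, 3, 2, 5, 4, 6, 9, 6, 5, 4, 3, 7, 8]), 1001, 0),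
    ((0, [1, 2, 3, 4, 5, 6, 7, 3, 2, 1, 4, 3, 2, 5, 4, 3, 8, 7, 3, 2, 4, 3, 5, 4, 7, 3, 2, 1, 0, 8, 9, 6]), 1001, 0),
    ((0, [1, 2, 3, 4, 5, 6, 7, 3, 2, 1, 4, 3, 2, 5, 4, 8, 7, 3, 2, 1, 4, 3, 2, 5, 4, 6, 7, 3, 8, 9, 6, 5]), 1001, 0),
    ((0, [1, 2, 3, 4, 5, 6, 7, 3, 2, 1, 4, 3, 5, 8, 7, 3, 2, 1, 4, 3, 2, 5, 4, 3, 7, 3, 2, 1, 8, 9, 6, 5]), 1001, 0),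
    ((0, [1, 2, 3, 4, 5, 6, 7, 3, 2, 1, 4, 3, 2, 5, 4, 8, 7, 3, 2, 1, 4, 3, 2, 5, 4, 6, 5, 7, 3, 9, 6, 5]), 1001, 0),
    ((0, [1, 2, 3, 4, 5, 6, 7, 3, 2, 1, 4, 3, 2, 5, 4, 3, 8, 7, 3, 2, 1, 4, 3, 2, 5, 7, 3, 4, 8, 9, 6, 5]), 1001, 0),
    ((0, [1, 2, 3, 4, 5, 6, 7, 3, 2, 1, 4, 3, 2, 5, 8, 7, 3, 2, 1, 4, 3, 2, 7, 3, 4, 5, 6, 8, 7, 9, 6, 5]), 1001, 0),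
    ((0, [1, 2, 3, 4, 5, 6, 7, 3, 2, 1, 4, 3, 2, 5, 8, 7, 3, 2, 1, 0, 4, 3, 5, 4, 7, 3, 2, 9, 6, 5, 4, 3]), 1001, 0),
    ((0, [1, 2, 3, 4, 5, 6, 7, 3, 2, 1, 4, 5, 8, 7, 3, 2, 1, 4, 3, 5, 4, 7, 3, 2, 1, 8, 9, 6, 5, 4, 3, 7]), 1001, 0),
    ((0, [1, 2, 3, 4, 5, 6, 7, 3, 2, 1, 4, 3, 5, 8, 7, 3, 2, 1, 4, 3, 5, 4, 7, 3, 2, 8, 9, 6, 5, 4, 3, 7]), 1001, 0),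
    ((0, [1, 2, 3, 4, 5, 6, 7, 3, 2, 1, 4, 3, 5, 8, 7, 3, 2, 1, 0, 4, 3, 5, 4, 7, 3, 2, 8, 9, 6, 5, 4, 3]), 1001, 0),
    ((0, [1, 2, 3, 4, 5, 6, 7, 3, 2, 1, 4, 3, 2, 5, 8, 7, 3, 2, 1, 4, 3, 5, 4, 7, 3, 2, 8, 9, 6, 5, 4, 3]), 1001, 0),
    ((0, [1, 2, 3, 4, 5, 6, 7, 3, 2, 1, 4, 3, 5, 8, 7, 3, 2, 4, 3, 5, 4, 7, 3, 2, 1, 0, 8, 9, 6, 5, 4, 3]), 1001, 0),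
    ((0, [1, 2, 3, 4, 5, 6, 7, 3, 2, 1, 4, 3, 2, 5, 4, 8, 7, 3, 2, 4, 3, 5, 4, 7, 3, 2, 1, 0, 8, 9, 6, 5]), 1001, 0),
    ((0, [1, 2, 3, 4, 5, 6, 7, 3, 2, 1, 4, 3, 5, 8, 7, 3, 2, 1, 4, 3, 2, 5, 4, 7, 3, 2, 1, 0, 8, 9, 6, 5]), 1001, 0),
    ((0, [1, 2, 3, 4, 5, 6, 7, 3, 2, 1, 4, 3, 5, 8, 7, 3, 2, 1, 0, 4, 3, 2, 5, 4, 7, 3, 2, 1, 8, 9, 6, 5]), 1001, 0),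
    ((0, [1, 2, 3, 4, 5, 6, 7, 3, 2, 1, 4, 3, 2, 5, 8, 7, 3, 2, 1, 4, 3, 2, 5, 4, 7, 3, 2, 1, 8, 9, 6, 5]), 1001, 0),
    ((0, [1, 2, 3, 4, 5, 6, 7, 3, 2, 1, 4, 3, 2, 5, 4, 8, 7, 3, 2, 1, 4, 3, 2, 5, 4, 3, 6, 7, 3, 9, 6, 5]), 1001, 0),
    ((0, [1, 2, 3, 4, 5, 6, 7, 3, 2, 4, 3, 5, 4, 7, 8, 7, 3, 2, 1, 4, 3, 2, 5, 6, 9, 6, 5, 4, 3, 2, 7, 8]), 1001, 0),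
    ((0, [1, 2, 3, 4, 5, 6, 7, 3, 2, 1, 4, 3, 2, 5, 4, 8, 7, 3, 2, 4, 3, 5, 4, 7, 8, 9, 6, 5, 4, 3, 2, 1]), 1001, 0),
    ((0, [1, 2, 3, 4, 5, 6, 7, 3, 2, 1, 4, 3, 5, 4, 8, 7, 3, 2, 4, 3, 5, 4, 7, 8, 9, 6, 5, 4, 3, 2, 1, 0]), 1001, 0),
    ((0, [1, 2, 3, 4, 5, 6, 7, 3, 2, 1, 4, 3, 5, 8, 7, 3, 2, 1, 4, 3, 2, 5, 4, 7, 3, 2, 1, 8, 7, 9, 6, 5]), 1001, 0),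
    ((0, [1, 2, 3, 4, 5, 6, 7, 3, 2, 1, 4, 3, 2, 5, 4, 8, 7, 3, 2, 1, 4, 3, 2, 5, 4, 7, 3, 4, 8, 9, 6, 5]), 1001, 0),
    ((0, [1, 2, 3, 4, 5, 6, 7, 3, 2, 1, 4, 3, 2, 5, 4, 8, 7, 3, 2, 1, 4, 3, 2, 5, 7, 3, 4, 5, 8, 9, 6, 5]), 1001, 0),
    ((0, [1, 2, 3, 4, 5, 6, 7, 3, 2, 1, 4, 3, 2, 5, 4, 8, 7, 3, 2, 1, 4, 3, 2, 5, 7, 3, 4, 8, 9, 6, 5, 4]), 1001, 0),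
    ((0, [1, 2, 3, 4, 5, 6, 7, 3, 2, 1, 4, 3, 5, 4, 8, 7, 3, 2, 4, 3, 5, 4, 7, 3, 2, 1, 0, 8, 7, 9, 6, 5]), 1001, 0),
    ((0, [1, 2, 3, 4, 5, 6, 7, 3, 2, 1, 4, 3, 2, 5, 4, 8, 7, 3, 2, 1, 4, 3, 2, 5, 7, 3, 4, 8, 7, 9, 6, 5]), 1001, 0),
    ((0, [1, 2, 3, 4, 5, 6, 7, 3, 2, 1, 4, 3, 2, 5, 8, 7, 3, 2, 1, 4, 3, 2, 7, 3, 4, 5, 6, 8, 9, 6, 5, 4]), 901, 0),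
    ((0, [1, 2, 3, 4, 5, 6, 7, 3, 2, 1, 4, 5, 8, 7, 3, 2, 1, 4, 3, 5, 4, 7, 3, 2, 1, 8, 9, 6, 5, 4, 3, 2]), 1001, 0),
    ((0, [1, 2, 3, 4, 5, 6, 7, 3, 2, 1, 4, 3, 5, 8, 7, 3, 2, 1, 4, 3, 5, 4, 7, 3, 2, 8, 9, 6, 5, 4, 3, 2]), 1001, 0),
    ((0, [1, 2, 3, 4, 5, 6, 7, 3, 2, 1, 4, 3, 5, 4, 8, 7, 3, 2, 4, 3, 5, 4, 7, 3, 2, 1, 0, 8, 9, 6, 5, 4]), 1001, 0),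
    ((0, [1, 2, 3, 4, 5, 6, 7, 3, 2, 1, 4, 3, 5, 4, 8, 7, 3, 2, 1, 4, 3, 5, 4, 7, 3, 2, 1, 0, 8, 9, 6, 5]), 1001, 0),
    ((0, [1, 2, 3, 4, 5, 6, 7, 3, 2, 1, 4, 3, 5, 4, 8, 7, 3, 2, 1, 4, 3, 2, 5, 4, 7, 3, 2, 1, 8, 9, 6, 5]), 1001, 0),
    ((0, [1, 2, 3, 4, 5, 6, 7, 3, 2, 4, 3, 5, 4, 7, 8, 7, 3, 2, 1, 4, 3, 2, 5, 4, 9, 6, 5, 4, 3, 2, 7, 8]), 901, 0),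
    ((0, [1, 2, 3, 4, 5, 6, 7, 3, 2, 1, 4, 3, 5, 7, 8, 7, 3, 2, 1, 0, 4, 3, 2, 5, 4, 9, 6, 5, 4, 3, 7, 8]), 1001, 0),
    ((0, [1, 2, 3, 4, 5, 6, 7, 3, 2, 1, 4, 3, 5, 7, 8, 7, 3, 2, 1, 4, 3, 2, 5, 4, 7, 9, 6, 5, 4, 3, 7, 8]), 1001, 0),
    ((0, [1, 2, 3, 4, 5, 6, 7, 3, 2, 1, 4, 3, 5, 7, 8, 7, 3, 2, 1, 4, 3, 2, 5, 4, 6, 9, 6, 5, 4, 3, 7, 8]), 1001, 0),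
    ((0, [1, 2, 3, 4, 5, 6, 7, 3, 2, 1, 4, 3, 5, 8, 7, 3, 2, 1, 4, 3, 2, 5, 4, 3, 7, 9, 6, 5, 4, 3, 7, 8]), 1001, 0),
    ((0, [1, 2, 3, 4, 5, 6, 7, 3, 2, 1, 4, 3, 5, 7, 8, 7, 3, 2, 1, 4, 3, 2, 5, 4, 3, 9, 6, 5, 4, 3, 7, 8]), 1001, 0),
    ((0, [1, 2, 3, 4, 5, 6, 7, 3, 2, 1, 4, 3, 2, 5, 7, 8, 7, 3, 2, 1, 0, 4, 3, 2, 5, 9, 6, 5, 4, 3, 7, 8]), 1001, 0),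
    ((0, [1, 2, 3, 4, 5, 6, 7, 3, 2, 1, 4, 3, 2, 5, 7, 8, 7, 3, 2, 1, 4, 3, 2, 5, 4, 9, 6, 5, 4, 3, 7, 8]), 1001, 0),
    ((0, [1, 2, 3, 4, 5, 6, 7, 3, 2, 1, 4, 3, 2, 5, 8, 7, 3, 2, 1, 0, 4, 3, 2, 5, 4, 9, 6, 5, 4, 3, 7, 8]), 1001, 0),
    ((0, [1, 2, 3, 4, 5, 6, 7, 3, 2, 1, 4, 3, 5, 8, 7, 3, 2, 1, 0, 4, 3, 2, 5, 4, 7, 9, 6, 5, 4, 3, 7, 8]), 1001, 0),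
    ((0, [1, 2, 3, 4, 5, 6, 7, 3, 2, 1, 4, 3, 5, 8, 7, 3, 2, 1, 4, 3, 2, 5, 4, 6, 7, 9, 6, 5, 4, 3, 7, 8]), 1001, 0),
    ((0, [1, 2, 3, 4, 5, 6, 7, 3, 2, 1, 4, 3, 5, 8, 7, 3, 2, 1, 0, 4, 3, 2, 5, 7, 8, 9, 6, 5, 4, 3, 7, 8]), 1001, 0),
    ((0, [1, 2, 3, 4, 5, 6, 7, 3, 2, 1, 4, 3, 5, 8, 7, 3, 2, 1, 4, 3, 2, 5, 4, 7, 8, 9, 6, 5, 4, 3, 7, 8]), 1001, 0),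
    ((0, [1, 2, 3, 4, 5, 6, 7, 3, 2, 1, 4, 3, 2, 5, 8, 7, 3, 2, 1, 4, 3, 2, 5, 4, 7, 9, 6, 5, 4, 3, 7, 8]), 1001, 0),
    ((0, [1, 2, 3, 4, 5, 6, 7, 3, 2, 1, 4, 3, 2, 5, 8, 7, 3, 2, 1, 4, 3, 2, 5, 4, 3, 9, 6, 5, 4, 3, 7, 8]), 1001, 0),
    ((0, [1, 2, 3, 4, 5, 6, 7, 3, 2, 1, 4, 3, 5, 8, 7, 3, 2, 1, 4, 3, 2, 5, 4, 6, 5, 9, 6, 5, 4, 3, 7, 8]), 1001, 0),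
    ((0, [1, 2, 3, 4, 5, 6, 7, 3, 2, 1, 4, 3, 5, 8, 7, 3, 2, 1, 4, 3, 2, 5, 7, 3, 4, 9, 6, 5, 4, 3, 7, 8]), 1001, 0),
    ((0, [1, 2, 3, 4, 5, 6, 7, 3, 2, 1, 4, 3, 5, 8, 7, 3, 2, 1, 4, 3, 2, 5, 7, 3, 8, 9, 6, 5, 4, 3, 7, 8]), 1001, 0),
    ((0, [1, 2, 3, 4, 5, 6, 7, 3, 2, 1, 4, 3, 5, 4, 8, 7, 3, 2, 1, 4, 3, 5, 7, 8, 9, 6, 5, 4, 3, 2, 7, 3]), 1001, 0),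
    ((0, [1, 2, 3, 4, 5, 6, 7, 3, 2, 1, 4, 3, 2, 5, 8, 7, 3, 2, 1, 0, 4, 3, 2, 5, 6, 9, 6, 5, 4, 3, 7, 8]), 1001, 0),
    ((0, [1, 2, 3, 4, 5, 6, 7, 3, 2, 1, 4, 3, 8, 7, 3, 2, 1, 0, 4, 3, 5, 4, 7, 3, 2, 9, 6, 5, 4, 3, 7, 8]), 1001, 0),
    ((0, [1, 2, 3, 4, 5, 6, 7, 3, 2, 1, 4, 3, 5, 8, 7, 3, 2, 1, 4, 3, 5, 4, 7, 3, 2, 9, 6, 5, 4, 3, 7, 8]), 1001, 0),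
    ((0, [1, 2, 3, 4, 5, 6, 7, 3, 2, 1, 4, 3, 2, 5, 8, 7, 3, 2, 1, 4, 3, 2, 5, 4, 6, 9, 6, 5, 4, 3, 7, 8]), 1001, 0),
    ((0, [1, 2, 3, 4, 5, 6, 7, 3, 2, 1, 4, 5, 8, 7, 3, 2, 1, 4, 3, 5, 4, 7, 3, 2, 9, 6, 5, 4, 3, 2, 7, 8]), 1001, 0),
    ((0, [1, 2, 3, 4, 5, 6, 7, 3, 2, 1, 4, 5, 8, 7, 3, 2, 1, 4, 3, 5, 4, 7, 3, 2, 8, 9, 6, 5, 4, 3, 7, 8]), 1001, 0),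
    ((0, [1, 2, 3, 4, 5, 6, 7, 3, 2, 1, 4, 3, 2, 5, 8, 7, 3, 2, 1, 4, 3, 2, 5, 6, 7, 9, 6, 5, 4, 3, 7, 8]), 901, 0),
    ((0, [1, 2, 3, 4, 5, 6, 7, 3, 2, 1, 4, 3, 2, 8, 7, 3, 2, 1, 4, 3, 5, 4, 7, 3, 2, 9, 6, 5, 4, 3, 7, 8]), 1001, 0),
    ((0, [1, 2, 3, 4, 5, 6, 7, 3, 2, 1, 4, 3, 8, 7, 3, 2, 1, 4, 3, 2, 5, 4, 7, 3, 2, 9, 6, 5, 4, 3, 7, 8]), 1001, 0),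
    ((0, [1, 2, 3, 4, 5, 6, 7, 3, 2, 1, 4, 3, 5, 4, 8, 7, 3, 2, 4, 3, 5, 6, 7, 8, 9, 6, 5, 4, 3, 2, 1, 0]), 1001, 0),
    ((0, [1, 2, 3, 4, 5, 6, 7, 3, 2, 1, 4, 3, 5, 8, 7, 3, 2, 1, 4, 3, 2, 5, 4, 7, 9, 6, 5, 4, 3, 2, 7, 8]), 1001, 0),
    ((0, [1, 2, 3, 4, 5, 6, 7, 3, 2, 1, 4, 3, 5, 8, 7, 3, 2, 1, 4, 3, 2, 5, 4, 7, 3, 9, 6, 5, 4, 3, 7, 8]), 1001, 0),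
    ((0, [1, 2, 3, 4, 5, 6, 7, 3, 2, 1, 4, 3, 5, 8, 7, 3, 2, 1, 4, 3, 5, 4, 7, 8, 9, 6, 5, 4, 3, 2, 1, 0]), 1001, 0),
    ((0, [1, 2, 3, 4, 5, 6, 7, 3, 2, 1, 4, 3, 2, 5, 8, 7, 3, 2, 4, 3, 5, 4, 7, 8, 9, 6, 5, 4, 3, 2, 1, 0]), 1001, 0),
    ((0, [1, 2, 3, 4, 5, 6, 7, 3, 2, 1, 4, 3, 5, 8, 7, 3, 2, 4, 3, 5, 4, 6, 7, 8, 9, 6, 5, 4, 3, 2, 1, 0]), 1001, 0),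
    ((0, [1, 2, 3, 4, 5, 6, 7, 3, 2, 1, 4, 5, 8, 7, 3, 2, 1, 4, 3, 2, 5, 7, 3, 4, 9, 6, 5, 4, 3, 2, 1, 7]), 1001, 0),
    ((0, [1, 2, 3, 4, 5, 6, 7, 3, 2, 1, 4, 5, 8, 7, 3, 2, 1, 4, 3, 2, 5, 6, 7, 3, 4, 9, 6, 5, 4, 3, 2, 1]), 1001, 0),
    ((0, [1, 2, 3, 4, 5, 6, 7, 3, 2, 1, 4, 5, 8, 7, 3, 2, 1, 4, 3, 2, 5, 7, 3, 4, 8, 9, 6, 5, 4, 3, 2, 1]), 1001, 0),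
    ((0, [1, 2, 3, 4, 5, 6, 7, 3, 2, 1, 4, 5, 8, 7, 3, 2, 1, 4, 3, 2, 5, 7, 3, 4, 5, 9, 6, 5, 4, 3, 2, 1]), 1001, 0),
    ((0, [1, 2, 3, 4, 5, 6, 7, 3, 2, 1, 4, 5, 8, 7, 3, 2, 1, 0, 4, 3, 2, 5, 7, 8, 9, 6, 5, 4, 3, 2, 7, 3]), 1001, 0),
    ((0, [1, 2, 3, 4, 5, 6, 7, 3, 2, 1, 4, 5, 8, 7, 3, 2, 1, 0, 4, 3, 5, 4, 7, 8, 9, 6, 5, 4, 3, 2, 1, 7]), 1001, 0),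
    ((0, [1, 2, 3, 4, 5, 6, 7, 3, 2, 1, 4, 5, 8, 7, 3, 2, 1, 0, 4, 3, 5, 6, 7, 8, 9, 6, 5, 4, 3, 2, 1, 0]), 1001, 0),
    ((0, [1, 2, 3, 4, 5, 6, 7, 3, 2, 1, 4, 5, 8, 7, 3, 2, 1, 0, 4, 3, 5, 4, 7, 8, 9, 6, 5, 4, 3, 2, 1, 0]), 1001, 0),
    ((0, [1, 2, 3, 4, 5, 6, 7, 3, 2, 1, 4, 5, 8, 7, 3, 2, 1, 4, 3, 5, 4, 7, 8, 9, 6, 5, 4, 3, 2, 1, 0, 7]), 1001, 0),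
    ((0, [1, 2, 3, 4, 5, 6, 7, 3, 2, 1, 4, 5, 8, 7, 3, 2, 1, 4, 3, 2, 5, 4, 7, 3, 2, 4, 8, 9, 6, 5, 4, 3]), 1001, 0),
    ((0, [1, 2, 3, 4, 5, 6, 7, 3, 2, 1, 4, 3, 5, 7, 8, 7, 3, 2, 4, 3, 5, 4, 7, 8, 9, 6, 5, 4, 3, 2, 1, 0]), 1001, 0),
    ((0, [1, 2, 3, 4, 5, 6, 7, 3, 2, 1, 4, 3, 5, 8, 7, 3, 2, 4, 3, 5, 4, 7, 3, 8, 9, 6, 5, 4, 3, 2, 1, 0]), 1001, 0),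
    ((0, [1, 2, 3, 4, 5, 6, 7, 3, 2, 1, 4, 3, 5, 8, 7, 3, 2, 4, 3, 5, 4, 7, 8, 9, 6, 5, 4, 3, 2, 1, 0, 7]), 1001, 0),
    ((0, [1, 2, 3, 4, 5, 6, 7, 3, 2, 1, 4, 3, 2, 5, 8, 7, 3, 2, 1, 4, 3, 2, 5, 7, 3, 4, 5, 8, 9, 6, 5, 4]), 1001, 0),
    ((0, [1, 2, 3, 4, 5, 6, 7, 3, 2, 1, 4, 3, 2, 5, 4, 7, 8, 7, 3, 2, 1, 4, 3, 2, 5, 7, 3, 4, 8, 9, 6, 5]), 1001, 0),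
    ((0, [1, 2, 3, 4, 5, 6, 7, 3, 2, 1, 4, 3, 2, 5, 8, 7, 3, 2, 1, 4, 3, 2, 5, 7, 3, 4, 5, 6, 8, 9, 6, 5]), 1001, 0),
    ((0, [1, 2, 3, 4, 5, 6, 7, 3, 2, 1, 4, 3, 2, 5, 8, 7, 3, 2, 1, 4, 3, 2, 5, 4, 7, 3, 4, 5, 8, 9, 6, 5]), 1001, 0),
    ((0, [1, 2, 3, 4, 5, 6, 7, 3, 2, 1, 4, 3, 5, 8, 7, 3, 2, 1, 4, 3, 2, 5, 4, 7, 3, 2, 1, 4, 8, 9, 6, 5]), 1001, 0),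
    ((0, [1, 2, 3, 4, 5, 6, 7, 3, 2, 1, 4, 3, 2, 5, 8, 7, 3, 2, 1, 4, 3, 2, 5, 7, 3, 4, 5, 8, 7, 9, 6, 5]), 1001, 0),
    ((0, [1, 2, 3, 4, 5, 6, 7, 3, 2, 1, 4, 5, 8, 7, 3, 2, 1, 4, 3, 2, 5, 4, 7, 3, 2, 1, 4, 8, 7, 9, 6, 5]), 1001, 0),
    ((0, [1, 2, 3, 4, 5, 6, 7, 3, 2, 1, 4, 5, 8, 7, 3, 2, 1, 4, 3, 2, 5, 4, 7, 3, 2, 4, 8, 7, 3, 9, 6, 5]), 1001, 0),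
    ((0, [1, 2, 3, 4, 5, 6, 7, 3, 2, 1, 4, 3, 8, 7, 3, 2, 1, 4, 3, 2, 5, 4, 3, 7, 8, 9, 6, 5, 4, 3, 2, 1]), 1001, 0),
    ((0, [1, 2, 3, 4, 5, 6, 7, 3, 2, 1, 4, 3, 2, 5, 8, 7, 3, 2, 1, 4, 3, 2, 5, 7, 3, 4, 9, 6, 5, 4, 3, 7]), 1001, 0),
    ((0, [1, 2, 3, 4, 5, 6, 7, 3, 2, 1, 4, 3, 2, 5, 8, 7, 3, 2, 1, 4, 3, 2, 5, 7, 3, 4, 9, 6, 5, 4, 3, 2]), 1001, 0),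
    ((0, [1, 2, 3, 4, 5, 6, 7, 3, 2, 1, 4, 3, 2, 5, 8, 7, 3, 2, 1, 4, 3, 2, 5, 7, 3, 4, 8, 9, 6, 5, 4, 3]), 1001, 0),
    ((0, [1, 2, 3, 4, 5, 6, 7, 3, 2, 1, 4, 3, 5, 8, 7, 3, 2, 1, 0, 4, 3, 5, 4, 7, 8, 9, 6, 5, 4, 3, 2, 1]), 1001, 0),
    ((0, [1, 2, 3, 4, 5, 6, 7, 3, 2, 1, 4, 3, 5, 7, 8, 7, 3, 2, 1, 4, 3, 5, 7, 8, 9, 6, 5, 4, 3, 2, 7, 3]), 1001, 0),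
    ((0, [1, 2, 3, 4, 5, 6, 7, 3, 2, 1, 4, 3, 5, 8, 7, 3, 2, 1, 4, 3, 2, 5, 7, 8, 9, 6, 5, 4, 3, 2, 7, 3]), 1001, 0),
    ((0, [1, 2, 3, 4, 5, 6, 7, 3, 2, 1, 4, 3, 5, 8, 7, 3, 2, 1, 4, 3, 5, 4, 7, 8, 9, 6, 5, 4, 3, 2, 7, 3]), 901, 0),
    ((0, [1, 2, 3, 4, 5, 6, 7, 3, 2, 1, 4, 3, 2, 5, 8, 7, 3, 2, 1, 4, 3, 2, 5, 4, 3, 7, 3, 4, 8, 9, 6, 5]), 1001, 0),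
    ((0, [1, 2, 3, 4, 5, 6, 7, 3, 2, 1, 4, 3, 2, 5, 8, 7, 3, 2, 1, 4, 3, 2, 5, 4, 6, 7, 3, 4, 8, 9, 6, 5]), 1001, 0),
    ((0, [1, 2, 3, 4, 5, 6, 7, 3, 2, 1, 4, 3, 2, 5, 8, 7, 3, 2, 1, 4, 3, 2, 5, 4, 7, 3, 4, 8, 9, 6, 5, 4]), 1001, 0),
    ((0, [1, 2, 3, 4, 5, 6, 7, 3, 2, 1, 4, 3, 2, 5, 8, 7, 3, 2, 1, 4, 3, 2, 5, 4, 7, 3, 2, 4, 8, 9, 6, 5]), 1001, 0),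
    ((0, [1, 2, 3, 4, 5, 6, 7, 3, 2, 1, 4, 3, 2, 5, 8, 7, 3, 2, 1, 0, 4, 3, 2, 5, 4, 7, 3, 4, 8, 9, 6, 5]), 1001, 0),
    ((0, [1, 2, 3, 4, 5, 6, 7, 3, 2, 1, 4, 3, 2, 5, 8, 7, 3, 2, 1, 4, 3, 2, 5, 4, 7, 3, 4, 8, 7, 9, 6, 5]), 1001, 0),
    ((0, [1, 2, 3, 4, 5, 6, 7, 3, 2, 1, 4, 5, 8, 7, 3, 2, 1, 4, 3, 2, 5, 4, 7, 3, 2, 1, 4, 5, 8, 9, 6, 5]), 1001, 0),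
    ((0, [1, 2, 3, 4, 5, 6, 7, 3, 2, 1, 4, 3, 2, 5, 8, 7, 3, 2, 1, 0, 4, 3, 2, 5, 6, 7, 3, 4, 8, 9, 6, 5]), 1001, 0),
    ((0, [1, 2, 3, 4, 5, 6, 7, 3, 2, 1, 4, 3, 2, 5, 8, 7, 3, 2, 1, 0, 4, 3, 2, 5, 7, 3, 4, 8, 9, 6, 5, 4]), 1001, 0),
    ((0, [1, 2, 3, 4, 5, 6, 7, 3, 2, 1, 4, 3, 2, 5, 8, 7, 3, 2, 1, 0, 4, 3, 2, 5, 7, 3, 4, 8, 7, 9, 6, 5]), 1001, 0),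
    ((0, [1, 2, 3, 4, 5, 6, 7, 3, 2, 1, 4, 3, 5, 4, 8, 7, 3, 2, 1, 4, 3, 5, 4, 7, 3, 2, 8, 7, 3, 9, 6, 5]), 901, 0),
    ((0, [1, 2, 3, 4, 5, 6, 7, 3, 2, 1, 4, 3, 2, 5, 8, 7, 3, 2, 1, 4, 3, 2, 5, 6, 7, 3, 4, 8, 9, 6, 5, 4]), 1001, 0),
    ((0, [1, 2, 3, 4, 5, 6, 7, 3, 2, 1, 4, 3, 2, 5, 8, 7, 3, 2, 1, 4, 3, 2, 5, 7, 3, 4, 8, 7, 9, 6, 5, 4]), 1001, 0),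
    ((0, [1, 2, 3, 4, 5, 6, 7, 3, 2, 1, 4, 3, 2, 5, 8, 7, 3, 2, 1, 4, 3, 2, 5, 6, 7, 3, 4, 8, 7, 9, 6, 5]), 1001, 0),
    ((0, [1, 2, 3, 4, 5, 6, 7, 3, 2, 1, 4, 3, 2, 5, 8, 7, 3, 2, 1, 4, 3, 2, 5, 7, 3, 4, 8, 7, 3, 9, 6, 5]), 1001, 0)]

/-- Part 37 of the cycles. -/
def reps37 : List ((Nat × List Nat) × Nat × Nat) :=
  [
    ((0, [1, 2, 3, 4, 5, 6, 7, 3, 2, 1, 4, 3, 2, 5, 8, 7, 3, 2, 1, 0, 4, 3, 5, 7, 8, 9, 6, 5, 4, 3, 2, 1]), 1001, 0),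
    ((0, [1, 2, 3, 4, 5, 6, 7, 3, 2, 1, 4, 3, 5, 7, 8, 7, 3, 2, 1, 0, 4, 3, 5, 7, 9, 6, 5, 4, 3, 2, 1, 0]), 1001, 0),
    ((0, [1, 2, 3, 4, 5, 6, 7, 3, 2, 1, 4, 3, 2, 5, 8, 7, 3, 2, 1, 4, 3, 2, 5, 6, 7, 3, 4, 5, 8, 9, 6, 5]), 1001, 0),
    ((0, [1, 2, 3, 4, 5, 6, 7, 3, 2, 1, 4, 5, 8, 7, 3, 2, 1, 4, 3, 5, 7, 8, 9, 6, 5, 4, 3, 2, 7, 3, 4, 5]), 1001, 0),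
    ((0, [1, 2, 3, 4, 5, 6, 7, 3, 2, 1, 4, 5, 8, 7, 3, 2, 1, 4, 3, 7, 8, 9, 6, 5, 4, 3, 2, 7, 3, 4, 5, 6]), 1001, 0),
    ((0, [1, 2, 3, 4, 5, 6, 7, 3, 2, 1, 4, 3, 5, 4, 7, 8, 7, 3, 2, 1, 4, 3, 2, 5, 4, 6, 7, 8, 9, 6, 5, 4, 3]), 1001, 0),
    ((0, [1, 2, 3, 4, 5, 6, 7, 3, 2, 1, 4, 3, 5, 4, 8, 7, 3, 2, 1, 0, 4, 3, 2, 5, 4, 3, 7, 8, 9, 6, 5, 4, 3]), 1001, 0),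
    ((0, [1, 2, 3, 4, 5, 6, 7, 3, 2, 1, 4, 3, 5, 4, 8, 7, 3, 2, 1, 0, 4, 3, 2, 1, 5, 4, 7, 8, 9, 6, 5, 4, 3]), 1001, 0),
    ((0, [1, 2, 3, 4, 5, 6, 7, 3, 2, 1, 4, 3, 5, 4, 8, 7, 3, 2, 1, 0, 4, 3, 2, 5, 4, 6, 7, 8, 9, 6, 5, 4, 3]), 1001, 0),
    ((0, [1, 2, 3, 4, 5, 6, 7, 3, 2, 1, 4, 3, 5, 4, 8, 7, 3, 2, 1, 0, 4, 3, 2, 5, 7, 3, 4, 8, 9, 6, 5, 4, 3]), 1001, 0),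
    ((0, [1, 2, 3, 4, 5, 6, 7, 3, 2, 1, 4, 3, 5, 4, 7, 8, 7, 3, 2, 1, 4, 3, 2, 5, 4, 3, 7, 8, 9, 6, 5, 4, 3]), 1001, 0),
    ((0, [1, 2, 3, 4, 5, 6, 7, 3, 2, 1, 4, 3, 2, 5, 4, 8, 7, 3, 2, 1, 0, 4, 3, 2, 1, 5, 4, 7, 3, 8, 9, 6, 5]), 1001, 0),
    ((0, [1, 2, 3, 4, 5, 6, 7, 3, 2, 1, 4, 3, 2, 5, 7, 8, 7, 3, 2, 1, 0, 4, 3, 2, 1, 5, 4, 7, 3, 8, 9, 6, 5]), 1001, 0),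
    ((0, [1, 2, 3, 4, 5, 6, 7, 3, 2, 1, 4, 3, 2, 5, 4, 8, 7, 3, 2, 1, 0, 4, 3, 2, 5, 4, 7, 8, 9, 6, 5, 4, 3]), 1001, 0),
    ((0, [1, 2, 3, 4, 5, 6, 7, 3, 2, 1, 4, 3, 2, 5, 8, 7, 3, 2, 1, 0, 4, 3, 2, 1, 5, 4, 7, 8, 9, 6, 5, 4, 3]), 1001, 0),
    ((0, [1, 2, 3, 4, 5, 6, 7, 3, 2, 1, 4, 3, 5, 4, 8, 7, 3, 2, 1, 4, 3, 2, 5, 7, 3, 4, 5, 8, 9, 6, 5, 4, 3]), 1001, 0),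
    ((0, [1, 2, 3, 4, 5, 6, 7, 3, 2, 1, 4, 3, 2, 5, 7, 8, 7, 3, 2, 1, 0, 4, 3, 2, 5, 4, 7, 8, 9, 6, 5, 4, 3]), 1001, 0),
    ((0, [1, 2, 3, 4, 5, 6, 7, 3, 2, 1, 4, 3, 2, 5, 4, 8, 7, 3, 2, 1, 4, 3, 5, 4, 7, 3, 2, 9, 6, 5, 4, 3, 2]), 1001, 0),
    ((0, [1, 2, 3, 4, 5, 6, 7, 3, 2, 1, 4, 3, 5, 4, 8, 7, 3, 2, 1, 4, 3, 2, 5, 7, 3, 4, 5, 9, 6, 5, 4, 3, 7]), 1001, 0),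
    ((0, [1, 2, 3, 4, 5, 6, 7, 3, 2, 1, 4, 3, 2, 5, 7, 8, 7, 3, 2, 1, 0, 4, 3, 2, 5, 4, 7, 9, 6, 5, 4, 3, 7]), 1001, 0),
    ((0, [1, 2, 3, 4, 5, 6, 7, 3, 2, 1, 4, 3, 2, 5, 4, 8, 7, 3, 2, 1, 4, 3, 2, 5, 4, 7, 9, 6, 5, 4, 3, 2, 1]), 1001, 0),
    ((0, [1, 2, 3, 4, 5, 6, 7, 3, 2, 1, 4, 3, 5, 4, 7, 8, 7, 3, 2, 1, 4, 3, 2, 5, 4, 7, 8, 9, 6, 5, 4, 3, 2]), 1001, 0),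
    ((0, [1, 2, 3, 4, 5, 6, 7, 3, 2, 1, 4, 3, 5, 8, 7, 3, 2, 1, 4, 3, 2, 5, 6, 7, 3, 4, 8, 9, 6, 5, 4, 3, 2]), 1001, 0),
    ((0, [1, 2, 3, 4, 5, 6, 7, 3, 2, 1, 4, 3, 5, 8, 7, 3, 2, 1, 4, 3, 2, 5, 7, 3, 4, 5, 8, 9, 6, 5, 4, 3, 2]), 1001, 0),
    ((0, [1, 2, 3, 4, 5, 6, 7, 3, 2, 1, 4, 3, 5, 4, 8, 7, 3, 2, 1, 0, 4, 3, 5, 4, 6, 7, 8, 9, 6, 5, 4, 3, 7]), 1001, 0),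
    ((0, [1, 2, 3, 4, 5, 6, 7, 3, 2, 1, 4, 3, 2, 5, 4, 8, 7, 3, 2, 1, 0, 4, 3, 5, 4, 7, 8, 9, 6, 5, 4, 3, 7]), 1001, 0),
    ((0, [1, 2, 3, 4, 5, 6, 7, 3, 2, 1, 4, 5, 8, 7, 3, 2, 1, 4, 3, 2, 5, 4, 6, 7, 3, 4, 8, 9, 6, 5, 4, 3, 2]), 1001, 0),
    ((0, [1, 2, 3, 4, 5, 6, 7, 3, 2, 1, 4, 3, 5, 4, 7, 8, 7, 3, 2, 4, 3, 5, 4, 7, 8, 9, 6, 5, 4, 3, 2, 1, 0]), 1001, 0),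
    ((0, [1, 2, 3, 4, 5, 6, 7, 3, 2, 1, 4, 3, 2, 5, 4, 7, 8, 7, 3, 2, 4, 3, 5, 4, 7, 3, 8, 9, 6, 5, 4, 3, 2]), 1001, 0),
    ((0, [1, 2, 3, 4, 5, 6, 7, 3, 2, 1, 4, 3, 2, 5, 8, 7, 3, 2, 1, 0, 4, 3, 2, 1, 5, 4, 3, 9, 6, 5, 4, 3, 2]), 1001, 0),
    ((0, [1, 2, 3, 4, 5, 6, 7, 3, 2, 1, 4, 3, 2, 5, 8, 7, 3, 2, 4, 3, 5, 4, 7, 3, 2, 1, 0, 9, 6, 5, 4, 3, 7]), 1001, 0),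
    ((0, [1, 2, 3, 4, 5, 6, 7, 3, 2, 1, 4, 3, 2, 5, 4, 8, 7, 3, 2, 1, 0, 4, 3, 2, 5, 4, 3, 7, 8, 9, 6, 5, 4]), 1001, 0),
    ((0, [1, 2, 3, 4, 5, 6, 7, 3, 2, 1, 4, 3, 5, 8, 7, 3, 2, 1, 4, 3, 2, 5, 6, 7, 3, 4, 5, 8, 9, 6, 5, 4, 3]), 1001, 0),
    ((0, [1, 2, 3, 4, 5, 6, 7, 3, 2, 1, 4, 3, 2, 5, 8, 7, 3, 2, 1, 0, 4, 3, 2, 5, 4, 3, 7, 8, 9, 6, 5, 4, 3]), 1001, 0),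
    ((0, [1, 2, 3, 4, 5, 6, 7, 3, 2, 1, 4, 3, 2, 5, 8, 7, 3, 2, 1, 0, 4, 3, 2, 1, 5, 4, 3, 7, 3, 8, 9, 6, 5]), 1001, 0),
    ((0, [1, 2, 3, 4, 5, 6, 7, 3, 2, 1, 4, 3, 2, 5, 4, 8, 7, 3, 2, 1, 0, 4, 3, 2, 5, 4, 3, 7, 3, 8, 9, 6, 5]), 1001, 0),
    ((0, [1, 2, 3, 4, 5, 6, 7, 3, 2, 1, 4, 5, 8, 7, 3, 2, 1, 4, 3, 2, 5, 6, 7, 3, 4, 5, 8, 9, 6, 5, 4, 3, 7]), 1001, 0),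
    ((0, [1, 2, 3, 4, 5, 6, 7, 3, 2, 1, 4, 3, 5, 4, 8, 7, 3, 2, 1, 0, 4, 3, 5, 4, 6, 5, 7, 8, 9, 6, 5, 4, 3]), 1001, 0),
    ((0, [1, 2, 3, 4, 5, 6, 7, 3, 2, 4, 3, 5, 8, 7, 3, 2, 1, 4, 3, 2, 5, 4, 3, 7, 3, 4, 5, 8, 9, 6, 5, 4, 3]), 1001, 0),
    ((0, [1, 2, 3, 4, 5, 6, 7, 3, 2, 1, 4, 3, 5, 4, 8, 7, 3, 2, 1, 0, 4, 3, 2, 5, 4, 6, 5, 7, 3, 8, 9, 6, 5]), 1001, 0),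
    ((0, [1, 2, 3, 4, 5, 6, 7, 3, 2, 1, 4, 3, 5, 4, 8, 7, 3, 2, 1, 4, 3, 2, 5, 4, 6, 5, 7, 9, 6, 5, 4, 3, 7]), 1001, 0),
    ((0, [1, 2, 3, 4, 5, 6, 7, 3, 2, 4, 3, 5, 8, 7, 3, 2, 1, 4, 3, 2, 5, 4, 3, 7, 3, 4, 5, 9, 6, 5, 4, 3, 7]), 1001, 0),
    ((0, [1, 2, 3, 4, 5, 6, 7, 3, 2, 1, 4, 3, 2, 5, 4, 8, 7, 3, 2, 1, 4, 3, 2, 5, 4, 3, 7, 8, 9, 6, 5, 4, 3]), 1001, 0),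
    ((0, [1, 2, 3, 4, 5, 6, 7, 3, 2, 1, 4, 3, 2, 5, 7, 8, 7, 3, 2, 1, 4, 3, 2, 5, 4, 3, 7, 8, 9, 6, 5, 4, 3]), 1001, 0),
    ((0, [1, 2, 3, 4, 5, 6, 7, 3, 2, 1, 4, 3, 2, 5, 4, 7, 8, 7, 3, 2, 1, 4, 3, 2, 5, 4, 3, 7, 3, 8, 9, 6, 5]), 1001, 0),
    ((0, [1, 2, 3, 4, 5, 6, 7, 3, 2, 1, 4, 3, 5, 4, 8, 7, 3, 2, 1, 4, 3, 2, 5, 4, 6, 7, 8, 9, 6, 5, 4, 3, 2]), 1001, 0),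
    ((0, [1, 2, 3, 4, 5, 6, 7, 3, 2, 1, 4, 3, 2, 5, 4, 8, 7, 3, 2, 1, 4, 3, 2, 5, 4, 7, 9, 6, 5, 4, 3, 7, 8]), 1001, 0),
    ((0, [1, 2, 3, 4, 5, 6, 7, 3, 2, 1, 4, 3, 2, 5, 4, 8, 7, 3, 2, 1, 4, 3, 2, 5, 4, 7, 8, 9, 6, 5, 4, 3, 2]), 1001, 0),
    ((0, [1, 2, 3, 4, 5, 6, 7, 3, 2, 1, 4, 3, 8, 7, 3, 2, 1, 0, 4, 3, 5, 4, 7, 3, 2, 1, 9, 6, 5, 4, 3, 7, 8]), 1001, 0),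
    ((0, [1, 2, 3, 4, 5, 6, 7, 3, 2, 1, 4, 3, 5, 4, 8, 7, 3, 2, 4, 3, 5, 4, 6, 7, 8, 9, 6, 5, 4, 3, 2, 1, 0]), 1001, 0),
    ((0, [1, 2, 3, 4, 5, 6, 7, 3, 2, 1, 4, 3, 5, 7, 8, 7, 3, 2, 1, 0, 4, 3, 2, 5, 4, 7, 8, 9, 6, 5, 4, 3, 2]), 1001, 0),
    ((0, [1, 2, 3, 4, 5, 6, 7, 3, 2, 1, 4, 3, 5, 7, 8, 7, 3, 2, 1, 4, 3, 2, 5, 4, 6, 7, 8, 9, 6, 5, 4, 3, 2]), 1001, 0),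
    ((0, [1, 2, 3, 4, 5, 6, 7, 3, 2, 1, 4, 3, 2, 5, 7, 8, 7, 3, 2, 1, 4, 3, 2, 5, 4, 7, 8, 9, 6, 5, 4, 3, 2]), 1001, 0),
    ((0, [1, 2, 3, 4, 5, 6, 7, 3, 2, 1, 4, 3, 2, 5, 8, 7, 3, 2, 1, 4, 3, 2, 5, 4, 3, 7, 8, 9, 6, 5, 4, 3, 2]), 1001, 0),
    ((0, [1, 2, 3, 4, 5, 6, 7, 3, 2, 1, 4, 3, 2, 5, 4, 7, 8, 7, 3, 2, 1, 4, 3, 2, 5, 7, 8, 9, 6, 5, 4, 3, 7]), 1001, 0),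
    ((0, [1, 2, 3, 4, 5, 6, 7, 3, 2, 1, 4, 3, 5, 4, 7, 8, 7, 3, 2, 1, 4, 3, 2, 5, 4, 7, 8, 9, 6, 5, 4, 3, 7]), 1001, 0),
    ((0, [1, 2, 3, 4, 5, 6, 7, 3, 2, 1, 4, 3, 5, 4, 8, 7, 3, 2, 1, 0, 4, 3, 2, 5, 4, 7, 8, 9, 6, 5, 4, 3, 7]), 1001, 0),
    ((0, [1, 2, 3, 4, 5, 6, 7, 3, 2, 1, 4, 3, 5, 4, 8, 7, 3, 2, 1, 4, 3, 2, 5, 7, 3, 4, 8, 9, 6, 5, 4, 3, 7]), 1001, 0),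
    ((0, [1, 2, 3, 4, 5, 6, 7, 3, 2, 1, 4, 3, 5, 7, 8, 7, 3, 2, 1, 0, 4, 3, 2, 5, 4, 7, 8, 9, 6, 5, 4, 3, 7]), 1001, 0),
    ((0, [1, 2, 3, 4, 5, 6, 7, 3, 2, 1, 4, 3, 5, 7, 8, 7, 3, 2, 1, 4, 3, 2, 5, 7, 3, 4, 8, 9, 6, 5, 4, 3, 7]), 1001, 0),
    ((0, [1, 2, 3, 4, 5, 6, 7, 3, 2, 1, 4, 3, 5, 8, 7, 3, 2, 1, 4, 3, 2, 5, 7, 3, 4, 5, 8, 9, 6, 5, 4, 3, 7]), 1001, 0),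
    ((0, [1, 2, 3, 4, 5, 6, 7, 3, 2, 1, 4, 3, 2, 5, 7, 8, 7, 3, 2, 1, 4, 3, 2, 5, 4, 7, 8, 9, 6, 5, 4, 3, 7]), 1001, 0),
    ((0, [1, 2, 3, 4, 5, 6, 7, 3, 2, 1, 4, 3, 2, 5, 4, 8, 7, 3, 2, 1, 4, 3, 2, 5, 4, 7, 8, 9, 6, 5, 4, 3, 7]), 1001, 0),
    ((0, [1, 2, 3, 4, 5, 6, 7, 3, 2, 1, 4, 3, 2, 5, 8, 7, 3, 2, 1, 0, 4, 3, 2, 5, 4, 7, 8, 9, 6, 5, 4, 3, 7]), 1001, 0),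
    ((0, [1, 2, 3, 4, 5, 6, 7, 3, 2, 1, 4, 3, 5, 8, 7, 3, 2, 1, 4, 3, 2, 5, 6, 7, 3, 4, 8, 9, 6, 5, 4, 3, 7]), 1001, 0),
    ((0, [1, 2, 3, 4, 5, 6, 7, 3, 2, 1, 4, 3, 5, 7, 8, 7, 3, 2, 1, 4, 3, 2, 5, 4, 6, 7, 8, 9, 6, 5, 4, 3, 7]), 1001, 0),
    ((0, [1, 2, 3, 4, 5, 6, 7, 3, 2, 1, 4, 3, 5, 4, 8, 7, 3, 2, 1, 4, 3, 2, 5, 4, 6, 7, 8, 9, 6, 5, 4, 3, 7]), 1001, 0),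
    ((0, [1, 2, 3, 4, 5, 6, 7, 3, 2, 4, 3, 5, 8, 7, 3, 2, 1, 4, 3, 2, 5, 4, 3, 7, 3, 4, 8, 9, 6, 5, 4, 3, 7]), 1001, 0),
    ((0, [1, 2, 3, 4, 5, 6, 7, 3, 2, 1, 4, 3, 5, 7, 8, 7, 3, 2, 1, 4, 3, 2, 5, 4, 3, 7, 8, 9, 6, 5, 4, 3, 7]), 1001, 0),
    ((0, [1, 2, 3, 4, 5, 6, 7, 3, 2, 1, 4, 3, 5, 4, 8, 7, 3, 2, 1, 4, 3, 2, 5, 4, 3, 7, 8, 9, 6, 5, 4, 3, 7]), 1001, 0),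
    ((0, [1, 2, 3, 4, 5, 6, 7, 3, 2, 1, 4, 3, 5, 7, 8, 7, 3, 2, 1, 4, 3, 5, 4, 7, 3, 2, 8, 9, 6, 5, 4, 3, 7]), 1001, 0),
    ((0, [1, 2, 3, 4, 5, 6, 7, 3, 2, 1, 4, 3, 2, 5, 8, 7, 3, 2, 1, 4, 3, 2, 5, 4, 3, 7, 8, 9, 6, 5, 4, 3, 7]), 1001, 0),
    ((0, [1, 2, 3, 4, 5, 6, 7, 3, 2, 1, 4, 3, 5, 4, 8, 7, 3, 2, 1, 4, 3, 2, 5, 7, 3, 4, 8, 9, 6, 5, 4, 3, 2]), 1001, 0),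
    ((0, [1, 2, 3, 4, 5, 6, 7, 3, 2, 1, 4, 3, 5, 4, 8, 7, 3, 2, 1, 4, 3, 2, 5, 4, 3, 7, 8, 9, 6, 5, 4, 3, 2]), 1001, 0),
    ((0, [1, 2, 3, 4, 5, 6, 7, 3, 2, 1, 4, 3, 5, 4, 8, 7, 3, 2, 1, 4, 3, 5, 4, 7, 3, 2, 9, 6, 5, 4, 3, 7, 8]), 1001, 0),
    ((0, [1, 2, 3, 4, 5, 6, 7, 3, 2, 1, 4, 3, 5, 8, 7, 3, 2, 1, 4, 3, 2, 5, 4, 7, 3, 4, 8, 9, 6, 5, 4, 3, 2]), 1001, 0),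
    ((0, [1, 2, 3, 4, 5, 6, 7, 3, 2, 1, 4, 3, 5, 8, 7, 3, 2, 1, 4, 3, 2, 5, 4, 3, 7, 3, 8, 9, 6, 5, 4, 3, 2]), 1001, 0),
    ((0, [1, 2, 3, 4, 5, 6, 7, 3, 2, 1, 4, 3, 5, 8, 7, 3, 2, 1, 4, 3, 2, 5, 4, 7, 3, 4, 8, 9, 6, 5, 4, 3, 7]), 1001, 0),
    ((0, [1, 2, 3, 4, 5, 6, 7, 3, 2, 1, 4, 3, 5, 8, 7, 3, 2, 1, 4, 3, 2, 5, 4, 3, 7, 3, 8, 9, 6, 5, 4, 3, 7]), 1001, 0),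
    ((0, [1, 2, 3, 4, 5, 6, 7, 3, 2, 1, 4, 3, 2, 5, 4, 7, 8, 7, 3, 2, 1, 4, 3, 2, 5, 4, 7, 3, 2, 8, 9, 6, 5]), 1001, 0),
    ((0, [1, 2, 3, 4, 5, 6, 7, 3, 2, 1, 4, 3, 2, 5, 7, 8, 7, 3, 2, 1, 0, 4, 3, 2, 5, 4, 7, 3, 4, 8, 9, 6, 5]), 1001, 0),
    ((0, [1, 2, 3, 4, 5, 6, 7, 3, 2, 1, 4, 3, 5, 8, 7, 3, 2, 1, 4, 3, 2, 5, 4, 7, 3, 2, 4, 5, 8, 9, 6, 5, 4]), 1001, 0),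
    ((0, [1, 2, 3, 4, 5, 6, 7, 3, 2, 1, 4, 3, 2, 5, 7, 8, 7, 3, 2, 1, 4, 3, 2, 5, 4, 7, 3, 4, 8, 9, 6, 5, 4]), 1001, 0),
    ((0, [1, 2, 3, 4, 5, 6, 7, 3, 2, 1, 4, 3, 2, 5, 7, 8, 7, 3, 2, 1, 4, 3, 2, 5, 4, 7, 3, 4, 5, 8, 9, 6, 5]), 1001, 0),
    ((0, [1, 2, 3, 4, 5, 6, 7, 3, 2, 1, 4, 3, 2, 5, 7, 8, 7, 3, 2, 1, 4, 3, 2, 5, 7, 3, 4, 5, 8, 9, 6, 5, 4]), 1001, 0),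
    ((0, [1, 2, 3, 4, 5, 6, 7, 3, 2, 1, 4, 3, 5, 4, 7, 8, 7, 3, 2, 4, 3, 5, 4, 7, 3, 2, 1, 0, 8, 7, 9, 6, 5]), 1001, 0),
    ((0, [1, 2, 3, 4, 5, 6, 7, 3, 2, 1, 4, 5, 8, 7, 3, 2, 1, 4, 3, 2, 5, 4, 6, 7, 3, 4, 5, 8, 7, 9, 6, 5, 4]), 1001, 0),
    ((0, [1, 2, 3, 4, 5, 6, 7, 3, 2, 1, 4, 3, 2, 5, 8, 7, 3, 2, 1, 0, 4, 3, 2, 5, 4, 7, 8, 9, 6, 5, 4, 3, 2]), 1001, 0),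
    ((0, [1, 2, 3, 4, 5, 6, 7, 3, 2, 1, 4, 3, 5, 7, 8, 7, 3, 2, 1, 4, 3, 2, 5, 4, 3, 7, 8, 9, 6, 5, 4, 3, 2]), 1001, 0),
    ((0, [1, 2, 3, 4, 5, 6, 7, 3, 2, 1, 4, 3, 5, 7, 8, 7, 3, 2, 1, 4, 3, 5, 4, 7, 3, 2, 8, 9, 6, 5, 4, 3, 2]), 1001, 0),
    ((0, [1, 2, 3, 4, 5, 6, 7, 3, 2, 1, 4, 3, 5, 7, 8, 7, 3, 2, 1, 4, 3, 2, 5, 7, 3, 4, 8, 9, 6, 5, 4, 3, 2]), 1001, 0),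
    ((0, [1, 2, 3, 4, 5, 6, 7, 3, 2, 1, 4, 3, 5, 8, 7, 3, 2, 1, 4, 3, 2, 5, 4, 7, 9, 6, 5, 4, 3, 2, 1, 7, 8]), 1001, 0),
    ((0, [1, 2, 3, 4, 5, 6, 7, 3, 2, 4, 3, 5, 8, 7, 3, 2, 1, 4, 3, 2, 5, 4, 3, 7, 3, 4, 8, 9, 6, 5, 4, 3, 2]), 1001, 0),
    ((0, [1, 2, 3, 4, 5, 6, 7, 3, 2, 1, 4, 3, 5, 8, 7, 3, 2, 1, 0, 4, 3, 2, 5, 4, 7, 3, 8, 9, 6, 5, 4, 3, 2]), 1001, 0),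
    ((0, [1, 2, 3, 4, 5, 6, 7, 3, 2, 1, 4, 3, 5, 8, 7, 3, 2, 1, 0, 4, 3, 2, 5, 4, 7, 3, 8, 9, 6, 5, 4, 3, 7]), 1001, 0),
    ((0, [1, 2, 3, 4, 5, 6, 7, 3, 2, 1, 4, 3, 5, 4, 8, 7, 3, 2, 1, 0, 4, 3, 2, 1, 5, 4, 7, 3, 8, 7, 9, 6, 5]), 1001, 0),
    ((0, [1, 2, 3, 4, 5, 6, 7, 3, 2, 1, 4, 3, 5, 4, 8, 7, 3, 2, 1, 0, 4, 3, 2, 5, 4, 7, 3, 4, 8, 7, 9, 6, 5]), 1001, 0),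
    ((0, [1, 2, 3, 4, 5, 6, 7, 3, 2, 1, 4, 3, 2, 5, 4, 7, 8, 7, 3, 2, 1, 4, 3, 2, 5, 4, 7, 3, 8, 7, 9, 6, 5]), 1001, 0),
    ((0, [1, 2, 3, 4, 5, 6, 7, 3, 2, 1, 4, 3, 2, 5, 4, 8, 7, 3, 2, 1, 0, 4, 3, 2, 5, 4, 7, 3, 8, 7, 9, 6, 5]), 1001, 0),
    ((0, [1, 2, 3, 4, 5, 6, 7, 3, 2, 1, 4, 3, 5, 4, 8, 7, 3, 2, 1, 4, 3, 2, 5, 4, 7, 3, 4, 5, 8, 7, 9, 6, 5]), 1001, 0),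
    ((0, [1, 2, 3, 4, 5, 6, 7, 3, 2, 1, 4, 3, 2, 5, 8, 7, 3, 2, 1, 0, 4, 3, 2, 1, 5, 4, 7, 3, 8, 7, 9, 6, 5]), 1001, 0),
    ((0, [1, 2, 3, 4, 5, 6, 7, 3, 2, 1, 4, 3, 5, 4, 7, 8, 7, 3, 2, 1, 4, 3, 2, 5, 4, 6, 7, 3, 8, 7, 9, 6, 5]), 1001, 0),
    ((0, [1, 2, 3, 4, 5, 6, 7, 3, 2, 1, 4, 3, 5, 4, 8, 7, 3, 2, 1, 0, 4, 3, 2, 5, 4, 6, 7, 3, 8, 7, 9, 6, 5]), 1001, 0),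
    ((0, [1, 2, 3, 4, 5, 6, 7, 3, 2, 1, 4, 3, 5, 4, 8, 7, 3, 2, 1, 0, 4, 3, 2, 5, 4, 3, 7, 3, 8, 7, 9, 6, 5]), 1001, 0),
    ((0, [1, 2, 3, 4, 5, 6, 7, 3, 2, 1, 4, 3, 5, 4, 7, 8, 7, 3, 2, 1, 4, 3, 2, 5, 4, 3, 7, 3, 8, 7, 9, 6, 5]), 1001, 0),
    ((0, [1, 2, 3, 4, 5, 6, 7, 3, 2, 1, 4, 3, 5, 4, 8, 7, 3, 2, 1, 4, 3, 2, 5, 4, 7, 3, 4, 8, 7, 9, 6, 5, 4]), 1001, 0),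
    ((0, [1, 2, 3, 4, 5, 6, 7, 3, 2, 1, 4, 3, 5, 8, 7, 3, 2, 1, 4, 3, 2, 5, 4, 7, 3, 4, 5, 8, 7, 9, 6, 5, 4]), 1001, 0),
    ((0, [1, 2, 3, 4, 5, 6, 7, 3, 2, 1, 4, 3, 5, 8, 7, 3, 2, 1, 4, 3, 2, 5, 4, 6, 7, 3, 4, 8, 7, 9, 6, 5, 4]), 1001, 0),
    ((0, [1, 2, 3, 4, 5, 6, 7, 3, 2, 1, 4, 3, 5, 4, 8, 7, 3, 2, 1, 0, 4, 3, 2, 5, 4, 7, 3, 8, 7, 9, 6, 5, 4]), 1001, 0),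
    ((0, [1, 2, 3, 4, 5, 6, 7, 3, 2, 1, 4, 3, 5, 8, 7, 3, 2, 1, 4, 3, 2, 5, 4, 6, 7, 3, 4, 5, 8, 7, 9, 6, 5]), 1001, 0),
    ((0, [1, 2, 3, 4, 5, 6, 7, 3, 2, 1, 4, 3, 2, 5, 8, 7, 3, 2, 1, 0, 4, 3, 2, 5, 4, 3, 7, 3, 8, 7, 9, 6, 5]), 1001, 0),
    ((0, [1, 2, 3, 4, 5, 6, 7, 3, 2, 1, 4, 3, 5, 4, 8, 7, 3, 2, 1, 4, 3, 2, 5, 4, 6, 5, 7, 3, 8, 7, 9, 6, 5]), 1001, 0),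
    ((0, [1, 2, 3, 4, 5, 6, 7, 3, 2, 1, 4, 3, 5, 8, 7, 3, 2, 1, 4, 3, 2, 5, 4, 3, 7, 3, 4, 5, 8, 7, 9, 6, 5]), 1001, 0),
    ((0, [1, 2, 3, 4, 5, 6, 7, 3, 2, 1, 4, 3, 2, 5, 4, 8, 7, 3, 2, 1, 4, 3, 2, 5, 4, 3, 7, 3, 8, 7, 9, 6, 5]), 1001, 0),
    ((0, [1, 2, 3, 4, 5, 6, 7, 3, 2, 1, 4, 3, 5, 4, 8, 7, 3, 2, 1, 0, 4, 3, 2, 5, 4, 7, 3, 2, 4, 8, 9, 6, 5]), 1001, 0),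
    ((0, [1, 2, 3, 4, 5, 6, 7, 3, 2, 1, 4, 3, 5, 4, 8, 7, 3, 2, 1, 4, 3, 2, 5, 4, 7, 3, 2, 4, 5, 8, 9, 6, 5]), 1001, 0),
    ((0, [1, 2, 3, 4, 5, 6, 7, 3, 2, 1, 4, 3, 5, 4, 8, 7, 3, 2, 1, 0, 4, 3, 2, 5, 4, 3, 7, 3, 2, 8, 9, 6, 5]), 1001, 0),
    ((0, [1, 2, 3, 4, 5, 6, 7, 3, 2, 1, 4, 3, 2, 5, 4, 8, 7, 3, 2, 1, 4, 3, 2, 5, 4, 3, 7, 3, 2, 8, 9, 6, 5]), 1001, 0),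
    ((0, [1, 2, 3, 4, 5, 6, 7, 3, 2, 1, 4, 3, 2, 5, 4, 8, 7, 3, 2, 1, 0, 4, 3, 2, 5, 4, 7, 3, 2, 8, 9, 6, 5]), 1001, 0),
    ((0, [1, 2, 3, 4, 5, 6, 7, 3, 2, 1, 4, 3, 5, 4, 8, 7, 3, 2, 1, 0, 4, 3, 2, 5, 4, 6, 7, 3, 2, 8, 9, 6, 5]), 1001, 0)]

/-- Part 38 of the cycles. -/
def reps38 : List ((Nat × List Nat) × Nat × Nat) :=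
  [
    ((0, [1, 2, 3, 4, 5, 6, 7, 3, 2, 1, 4, 3, 2, 5, 4, 8, 7, 3, 2, 1, 4, 3, 2, 5, 7, 3, 4, 5, 6, 8, 9, 6, 5]), 1001, 0),
    ((0, [1, 2, 3, 4, 5, 6, 7, 3, 2, 1, 4, 3, 5, 4, 7, 8, 7, 3, 2, 1, 4, 3, 2, 5, 4, 7, 3, 2, 1, 8, 9, 6, 5]), 1001, 0),
    ((0, [1, 2, 3, 4, 5, 6, 7, 3, 2, 1, 4, 3, 2, 5, 7, 8, 7, 3, 2, 1, 4, 3, 2, 5, 4, 3, 7, 3, 4, 8, 9, 6, 5]), 1001, 0),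
    ((0, [1, 2, 3, 4, 5, 6, 7, 3, 2, 1, 4, 3, 2, 5, 8, 7, 3, 2, 1, 0, 4, 3, 2, 1, 5, 4, 7, 3, 2, 8, 9, 6, 5]), 1001, 0),
    ((0, [1, 2, 3, 4, 5, 6, 7, 3, 2, 1, 4, 3, 2, 5, 8, 7, 3, 2, 1, 4, 3, 2, 5, 4, 6, 5, 7, 3, 4, 8, 9, 6, 5]), 1001, 0),
    ((0, [1, 2, 3, 4, 5, 6, 7, 3, 2, 1, 4, 3, 5, 8, 7, 3, 2, 1, 4, 3, 2, 5, 4, 3, 7, 3, 2, 4, 5, 8, 9, 6, 5]), 1001, 0),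
    ((0, [1, 2, 3, 4, 5, 6, 7, 3, 2, 1, 4, 3, 2, 5, 8, 7, 3, 2, 1, 0, 4, 3, 2, 5, 4, 6, 7, 8, 9, 6, 5, 4, 3]), 1001, 0),
    ((0, [1, 2, 3, 4, 5, 6, 7, 3, 2, 1, 4, 3, 5, 4, 8, 7, 3, 2, 1, 4, 3, 2, 5, 4, 6, 7, 9, 6, 5, 4, 3, 2, 1]), 1001, 0),
    ((0, [1, 2, 3, 4, 5, 6, 7, 3, 2, 1, 4, 3, 2, 5, 8, 7, 3, 2, 1, 4, 3, 2, 5, 4, 6, 7, 8, 9, 6, 5, 4, 3, 2]), 1001, 0),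
    ((0, [1, 2, 3, 4, 5, 6, 7, 3, 2, 1, 4, 3, 5, 8, 7, 3, 2, 1, 4, 3, 2, 5, 4, 6, 7, 9, 6, 5, 4, 3, 2, 1, 7]), 1001, 0),
    ((0, [1, 2, 3, 4, 5, 6, 7, 3, 2, 1, 4, 3, 2, 5, 4, 8, 7, 3, 2, 1, 0, 4, 3, 2, 1, 5, 4, 6, 7, 8, 9, 6, 5]), 1001, 0),
    ((0, [1, 2, 3, 4, 5, 6, 7, 3, 2, 1, 4, 3, 5, 4, 8, 7, 3, 2, 1, 4, 3, 2, 5, 7, 3, 4, 5, 6, 8, 9, 6, 5, 4]), 1001, 0),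
    ((0, [1, 2, 3, 4, 5, 6, 7, 3, 2, 1, 4, 3, 2, 5, 8, 7, 3, 2, 1, 4, 3, 2, 5, 4, 6, 5, 7, 8, 9, 6, 5, 4, 3]), 1001, 0),
    ((0, [1, 2, 3, 4, 5, 6, 7, 3, 2, 1, 4, 3, 8, 7, 3, 2, 1, 4, 3, 2, 5, 4, 3, 7, 3, 2, 1, 0, 8, 9, 6, 5, 4]), 1001, 0),
    ((0, [1, 2, 3, 4, 5, 6, 7, 3, 2, 1, 4, 3, 2, 5, 4, 8, 7, 3, 2, 1, 0, 4, 3, 5, 4, 6, 5, 7, 8, 9, 6, 5, 4]), 1001, 0),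
    ((0, [1, 2, 3, 4, 5, 6, 7, 3, 2, 1, 4, 3, 2, 5, 8, 7, 3, 2, 1, 4, 3, 2, 5, 4, 6, 5, 7, 9, 6, 5, 4, 3, 7]), 1001, 0),
    ((0, [1, 2, 3, 4, 5, 6, 7, 3, 2, 1, 4, 3, 2, 5, 8, 7, 3, 2, 1, 4, 3, 2, 5, 4, 6, 5, 7, 9, 6, 5, 4, 3, 2]), 1001, 0),
    ((0, [1, 2, 3, 4, 5, 6, 7, 3, 2, 1, 4, 3, 8, 7, 3, 2, 1, 4, 3, 2, 5, 4, 3, 7, 3, 2, 8, 9, 6, 5, 4, 3, 2]), 1001, 0),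
    ((0, [1, 2, 3, 4, 5, 6, 7, 3, 2, 1, 4, 3, 2, 5, 4, 8, 7, 3, 2, 1, 0, 4, 3, 2, 5, 4, 6, 5, 7, 8, 9, 6, 5]), 1001, 0),
    ((0, [1, 2, 3, 4, 5, 6, 7, 3, 2, 1, 4, 3, 2, 5, 8, 7, 3, 2, 1, 4, 3, 5, 4, 7, 3, 2, 1, 0, 8, 9, 6, 5, 4]), 1001, 0),
    ((0, [1, 2, 3, 4, 5, 6, 7, 3, 2, 1, 4, 3, 2, 5, 4, 8, 7, 3, 2, 1, 0, 4, 3, 2, 5, 4, 3, 6, 7, 8, 9, 6, 5]), 1001, 0),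
    ((0, [1, 2, 3, 4, 5, 6, 7, 3, 2, 1, 4, 3, 2, 5, 8, 7, 3, 2, 1, 4, 3, 2, 5, 4, 6, 7, 8, 9, 6, 5, 4, 3, 7]), 1001, 0),
    ((0, [1, 2, 3, 4, 5, 6, 7, 3, 2, 1, 4, 3, 8, 7, 3, 2, 1, 4, 3, 2, 5, 4, 3, 7, 3, 2, 8, 9, 6, 5, 4, 3, 7]), 1001, 0),
    ((0, [1, 2, 3, 4, 5, 6, 7, 3, 2, 1, 4, 3, 5, 4, 8, 7, 3, 2, 1, 4, 3, 2, 5, 4, 6, 7, 9, 6, 5, 4, 3, 7, 8]), 1001, 0),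
    ((0, [1, 2, 3, 4, 5, 6, 7, 3, 2, 1, 4, 3, 2, 5, 8, 7, 3, 2, 1, 0, 4, 3, 2, 1, 5, 4, 6, 7, 3, 8, 9, 6, 5]), 1001, 0),
    ((0, [1, 2, 3, 4, 5, 6, 7, 3, 2, 1, 4, 3, 2, 5, 4, 8, 7, 3, 2, 1, 0, 4, 3, 2, 5, 4, 6, 7, 3, 8, 9, 6, 5]), 1001, 0),
    ((0, [1, 2, 3, 4, 5, 6, 7, 3, 2, 1, 4, 3, 5, 8, 7, 3, 2, 1, 4, 3, 2, 5, 4, 3, 7, 3, 2, 1, 0, 8, 9, 6, 5]), 1001, 0),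
    ((0, [1, 2, 3, 4, 5, 6, 7, 3, 2, 1, 4, 3, 2, 5, 4, 8, 7, 3, 2, 1, 4, 3, 2, 5, 4, 6, 5, 7, 3, 8, 9, 6, 5]), 1001, 0),
    ((0, [1, 2, 3, 4, 5, 6, 7, 3, 2, 1, 4, 3, 2, 5, 4, 3, 8, 7, 3, 2, 1, 4, 3, 2, 5, 7, 3, 4, 5, 8, 9, 6, 5]), 1001, 0),
    ((0, [1, 2, 3, 4, 5, 6, 7, 3, 2, 1, 4, 3, 2, 5, 4, 8, 7, 3, 2, 1, 4, 3, 2, 7, 3, 4, 5, 6, 8, 7, 9, 6, 5]), 1001, 0),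
    ((0, [1, 2, 3, 4, 5, 6, 7, 3, 2, 1, 4, 3, 5, 8, 7, 3, 2, 1, 4, 3, 2, 5, 7, 3, 4, 5, 6, 8, 9, 6, 5, 4, 3]), 1001, 0),
    ((0, [1, 2, 3, 4, 5, 6, 7, 3, 2, 1, 4, 3, 5, 8, 7, 3, 2, 1, 4, 3, 5, 4, 7, 3, 2, 1, 8, 9, 6, 5, 4, 3, 7]), 1001, 0),
    ((0, [1, 2, 3, 4, 5, 6, 7, 3, 2, 1, 4, 3, 5, 8, 7, 3, 2, 1, 0, 4, 3, 5, 4, 7, 3, 2, 8, 9, 6, 5, 4, 3, 7]), 1001, 0),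
    ((0, [1, 2, 3, 4, 5, 6, 7, 3, 2, 1, 4, 3, 2, 5, 8, 7, 3, 2, 1, 4, 3, 5, 4, 7, 3, 2, 8, 9, 6, 5, 4, 3, 7]), 1001, 0),
    ((0, [1, 2, 3, 4, 5, 6, 7, 3, 2, 1, 4, 3, 2, 5, 8, 7, 3, 2, 1, 0, 4, 3, 5, 4, 7, 3, 2, 8, 9, 6, 5, 4, 3]), 1001, 0),
    ((0, [1, 2, 3, 4, 5, 6, 7, 3, 2, 1, 4, 3, 2, 5, 8, 7, 3, 2, 4, 3, 5, 4, 7, 3, 2, 1, 0, 8, 9, 6, 5, 4, 3]), 1001, 0),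
    ((0, [1, 2, 3, 4, 5, 6, 7, 3, 2, 1, 4, 3, 5, 4, 8, 7, 3, 2, 1, 4, 3, 2, 5, 4, 7, 3, 4, 5, 6, 8, 9, 6, 5]), 1001, 0),
    ((0, [1, 2, 3, 4, 5, 6, 7, 3, 2, 1, 4, 3, 2, 5, 4, 8, 7, 3, 2, 1, 4, 3, 2, 5, 4, 3, 6, 7, 3, 8, 9, 6, 5]), 1001, 0),
    ((0, [1, 2, 3, 4, 5, 6, 7, 3, 2, 1, 4, 3, 2, 5, 8, 7, 3, 2, 1, 4, 3, 2, 5, 4, 7, 3, 2, 1, 0, 8, 9, 6, 5]), 1001, 0),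
    ((0, [1, 2, 3, 4, 5, 6, 7, 3, 2, 1, 4, 3, 5, 4, 8, 7, 3, 2, 4, 3, 5, 4, 7, 3, 8, 9, 6, 5, 4, 3, 2, 1, 0]), 1001, 0),
    ((0, [1, 2, 3, 4, 5, 6, 7, 3, 2, 1, 4, 3, 5, 8, 7, 3, 2, 4, 3, 5, 4, 7, 3, 2, 1, 0, 8, 9, 6, 5, 4, 3, 7]), 1001, 0),
    ((0, [1, 2, 3, 4, 5, 6, 7, 3, 2, 1, 4, 3, 5, 4, 8, 7, 3, 2, 1, 4, 3, 2, 5, 4, 3, 6, 9, 6, 5, 4, 3, 7, 8]), 1001, 0),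
    ((0, [1, 2, 3, 4, 5, 6, 7, 3, 2, 1, 4, 3, 2, 5, 4, 8, 7, 3, 2, 4, 3, 5, 4, 7, 8, 9, 6, 5, 4, 3, 2, 1, 0]), 1001, 0),
    ((0, [1, 2, 3, 4, 5, 6, 7, 3, 2, 1, 4, 3, 2, 5, 8, 7, 3, 2, 1, 4, 3, 2, 5, 4, 7, 3, 2, 1, 4, 8, 9, 6, 5]), 1001, 0),
    ((0, [1, 2, 3, 4, 5, 6, 7, 3, 2, 1, 4, 3, 5, 4, 8, 7, 3, 2, 1, 4, 3, 2, 5, 4, 3, 7, 3, 2, 1, 8, 9, 6, 5]), 1001, 0),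
    ((0, [1, 2, 3, 4, 5, 6, 7, 3, 2, 1, 4, 3, 2, 5, 4, 8, 7, 3, 2, 1, 4, 3, 2, 5, 4, 6, 7, 3, 8, 7, 9, 6, 5]), 1001, 0),
    ((0, [1, 2, 3, 4, 5, 6, 7, 3, 2, 1, 4, 3, 5, 8, 7, 3, 2, 1, 4, 3, 2, 5, 4, 3, 7, 3, 2, 1, 8, 7, 9, 6, 5]), 1001, 0),
    ((0, [1, 2, 3, 4, 5, 6, 7, 3, 2, 1, 4, 3, 5, 8, 7, 3, 2, 1, 4, 3, 2, 5, 4, 7, 3, 2, 1, 0, 8, 7, 9, 6, 5]), 1001, 0),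
    ((0, [1, 2, 3, 4, 5, 6, 7, 3, 2, 1, 4, 3, 5, 8, 7, 3, 2, 1, 0, 4, 3, 2, 5, 4, 7, 3, 2, 1, 8, 7, 9, 6, 5]), 1001, 0),
    ((0, [1, 2, 3, 4, 5, 6, 7, 3, 2, 1, 4, 3, 2, 5, 8, 7, 3, 2, 1, 4, 3, 2, 5, 4, 7, 3, 2, 1, 8, 7, 9, 6, 5]), 1001, 0),
    ((0, [1, 2, 3, 4, 5, 6, 7, 3, 2, 1, 4, 3, 2, 5, 4, 8, 7, 3, 2, 1, 0, 4, 3, 2, 5, 4, 7, 3, 4, 8, 9, 6, 5]), 1001, 0),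
    ((0, [1, 2, 3, 4, 5, 6, 7, 3, 2, 1, 4, 3, 2, 5, 4, 8, 7, 3, 2, 1, 4, 3, 2, 5, 4, 7, 3, 4, 5, 8, 9, 6, 5]), 1001, 0),
    ((0, [1, 2, 3, 4, 5, 6, 7, 3, 2, 1, 4, 3, 2, 5, 4, 8, 7, 3, 2, 1, 4, 3, 2, 5, 7, 3, 4, 5, 8, 9, 6, 5, 4]), 1001, 0),
    ((0, [1, 2, 3, 4, 5, 6, 7, 3, 2, 1, 4, 3, 2, 5, 4, 8, 7, 3, 2, 1, 4, 3, 2, 5, 4, 7, 3, 4, 8, 7, 9, 6, 5]), 1001, 0),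
    ((0, [1, 2, 3, 4, 5, 6, 7, 3, 2, 1, 4, 3, 2, 5, 4, 3, 8, 7, 3, 2, 1, 4, 3, 2, 5, 7, 3, 4, 8, 7, 9, 6, 5]), 1001, 0),
    ((0, [1, 2, 3, 4, 5, 6, 7, 3, 2, 1, 4, 3, 5, 8, 7, 3, 2, 4, 3, 5, 4, 7, 8, 9, 6, 5, 4, 3, 2, 1, 0, 7, 3]), 1001, 0),
    ((0, [1, 2, 3, 4, 5, 6, 7, 3, 2, 1, 4, 3, 2, 5, 4, 8, 7, 3, 2, 1, 4, 3, 2, 5, 7, 3, 4, 5, 8, 7, 9, 6, 5]), 1001, 0),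
    ((0, [1, 2, 3, 4, 5, 6, 7, 3, 2, 1, 4, 3, 2, 5, 4, 3, 8, 7, 3, 2, 1, 4, 3, 2, 7, 3, 4, 5, 6, 8, 9, 6, 5]), 1001, 0),
    ((0, [1, 2, 3, 4, 5, 6, 7, 3, 2, 1, 4, 3, 5, 8, 7, 3, 2, 1, 4, 3, 2, 5, 4, 7, 3, 2, 1, 0, 8, 9, 6, 5, 4]), 1001, 0),
    ((0, [1, 2, 3, 4, 5, 6, 7, 3, 2, 1, 4, 3, 5, 8, 7, 3, 2, 1, 4, 3, 5, 4, 7, 3, 2, 1, 8, 9, 6, 5, 4, 3, 2]), 1001, 0),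
    ((0, [1, 2, 3, 4, 5, 6, 7, 3, 2, 1, 4, 3, 5, 8, 7, 3, 2, 1, 0, 4, 3, 5, 4, 7, 3, 2, 8, 9, 6, 5, 4, 3, 2]), 1001, 0),
    ((0, [1, 2, 3, 4, 5, 6, 7, 3, 2, 1, 4, 3, 2, 5, 8, 7, 3, 2, 1, 4, 3, 5, 4, 7, 3, 2, 8, 9, 6, 5, 4, 3, 2]), 1001, 0),
    ((0, [1, 2, 3, 4, 5, 6, 7, 3, 2, 1, 4, 3, 2, 5, 4, 8, 7, 3, 2, 4, 3, 5, 4, 7, 3, 2, 1, 0, 8, 9, 6, 5, 4]), 1001, 0),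
    ((0, [1, 2, 3, 4, 5, 6, 7, 3, 2, 1, 4, 3, 5, 8, 7, 3, 2, 4, 3, 5, 4, 7, 3, 2, 8, 9, 6, 5, 4, 3, 2, 1, 0]), 1001, 0),
    ((0, [1, 2, 3, 4, 5, 6, 7, 3, 2, 1, 4, 3, 5, 4, 8, 7, 3, 2, 1, 4, 3, 2, 5, 4, 7, 3, 2, 1, 0, 8, 9, 6, 5]), 1001, 0),
    ((0, [1, 2, 3, 4, 5, 6, 7, 3, 2, 1, 4, 3, 2, 5, 4, 8, 7, 3, 2, 1, 4, 3, 2, 5, 4, 7, 3, 2, 1, 8, 9, 6, 5]), 1001, 0),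
    ((0, [1, 2, 3, 4, 5, 6, 7, 3, 2, 1, 4, 3, 5, 4, 8, 7, 3, 2, 1, 4, 3, 2, 5, 4, 6, 5, 7, 3, 4, 8, 9, 6, 5]), 1001, 0),
    ((0, [1, 2, 3, 4, 5, 6, 7, 3, 2, 1, 4, 3, 2, 5, 4, 8, 7, 3, 2, 1, 4, 3, 2, 5, 4, 3, 7, 3, 4, 8, 9, 6, 5]), 1001, 0),
    ((0, [1, 2, 3, 4, 5, 6, 7, 3, 2, 1, 4, 3, 5, 7, 8, 7, 3, 2, 1, 0, 4, 3, 2, 5, 4, 7, 9, 6, 5, 4, 3, 7, 8]), 1001, 0),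
    ((0, [1, 2, 3, 4, 5, 6, 7, 3, 2, 1, 4, 3, 5, 7, 8, 7, 3, 2, 1, 4, 3, 2, 5, 4, 6, 7, 9, 6, 5, 4, 3, 7, 8]), 1001, 0),
    ((0, [1, 2, 3, 4, 5, 6, 7, 3, 2, 1, 4, 3, 5, 4, 7, 8, 7, 3, 2, 1, 4, 3, 2, 5, 4, 7, 9, 6, 5, 4, 3, 7, 8]), 1001, 0),
    ((0, [1, 2, 3, 4, 5, 6, 7, 3, 2, 1, 4, 3, 5, 7, 8, 7, 3, 2, 1, 4, 3, 2, 5, 4, 7, 9, 6, 5, 4, 3, 2, 7, 8]), 1001, 0),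
    ((0, [1, 2, 3, 4, 5, 6, 7, 3, 2, 1, 4, 3, 5, 8, 7, 3, 2, 1, 4, 3, 2, 5, 4, 3, 7, 9, 6, 5, 4, 3, 2, 7, 8]), 1001, 0),
    ((0, [1, 2, 3, 4, 5, 6, 7, 3, 2, 1, 4, 3, 5, 7, 8, 7, 3, 2, 1, 4, 3, 2, 5, 4, 7, 8, 9, 6, 5, 4, 3, 7, 8]), 1001, 0),
    ((0, [1, 2, 3, 4, 5, 6, 7, 3, 2, 1, 4, 3, 5, 8, 7, 3, 2, 1, 4, 3, 2, 5, 4, 3, 7, 8, 9, 6, 5, 4, 3, 7, 8]), 1001, 0),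
    ((0, [1, 2, 3, 4, 5, 6, 7, 3, 2, 1, 4, 3, 2, 5, 7, 8, 7, 3, 2, 1, 0, 4, 3, 2, 5, 4, 9, 6, 5, 4, 3, 7, 8]), 1001, 0),
    ((0, [1, 2, 3, 4, 5, 6, 7, 3, 2, 1, 4, 3, 2, 5, 7, 8, 7, 3, 2, 1, 4, 3, 2, 5, 4, 7, 9, 6, 5, 4, 3, 7, 8]), 1001, 0),
    ((0, [1, 2, 3, 4, 5, 6, 7, 3, 2, 1, 4, 3, 5, 7, 8, 7, 3, 2, 1, 4, 3, 2, 5, 4, 3, 7, 9, 6, 5, 4, 3, 7, 8]), 1001, 0),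
    ((0, [1, 2, 3, 4, 5, 6, 7, 3, 2, 1, 4, 3, 5, 8, 7, 3, 2, 1, 0, 4, 3, 2, 5, 6, 7, 8, 9, 6, 5, 4, 3, 7, 8]), 1001, 0),
    ((0, [1, 2, 3, 4, 5, 6, 7, 3, 2, 1, 4, 3, 5, 8, 7, 3, 2, 1, 0, 4, 3, 2, 5, 4, 7, 8, 9, 6, 5, 4, 3, 7, 8]), 1001, 0),
    ((0, [1, 2, 3, 4, 5, 6, 7, 3, 2, 1, 4, 3, 5, 8, 7, 3, 2, 1, 4, 3, 2, 5, 4, 6, 7, 8, 9, 6, 5, 4, 3, 7, 8]), 1001, 0),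
    ((0, [1, 2, 3, 4, 5, 6, 7, 3, 2, 1, 4, 3, 2, 5, 8, 7, 3, 2, 1, 0, 4, 3, 2, 5, 4, 7, 9, 6, 5, 4, 3, 7, 8]), 1001, 0),
    ((0, [1, 2, 3, 4, 5, 6, 7, 3, 2, 1, 4, 3, 2, 5, 8, 7, 3, 2, 1, 4, 3, 2, 5, 4, 7, 8, 9, 6, 5, 4, 3, 7, 8]), 1001, 0),
    ((0, [1, 2, 3, 4, 5, 6, 7, 3, 2, 1, 4, 3, 5, 7, 8, 7, 3, 2, 1, 4, 3, 2, 5, 7, 3, 4, 9, 6, 5, 4, 3, 7, 8]), 1001, 0),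
    ((0, [1, 2, 3, 4, 5, 6, 7, 3, 2, 1, 4, 3, 5, 4, 8, 7, 3, 2, 1, 4, 3, 2, 5, 4, 3, 7, 9, 6, 5, 4, 3, 7, 8]), 1001, 0),
    ((0, [1, 2, 3, 4, 5, 6, 7, 3, 2, 1, 4, 3, 2, 5, 8, 7, 3, 2, 1, 0, 4, 3, 2, 5, 4, 3, 9, 6, 5, 4, 3, 7, 8]), 1001, 0),
    ((0, [1, 2, 3, 4, 5, 6, 7, 3, 2, 1, 4, 3, 2, 5, 7, 8, 7, 3, 2, 1, 4, 3, 2, 5, 4, 3, 9, 6, 5, 4, 3, 7, 8]), 1001, 0),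
    ((0, [1, 2, 3, 4, 5, 6, 7, 3, 2, 1, 4, 3, 5, 7, 8, 7, 3, 2, 1, 4, 3, 5, 4, 7, 3, 2, 9, 6, 5, 4, 3, 7, 8]), 1001, 0),
    ((0, [1, 2, 3, 4, 5, 6, 7, 3, 2, 1, 4, 3, 5, 8, 7, 3, 2, 1, 4, 3, 2, 5, 6, 7, 3, 8, 9, 6, 5, 4, 3, 7, 8]), 1001, 0),
    ((0, [1, 2, 3, 4, 5, 6, 7, 3, 2, 1, 4, 3, 5, 8, 7, 3, 2, 1, 4, 3, 2, 5, 7, 3, 4, 8, 9, 6, 5, 4, 3, 7, 8]), 1001, 0),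
    ((0, [1, 2, 3, 4, 5, 6, 7, 3, 2, 1, 4, 3, 5, 4, 8, 7, 3, 2, 1, 4, 3, 5, 4, 7, 8, 9, 6, 5, 4, 3, 2, 7, 3]), 1001, 0),
    ((0, [1, 2, 3, 4, 5, 6, 7, 3, 2, 1, 4, 3, 5, 4, 8, 7, 3, 2, 1, 4, 3, 2, 5, 7, 3, 4, 9, 6, 5, 4, 3, 7, 8]), 1001, 0),
    ((0, [1, 2, 3, 4, 5, 6, 7, 3, 2, 4, 3, 5, 8, 7, 3, 2, 1, 4, 3, 2, 5, 4, 3, 7, 3, 4, 9, 6, 5, 4, 3, 7, 8]), 1001, 0),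
    ((0, [1, 2, 3, 4, 5, 6, 7, 3, 2, 1, 4, 3, 5, 4, 8, 7, 3, 2, 1, 4, 3, 2, 5, 4, 7, 8, 9, 6, 5, 4, 3, 2, 1]), 1001, 0),
    ((0, [1, 2, 3, 4, 5, 6, 7, 3, 2, 1, 4, 3, 5, 4, 8, 7, 3, 2, 1, 4, 3, 5, 4, 7, 3, 2, 8, 9, 6, 5, 4, 3, 2]), 1001, 0),
    ((0, [1, 2, 3, 4, 5, 6, 7, 3, 2, 1, 4, 5, 8, 7, 3, 2, 1, 4, 3, 2, 5, 7, 3, 4, 8, 9, 6, 5, 4, 3, 2, 7, 3]), 1001, 0),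
    ((0, [1, 2, 3, 4, 5, 6, 7, 3, 2, 1, 4, 3, 5, 8, 7, 3, 2, 1, 4, 3, 2, 5, 7, 3, 4, 9, 6, 5, 4, 3, 2, 7, 8]), 1001, 0),
    ((0, [1, 2, 3, 4, 5, 6, 7, 3, 2, 1, 4, 3, 5, 8, 7, 3, 2, 1, 0, 4, 3, 5, 4, 7, 3, 2, 9, 6, 5, 4, 3, 7, 8]), 1001, 0),
    ((0, [1, 2, 3, 4, 5, 6, 7, 3, 2, 1, 4, 3, 2, 5, 8, 7, 3, 2, 1, 0, 4, 3, 2, 5, 4, 6, 9, 6, 5, 4, 3, 7, 8]), 1001, 0),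
    ((0, [1, 2, 3, 4, 5, 6, 7, 3, 2, 1, 4, 3, 5, 8, 7, 3, 2, 1, 4, 3, 5, 4, 7, 3, 2, 1, 9, 6, 5, 4, 3, 7, 8]), 1001, 0),
    ((0, [1, 2, 3, 4, 5, 6, 7, 3, 2, 1, 4, 3, 5, 8, 7, 3, 2, 1, 4, 3, 5, 4, 7, 3, 2, 9, 6, 5, 4, 3, 2, 7, 8]), 1001, 0),
    ((0, [1, 2, 3, 4, 5, 6, 7, 3, 2, 1, 4, 3, 5, 8, 7, 3, 2, 1, 4, 3, 5, 4, 7, 3, 2, 8, 9, 6, 5, 4, 3, 7, 8]), 1001, 0),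
    ((0, [1, 2, 3, 4, 5, 6, 7, 3, 2, 1, 4, 3, 2, 5, 8, 7, 3, 2, 1, 4, 3, 2, 5, 4, 6, 7, 9, 6, 5, 4, 3, 7, 8]), 1001, 0),
    ((0, [1, 2, 3, 4, 5, 6, 7, 3, 2, 1, 4, 3, 2, 5, 8, 7, 3, 2, 1, 4, 3, 2, 5, 4, 3, 6, 9, 6, 5, 4, 3, 7, 8]), 1001, 0),
    ((0, [1, 2, 3, 4, 5, 6, 7, 3, 2, 1, 4, 3, 2, 5, 8, 7, 3, 2, 1, 4, 3, 5, 4, 7, 3, 2, 9, 6, 5, 4, 3, 7, 8]), 1001, 0),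
    ((0, [1, 2, 3, 4, 5, 6, 7, 3, 2, 1, 4, 3, 2, 5, 8, 7, 3, 2, 1, 4, 3, 2, 5, 4, 6, 5, 9, 6, 5, 4, 3, 7, 8]), 1001, 0),
    ((0, [1, 2, 3, 4, 5, 6, 7, 3, 2, 1, 4, 3, 8, 7, 3, 2, 1, 4, 3, 2, 5, 4, 3, 7, 3, 2, 9, 6, 5, 4, 3, 7, 8]), 1001, 0),
    ((0, [1, 2, 3, 4, 5, 6, 7, 3, 2, 1, 4, 3, 5, 4, 8, 7, 3, 2, 1, 4, 3, 5, 6, 7, 8, 9, 6, 5, 4, 3, 2, 7, 3]), 1001, 0),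
    ((0, [1, 2, 3, 4, 5, 6, 7, 3, 2, 1, 4, 3, 5, 8, 7, 3, 2, 1, 0, 4, 3, 2, 5, 4, 7, 9, 6, 5, 4, 3, 2, 7, 8]), 1001, 0),
    ((0, [1, 2, 3, 4, 5, 6, 7, 3, 2, 1, 4, 3, 5, 8, 7, 3, 2, 1, 4, 3, 2, 5, 4, 6, 7, 9, 6, 5, 4, 3, 2, 7, 8]), 1001, 0),
    ((0, [1, 2, 3, 4, 5, 6, 7, 3, 2, 1, 4, 3, 2, 5, 8, 7, 3, 2, 1, 4, 3, 2, 5, 4, 7, 9, 6, 5, 4, 3, 2, 7, 8]), 1001, 0),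
    ((0, [1, 2, 3, 4, 5, 6, 7, 3, 2, 1, 4, 3, 5, 8, 7, 3, 2, 1, 4, 3, 2, 5, 4, 7, 3, 8, 9, 6, 5, 4, 3, 7, 8]), 1001, 0),
    ((0, [1, 2, 3, 4, 5, 6, 7, 3, 2, 1, 4, 3, 5, 8, 7, 3, 2, 1, 4, 3, 2, 5, 4, 7, 3, 9, 6, 5, 4, 3, 2, 7, 8]), 1001, 0),
    ((0, [1, 2, 3, 4, 5, 6, 7, 3, 2, 1, 4, 3, 5, 8, 7, 3, 2, 1, 4, 3, 2, 5, 4, 7, 8, 9, 6, 5, 4, 3, 2, 1, 0]), 1001, 0),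
    ((0, [1, 2, 3, 4, 5, 6, 7, 3, 2, 1, 4, 3, 2, 5, 4, 8, 7, 3, 2, 1, 4, 3, 2, 5, 7, 3, 4, 8, 9, 6, 5, 4, 3]), 1001, 0),
    ((0, [1, 2, 3, 4, 5, 6, 7, 3, 2, 1, 4, 3, 5, 4, 8, 7, 3, 2, 1, 0, 4, 3, 5, 4, 7, 3, 2, 8, 9, 6, 5, 4, 3]), 1001, 0),
    ((0, [1, 2, 3, 4, 5, 6, 7, 3, 2, 1, 4, 5, 8, 7, 3, 2, 1, 4, 3, 2, 5, 7, 3, 4, 9, 6, 5, 4, 3, 2, 1, 7, 8]), 1001, 0),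
    ((0, [1, 2, 3, 4, 5, 6, 7, 3, 2, 1, 4, 5, 8, 7, 3, 2, 1, 4, 3, 2, 5, 6, 7, 3, 4, 9, 6, 5, 4, 3, 2, 1, 7]), 1001, 0),
    ((0, [1, 2, 3, 4, 5, 6, 7, 3, 2, 1, 4, 5, 8, 7, 3, 2, 1, 4, 3, 2, 5, 6, 7, 3, 4, 8, 9, 6, 5, 4, 3, 2, 1]), 1001, 0),
    ((0, [1, 2, 3, 4, 5, 6, 7, 3, 2, 1, 4, 5, 8, 7, 3, 2, 1, 4, 3, 2, 5, 4, 7, 3, 4, 9, 6, 5, 4, 3, 2, 1, 0]), 1001, 0)]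

/-- Part 39 of the cycles. -/
def reps39 : List ((Nat × List Nat) × Nat × Nat) :=
  [
    ((0, [1, 2, 3, 4, 5, 6, 7, 3, 2, 1, 4, 5, 8, 7, 3, 2, 1, 4, 3, 2, 5, 7, 3, 4, 8, 9, 6, 5, 4, 3, 2, 1, 7]), 1001, 0),
    ((0, [1, 2, 3, 4, 5, 6, 7, 3, 2, 1, 4, 5, 8, 7, 3, 2, 1, 4, 3, 2, 5, 7, 3, 4, 5, 8, 9, 6, 5, 4, 3, 2, 1]), 1001, 0),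
    ((0, [1, 2, 3, 4, 5, 6, 7, 3, 2, 1, 4, 5, 8, 7, 3, 2, 1, 4, 3, 2, 5, 7, 3, 4, 8, 9, 6, 5, 4, 3, 2, 1, 0]), 1001, 0),
    ((0, [1, 2, 3, 4, 5, 6, 7, 3, 2, 1, 4, 5, 8, 7, 3, 2, 1, 4, 3, 2, 5, 7, 3, 4, 5, 9, 6, 5, 4, 3, 2, 1, 7]), 1001, 0),
    ((0, [1, 2, 3, 4, 5, 6, 7, 3, 2, 1, 4, 3, 5, 8, 7, 3, 2, 1, 4, 3, 2, 5, 7, 3, 4, 8, 9, 6, 5, 4, 3, 2, 1]), 1001, 0),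
    ((0, [1, 2, 3, 4, 5, 6, 7, 3, 2, 1, 4, 5, 8, 7, 3, 2, 1, 4, 3, 2, 5, 6, 7, 3, 4, 5, 9, 6, 5, 4, 3, 2, 1]), 1001, 0),
    ((0, [1, 2, 3, 4, 5, 6, 7, 3, 2, 1, 4, 3, 5, 8, 7, 3, 2, 4, 3, 5, 4, 7, 3, 2, 1, 0, 9, 6, 5, 4, 3, 2, 1]), 1001, 0),
    ((0, [1, 2, 3, 4, 5, 6, 7, 3, 2, 1, 4, 3, 5, 4, 8, 7, 3, 2, 1, 4, 3, 2, 5, 7, 3, 4, 9, 6, 5, 4, 3, 2, 1]), 1001, 0),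
    ((0, [1, 2, 3, 4, 5, 6, 7, 3, 2, 1, 4, 3, 5, 4, 8, 7, 3, 2, 1, 4, 3, 5, 4, 7, 3, 2, 1, 9, 6, 5, 4, 3, 7]), 1001, 0),
    ((0, [1, 2, 3, 4, 5, 6, 7, 3, 2, 1, 4, 3, 5, 4, 7, 8, 7, 3, 2, 1, 4, 3, 5, 4, 7, 3, 2, 9, 6, 5, 4, 3, 7]), 1001, 0),
    ((0, [1, 2, 3, 4, 5, 6, 7, 3, 2, 1, 4, 3, 5, 8, 7, 3, 2, 1, 4, 3, 2, 5, 7, 3, 4, 9, 6, 5, 4, 3, 2, 1, 7]), 1001, 0),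
    ((0, [1, 2, 3, 4, 5, 6, 7, 3, 2, 1, 4, 3, 5, 4, 8, 7, 3, 2, 1, 4, 3, 5, 4, 7, 3, 2, 1, 9, 6, 5, 4, 3, 2]), 1001, 0),
    ((0, [1, 2, 3, 4, 5, 6, 7, 3, 2, 1, 4, 3, 5, 4, 7, 8, 7, 3, 2, 1, 4, 3, 5, 4, 7, 3, 2, 9, 6, 5, 4, 3, 2]), 1001, 0),
    ((0, [1, 2, 3, 4, 5, 6, 7, 3, 2, 1, 4, 5, 8, 7, 3, 2, 1, 4, 3, 5, 4, 7, 3, 2, 9, 6, 5, 4, 3, 2, 1, 7, 8]), 1001, 0),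
    ((0, [1, 2, 3, 4, 5, 6, 7, 3, 2, 1, 4, 5, 8, 7, 3, 2, 1, 4, 3, 2, 5, 4, 7, 3, 2, 4, 8, 9, 6, 5, 4, 3, 2]), 1001, 0),
    ((0, [1, 2, 3, 4, 5, 6, 7, 3, 2, 1, 4, 5, 8, 7, 3, 2, 1, 4, 3, 2, 5, 4, 7, 3, 2, 4, 5, 8, 9, 6, 5, 4, 3]), 1001, 0),
    ((0, [1, 2, 3, 4, 5, 6, 7, 3, 2, 1, 4, 3, 2, 5, 7, 8, 7, 3, 2, 1, 4, 3, 2, 5, 7, 3, 4, 8, 9, 6, 5, 4, 3]), 1001, 0),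
    ((0, [1, 2, 3, 4, 5, 6, 7, 3, 2, 1, 4, 3, 2, 5, 7, 8, 7, 3, 2, 4, 3, 5, 4, 7, 8, 9, 6, 5, 4, 3, 2, 1, 0]), 1001, 0),
    ((0, [1, 2, 3, 4, 5, 6, 7, 3, 2, 1, 4, 3, 2, 5, 8, 7, 3, 2, 1, 4, 3, 2, 5, 7, 3, 4, 5, 8, 9, 6, 5, 4, 3]), 1001, 0),
    ((0, [1, 2, 3, 4, 5, 6, 7, 3, 2, 1, 4, 3, 2, 5, 8, 7, 3, 2, 1, 4, 3, 2, 5, 7, 3, 4, 5, 6, 8, 9, 6, 5, 4]), 1001, 0),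
    ((0, [1, 2, 3, 4, 5, 6, 7, 3, 2, 1, 4, 3, 2, 5, 4, 7, 8, 7, 3, 2, 1, 4, 3, 2, 5, 4, 7, 3, 4, 8, 9, 6, 5]), 1001, 0),
    ((0, [1, 2, 3, 4, 5, 6, 7, 3, 2, 1, 4, 3, 2, 5, 8, 7, 3, 2, 1, 4, 3, 2, 5, 4, 7, 3, 4, 5, 6, 8, 9, 6, 5]), 1001, 0),
    ((0, [1, 2, 3, 4, 5, 6, 7, 3, 2, 1, 4, 3, 2, 5, 8, 7, 3, 2, 1, 4, 3, 2, 5, 7, 3, 4, 5, 8, 7, 9, 6, 5, 4]), 1001, 0),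
    ((0, [1, 2, 3, 4, 5, 6, 7, 3, 2, 1, 4, 3, 2, 5, 4, 7, 8, 7, 3, 2, 1, 4, 3, 2, 5, 7, 3, 4, 8, 7, 9, 6, 5]), 1001, 0),
    ((0, [1, 2, 3, 4, 5, 6, 7, 3, 2, 1, 4, 3, 2, 5, 8, 7, 3, 2, 1, 4, 3, 2, 5, 7, 3, 4, 5, 6, 8, 7, 9, 6, 5]), 1001, 0),
    ((0, [1, 2, 3, 4, 5, 6, 7, 3, 2, 1, 4, 5, 8, 7, 3, 2, 1, 4, 3, 2, 5, 4, 7, 3, 2, 4, 9, 6, 5, 4, 3, 7, 8]), 1001, 0),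
    ((0, [1, 2, 3, 4, 5, 6, 7, 3, 2, 1, 4, 3, 2, 5, 8, 7, 3, 2, 1, 4, 3, 2, 5, 4, 7, 3, 2, 4, 5, 8, 9, 6, 5]), 1001, 0),
    ((0, [1, 2, 3, 4, 5, 6, 7, 3, 2, 1, 4, 3, 5, 4, 8, 7, 3, 2, 1, 4, 3, 2, 5, 4, 7, 3, 2, 1, 4, 8, 9, 6, 5]), 1001, 0),
    ((0, [1, 2, 3, 4, 5, 6, 7, 3, 2, 1, 4, 3, 2, 5, 8, 7, 3, 2, 1, 4, 3, 2, 5, 4, 7, 3, 4, 5, 8, 7, 9, 6, 5]), 1001, 0),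
    ((0, [1, 2, 3, 4, 5, 6, 7, 3, 2, 1, 4, 3, 5, 8, 7, 3, 2, 1, 4, 3, 2, 5, 4, 7, 3, 2, 1, 4, 8, 7, 9, 6, 5]), 1001, 0),
    ((0, [1, 2, 3, 4, 5, 6, 7, 3, 2, 1, 4, 5, 8, 7, 3, 2, 1, 4, 3, 2, 5, 7, 8, 9, 6, 5, 4, 3, 2, 7, 3, 4, 5]), 1001, 0),
    ((0, [1, 2, 3, 4, 5, 6, 7, 3, 2, 1, 4, 3, 5, 8, 7, 3, 2, 1, 4, 3, 5, 4, 7, 3, 8, 9, 6, 5, 4, 3, 2, 1, 0]), 1001, 0),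
    ((0, [1, 2, 3, 4, 5, 6, 7, 3, 2, 1, 4, 5, 8, 7, 3, 2, 1, 4, 3, 2, 5, 4, 7, 3, 2, 4, 8, 7, 9, 6, 5, 4, 3]), 1001, 0),
    ((0, [1, 2, 3, 4, 5, 6, 7, 3, 2, 1, 4, 3, 2, 5, 8, 7, 3, 2, 1, 4, 3, 2, 5, 7, 3, 4, 5, 8, 7, 3, 9, 6, 5]), 1001, 0),
    ((0, [1, 2, 3, 4, 5, 6, 7, 3, 2, 1, 4, 5, 8, 7, 3, 2, 1, 4, 3, 2, 5, 4, 7, 3, 2, 1, 4, 8, 7, 3, 9, 6, 5]), 1001, 0),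
    ((0, [1, 2, 3, 4, 5, 6, 7, 3, 2, 1, 4, 3, 2, 5, 7, 8, 7, 3, 2, 1, 4, 3, 2, 5, 7, 3, 4, 8, 7, 3, 9, 6, 5]), 1001, 0),
    ((0, [1, 2, 3, 4, 5, 6, 7, 3, 2, 1, 4, 3, 5, 8, 7, 3, 2, 1, 4, 3, 2, 5, 4, 7, 3, 2, 4, 8, 7, 3, 9, 6, 5]), 1001, 0),
    ((0, [1, 2, 3, 4, 5, 6, 7, 3, 2, 1, 4, 3, 5, 4, 7, 8, 7, 3, 2, 1, 4, 3, 5, 4, 7, 3, 2, 8, 7, 3, 9, 6, 5]), 901, 0),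
    ((0, [1, 2, 3, 4, 5, 6, 7, 3, 2, 1, 4, 3, 5, 7, 8, 7, 3, 2, 1, 0, 4, 3, 5, 4, 7, 8, 9, 6, 5, 4, 3, 2, 1]), 1001, 0),
    ((0, [1, 2, 3, 4, 5, 6, 7, 3, 2, 1, 4, 3, 8, 7, 3, 2, 1, 4, 3, 2, 5, 4, 3, 7, 8, 9, 6, 5, 4, 3, 2, 1, 7]), 1001, 0),
    ((0, [1, 2, 3, 4, 5, 6, 7, 3, 2, 1, 4, 3, 2, 8, 7, 3, 2, 1, 4, 3, 2, 5, 4, 3, 7, 8, 9, 6, 5, 4, 3, 2, 1]), 1001, 0),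
    ((0, [1, 2, 3, 4, 5, 6, 7, 3, 2, 1, 4, 5, 8, 7, 3, 2, 1, 0, 4, 3, 5, 7, 8, 9, 6, 5, 4, 3, 2, 7, 3, 4, 5]), 1001, 0),
    ((0, [1, 2, 3, 4, 5, 6, 7, 3, 2, 1, 4, 3, 5, 8, 7, 3, 2, 1, 0, 4, 3, 5, 4, 6, 7, 8, 9, 6, 5, 4, 3, 2, 1]), 1001, 0),
    ((0, [1, 2, 3, 4, 5, 6, 7, 3, 2, 1, 4, 3, 2, 5, 8, 7, 3, 2, 1, 4, 3, 2, 5, 7, 3, 4, 9, 6, 5, 4, 3, 7, 8]), 1001, 0),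
    ((0, [1, 2, 3, 4, 5, 6, 7, 3, 2, 1, 4, 3, 2, 5, 8, 7, 3, 2, 1, 4, 3, 2, 5, 7, 3, 4, 8, 9, 6, 5, 4, 3, 2]), 1001, 0),
    ((0, [1, 2, 3, 4, 5, 6, 7, 3, 2, 1, 4, 3, 2, 5, 8, 7, 3, 2, 1, 4, 3, 2, 5, 7, 3, 4, 8, 9, 6, 5, 4, 3, 7]), 1001, 0),
    ((0, [1, 2, 3, 4, 5, 6, 7, 3, 2, 1, 4, 3, 2, 5, 8, 7, 3, 2, 1, 0, 4, 3, 5, 4, 7, 8, 9, 6, 5, 4, 3, 2, 1]), 1001, 0),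
    ((0, [1, 2, 3, 4, 5, 6, 7, 3, 2, 1, 4, 3, 5, 8, 7, 3, 2, 1, 0, 4, 3, 5, 4, 7, 8, 9, 6, 5, 4, 3, 2, 1, 7]), 1001, 0),
    ((0, [1, 2, 3, 4, 5, 6, 7, 3, 2, 1, 4, 3, 5, 7, 8, 7, 3, 2, 1, 4, 3, 5, 4, 7, 8, 9, 6, 5, 4, 3, 2, 7, 3]), 901, 0),
    ((0, [1, 2, 3, 4, 5, 6, 7, 3, 2, 1, 4, 3, 5, 8, 7, 3, 2, 1, 0, 4, 3, 5, 4, 7, 8, 9, 6, 5, 4, 3, 2, 7, 3]), 1001, 0),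
    ((0, [1, 2, 3, 4, 5, 6, 7, 3, 2, 1, 4, 3, 5, 8, 7, 3, 2, 1, 4, 3, 2, 5, 4, 7, 8, 9, 6, 5, 4, 3, 2, 7, 3]), 901, 0),
    ((0, [1, 2, 3, 4, 5, 6, 7, 3, 2, 1, 4, 3, 5, 7, 8, 7, 3, 2, 1, 4, 3, 5, 6, 7, 8, 9, 6, 5, 4, 3, 2, 7, 3]), 1001, 0),
    ((0, [1, 2, 3, 4, 5, 6, 7, 3, 2, 1, 4, 3, 8, 7, 3, 2, 1, 4, 3, 2, 5, 4, 3, 7, 8, 9, 6, 5, 4, 3, 2, 7, 3]), 1001, 0),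
    ((0, [1, 2, 3, 4, 5, 6, 7, 3, 2, 1, 4, 3, 5, 8, 7, 3, 2, 1, 4, 3, 5, 4, 6, 7, 8, 9, 6, 5, 4, 3, 2, 7, 3]), 901, 0),
    ((0, [1, 2, 3, 4, 5, 6, 7, 3, 2, 1, 4, 3, 2, 5, 8, 7, 3, 2, 1, 4, 3, 5, 4, 7, 8, 9, 6, 5, 4, 3, 2, 7, 3]), 901, 0),
    ((0, [1, 2, 3, 4, 5, 6, 7, 3, 2, 1, 4, 3, 5, 8, 7, 3, 2, 1, 4, 3, 5, 4, 7, 3, 8, 9, 6, 5, 4, 3, 2, 7, 3]), 901, 0),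
    ((0, [1, 2, 3, 4, 5, 6, 7, 3, 2, 1, 4, 3, 5, 8, 7, 3, 2, 1, 4, 3, 5, 4, 7, 8, 9, 6, 5, 4, 3, 2, 1, 7, 3]), 901, 0),
    ((0, [1, 2, 3, 4, 5, 6, 7, 3, 2, 1, 4, 3, 2, 5, 8, 7, 3, 2, 1, 0, 4, 3, 2, 5, 4, 3, 7, 3, 4, 8, 9, 6, 5]), 1001, 0),
    ((0, [1, 2, 3, 4, 5, 6, 7, 3, 2, 1, 4, 3, 2, 5, 8, 7, 3, 2, 1, 0, 4, 3, 2, 5, 4, 6, 7, 3, 4, 8, 9, 6, 5]), 1001, 0),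
    ((0, [1, 2, 3, 4, 5, 6, 7, 3, 2, 1, 4, 3, 2, 5, 8, 7, 3, 2, 1, 4, 3, 2, 5, 4, 7, 3, 2, 4, 8, 9, 6, 5, 4]), 1001, 0),
    ((0, [1, 2, 3, 4, 5, 6, 7, 3, 2, 1, 4, 3, 2, 5, 8, 7, 3, 2, 1, 4, 3, 2, 5, 4, 3, 7, 3, 4, 8, 7, 9, 6, 5]), 1001, 0),
    ((0, [1, 2, 3, 4, 5, 6, 7, 3, 2, 1, 4, 3, 2, 5, 8, 7, 3, 2, 1, 4, 3, 2, 5, 4, 6, 7, 3, 4, 8, 7, 9, 6, 5]), 1001, 0),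
    ((0, [1, 2, 3, 4, 5, 6, 7, 3, 2, 1, 4, 3, 2, 5, 8, 7, 3, 2, 1, 4, 3, 2, 5, 4, 7, 3, 4, 8, 7, 9, 6, 5, 4]), 1001, 0),
    ((0, [1, 2, 3, 4, 5, 6, 7, 3, 2, 1, 4, 3, 2, 5, 8, 7, 3, 2, 1, 0, 4, 3, 2, 5, 4, 7, 3, 2, 4, 8, 9, 6, 5]), 1001, 0),
    ((0, [1, 2, 3, 4, 5, 6, 7, 3, 2, 1, 4, 3, 2, 5, 8, 7, 3, 2, 1, 0, 4, 3, 2, 5, 4, 7, 3, 4, 8, 7, 9, 6, 5]), 1001, 0),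
    ((0, [1, 2, 3, 4, 5, 6, 7, 3, 2, 1, 4, 3, 2, 5, 8, 7, 3, 2, 1, 0, 4, 3, 2, 5, 6, 7, 3, 4, 5, 8, 9, 6, 5]), 1001, 0),
    ((0, [1, 2, 3, 4, 5, 6, 7, 3, 2, 1, 4, 3, 5, 8, 7, 3, 2, 1, 4, 3, 2, 5, 4, 7, 3, 2, 1, 4, 5, 8, 9, 6, 5]), 1001, 0),
    ((0, [1, 2, 3, 4, 5, 6, 7, 3, 2, 1, 4, 5, 8, 7, 3, 2, 1, 4, 3, 2, 5, 4, 7, 3, 2, 1, 4, 5, 8, 7, 9, 6, 5]), 1001, 0),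
    ((0, [1, 2, 3, 4, 5, 6, 7, 3, 2, 1, 4, 3, 2, 5, 8, 7, 3, 2, 1, 0, 4, 3, 2, 5, 6, 7, 3, 4, 8, 9, 6, 5, 4]), 1001, 0),
    ((0, [1, 2, 3, 4, 5, 6, 7, 3, 2, 1, 4, 3, 2, 5, 8, 7, 3, 2, 1, 0, 4, 3, 2, 5, 6, 7, 3, 4, 8, 7, 9, 6, 5]), 1001, 0),
    ((0, [1, 2, 3, 4, 5, 6, 7, 3, 2, 1, 4, 3, 2, 5, 8, 7, 3, 2, 1, 4, 3, 2, 5, 4, 3, 7, 3, 4, 5, 8, 9, 6, 5]), 1001, 0),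
    ((0, [1, 2, 3, 4, 5, 6, 7, 3, 2, 1, 4, 3, 2, 5, 8, 7, 3, 2, 1, 0, 4, 3, 2, 5, 7, 3, 4, 8, 7, 9, 6, 5, 4]), 1001, 0),
    ((0, [1, 2, 3, 4, 5, 6, 7, 3, 2, 1, 4, 5, 8, 7, 3, 2, 1, 4, 3, 2, 5, 4, 7, 3, 2, 4, 5, 8, 7, 3, 9, 6, 5]), 1001, 0),
    ((0, [1, 2, 3, 4, 5, 6, 7, 3, 2, 1, 4, 3, 5, 4, 8, 7, 3, 2, 1, 4, 3, 5, 4, 7, 3, 2, 1, 8, 7, 3, 9, 6, 5]), 901, 0),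
    ((0, [1, 2, 3, 4, 5, 6, 7, 3, 2, 1, 4, 3, 2, 5, 4, 8, 7, 3, 2, 1, 4, 3, 5, 4, 7, 3, 2, 8, 7, 3, 9, 6, 5]), 901, 0),
    ((0, [1, 2, 3, 4, 5, 6, 7, 3, 2, 1, 4, 3, 2, 5, 4, 8, 7, 3, 2, 1, 4, 3, 2, 5, 7, 3, 4, 8, 7, 3, 9, 6, 5]), 1001, 0),
    ((0, [1, 2, 3, 4, 5, 6, 7, 3, 2, 1, 4, 3, 5, 4, 8, 7, 3, 2, 1, 0, 4, 3, 5, 4, 7, 3, 2, 8, 7, 3, 9, 6, 5]), 1001, 0),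
    ((0, [1, 2, 3, 4, 5, 6, 7, 3, 2, 1, 4, 3, 5, 4, 8, 7, 3, 2, 1, 4, 3, 2, 5, 4, 7, 3, 2, 8, 7, 3, 9, 6, 5]), 901, 0),
    ((0, [1, 2, 3, 4, 5, 6, 7, 3, 2, 1, 4, 3, 2, 5, 8, 7, 3, 2, 1, 0, 4, 3, 2, 5, 7, 3, 4, 8, 7, 3, 9, 6, 5]), 1001, 0),
    ((0, [1, 2, 3, 4, 5, 6, 7, 3, 2, 1, 4, 3, 5, 4, 8, 7, 3, 2, 1, 4, 3, 5, 4, 6, 7, 3, 2, 8, 7, 3, 9, 6, 5]), 901, 0),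
    ((0, [1, 2, 3, 4, 5, 6, 7, 3, 2, 1, 4, 3, 2, 5, 8, 7, 3, 2, 1, 4, 3, 2, 5, 6, 7, 3, 4, 8, 7, 9, 6, 5, 4]), 1001, 0),
    ((0, [1, 2, 3, 4, 5, 6, 7, 3, 2, 1, 4, 3, 2, 5, 8, 7, 3, 2, 1, 4, 3, 2, 5, 7, 3, 4, 8, 7, 9, 6, 5, 4, 3]), 1001, 0),
    ((0, [1, 2, 3, 4, 5, 6, 7, 3, 2, 1, 4, 3, 2, 5, 8, 7, 3, 2, 1, 4, 3, 2, 5, 6, 7, 3, 4, 8, 7, 3, 9, 6, 5]), 1001, 0),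
    ((0, [1, 2, 3, 4, 5, 6, 7, 3, 2, 1, 4, 3, 2, 5, 8, 7, 3, 2, 1, 4, 3, 2, 5, 4, 7, 3, 4, 8, 7, 3, 9, 6, 5]), 1001, 0),
    ((0, [1, 2, 3, 4, 5, 6, 7, 3, 2, 1, 4, 3, 5, 8, 7, 3, 2, 1, 0, 4, 3, 5, 4, 7, 8, 9, 6, 5, 4, 3, 2, 1, 0]), 1001, 0),
    ((0, [1, 2, 3, 4, 5, 6, 7, 3, 2, 1, 4, 3, 2, 5, 8, 7, 3, 2, 1, 0, 4, 3, 5, 6, 7, 8, 9, 6, 5, 4, 3, 2, 1]), 1001, 0),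
    ((0, [1, 2, 3, 4, 5, 6, 7, 3, 2, 1, 4, 3, 8, 7, 3, 2, 1, 4, 3, 2, 5, 4, 3, 7, 8, 9, 6, 5, 4, 3, 2, 1, 0]), 1001, 0),
    ((0, [1, 2, 3, 4, 5, 6, 7, 3, 2, 1, 4, 3, 5, 8, 7, 3, 2, 1, 4, 3, 2, 5, 4, 3, 7, 3, 2, 1, 4, 8, 9, 6, 5]), 1001, 0),
    ((0, [1, 2, 3, 4, 5, 6, 7, 3, 2, 1, 4, 3, 2, 5, 8, 7, 3, 2, 1, 4, 3, 2, 5, 4, 6, 7, 3, 4, 5, 8, 9, 6, 5]), 1001, 0),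
    ((0, [1, 2, 3, 4, 5, 6, 7, 3, 2, 1, 4, 3, 2, 5, 8, 7, 3, 2, 1, 4, 3, 2, 5, 6, 7, 3, 4, 5, 6, 8, 9, 6, 5]), 1001, 0),
    ((0, [1, 2, 3, 4, 5, 6, 7, 3, 2, 1, 4, 3, 2, 5, 8, 7, 3, 2, 1, 4, 3, 2, 5, 6, 7, 3, 4, 5, 8, 7, 9, 6, 5]), 1001, 0),
    ((0, [1, 2, 3, 4, 5, 6, 7, 3, 2, 1, 4, 3, 5, 4, 8, 7, 3, 2, 1, 4, 3, 5, 4, 7, 3, 2, 8, 7, 9, 6, 5, 4, 3]), 901, 0),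
    ((0, [1, 2, 3, 4, 5, 6, 7, 3, 2, 1, 4, 3, 5, 8, 7, 3, 2, 1, 4, 3, 5, 4, 7, 8, 9, 6, 5, 4, 3, 2, 1, 0, 7]), 1001, 0),
    ((0, [1, 2, 3, 4, 5, 6, 7, 3, 2, 1, 4, 5, 8, 7, 3, 2, 1, 4, 3, 5, 4, 7, 8, 9, 6, 5, 4, 3, 2, 7, 3, 4, 5]), 1001, 0),
    ((0, [1, 2, 3, 4, 5, 6, 7, 3, 2, 1, 4, 5, 8, 7, 3, 2, 1, 4, 3, 5, 6, 7, 8, 9, 6, 5, 4, 3, 2, 7, 3, 4, 5]), 1001, 0),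
    ((0, [1, 2, 3, 4, 5, 6, 7, 3, 2, 1, 4, 5, 8, 7, 3, 2, 1, 4, 3, 5, 7, 8, 9, 6, 5, 4, 3, 2, 1, 7, 3, 4, 5]), 1001, 0),
    ((0, [1, 2, 3, 4, 5, 6, 7, 3, 2, 1, 4, 5, 8, 7, 3, 2, 1, 4, 3, 5, 7, 8, 9, 6, 5, 4, 3, 2, 7, 3, 4, 5, 6]), 1001, 0),
    ((0, [1, 2, 3, 4, 5, 6, 7, 3, 2, 1, 4, 3, 5, 8, 7, 3, 2, 1, 4, 3, 5, 7, 8, 9, 6, 5, 4, 3, 2, 7, 3, 4, 5]), 1001, 0),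
    ((0, [1, 2, 3, 4, 5, 6, 7, 3, 2, 1, 4, 3, 2, 5, 8, 7, 3, 2, 1, 4, 3, 2, 5, 7, 3, 4, 8, 7, 3, 2, 9, 6, 5]), 1001, 0),
    ((0, [1, 2, 3, 4, 5, 6, 7, 3, 2, 1, 4, 3, 5, 4, 8, 7, 3, 2, 1, 4, 3, 5, 4, 7, 3, 2, 8, 7, 3, 4, 9, 6, 5]), 1001, 0),
    ((0, [1, 2, 3, 4, 5, 6, 7, 3, 2, 1, 4, 3, 2, 5, 4, 8, 7, 3, 2, 1, 0, 4, 3, 2, 1, 5, 4, 7, 8, 9, 6, 5, 4, 3]), 1001, 0),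
    ((0, [1, 2, 3, 4, 5, 6, 7, 3, 2, 1, 4, 3, 5, 4, 7, 8, 7, 3, 2, 1, 4, 3, 2, 5, 4, 6, 7, 8, 9, 6, 5, 4, 3, 2]), 1001, 0),
    ((0, [1, 2, 3, 4, 5, 6, 7, 3, 2, 1, 4, 3, 2, 5, 4, 7, 8, 7, 3, 2, 1, 4, 3, 2, 5, 4, 7, 8, 9, 6, 5, 4, 3, 2]), 1001, 0),
    ((0, [1, 2, 3, 4, 5, 6, 7, 3, 2, 1, 4, 3, 2, 5, 4, 8, 7, 3, 2, 1, 0, 4, 3, 2, 5, 4, 3, 7, 8, 9, 6, 5, 4, 3]), 1001, 0),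
    ((0, [1, 2, 3, 4, 5, 6, 7, 3, 2, 1, 4, 3, 5, 8, 7, 3, 2, 1, 4, 3, 2, 5, 6, 7, 3, 4, 5, 8, 9, 6, 5, 4, 3, 2]), 1001, 0),
    ((0, [1, 2, 3, 4, 5, 6, 7, 3, 2, 1, 4, 3, 5, 4, 8, 7, 3, 2, 1, 0, 4, 3, 2, 5, 4, 6, 5, 7, 8, 9, 6, 5, 4, 3]), 1001, 0),
    ((0, [1, 2, 3, 4, 5, 6, 7, 3, 2, 1, 4, 3, 2, 5, 4, 8, 7, 3, 2, 1, 4, 3, 2, 5, 4, 6, 7, 9, 6, 5, 4, 3, 7, 8]), 1001, 0),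
    ((0, [1, 2, 3, 4, 5, 6, 7, 3, 2, 1, 4, 3, 5, 4, 8, 7, 3, 2, 1, 4, 3, 2, 5, 4, 6, 5, 7, 8, 9, 6, 5, 4, 3, 2]), 1001, 0),
    ((0, [1, 2, 3, 4, 5, 6, 7, 3, 2, 1, 4, 3, 2, 5, 7, 8, 7, 3, 2, 1, 0, 4, 3, 2, 5, 4, 7, 8, 9, 6, 5, 4, 3, 2]), 1001, 0),
    ((0, [1, 2, 3, 4, 5, 6, 7, 3, 2, 1, 4, 3, 2, 5, 8, 7, 3, 2, 1, 0, 4, 3, 2, 5, 4, 3, 7, 8, 9, 6, 5, 4, 3, 2]), 1001, 0),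
    ((0, [1, 2, 3, 4, 5, 6, 7, 3, 2, 1, 4, 3, 5, 4, 8, 7, 3, 2, 1, 0, 4, 3, 2, 1, 5, 4, 7, 8, 9, 6, 5, 4, 3, 7]), 1001, 0),
    ((0, [1, 2, 3, 4, 5, 6, 7, 3, 2, 1, 4, 3, 5, 4, 8, 7, 3, 2, 1, 0, 4, 3, 2, 5, 7, 3, 4, 8, 9, 6, 5, 4, 3, 7]), 1001, 0),
    ((0, [1, 2, 3, 4, 5, 6, 7, 3, 2, 1, 4, 3, 2, 5, 4, 7, 8, 7, 3, 2, 1, 4, 3, 2, 5, 4, 7, 8, 9, 6, 5, 4, 3, 7]), 1001, 0),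
    ((0, [1, 2, 3, 4, 5, 6, 7, 3, 2, 1, 4, 3, 5, 4, 8, 7, 3, 2, 1, 4, 3, 2, 5, 7, 3, 4, 5, 8, 9, 6, 5, 4, 3, 7]), 1001, 0),
    ((0, [1, 2, 3, 4, 5, 6, 7, 3, 2, 1, 4, 3, 2, 5, 7, 8, 7, 3, 2, 1, 0, 4, 3, 2, 5, 4, 7, 8, 9, 6, 5, 4, 3, 7]), 1001, 0),
    ((0, [1, 2, 3, 4, 5, 6, 7, 3, 2, 1, 4, 3, 2, 5, 8, 7, 3, 2, 1, 0, 4, 3, 2, 1, 5, 4, 7, 8, 9, 6, 5, 4, 3, 7]), 1001, 0),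
    ((0, [1, 2, 3, 4, 5, 6, 7, 3, 2, 1, 4, 3, 5, 4, 7, 8, 7, 3, 2, 1, 4, 3, 2, 5, 4, 6, 7, 8, 9, 6, 5, 4, 3, 7]), 1001, 0),
    ((0, [1, 2, 3, 4, 5, 6, 7, 3, 2, 1, 4, 3, 5, 4, 8, 7, 3, 2, 1, 0, 4, 3, 2, 5, 4, 6, 7, 8, 9, 6, 5, 4, 3, 7]), 1001, 0),
    ((0, [1, 2, 3, 4, 5, 6, 7, 3, 2, 1, 4, 3, 5, 4, 8, 7, 3, 2, 1, 0, 4, 3, 2, 5, 4, 3, 7, 8, 9, 6, 5, 4, 3, 7]), 1001, 0),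
    ((0, [1, 2, 3, 4, 5, 6, 7, 3, 2, 1, 4, 3, 5, 4, 7, 8, 7, 3, 2, 1, 4, 3, 2, 5, 4, 3, 7, 8, 9, 6, 5, 4, 3, 7]), 1001, 0)]

/-- Part 40 of the cycles. -/
def reps40 : List ((Nat × List Nat) × Nat × Nat) :=
  [
    ((0, [1, 2, 3, 4, 5, 6, 7, 3, 2, 1, 4, 3, 5, 8, 7, 3, 2, 1, 4, 3, 2, 5, 6, 7, 3, 4, 5, 8, 9, 6, 5, 4, 3, 7]), 1001, 0),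
    ((0, [1, 2, 3, 4, 5, 6, 7, 3, 2, 1, 4, 3, 2, 5, 8, 7, 3, 2, 1, 0, 4, 3, 2, 5, 4, 3, 7, 8, 9, 6, 5, 4, 3, 7]), 1001, 0),
    ((0, [1, 2, 3, 4, 5, 6, 7, 3, 2, 1, 4, 3, 5, 4, 8, 7, 3, 2, 1, 4, 3, 2, 5, 4, 6, 5, 7, 8, 9, 6, 5, 4, 3, 7]), 1001, 0),
    ((0, [1, 2, 3, 4, 5, 6, 7, 3, 2, 4, 3, 5, 8, 7, 3, 2, 1, 4, 3, 2, 5, 4, 3, 7, 3, 4, 5, 8, 9, 6, 5, 4, 3, 7]), 1001, 0),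
    ((0, [1, 2, 3, 4, 5, 6, 7, 3, 2, 1, 4, 3, 2, 5, 7, 8, 7, 3, 2, 1, 4, 3, 2, 5, 4, 3, 7, 8, 9, 6, 5, 4, 3, 7]), 1001, 0),
    ((0, [1, 2, 3, 4, 5, 6, 7, 3, 2, 1, 4, 3, 2, 5, 4, 8, 7, 3, 2, 1, 4, 3, 2, 5, 4, 3, 7, 8, 9, 6, 5, 4, 3, 7]), 1001, 0),
    ((0, [1, 2, 3, 4, 5, 6, 7, 3, 2, 1, 4, 3, 2, 5, 4, 8, 7, 3, 2, 1, 4, 3, 2, 5, 7, 3, 4, 9, 6, 5, 4, 3, 7, 8]), 1001, 0),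
    ((0, [1, 2, 3, 4, 5, 6, 7, 3, 2, 1, 4, 3, 2, 5, 4, 8, 7, 3, 2, 1, 4, 3, 5, 4, 7, 3, 2, 9, 6, 5, 4, 3, 7, 8]), 1001, 0),
    ((0, [1, 2, 3, 4, 5, 6, 7, 3, 2, 1, 4, 3, 5, 4, 8, 7, 3, 2, 1, 4, 3, 2, 5, 7, 3, 4, 5, 8, 9, 6, 5, 4, 3, 2]), 1001, 0),
    ((0, [1, 2, 3, 4, 5, 6, 7, 3, 2, 1, 4, 3, 2, 5, 4, 8, 7, 3, 2, 1, 4, 3, 2, 5, 4, 3, 7, 8, 9, 6, 5, 4, 3, 2]), 1001, 0),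
    ((0, [1, 2, 3, 4, 5, 6, 7, 3, 2, 1, 4, 3, 5, 7, 8, 7, 3, 2, 1, 0, 4, 3, 2, 5, 4, 7, 3, 8, 9, 6, 5, 4, 3, 2]), 1001, 0),
    ((0, [1, 2, 3, 4, 5, 6, 7, 3, 2, 1, 4, 3, 5, 8, 7, 3, 2, 1, 4, 3, 2, 5, 4, 6, 7, 3, 4, 8, 9, 6, 5, 4, 3, 7]), 1001, 0),
    ((0, [1, 2, 3, 4, 5, 6, 7, 3, 2, 1, 4, 3, 5, 7, 8, 7, 3, 2, 1, 0, 4, 3, 2, 5, 4, 7, 3, 8, 9, 6, 5, 4, 3, 7]), 1001, 0),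
    ((0, [1, 2, 3, 4, 5, 6, 7, 3, 2, 1, 4, 3, 2, 5, 8, 7, 3, 2, 1, 4, 3, 2, 5, 4, 3, 7, 3, 8, 9, 6, 5, 4, 3, 2]), 1001, 0),
    ((0, [1, 2, 3, 4, 5, 6, 7, 3, 2, 1, 4, 3, 2, 5, 8, 7, 3, 2, 1, 4, 3, 2, 5, 4, 3, 7, 3, 8, 9, 6, 5, 4, 3, 7]), 1001, 0),
    ((0, [1, 2, 3, 4, 5, 6, 7, 3, 2, 1, 4, 3, 5, 4, 8, 7, 3, 2, 1, 4, 3, 2, 5, 4, 3, 7, 3, 8, 9, 6, 5, 4, 3, 2]), 1001, 0),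
    ((0, [1, 2, 3, 4, 5, 6, 7, 3, 2, 1, 4, 3, 2, 5, 4, 8, 7, 3, 2, 1, 0, 4, 3, 2, 1, 5, 4, 7, 3, 4, 8, 9, 6, 5]), 1001, 0),
    ((0, [1, 2, 3, 4, 5, 6, 7, 3, 2, 1, 4, 3, 2, 5, 7, 8, 7, 3, 2, 1, 4, 3, 2, 5, 4, 3, 7, 8, 9, 6, 5, 4, 3, 2]), 1001, 0),
    ((0, [1, 2, 3, 4, 5, 6, 7, 3, 2, 1, 4, 3, 2, 5, 8, 7, 3, 2, 1, 4, 3, 2, 5, 4, 7, 9, 6, 5, 4, 3, 2, 1, 7, 8]), 1001, 0),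
    ((0, [1, 2, 3, 4, 5, 6, 7, 3, 2, 1, 4, 3, 2, 5, 8, 7, 3, 2, 1, 0, 4, 3, 2, 1, 5, 4, 7, 8, 9, 6, 5, 4, 3, 2]), 1001, 0),
    ((0, [1, 2, 3, 4, 5, 6, 7, 3, 2, 1, 4, 3, 5, 4, 7, 8, 7, 3, 2, 1, 4, 3, 2, 5, 4, 3, 7, 8, 9, 6, 5, 4, 3, 2]), 1001, 0),
    ((0, [1, 2, 3, 4, 5, 6, 7, 3, 2, 4, 3, 5, 8, 7, 3, 2, 1, 4, 3, 2, 5, 4, 3, 7, 3, 4, 5, 8, 9, 6, 5, 4, 3, 2]), 1001, 0),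
    ((0, [1, 2, 3, 4, 5, 6, 7, 3, 2, 1, 4, 3, 2, 5, 8, 7, 3, 2, 1, 0, 4, 3, 2, 5, 4, 7, 3, 8, 9, 6, 5, 4, 3, 2]), 1001, 0),
    ((0, [1, 2, 3, 4, 5, 6, 7, 3, 2, 1, 4, 3, 2, 5, 8, 7, 3, 2, 1, 0, 4, 3, 2, 5, 4, 7, 3, 8, 9, 6, 5, 4, 3, 7]), 1001, 0),
    ((0, [1, 2, 3, 4, 5, 6, 7, 3, 2, 1, 4, 3, 2, 5, 4, 8, 7, 3, 2, 1, 0, 4, 3, 2, 1, 5, 4, 7, 3, 8, 7, 9, 6, 5]), 1001, 0),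
    ((0, [1, 2, 3, 4, 5, 6, 7, 3, 2, 1, 4, 3, 2, 5, 7, 8, 7, 3, 2, 1, 0, 4, 3, 2, 1, 5, 4, 7, 3, 8, 7, 9, 6, 5]), 1001, 0),
    ((0, [1, 2, 3, 4, 5, 6, 7, 3, 2, 1, 4, 3, 5, 4, 8, 7, 3, 2, 1, 0, 4, 3, 2, 5, 4, 3, 7, 3, 8, 7, 9, 6, 5, 4]), 1001, 0),
    ((0, [1, 2, 3, 4, 5, 6, 7, 3, 2, 1, 4, 3, 5, 4, 8, 7, 3, 2, 1, 0, 4, 3, 2, 5, 4, 6, 7, 3, 8, 7, 9, 6, 5, 4]), 1001, 0),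
    ((0, [1, 2, 3, 4, 5, 6, 7, 3, 2, 1, 4, 3, 2, 5, 8, 7, 3, 2, 1, 0, 4, 3, 2, 1, 5, 4, 3, 7, 3, 8, 7, 9, 6, 5]), 1001, 0),
    ((0, [1, 2, 3, 4, 5, 6, 7, 3, 2, 1, 4, 3, 5, 4, 8, 7, 3, 2, 1, 0, 4, 3, 2, 5, 4, 6, 5, 7, 3, 8, 7, 9, 6, 5]), 1001, 0),
    ((0, [1, 2, 3, 4, 5, 6, 7, 3, 2, 1, 4, 3, 2, 5, 4, 8, 7, 3, 2, 1, 0, 4, 3, 2, 5, 4, 3, 7, 3, 8, 7, 9, 6, 5]), 1001, 0),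
    ((0, [1, 2, 3, 4, 5, 6, 7, 3, 2, 1, 4, 3, 2, 5, 4, 7, 8, 7, 3, 2, 1, 4, 3, 2, 5, 4, 3, 7, 3, 8, 7, 9, 6, 5]), 1001, 0),
    ((0, [1, 2, 3, 4, 5, 6, 7, 3, 2, 1, 4, 3, 2, 5, 4, 8, 7, 3, 2, 1, 4, 3, 2, 5, 4, 6, 5, 7, 3, 4, 8, 9, 6, 5]), 1001, 0),
    ((0, [1, 2, 3, 4, 5, 6, 7, 3, 2, 1, 4, 3, 2, 5, 4, 8, 7, 3, 2, 1, 0, 4, 3, 2, 5, 4, 3, 7, 3, 2, 8, 9, 6, 5]), 1001, 0),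
    ((0, [1, 2, 3, 4, 5, 6, 7, 3, 2, 1, 4, 3, 2, 5, 4, 8, 7, 3, 2, 1, 4, 3, 2, 5, 4, 7, 3, 4, 5, 6, 8, 9, 6, 5]), 1001, 0),
    ((0, [1, 2, 3, 4, 5, 6, 7, 3, 2, 1, 4, 3, 2, 5, 4, 8, 7, 3, 2, 1, 0, 4, 3, 2, 1, 5, 4, 7, 3, 2, 8, 9, 6, 5]), 1001, 0),
    ((0, [1, 2, 3, 4, 5, 6, 7, 3, 2, 1, 4, 3, 2, 5, 4, 7, 8, 7, 3, 2, 1, 4, 3, 2, 5, 4, 3, 7, 3, 2, 8, 9, 6, 5]), 1001, 0),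
    ((0, [1, 2, 3, 4, 5, 6, 7, 3, 2, 1, 4, 3, 2, 5, 4, 8, 7, 3, 2, 1, 0, 4, 3, 2, 5, 4, 6, 7, 8, 9, 6, 5, 4, 3]), 1001, 0),
    ((0, [1, 2, 3, 4, 5, 6, 7, 3, 2, 1, 4, 3, 2, 5, 8, 7, 3, 2, 1, 0, 4, 3, 2, 5, 4, 6, 7, 8, 9, 6, 5, 4, 3, 2]), 1001, 0),
    ((0, [1, 2, 3, 4, 5, 6, 7, 3, 2, 1, 4, 3, 5, 8, 7, 3, 2, 1, 4, 3, 2, 5, 4, 6, 7, 9, 6, 5, 4, 3, 2, 1, 7, 8]), 1001, 0),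
    ((0, [1, 2, 3, 4, 5, 6, 7, 3, 2, 1, 4, 3, 8, 7, 3, 2, 1, 4, 3, 2, 5, 4, 3, 7, 3, 2, 1, 0, 8, 9, 6, 5, 4, 3]), 1001, 0),
    ((0, [1, 2, 3, 4, 5, 6, 7, 3, 2, 1, 4, 3, 5, 4, 8, 7, 3, 2, 1, 4, 3, 2, 5, 4, 6, 5, 7, 9, 6, 5, 4, 3, 2, 1]), 1001, 0),
    ((0, [1, 2, 3, 4, 5, 6, 7, 3, 2, 1, 4, 3, 2, 5, 8, 7, 3, 2, 1, 4, 3, 2, 5, 4, 6, 5, 7, 8, 9, 6, 5, 4, 3, 2]), 1001, 0),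
    ((0, [1, 2, 3, 4, 5, 6, 7, 3, 2, 1, 4, 3, 5, 7, 8, 7, 3, 2, 1, 4, 3, 5, 4, 7, 3, 2, 9, 6, 5, 4, 3, 2, 1, 7]), 1001, 0),
    ((0, [1, 2, 3, 4, 5, 6, 7, 3, 2, 1, 4, 3, 8, 7, 3, 2, 1, 4, 3, 2, 5, 4, 3, 7, 3, 2, 1, 8, 9, 6, 5, 4, 3, 2]), 1001, 0),
    ((0, [1, 2, 3, 4, 5, 6, 7, 3, 2, 1, 4, 3, 2, 5, 4, 8, 7, 3, 2, 1, 0, 4, 3, 2, 5, 4, 3, 6, 7, 8, 9, 6, 5, 4]), 1001, 0),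
    ((0, [1, 2, 3, 4, 5, 6, 7, 3, 2, 1, 4, 3, 2, 5, 8, 7, 3, 2, 1, 0, 4, 3, 2, 5, 4, 6, 7, 8, 9, 6, 5, 4, 3, 7]), 1001, 0),
    ((0, [1, 2, 3, 4, 5, 6, 7, 3, 2, 1, 4, 3, 8, 7, 3, 2, 1, 4, 3, 2, 5, 4, 3, 7, 3, 2, 1, 8, 9, 6, 5, 4, 3, 7]), 1001, 0),
    ((0, [1, 2, 3, 4, 5, 6, 7, 3, 2, 1, 4, 3, 2, 5, 8, 7, 3, 2, 1, 4, 3, 2, 5, 4, 6, 5, 7, 8, 9, 6, 5, 4, 3, 7]), 1001, 0),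
    ((0, [1, 2, 3, 4, 5, 6, 7, 3, 2, 1, 4, 3, 2, 5, 4, 8, 7, 3, 2, 1, 4, 3, 2, 5, 4, 6, 7, 8, 9, 6, 5, 4, 3, 2]), 1001, 0),
    ((0, [1, 2, 3, 4, 5, 6, 7, 3, 2, 1, 4, 3, 5, 4, 8, 7, 3, 2, 1, 4, 3, 2, 5, 4, 6, 5, 7, 9, 6, 5, 4, 3, 7, 8]), 1001, 0),
    ((0, [1, 2, 3, 4, 5, 6, 7, 3, 2, 1, 4, 3, 5, 4, 8, 7, 3, 2, 1, 4, 3, 2, 5, 4, 6, 7, 8, 9, 6, 5, 4, 3, 7, 8]), 1001, 0),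
    ((0, [1, 2, 3, 4, 5, 6, 7, 3, 2, 1, 4, 3, 2, 5, 4, 8, 7, 3, 2, 1, 0, 4, 3, 2, 5, 4, 6, 5, 7, 3, 8, 9, 6, 5]), 1001, 0),
    ((0, [1, 2, 3, 4, 5, 6, 7, 3, 2, 1, 4, 3, 5, 4, 8, 7, 3, 2, 1, 4, 3, 2, 5, 7, 3, 4, 5, 6, 8, 9, 6, 5, 4, 3]), 1001, 0),
    ((0, [1, 2, 3, 4, 5, 6, 7, 3, 2, 1, 4, 3, 2, 5, 8, 7, 3, 2, 1, 4, 3, 5, 4, 7, 3, 2, 1, 0, 8, 9, 6, 5, 4, 3]), 1001, 0),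
    ((0, [1, 2, 3, 4, 5, 6, 7, 3, 2, 1, 4, 3, 5, 8, 7, 3, 2, 1, 0, 4, 3, 5, 4, 7, 3, 2, 1, 8, 9, 6, 5, 4, 3, 7]), 1001, 0),
    ((0, [1, 2, 3, 4, 5, 6, 7, 3, 2, 1, 4, 3, 5, 8, 7, 3, 2, 1, 4, 3, 2, 5, 7, 3, 4, 5, 6, 8, 9, 6, 5, 4, 3, 7]), 1001, 0),
    ((0, [1, 2, 3, 4, 5, 6, 7, 3, 2, 1, 4, 3, 2, 5, 8, 7, 3, 2, 1, 4, 3, 5, 4, 7, 3, 2, 1, 8, 9, 6, 5, 4, 3, 7]), 1001, 0),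
    ((0, [1, 2, 3, 4, 5, 6, 7, 3, 2, 1, 4, 3, 2, 5, 8, 7, 3, 2, 1, 0, 4, 3, 5, 4, 7, 3, 2, 8, 9, 6, 5, 4, 3, 7]), 1001, 0),
    ((0, [1, 2, 3, 4, 5, 6, 7, 3, 2, 1, 4, 3, 2, 5, 4, 8, 7, 3, 2, 1, 0, 4, 3, 2, 5, 4, 3, 6, 7, 3, 8, 9, 6, 5]), 1001, 0),
    ((0, [1, 2, 3, 4, 5, 6, 7, 3, 2, 1, 4, 3, 2, 5, 4, 8, 7, 3, 2, 1, 0, 4, 3, 5, 4, 6, 7, 8, 9, 6, 5, 4, 3, 7]), 1001, 0),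
    ((0, [1, 2, 3, 4, 5, 6, 7, 3, 2, 1, 4, 3, 2, 5, 4, 8, 7, 3, 2, 1, 4, 3, 2, 5, 4, 3, 7, 3, 2, 1, 8, 9, 6, 5]), 1001, 0),
    ((0, [1, 2, 3, 4, 5, 6, 7, 3, 2, 1, 4, 3, 2, 5, 8, 7, 3, 2, 1, 4, 3, 2, 5, 4, 7, 3, 2, 1, 4, 5, 8, 9, 6, 5]), 1001, 0),
    ((0, [1, 2, 3, 4, 5, 6, 7, 3, 2, 1, 4, 3, 2, 5, 8, 7, 3, 2, 1, 0, 4, 3, 2, 1, 5, 4, 6, 7, 3, 8, 7, 9, 6, 5]), 1001, 0),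
    ((0, [1, 2, 3, 4, 5, 6, 7, 3, 2, 1, 4, 3, 5, 8, 7, 3, 2, 1, 4, 3, 2, 5, 4, 3, 7, 3, 2, 1, 0, 8, 7, 9, 6, 5]), 1001, 0),
    ((0, [1, 2, 3, 4, 5, 6, 7, 3, 2, 1, 4, 3, 2, 5, 4, 8, 7, 3, 2, 1, 4, 3, 2, 5, 4, 6, 5, 7, 3, 8, 7, 9, 6, 5]), 1001, 0),
    ((0, [1, 2, 3, 4, 5, 6, 7, 3, 2, 1, 4, 3, 5, 4, 8, 7, 3, 2, 1, 4, 3, 2, 5, 4, 7, 3, 4, 5, 6, 8, 7, 9, 6, 5]), 1001, 0),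
    ((0, [1, 2, 3, 4, 5, 6, 7, 3, 2, 1, 4, 3, 2, 5, 4, 8, 7, 3, 2, 1, 4, 3, 2, 5, 4, 3, 6, 7, 3, 8, 7, 9, 6, 5]), 1001, 0),
    ((0, [1, 2, 3, 4, 5, 6, 7, 3, 2, 1, 4, 3, 2, 5, 8, 7, 3, 2, 1, 4, 3, 2, 5, 4, 7, 3, 2, 1, 0, 8, 7, 9, 6, 5]), 1001, 0),
    ((0, [1, 2, 3, 4, 5, 6, 7, 3, 2, 1, 4, 3, 2, 5, 4, 8, 7, 3, 2, 1, 0, 4, 3, 2, 5, 4, 7, 3, 4, 5, 8, 9, 6, 5]), 1001, 0),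
    ((0, [1, 2, 3, 4, 5, 6, 7, 3, 2, 1, 4, 3, 5, 8, 7, 3, 2, 1, 0, 4, 3, 5, 4, 7, 3, 2, 1, 8, 9, 6, 5, 4, 3, 2]), 1001, 0),
    ((0, [1, 2, 3, 4, 5, 6, 7, 3, 2, 1, 4, 3, 5, 4, 8, 7, 3, 2, 1, 4, 3, 5, 4, 6, 7, 3, 2, 9, 6, 5, 4, 3, 7, 8]), 1001, 0),
    ((0, [1, 2, 3, 4, 5, 6, 7, 3, 2, 1, 4, 3, 5, 8, 7, 3, 2, 1, 4, 3, 2, 5, 7, 3, 4, 5, 6, 8, 9, 6, 5, 4, 3, 2]), 1001, 0),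
    ((0, [1, 2, 3, 4, 5, 6, 7, 3, 2, 1, 4, 3, 2, 5, 8, 7, 3, 2, 1, 4, 3, 5, 4, 7, 3, 2, 1, 8, 9, 6, 5, 4, 3, 2]), 1001, 0),
    ((0, [1, 2, 3, 4, 5, 6, 7, 3, 2, 1, 4, 3, 2, 5, 8, 7, 3, 2, 1, 0, 4, 3, 5, 4, 7, 3, 2, 8, 9, 6, 5, 4, 3, 2]), 1001, 0),
    ((0, [1, 2, 3, 4, 5, 6, 7, 3, 2, 1, 4, 3, 2, 5, 4, 8, 7, 3, 2, 1, 4, 3, 2, 5, 4, 7, 3, 2, 1, 0, 8, 9, 6, 5]), 1001, 0),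
    ((0, [1, 2, 3, 4, 5, 6, 7, 3, 2, 1, 4, 3, 2, 5, 4, 8, 7, 3, 2, 1, 4, 3, 2, 5, 4, 3, 7, 3, 4, 5, 8, 9, 6, 5]), 1001, 0),
    ((0, [1, 2, 3, 4, 5, 6, 7, 3, 2, 1, 4, 3, 2, 5, 4, 8, 7, 3, 2, 1, 0, 4, 3, 2, 5, 4, 3, 7, 3, 4, 8, 9, 6, 5]), 1001, 0),
    ((0, [1, 2, 3, 4, 5, 6, 7, 3, 2, 1, 4, 3, 5, 4, 7, 8, 7, 3, 2, 1, 4, 3, 2, 5, 4, 6, 7, 9, 6, 5, 4, 3, 7, 8]), 1001, 0),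
    ((0, [1, 2, 3, 4, 5, 6, 7, 3, 2, 1, 4, 3, 2, 5, 8, 7, 3, 2, 1, 4, 3, 2, 5, 7, 3, 4, 8, 9, 6, 5, 4, 3, 2, 1]), 1001, 0),
    ((0, [1, 2, 3, 4, 5, 6, 7, 3, 2, 1, 4, 3, 5, 7, 8, 7, 3, 2, 1, 4, 3, 2, 5, 4, 6, 7, 9, 6, 5, 4, 3, 2, 7, 8]), 1001, 0),
    ((0, [1, 2, 3, 4, 5, 6, 7, 3, 2, 1, 4, 3, 5, 7, 8, 7, 3, 2, 1, 0, 4, 3, 2, 5, 4, 7, 8, 9, 6, 5, 4, 3, 7, 8]), 1001, 0),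
    ((0, [1, 2, 3, 4, 5, 6, 7, 3, 2, 1, 4, 3, 5, 7, 8, 7, 3, 2, 1, 4, 3, 2, 5, 4, 6, 7, 8, 9, 6, 5, 4, 3, 7, 8]), 1001, 0),
    ((0, [1, 2, 3, 4, 5, 6, 7, 3, 2, 1, 4, 3, 5, 4, 7, 8, 7, 3, 2, 1, 4, 3, 2, 5, 4, 7, 8, 9, 6, 5, 4, 3, 7, 8]), 1001, 0),
    ((0, [1, 2, 3, 4, 5, 6, 7, 3, 2, 1, 4, 3, 5, 7, 8, 7, 3, 2, 1, 4, 3, 2, 5, 4, 7, 8, 9, 6, 5, 4, 3, 2, 7, 8]), 1001, 0),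
    ((0, [1, 2, 3, 4, 5, 6, 7, 3, 2, 1, 4, 3, 2, 5, 7, 8, 7, 3, 2, 1, 0, 4, 3, 2, 5, 4, 7, 9, 6, 5, 4, 3, 7, 8]), 1001, 0),
    ((0, [1, 2, 3, 4, 5, 6, 7, 3, 2, 1, 4, 3, 2, 5, 4, 7, 8, 7, 3, 2, 1, 4, 3, 2, 5, 4, 7, 9, 6, 5, 4, 3, 7, 8]), 1001, 0),
    ((0, [1, 2, 3, 4, 5, 6, 7, 3, 2, 1, 4, 3, 2, 5, 7, 8, 7, 3, 2, 1, 4, 3, 2, 5, 4, 7, 9, 6, 5, 4, 3, 2, 7, 8]), 1001, 0),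
    ((0, [1, 2, 3, 4, 5, 6, 7, 3, 2, 1, 4, 3, 2, 5, 7, 8, 7, 3, 2, 1, 4, 3, 2, 5, 4, 7, 8, 9, 6, 5, 4, 3, 7, 8]), 1001, 0),
    ((0, [1, 2, 3, 4, 5, 6, 7, 3, 2, 1, 4, 3, 5, 7, 8, 7, 3, 2, 1, 4, 3, 2, 5, 4, 3, 7, 8, 9, 6, 5, 4, 3, 7, 8]), 1001, 0),
    ((0, [1, 2, 3, 4, 5, 6, 7, 3, 2, 1, 4, 3, 2, 5, 8, 7, 3, 2, 1, 0, 4, 3, 2, 5, 4, 7, 8, 9, 6, 5, 4, 3, 7, 8]), 1001, 0),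
    ((0, [1, 2, 3, 4, 5, 6, 7, 3, 2, 1, 4, 3, 2, 5, 8, 7, 3, 2, 1, 0, 4, 3, 2, 1, 5, 4, 7, 9, 6, 5, 4, 3, 7, 8]), 1001, 0),
    ((0, [1, 2, 3, 4, 5, 6, 7, 3, 2, 1, 4, 3, 5, 7, 8, 7, 3, 2, 1, 4, 3, 2, 5, 7, 3, 4, 8, 9, 6, 5, 4, 3, 7, 8]), 1001, 0),
    ((0, [1, 2, 3, 4, 5, 6, 7, 3, 2, 1, 4, 3, 2, 5, 4, 8, 7, 3, 2, 1, 4, 3, 2, 5, 7, 3, 4, 8, 9, 6, 5, 4, 3, 2]), 1001, 0),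
    ((0, [1, 2, 3, 4, 5, 6, 7, 3, 2, 1, 4, 3, 5, 8, 7, 3, 2, 1, 4, 3, 2, 5, 4, 3, 7, 3, 9, 6, 5, 4, 3, 2, 7, 8]), 1001, 0),
    ((0, [1, 2, 3, 4, 5, 6, 7, 3, 2, 1, 4, 3, 5, 8, 7, 3, 2, 1, 4, 3, 2, 5, 4, 3, 7, 3, 8, 9, 6, 5, 4, 3, 7, 8]), 1001, 0),
    ((0, [1, 2, 3, 4, 5, 6, 7, 3, 2, 1, 4, 3, 2, 5, 8, 7, 3, 2, 1, 0, 4, 3, 2, 5, 4, 3, 7, 9, 6, 5, 4, 3, 7, 8]), 1001, 0),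
    ((0, [1, 2, 3, 4, 5, 6, 7, 3, 2, 1, 4, 3, 2, 5, 8, 7, 3, 2, 1, 4, 3, 2, 5, 4, 3, 7, 9, 6, 5, 4, 3, 2, 7, 8]), 1001, 0),
    ((0, [1, 2, 3, 4, 5, 6, 7, 3, 2, 1, 4, 3, 2, 5, 8, 7, 3, 2, 1, 4, 3, 2, 5, 4, 3, 7, 8, 9, 6, 5, 4, 3, 7, 8]), 1001, 0),
    ((0, [1, 2, 3, 4, 5, 6, 7, 3, 2, 1, 4, 3, 2, 5, 7, 8, 7, 3, 2, 1, 4, 3, 2, 5, 4, 3, 7, 9, 6, 5, 4, 3, 7, 8]), 1001, 0),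
    ((0, [1, 2, 3, 4, 5, 6, 7, 3, 2, 1, 4, 3, 5, 7, 8, 7, 3, 2, 1, 4, 3, 5, 4, 7, 3, 2, 8, 9, 6, 5, 4, 3, 7, 8]), 1001, 0),
    ((0, [1, 2, 3, 4, 5, 6, 7, 3, 2, 1, 4, 3, 2, 5, 4, 8, 7, 3, 2, 1, 4, 3, 2, 5, 4, 3, 7, 9, 6, 5, 4, 3, 7, 8]), 1001, 0),
    ((0, [1, 2, 3, 4, 5, 6, 7, 3, 2, 1, 4, 3, 2, 5, 4, 8, 7, 3, 2, 1, 4, 3, 5, 4, 7, 3, 2, 8, 9, 6, 5, 4, 3, 2]), 1001, 0),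
    ((0, [1, 2, 3, 4, 5, 6, 7, 3, 2, 1, 4, 3, 5, 4, 8, 7, 3, 2, 1, 4, 3, 2, 5, 7, 3, 4, 5, 9, 6, 5, 4, 3, 7, 8]), 1001, 0),
    ((0, [1, 2, 3, 4, 5, 6, 7, 3, 2, 1, 4, 3, 2, 5, 4, 8, 7, 3, 2, 1, 4, 3, 2, 5, 4, 7, 8, 9, 6, 5, 4, 3, 2, 1]), 1001, 0),
    ((0, [1, 2, 3, 4, 5, 6, 7, 3, 2, 1, 4, 3, 5, 4, 8, 7, 3, 2, 1, 4, 3, 5, 4, 7, 3, 8, 9, 6, 5, 4, 3, 2, 7, 3]), 1001, 0),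
    ((0, [1, 2, 3, 4, 5, 6, 7, 3, 2, 1, 4, 3, 5, 4, 7, 8, 7, 3, 2, 1, 4, 3, 2, 5, 4, 7, 9, 6, 5, 4, 3, 2, 7, 8]), 1001, 0),
    ((0, [1, 2, 3, 4, 5, 6, 7, 3, 2, 1, 4, 3, 5, 8, 7, 3, 2, 1, 0, 4, 3, 5, 4, 7, 3, 2, 9, 6, 5, 4, 3, 2, 7, 8]), 1001, 0),
    ((0, [1, 2, 3, 4, 5, 6, 7, 3, 2, 1, 4, 3, 5, 8, 7, 3, 2, 1, 0, 4, 3, 5, 4, 7, 3, 2, 8, 9, 6, 5, 4, 3, 7, 8]), 1001, 0),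
    ((0, [1, 2, 3, 4, 5, 6, 7, 3, 2, 1, 4, 3, 5, 8, 7, 3, 2, 1, 4, 3, 5, 4, 7, 3, 2, 1, 8, 9, 6, 5, 4, 3, 7, 8]), 1001, 0),
    ((0, [1, 2, 3, 4, 5, 6, 7, 3, 2, 1, 4, 3, 5, 8, 7, 3, 2, 1, 4, 3, 5, 4, 7, 3, 2, 8, 9, 6, 5, 4, 3, 2, 7, 8]), 1001, 0),
    ((0, [1, 2, 3, 4, 5, 6, 7, 3, 2, 1, 4, 3, 2, 5, 8, 7, 3, 2, 1, 0, 4, 3, 2, 5, 4, 6, 7, 9, 6, 5, 4, 3, 7, 8]), 1001, 0),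
    ((0, [1, 2, 3, 4, 5, 6, 7, 3, 2, 1, 4, 3, 2, 5, 8, 7, 3, 2, 1, 4, 3, 2, 5, 4, 6, 7, 8, 9, 6, 5, 4, 3, 7, 8]), 1001, 0),
    ((0, [1, 2, 3, 4, 5, 6, 7, 3, 2, 1, 4, 3, 5, 8, 7, 3, 2, 1, 0, 4, 3, 5, 4, 7, 3, 2, 1, 9, 6, 5, 4, 3, 7, 8]), 1001, 0),
    ((0, [1, 2, 3, 4, 5, 6, 7, 3, 2, 1, 4, 3, 2, 5, 8, 7, 3, 2, 1, 4, 3, 5, 4, 7, 3, 2, 1, 9, 6, 5, 4, 3, 7, 8]), 1001, 0),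
    ((0, [1, 2, 3, 4, 5, 6, 7, 3, 2, 1, 4, 3, 2, 5, 8, 7, 3, 2, 1, 4, 3, 5, 4, 7, 3, 2, 9, 6, 5, 4, 3, 2, 7, 8]), 1001, 0),
    ((0, [1, 2, 3, 4, 5, 6, 7, 3, 2, 1, 4, 3, 2, 5, 8, 7, 3, 2, 1, 4, 3, 5, 4, 7, 3, 2, 8, 9, 6, 5, 4, 3, 7, 8]), 1001, 0),
    ((0, [1, 2, 3, 4, 5, 6, 7, 3, 2, 1, 4, 3, 2, 5, 8, 7, 3, 2, 1, 4, 3, 2, 5, 4, 6, 5, 7, 9, 6, 5, 4, 3, 7, 8]), 1001, 0),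
    ((0, [1, 2, 3, 4, 5, 6, 7, 3, 2, 1, 4, 3, 8, 7, 3, 2, 1, 4, 3, 2, 5, 4, 3, 7, 3, 2, 8, 9, 6, 5, 4, 3, 7, 8]), 1001, 0),
    ((0, [1, 2, 3, 4, 5, 6, 7, 3, 2, 1, 4, 3, 5, 4, 8, 7, 3, 2, 1, 4, 3, 2, 5, 4, 6, 7, 8, 9, 6, 5, 4, 3, 2, 1]), 1001, 0)]

/-- Part 41 of the cycles. -/
def reps41 : List ((Nat × List Nat) × Nat × Nat) :=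
  [
    ((0, [1, 2, 3, 4, 5, 6, 7, 3, 2, 1, 4, 3, 5, 4, 8, 7, 3, 2, 1, 4, 3, 5, 4, 6, 7, 3, 2, 8, 9, 6, 5, 4, 3, 2]), 1001, 0),
    ((0, [1, 2, 3, 4, 5, 6, 7, 3, 2, 1, 4, 3, 5, 8, 7, 3, 2, 1, 4, 3, 5, 4, 7, 3, 2, 1, 9, 6, 5, 4, 3, 2, 7, 8]), 1001, 0),
    ((0, [1, 2, 3, 4, 5, 6, 7, 3, 2, 1, 4, 3, 5, 7, 8, 7, 3, 2, 1, 4, 3, 2, 5, 4, 3, 7, 9, 6, 5, 4, 3, 2, 7, 8]), 1001, 0),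
    ((0, [1, 2, 3, 4, 5, 6, 7, 3, 2, 1, 4, 3, 2, 5, 8, 7, 3, 2, 1, 0, 4, 3, 2, 5, 4, 7, 9, 6, 5, 4, 3, 2, 7, 8]), 1001, 0),
    ((0, [1, 2, 3, 4, 5, 6, 7, 3, 2, 1, 4, 3, 5, 7, 8, 7, 3, 2, 1, 4, 3, 5, 4, 7, 3, 2, 9, 6, 5, 4, 3, 2, 7, 8]), 1001, 0),
    ((0, [1, 2, 3, 4, 5, 6, 7, 3, 2, 1, 4, 3, 2, 5, 8, 7, 3, 2, 1, 4, 3, 2, 5, 4, 6, 7, 9, 6, 5, 4, 3, 2, 7, 8]), 1001, 0),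
    ((0, [1, 2, 3, 4, 5, 6, 7, 3, 2, 1, 4, 3, 8, 7, 3, 2, 1, 4, 3, 2, 5, 4, 3, 7, 3, 2, 9, 6, 5, 4, 3, 2, 7, 8]), 1001, 0),
    ((0, [1, 2, 3, 4, 5, 6, 7, 3, 2, 1, 4, 3, 5, 8, 7, 3, 2, 1, 4, 3, 2, 5, 4, 6, 7, 3, 8, 9, 6, 5, 4, 3, 7, 8]), 1001, 0),
    ((0, [1, 2, 3, 4, 5, 6, 7, 3, 2, 1, 4, 3, 5, 8, 7, 3, 2, 1, 4, 3, 2, 5, 4, 6, 7, 3, 9, 6, 5, 4, 3, 2, 7, 8]), 1001, 0),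
    ((0, [1, 2, 3, 4, 5, 6, 7, 3, 2, 1, 4, 3, 2, 5, 8, 7, 3, 2, 1, 4, 3, 2, 5, 4, 7, 8, 9, 6, 5, 4, 3, 2, 1, 0]), 1001, 0),
    ((0, [1, 2, 3, 4, 5, 6, 7, 3, 2, 1, 4, 3, 5, 8, 7, 3, 2, 1, 4, 3, 2, 5, 4, 6, 7, 8, 9, 6, 5, 4, 3, 2, 1, 0]), 1001, 0),
    ((0, [1, 2, 3, 4, 5, 6, 7, 3, 2, 1, 4, 3, 2, 5, 4, 8, 7, 3, 2, 1, 0, 4, 3, 5, 4, 7, 3, 2, 8, 9, 6, 5, 4, 3]), 1001, 0),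
    ((0, [1, 2, 3, 4, 5, 6, 7, 3, 2, 1, 4, 3, 2, 5, 4, 8, 7, 3, 2, 1, 4, 3, 2, 5, 7, 3, 4, 5, 8, 9, 6, 5, 4, 3]), 1001, 0),
    ((0, [1, 2, 3, 4, 5, 6, 7, 3, 2, 1, 4, 3, 5, 4, 8, 7, 3, 2, 1, 0, 4, 3, 5, 4, 6, 7, 3, 2, 8, 9, 6, 5, 4, 3]), 1001, 0),
    ((0, [1, 2, 3, 4, 5, 6, 7, 3, 2, 1, 4, 5, 8, 7, 3, 2, 1, 4, 3, 2, 5, 4, 7, 3, 4, 8, 9, 6, 5, 4, 3, 2, 1, 0]), 1001, 0),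
    ((0, [1, 2, 3, 4, 5, 6, 7, 3, 2, 1, 4, 5, 8, 7, 3, 2, 1, 4, 3, 2, 5, 4, 6, 7, 3, 4, 9, 6, 5, 4, 3, 2, 1, 0]), 1001, 0),
    ((0, [1, 2, 3, 4, 5, 6, 7, 3, 2, 1, 4, 5, 8, 7, 3, 2, 1, 4, 3, 2, 5, 7, 3, 4, 5, 8, 9, 6, 5, 4, 3, 2, 1, 7]), 1001, 0),
    ((0, [1, 2, 3, 4, 5, 6, 7, 3, 2, 1, 4, 3, 5, 8, 7, 3, 2, 1, 4, 3, 2, 5, 6, 7, 3, 4, 8, 9, 6, 5, 4, 3, 2, 1]), 1001, 0),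
    ((0, [1, 2, 3, 4, 5, 6, 7, 3, 2, 1, 4, 3, 5, 8, 7, 3, 2, 1, 4, 3, 2, 5, 7, 3, 4, 5, 8, 9, 6, 5, 4, 3, 2, 1]), 1001, 0),
    ((0, [1, 2, 3, 4, 5, 6, 7, 3, 2, 1, 4, 5, 8, 7, 3, 2, 1, 4, 3, 2, 5, 6, 7, 3, 4, 5, 8, 9, 6, 5, 4, 3, 2, 1]), 1001, 0),
    ((0, [1, 2, 3, 4, 5, 6, 7, 3, 2, 1, 4, 5, 8, 7, 3, 2, 1, 4, 3, 2, 5, 7, 3, 4, 5, 8, 9, 6, 5, 4, 3, 2, 1, 0]), 1001, 0),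
    ((0, [1, 2, 3, 4, 5, 6, 7, 3, 2, 1, 4, 3, 5, 8, 7, 3, 2, 4, 3, 5, 4, 7, 3, 2, 1, 0, 8, 9, 6, 5, 4, 3, 2, 1]), 1001, 0),
    ((0, [1, 2, 3, 4, 5, 6, 7, 3, 2, 1, 4, 3, 2, 5, 4, 8, 7, 3, 2, 1, 4, 3, 5, 4, 7, 3, 2, 1, 9, 6, 5, 4, 3, 7]), 1001, 0),
    ((0, [1, 2, 3, 4, 5, 6, 7, 3, 2, 1, 4, 3, 5, 4, 8, 7, 3, 2, 1, 4, 3, 2, 5, 7, 3, 4, 8, 9, 6, 5, 4, 3, 2, 1]), 1001, 0),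
    ((0, [1, 2, 3, 4, 5, 6, 7, 3, 2, 1, 4, 3, 2, 5, 7, 8, 7, 3, 2, 1, 0, 4, 3, 2, 5, 7, 3, 4, 9, 6, 5, 4, 3, 7]), 1001, 0),
    ((0, [1, 2, 3, 4, 5, 6, 7, 3, 2, 1, 4, 3, 5, 4, 8, 7, 3, 2, 1, 4, 3, 5, 4, 7, 3, 2, 1, 9, 6, 5, 4, 3, 7, 8]), 1001, 0),
    ((0, [1, 2, 3, 4, 5, 6, 7, 3, 2, 1, 4, 3, 5, 4, 7, 8, 7, 3, 2, 1, 4, 3, 5, 4, 7, 3, 2, 9, 6, 5, 4, 3, 7, 8]), 1001, 0),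
    ((0, [1, 2, 3, 4, 5, 6, 7, 3, 2, 1, 4, 3, 2, 5, 4, 8, 7, 3, 2, 1, 4, 3, 5, 4, 7, 3, 2, 1, 9, 6, 5, 4, 3, 2]), 1001, 0),
    ((0, [1, 2, 3, 4, 5, 6, 7, 3, 2, 1, 4, 3, 2, 5, 7, 8, 7, 3, 2, 1, 0, 4, 3, 2, 5, 7, 3, 4, 9, 6, 5, 4, 3, 2]), 1001, 0),
    ((0, [1, 2, 3, 4, 5, 6, 7, 3, 2, 1, 4, 3, 5, 8, 7, 3, 2, 1, 4, 3, 2, 5, 7, 3, 4, 8, 9, 6, 5, 4, 3, 2, 1, 7]), 1001, 0),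
    ((0, [1, 2, 3, 4, 5, 6, 7, 3, 2, 1, 4, 3, 5, 4, 7, 8, 7, 3, 2, 1, 4, 3, 5, 4, 7, 3, 9, 6, 5, 4, 3, 2, 7, 3]), 1001, 0),
    ((0, [1, 2, 3, 4, 5, 6, 7, 3, 2, 1, 4, 3, 5, 8, 7, 3, 2, 1, 4, 3, 2, 5, 7, 3, 4, 9, 6, 5, 4, 3, 2, 1, 7, 8]), 1001, 0),
    ((0, [1, 2, 3, 4, 5, 6, 7, 3, 2, 1, 4, 3, 5, 4, 8, 7, 3, 2, 1, 4, 3, 5, 4, 7, 3, 2, 1, 8, 9, 6, 5, 4, 3, 2]), 1001, 0),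
    ((0, [1, 2, 3, 4, 5, 6, 7, 3, 2, 1, 4, 3, 5, 4, 7, 8, 7, 3, 2, 1, 4, 3, 5, 4, 7, 3, 2, 8, 9, 6, 5, 4, 3, 2]), 1001, 0),
    ((0, [1, 2, 3, 4, 5, 6, 7, 3, 2, 1, 4, 3, 5, 4, 8, 7, 3, 2, 1, 4, 3, 5, 4, 7, 3, 2, 1, 8, 9, 6, 5, 4, 3, 7]), 1001, 0),
    ((0, [1, 2, 3, 4, 5, 6, 7, 3, 2, 1, 4, 3, 5, 4, 7, 8, 7, 3, 2, 1, 4, 3, 5, 4, 7, 3, 2, 8, 9, 6, 5, 4, 3, 7]), 1001, 0),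
    ((0, [1, 2, 3, 4, 5, 6, 7, 3, 2, 1, 4, 5, 8, 7, 3, 2, 1, 4, 3, 2, 5, 7, 3, 4, 8, 9, 6, 5, 4, 3, 2, 1, 7, 3]), 1001, 0),
    ((0, [1, 2, 3, 4, 5, 6, 7, 3, 2, 1, 4, 3, 5, 8, 7, 3, 2, 1, 4, 3, 5, 4, 7, 3, 2, 9, 6, 5, 4, 3, 2, 1, 7, 8]), 1001, 0),
    ((0, [1, 2, 3, 4, 5, 6, 7, 3, 2, 1, 4, 3, 5, 7, 8, 7, 3, 2, 1, 4, 3, 2, 5, 4, 7, 9, 6, 5, 4, 3, 2, 1, 7, 8]), 1001, 0),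
    ((0, [1, 2, 3, 4, 5, 6, 7, 3, 2, 1, 4, 5, 8, 7, 3, 2, 1, 4, 3, 2, 5, 4, 7, 3, 2, 4, 5, 8, 9, 6, 5, 4, 3, 2]), 1001, 0),
    ((0, [1, 2, 3, 4, 5, 6, 7, 3, 2, 1, 4, 3, 2, 5, 7, 8, 7, 3, 2, 1, 4, 3, 2, 5, 7, 3, 4, 8, 9, 6, 5, 4, 3, 2]), 1001, 0),
    ((0, [1, 2, 3, 4, 5, 6, 7, 3, 2, 1, 4, 3, 5, 4, 8, 7, 3, 2, 1, 4, 3, 5, 4, 7, 3, 2, 1, 0, 8, 9, 6, 5, 4, 3]), 1001, 0),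
    ((0, [1, 2, 3, 4, 5, 6, 7, 3, 2, 1, 4, 3, 2, 5, 7, 8, 7, 3, 2, 1, 4, 3, 2, 5, 7, 3, 4, 5, 8, 9, 6, 5, 4, 3]), 1001, 0),
    ((0, [1, 2, 3, 4, 5, 6, 7, 3, 2, 1, 4, 5, 8, 7, 3, 2, 1, 4, 3, 2, 5, 4, 7, 3, 4, 8, 9, 6, 5, 4, 3, 2, 7, 3]), 1001, 0),
    ((0, [1, 2, 3, 4, 5, 6, 7, 3, 2, 1, 4, 5, 8, 7, 3, 2, 1, 4, 3, 2, 5, 4, 7, 3, 2, 4, 9, 6, 5, 4, 3, 2, 7, 8]), 1001, 0),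
    ((0, [1, 2, 3, 4, 5, 6, 7, 3, 2, 1, 4, 3, 2, 5, 8, 7, 3, 2, 1, 4, 3, 2, 5, 7, 3, 4, 5, 8, 9, 6, 5, 4, 3, 2]), 1001, 0),
    ((0, [1, 2, 3, 4, 5, 6, 7, 3, 2, 1, 4, 5, 8, 7, 3, 2, 1, 4, 3, 2, 5, 4, 7, 3, 2, 1, 4, 8, 9, 6, 5, 4, 3, 2]), 1001, 0),
    ((0, [1, 2, 3, 4, 5, 6, 7, 3, 2, 1, 4, 3, 2, 5, 8, 7, 3, 2, 1, 4, 3, 2, 5, 7, 3, 4, 5, 6, 8, 7, 9, 6, 5, 4]), 1001, 0),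
    ((0, [1, 2, 3, 4, 5, 6, 7, 3, 2, 1, 4, 3, 2, 5, 8, 7, 3, 2, 1, 4, 3, 2, 5, 7, 3, 4, 5, 8, 9, 6, 5, 4, 3, 7]), 1001, 0),
    ((0, [1, 2, 3, 4, 5, 6, 7, 3, 2, 1, 4, 5, 8, 7, 3, 2, 1, 4, 3, 2, 5, 4, 7, 3, 2, 1, 4, 8, 9, 6, 5, 4, 3, 7]), 1001, 0),
    ((0, [1, 2, 3, 4, 5, 6, 7, 3, 2, 1, 4, 3, 2, 5, 8, 7, 3, 2, 1, 4, 3, 2, 5, 7, 3, 4, 5, 9, 6, 5, 4, 3, 7, 8]), 1001, 0),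
    ((0, [1, 2, 3, 4, 5, 6, 7, 3, 2, 1, 4, 5, 8, 7, 3, 2, 1, 4, 3, 2, 5, 4, 7, 3, 2, 1, 4, 9, 6, 5, 4, 3, 7, 8]), 1001, 0),
    ((0, [1, 2, 3, 4, 5, 6, 7, 3, 2, 1, 4, 5, 8, 7, 3, 2, 1, 4, 3, 2, 5, 7, 3, 8, 9, 6, 5, 4, 3, 2, 7, 3, 4, 5]), 1001, 0),
    ((0, [1, 2, 3, 4, 5, 6, 7, 3, 2, 1, 4, 3, 5, 8, 7, 3, 2, 1, 4, 3, 5, 4, 7, 3, 2, 8, 9, 6, 5, 4, 3, 2, 1, 0]), 1001, 0),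
    ((0, [1, 2, 3, 4, 5, 6, 7, 3, 2, 1, 4, 3, 2, 5, 7, 8, 7, 3, 2, 1, 4, 3, 2, 5, 7, 3, 4, 9, 6, 5, 4, 3, 7, 8]), 1001, 0),
    ((0, [1, 2, 3, 4, 5, 6, 7, 3, 2, 1, 4, 5, 8, 7, 3, 2, 1, 4, 3, 2, 5, 4, 7, 3, 2, 4, 8, 9, 6, 5, 4, 3, 7, 8]), 1001, 0),
    ((0, [1, 2, 3, 4, 5, 6, 7, 3, 2, 1, 4, 3, 2, 5, 4, 7, 8, 7, 3, 2, 1, 4, 3, 2, 5, 4, 7, 3, 2, 4, 8, 9, 6, 5]), 1001, 0),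
    ((0, [1, 2, 3, 4, 5, 6, 7, 3, 2, 1, 4, 3, 2, 5, 8, 7, 3, 2, 1, 4, 3, 2, 5, 4, 7, 3, 2, 4, 5, 6, 8, 9, 6, 5]), 1001, 0),
    ((0, [1, 2, 3, 4, 5, 6, 7, 3, 2, 1, 4, 3, 2, 5, 8, 7, 3, 2, 1, 4, 3, 2, 5, 4, 7, 3, 2, 4, 5, 8, 9, 6, 5, 4]), 1001, 0),
    ((0, [1, 2, 3, 4, 5, 6, 7, 3, 2, 1, 4, 3, 2, 5, 4, 7, 8, 7, 3, 2, 1, 4, 3, 2, 5, 4, 7, 3, 4, 8, 7, 9, 6, 5]), 1001, 0),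
    ((0, [1, 2, 3, 4, 5, 6, 7, 3, 2, 1, 4, 3, 2, 5, 8, 7, 3, 2, 1, 4, 3, 2, 5, 4, 7, 3, 4, 5, 6, 8, 7, 9, 6, 5]), 1001, 0),
    ((0, [1, 2, 3, 4, 5, 6, 7, 3, 2, 1, 4, 3, 5, 8, 7, 3, 2, 1, 0, 4, 3, 5, 4, 7, 3, 8, 9, 6, 5, 4, 3, 2, 1, 0]), 1001, 0),
    ((0, [1, 2, 3, 4, 5, 6, 7, 3, 2, 1, 4, 3, 2, 5, 8, 7, 3, 2, 1, 4, 3, 2, 5, 7, 3, 4, 5, 8, 7, 9, 6, 5, 4, 3]), 1001, 0),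
    ((0, [1, 2, 3, 4, 5, 6, 7, 3, 2, 1, 4, 3, 2, 5, 7, 8, 7, 3, 2, 1, 4, 3, 2, 5, 7, 3, 4, 8, 7, 9, 6, 5, 4, 3]), 1001, 0),
    ((0, [1, 2, 3, 4, 5, 6, 7, 3, 2, 1, 4, 5, 8, 7, 3, 2, 1, 4, 3, 2, 5, 4, 7, 3, 2, 1, 4, 8, 7, 9, 6, 5, 4, 3]), 1001, 0),
    ((0, [1, 2, 3, 4, 5, 6, 7, 3, 2, 1, 4, 5, 8, 7, 3, 2, 1, 4, 3, 2, 5, 4, 7, 3, 2, 4, 8, 7, 9, 6, 5, 4, 3, 7]), 1001, 0),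
    ((0, [1, 2, 3, 4, 5, 6, 7, 3, 2, 1, 4, 3, 5, 4, 7, 8, 7, 3, 2, 1, 4, 3, 5, 4, 7, 3, 2, 8, 7, 9, 6, 5, 4, 3]), 901, 0),
    ((0, [1, 2, 3, 4, 5, 6, 7, 3, 2, 1, 4, 3, 5, 8, 7, 3, 2, 1, 4, 3, 5, 4, 7, 8, 9, 6, 5, 4, 3, 2, 1, 7, 3, 2]), 901, 0),
    ((0, [1, 2, 3, 4, 5, 6, 7, 3, 2, 1, 4, 3, 2, 5, 4, 7, 8, 7, 3, 2, 1, 4, 3, 2, 5, 7, 3, 4, 8, 7, 3, 9, 6, 5]), 1001, 0),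
    ((0, [1, 2, 3, 4, 5, 6, 7, 3, 2, 1, 4, 3, 2, 5, 8, 7, 3, 2, 1, 4, 3, 2, 5, 4, 7, 3, 4, 5, 8, 7, 3, 9, 6, 5]), 1001, 0),
    ((0, [1, 2, 3, 4, 5, 6, 7, 3, 2, 1, 4, 3, 2, 5, 4, 8, 7, 3, 2, 1, 4, 3, 5, 4, 7, 3, 2, 8, 7, 3, 4, 9, 6, 5]), 1001, 0),
    ((0, [1, 2, 3, 4, 5, 6, 7, 3, 2, 1, 4, 3, 5, 8, 7, 3, 2, 1, 4, 3, 2, 5, 4, 7, 3, 2, 1, 4, 8, 7, 3, 9, 6, 5]), 1001, 0),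
    ((0, [1, 2, 3, 4, 5, 6, 7, 3, 2, 1, 4, 3, 2, 5, 7, 8, 7, 3, 2, 1, 4, 3, 2, 5, 4, 7, 3, 4, 8, 7, 3, 9, 6, 5]), 1001, 0),
    ((0, [1, 2, 3, 4, 5, 6, 7, 3, 2, 1, 4, 3, 2, 5, 4, 8, 7, 3, 2, 1, 4, 3, 2, 5, 7, 3, 4, 5, 8, 7, 3, 9, 6, 5]), 1001, 0),
    ((0, [1, 2, 3, 4, 5, 6, 7, 3, 2, 1, 4, 3, 2, 5, 7, 8, 7, 3, 2, 1, 0, 4, 3, 2, 5, 7, 3, 4, 8, 7, 3, 9, 6, 5]), 901, 0),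
    ((0, [1, 2, 3, 4, 5, 6, 7, 3, 2, 1, 4, 3, 5, 4, 7, 8, 7, 3, 2, 1, 4, 3, 2, 5, 4, 7, 3, 2, 8, 7, 3, 9, 6, 5]), 901, 0),
    ((0, [1, 2, 3, 4, 5, 6, 7, 3, 2, 1, 4, 3, 5, 4, 7, 8, 7, 3, 2, 1, 4, 3, 5, 4, 7, 3, 2, 1, 8, 7, 3, 9, 6, 5]), 901, 0),
    ((0, [1, 2, 3, 4, 5, 6, 7, 3, 2, 1, 4, 3, 5, 7, 8, 7, 3, 2, 1, 0, 4, 3, 5, 4, 7, 8, 9, 6, 5, 4, 3, 2, 1, 7]), 1001, 0),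
    ((0, [1, 2, 3, 4, 5, 6, 7, 3, 2, 1, 4, 3, 2, 8, 7, 3, 2, 1, 4, 3, 2, 5, 4, 3, 7, 8, 9, 6, 5, 4, 3, 2, 1, 7]), 1001, 0),
    ((0, [1, 2, 3, 4, 5, 6, 7, 3, 2, 1, 4, 3, 5, 8, 7, 3, 2, 1, 0, 4, 3, 5, 4, 6, 7, 8, 9, 6, 5, 4, 3, 2, 1, 7]), 1001, 0),
    ((0, [1, 2, 3, 4, 5, 6, 7, 3, 2, 1, 4, 3, 2, 5, 8, 7, 3, 2, 1, 4, 3, 2, 5, 6, 7, 3, 4, 9, 6, 5, 4, 3, 7, 8]), 1001, 0),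
    ((0, [1, 2, 3, 4, 5, 6, 7, 3, 2, 1, 4, 3, 5, 8, 7, 3, 2, 1, 4, 3, 2, 5, 4, 3, 7, 8, 9, 6, 5, 4, 3, 2, 1, 7]), 1001, 0),
    ((0, [1, 2, 3, 4, 5, 6, 7, 3, 2, 1, 4, 3, 2, 5, 8, 7, 3, 2, 1, 4, 3, 2, 5, 6, 7, 3, 4, 8, 9, 6, 5, 4, 3, 2]), 1001, 0),
    ((0, [1, 2, 3, 4, 5, 6, 7, 3, 2, 1, 4, 3, 2, 5, 8, 7, 3, 2, 1, 4, 3, 2, 5, 4, 7, 3, 4, 8, 9, 6, 5, 4, 3, 2]), 1001, 0),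
    ((0, [1, 2, 3, 4, 5, 6, 7, 3, 2, 1, 4, 3, 2, 5, 8, 7, 3, 2, 1, 4, 3, 2, 5, 6, 7, 3, 4, 8, 9, 6, 5, 4, 3, 7]), 1001, 0),
    ((0, [1, 2, 3, 4, 5, 6, 7, 3, 2, 1, 4, 3, 2, 5, 8, 7, 3, 2, 1, 4, 3, 2, 5, 4, 7, 3, 4, 8, 9, 6, 5, 4, 3, 7]), 1001, 0),
    ((0, [1, 2, 3, 4, 5, 6, 7, 3, 2, 1, 4, 3, 2, 5, 8, 7, 3, 2, 1, 0, 4, 3, 5, 4, 7, 8, 9, 6, 5, 4, 3, 2, 1, 7]), 1001, 0),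
    ((0, [1, 2, 3, 4, 5, 6, 7, 3, 2, 1, 4, 3, 5, 7, 8, 7, 3, 2, 1, 0, 4, 3, 5, 4, 7, 8, 9, 6, 5, 4, 3, 2, 7, 3]), 1001, 0),
    ((0, [1, 2, 3, 4, 5, 6, 7, 3, 2, 1, 4, 3, 5, 7, 8, 7, 3, 2, 1, 4, 3, 5, 4, 7, 8, 9, 6, 5, 4, 3, 2, 1, 7, 3]), 901, 0),
    ((0, [1, 2, 3, 4, 5, 6, 7, 3, 2, 1, 4, 3, 5, 7, 8, 7, 3, 2, 1, 4, 3, 2, 5, 4, 7, 8, 9, 6, 5, 4, 3, 2, 7, 3]), 901, 0),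
    ((0, [1, 2, 3, 4, 5, 6, 7, 3, 2, 1, 4, 3, 5, 8, 7, 3, 2, 1, 0, 4, 3, 2, 5, 4, 7, 8, 9, 6, 5, 4, 3, 2, 7, 3]), 1001, 0),
    ((0, [1, 2, 3, 4, 5, 6, 7, 3, 2, 1, 4, 3, 5, 7, 8, 7, 3, 2, 1, 4, 3, 5, 4, 6, 7, 8, 9, 6, 5, 4, 3, 2, 7, 3]), 901, 0),
    ((0, [1, 2, 3, 4, 5, 6, 7, 3, 2, 1, 4, 3, 5, 8, 7, 3, 2, 1, 4, 3, 2, 5, 4, 3, 7, 8, 9, 6, 5, 4, 3, 2, 7, 3]), 1001, 0),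
    ((0, [1, 2, 3, 4, 5, 6, 7, 3, 2, 1, 4, 3, 5, 8, 7, 3, 2, 1, 4, 3, 2, 5, 4, 6, 7, 8, 9, 6, 5, 4, 3, 2, 7, 3]), 901, 0),
    ((0, [1, 2, 3, 4, 5, 6, 7, 3, 2, 1, 4, 3, 8, 7, 3, 2, 1, 4, 3, 2, 5, 4, 3, 7, 8, 9, 6, 5, 4, 3, 2, 1, 7, 3]), 1001, 0),
    ((0, [1, 2, 3, 4, 5, 6, 7, 3, 2, 1, 4, 3, 5, 8, 7, 3, 2, 1, 0, 4, 3, 5, 4, 6, 7, 8, 9, 6, 5, 4, 3, 2, 7, 3]), 1001, 0),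
    ((0, [1, 2, 3, 4, 5, 6, 7, 3, 2, 1, 4, 3, 5, 8, 7, 3, 2, 1, 4, 3, 2, 5, 4, 7, 8, 9, 6, 5, 4, 3, 2, 7, 3, 8]), 901, 0),
    ((0, [1, 2, 3, 4, 5, 6, 7, 3, 2, 1, 4, 3, 2, 5, 8, 7, 3, 2, 1, 0, 4, 3, 5, 4, 7, 8, 9, 6, 5, 4, 3, 2, 7, 3]), 1001, 0),
    ((0, [1, 2, 3, 4, 5, 6, 7, 3, 2, 1, 4, 3, 2, 5, 8, 7, 3, 2, 1, 4, 3, 2, 5, 4, 7, 8, 9, 6, 5, 4, 3, 2, 7, 3]), 901, 0),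
    ((0, [1, 2, 3, 4, 5, 6, 7, 3, 2, 1, 4, 3, 2, 5, 7, 8, 7, 3, 2, 1, 4, 3, 5, 4, 7, 8, 9, 6, 5, 4, 3, 2, 7, 3]), 901, 0),
    ((0, [1, 2, 3, 4, 5, 6, 7, 3, 2, 1, 4, 3, 2, 8, 7, 3, 2, 1, 4, 3, 2, 5, 4, 3, 7, 8, 9, 6, 5, 4, 3, 2, 7, 3]), 1001, 0),
    ((0, [1, 2, 3, 4, 5, 6, 7, 3, 2, 1, 4, 3, 5, 7, 8, 7, 3, 2, 1, 4, 3, 5, 4, 7, 3, 8, 9, 6, 5, 4, 3, 2, 7, 3]), 901, 0),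
    ((0, [1, 2, 3, 4, 5, 6, 7, 3, 2, 1, 4, 3, 5, 8, 7, 3, 2, 1, 4, 3, 5, 4, 7, 3, 2, 8, 9, 6, 5, 4, 3, 2, 7, 3]), 901, 0),
    ((0, [1, 2, 3, 4, 5, 6, 7, 3, 2, 1, 4, 3, 5, 8, 7, 3, 2, 1, 0, 4, 3, 5, 4, 7, 3, 8, 9, 6, 5, 4, 3, 2, 7, 3]), 1001, 0),
    ((0, [1, 2, 3, 4, 5, 6, 7, 3, 2, 1, 4, 3, 2, 5, 8, 7, 3, 2, 1, 4, 3, 5, 4, 6, 7, 8, 9, 6, 5, 4, 3, 2, 7, 3]), 901, 0),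
    ((0, [1, 2, 3, 4, 5, 6, 7, 3, 2, 1, 4, 3, 2, 5, 8, 7, 3, 2, 1, 4, 3, 5, 4, 7, 3, 8, 9, 6, 5, 4, 3, 2, 7, 3]), 901, 0),
    ((0, [1, 2, 3, 4, 5, 6, 7, 3, 2, 1, 4, 3, 8, 7, 3, 2, 1, 4, 3, 2, 5, 4, 3, 7, 3, 8, 9, 6, 5, 4, 3, 2, 7, 3]), 1001, 0),
    ((0, [1, 2, 3, 4, 5, 6, 7, 3, 2, 1, 4, 3, 2, 5, 8, 7, 3, 2, 1, 4, 3, 5, 4, 7, 8, 9, 6, 5, 4, 3, 2, 1, 7, 3]), 901, 0),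
    ((0, [1, 2, 3, 4, 5, 6, 7, 3, 2, 1, 4, 3, 5, 8, 7, 3, 2, 1, 4, 3, 2, 5, 7, 8, 9, 6, 5, 4, 3, 2, 7, 3, 4, 5]), 1001, 0),
    ((0, [1, 2, 3, 4, 5, 6, 7, 3, 2, 1, 4, 3, 2, 5, 8, 7, 3, 2, 1, 4, 3, 2, 5, 7, 3, 4, 8, 7, 9, 6, 5, 4, 3, 7]), 1001, 0),
    ((0, [1, 2, 3, 4, 5, 6, 7, 3, 2, 1, 4, 3, 5, 8, 7, 3, 2, 1, 4, 3, 2, 5, 4, 7, 3, 2, 4, 8, 7, 9, 6, 5, 4, 3]), 1001, 0),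
    ((0, [1, 2, 3, 4, 5, 6, 7, 3, 2, 1, 4, 3, 2, 5, 8, 7, 3, 2, 1, 4, 3, 2, 5, 4, 7, 3, 2, 4, 8, 9, 6, 5, 4, 3]), 1001, 0),
    ((0, [1, 2, 3, 4, 5, 6, 7, 3, 2, 1, 4, 3, 2, 5, 8, 7, 3, 2, 1, 4, 3, 2, 5, 4, 3, 7, 3, 4, 8, 9, 6, 5, 4, 3]), 1001, 0),
    ((0, [1, 2, 3, 4, 5, 6, 7, 3, 2, 1, 4, 3, 5, 8, 7, 3, 2, 1, 4, 3, 2, 5, 4, 7, 3, 9, 6, 5, 4, 3, 2, 7, 3, 8]), 1001, 0),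
    ((0, [1, 2, 3, 4, 5, 6, 7, 3, 2, 1, 4, 3, 2, 5, 8, 7, 3, 2, 1, 0, 4, 3, 2, 5, 4, 6, 7, 3, 4, 8, 7, 9, 6, 5]), 1001, 0),
    ((0, [1, 2, 3, 4, 5, 6, 7, 3, 2, 1, 4, 3, 2, 5, 8, 7, 3, 2, 1, 0, 4, 3, 2, 5, 4, 6, 7, 3, 4, 5, 8, 9, 6, 5]), 1001, 0),
    ((0, [1, 2, 3, 4, 5, 6, 7, 3, 2, 1, 4, 3, 2, 5, 8, 7, 3, 2, 1, 0, 4, 3, 2, 5, 6, 7, 3, 4, 5, 8, 7, 9, 6, 5]), 1001, 0),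
    ((0, [1, 2, 3, 4, 5, 6, 7, 3, 2, 1, 4, 3, 2, 5, 8, 7, 3, 2, 1, 4, 3, 2, 5, 4, 3, 7, 3, 4, 5, 6, 8, 9, 6, 5]), 1001, 0),
    ((0, [1, 2, 3, 4, 5, 6, 7, 3, 2, 1, 4, 3, 5, 8, 7, 3, 2, 1, 4, 3, 2, 5, 4, 7, 3, 2, 1, 4, 5, 8, 7, 9, 6, 5]), 1001, 0),
    ((0, [1, 2, 3, 4, 5, 6, 7, 3, 2, 1, 4, 3, 2, 5, 4, 7, 8, 7, 3, 2, 1, 4, 3, 5, 4, 7, 3, 2, 8, 7, 3, 9, 6, 5]), 901, 0)]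

/-- Part 42 of the cycles. -/
def reps42 : List ((Nat × List Nat) × Nat × Nat) :=
  [
    ((0, [1, 2, 3, 4, 5, 6, 7, 3, 2, 1, 4, 3, 5, 8, 7, 3, 2, 1, 4, 3, 2, 5, 4, 7, 3, 2, 4, 5, 8, 7, 3, 9, 6, 5]), 1001, 0),
    ((0, [1, 2, 3, 4, 5, 6, 7, 3, 2, 1, 4, 3, 2, 5, 4, 8, 7, 3, 2, 1, 4, 3, 2, 5, 7, 3, 4, 8, 7, 3, 2, 9, 6, 5]), 1001, 0),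
    ((0, [1, 2, 3, 4, 5, 6, 7, 3, 2, 1, 4, 3, 5, 4, 8, 7, 3, 2, 1, 4, 3, 2, 5, 4, 7, 3, 2, 1, 8, 7, 3, 9, 6, 5]), 901, 0),
    ((0, [1, 2, 3, 4, 5, 6, 7, 3, 2, 1, 4, 5, 8, 7, 3, 2, 1, 4, 3, 2, 5, 4, 7, 3, 2, 1, 4, 5, 8, 7, 3, 9, 6, 5]), 1001, 0),
    ((0, [1, 2, 3, 4, 5, 6, 7, 3, 2, 1, 4, 3, 2, 5, 4, 8, 7, 3, 2, 1, 0, 4, 3, 5, 4, 7, 3, 2, 8, 7, 3, 9, 6, 5]), 1001, 0),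
    ((0, [1, 2, 3, 4, 5, 6, 7, 3, 2, 1, 4, 3, 2, 5, 4, 8, 7, 3, 2, 1, 4, 3, 2, 5, 4, 7, 3, 2, 8, 7, 3, 9, 6, 5]), 901, 0),
    ((0, [1, 2, 3, 4, 5, 6, 7, 3, 2, 1, 4, 3, 2, 5, 4, 8, 7, 3, 2, 1, 0, 4, 3, 2, 5, 7, 3, 4, 8, 7, 3, 9, 6, 5]), 901, 0),
    ((0, [1, 2, 3, 4, 5, 6, 7, 3, 2, 1, 4, 3, 2, 5, 4, 8, 7, 3, 2, 1, 4, 3, 2, 5, 4, 7, 3, 4, 8, 7, 3, 9, 6, 5]), 1001, 0),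
    ((0, [1, 2, 3, 4, 5, 6, 7, 3, 2, 1, 4, 3, 2, 5, 4, 8, 7, 3, 2, 1, 4, 3, 5, 4, 7, 3, 2, 1, 8, 7, 3, 9, 6, 5]), 901, 0),
    ((0, [1, 2, 3, 4, 5, 6, 7, 3, 2, 1, 4, 3, 2, 5, 8, 7, 3, 2, 1, 0, 4, 3, 2, 5, 6, 7, 3, 4, 8, 7, 3, 9, 6, 5]), 1001, 0),
    ((0, [1, 2, 3, 4, 5, 6, 7, 3, 2, 1, 4, 3, 2, 5, 7, 8, 7, 3, 2, 1, 4, 3, 2, 5, 7, 3, 4, 5, 8, 7, 3, 9, 6, 5]), 1001, 0),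
    ((0, [1, 2, 3, 4, 5, 6, 7, 3, 2, 1, 4, 3, 2, 5, 8, 7, 3, 2, 1, 0, 4, 3, 2, 5, 4, 7, 3, 4, 8, 7, 3, 9, 6, 5]), 1001, 0),
    ((0, [1, 2, 3, 4, 5, 6, 7, 3, 2, 1, 4, 3, 2, 5, 7, 8, 7, 3, 2, 1, 4, 3, 2, 5, 7, 3, 4, 8, 7, 3, 2, 9, 6, 5]), 1001, 0),
    ((0, [1, 2, 3, 4, 5, 6, 7, 3, 2, 1, 4, 5, 8, 7, 3, 2, 1, 4, 3, 2, 5, 4, 7, 3, 2, 4, 5, 8, 7, 9, 6, 5, 4, 3]), 1001, 0),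
    ((0, [1, 2, 3, 4, 5, 6, 7, 3, 2, 1, 4, 3, 2, 5, 8, 7, 3, 2, 1, 0, 4, 3, 2, 5, 7, 3, 4, 8, 7, 9, 6, 5, 4, 3]), 1001, 0),
    ((0, [1, 2, 3, 4, 5, 6, 7, 3, 2, 1, 4, 3, 2, 5, 4, 8, 7, 3, 2, 1, 4, 3, 2, 5, 7, 3, 4, 8, 7, 9, 6, 5, 4, 3]), 1001, 0),
    ((0, [1, 2, 3, 4, 5, 6, 7, 3, 2, 1, 4, 3, 2, 5, 8, 7, 3, 2, 1, 4, 3, 2, 5, 4, 6, 7, 3, 4, 8, 7, 3, 9, 6, 5]), 1001, 0),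
    ((0, [1, 2, 3, 4, 5, 6, 7, 3, 2, 1, 4, 3, 2, 5, 4, 8, 7, 3, 2, 1, 4, 3, 5, 4, 7, 3, 2, 8, 7, 9, 6, 5, 4, 3]), 901, 0),
    ((0, [1, 2, 3, 4, 5, 6, 7, 3, 2, 1, 4, 3, 2, 5, 8, 7, 3, 2, 1, 0, 4, 3, 2, 5, 7, 3, 4, 9, 6, 5, 4, 3, 7, 8]), 1001, 0),
    ((0, [1, 2, 3, 4, 5, 6, 7, 3, 2, 1, 4, 3, 5, 8, 7, 3, 2, 1, 4, 3, 2, 5, 4, 3, 7, 8, 9, 6, 5, 4, 3, 2, 1, 0]), 1001, 0),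
    ((0, [1, 2, 3, 4, 5, 6, 7, 3, 2, 1, 4, 3, 2, 5, 8, 7, 3, 2, 1, 0, 4, 3, 2, 5, 7, 3, 4, 8, 9, 6, 5, 4, 3, 2]), 1001, 0),
    ((0, [1, 2, 3, 4, 5, 6, 7, 3, 2, 1, 4, 3, 2, 5, 8, 7, 3, 2, 1, 0, 4, 3, 2, 5, 7, 3, 4, 8, 9, 6, 5, 4, 3, 7]), 1001, 0),
    ((0, [1, 2, 3, 4, 5, 6, 7, 3, 2, 1, 4, 3, 5, 7, 8, 7, 3, 2, 1, 4, 3, 2, 5, 7, 3, 4, 8, 9, 6, 5, 4, 3, 2, 1]), 1001, 0),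
    ((0, [1, 2, 3, 4, 5, 6, 7, 3, 2, 1, 4, 3, 5, 8, 7, 3, 2, 1, 0, 4, 3, 2, 5, 4, 7, 8, 9, 6, 5, 4, 3, 2, 1, 7]), 1001, 0),
    ((0, [1, 2, 3, 4, 5, 6, 7, 3, 2, 1, 4, 3, 5, 8, 7, 3, 2, 1, 0, 4, 3, 2, 5, 4, 7, 9, 6, 5, 4, 3, 2, 1, 7, 8]), 1001, 0),
    ((0, [1, 2, 3, 4, 5, 6, 7, 3, 2, 1, 4, 3, 5, 8, 7, 3, 2, 1, 0, 4, 3, 2, 5, 4, 7, 8, 9, 6, 5, 4, 3, 2, 1, 0]), 1001, 0),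
    ((0, [1, 2, 3, 4, 5, 6, 7, 3, 2, 1, 4, 3, 2, 5, 8, 7, 3, 2, 1, 0, 4, 3, 5, 4, 7, 8, 9, 6, 5, 4, 3, 2, 1, 0]), 1001, 0),
    ((0, [1, 2, 3, 4, 5, 6, 7, 3, 2, 1, 4, 3, 5, 8, 7, 3, 2, 1, 0, 4, 3, 5, 4, 6, 7, 8, 9, 6, 5, 4, 3, 2, 1, 0]), 1001, 0),
    ((0, [1, 2, 3, 4, 5, 6, 7, 3, 2, 1, 4, 3, 5, 7, 8, 7, 3, 2, 1, 4, 3, 2, 5, 4, 7, 8, 9, 6, 5, 4, 3, 2, 1, 0]), 1001, 0),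
    ((0, [1, 2, 3, 4, 5, 6, 7, 3, 2, 1, 4, 3, 8, 7, 3, 2, 1, 4, 3, 2, 5, 4, 3, 7, 3, 8, 9, 6, 5, 4, 3, 2, 1, 0]), 1001, 0),
    ((0, [1, 2, 3, 4, 5, 6, 7, 3, 2, 1, 4, 3, 5, 8, 7, 3, 2, 1, 0, 4, 3, 5, 4, 7, 8, 9, 6, 5, 4, 3, 2, 1, 7, 3]), 1001, 0),
    ((0, [1, 2, 3, 4, 5, 6, 7, 3, 2, 1, 4, 3, 5, 7, 8, 7, 3, 2, 1, 0, 4, 3, 5, 4, 7, 8, 9, 6, 5, 4, 3, 2, 1, 0]), 1001, 0),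
    ((0, [1, 2, 3, 4, 5, 6, 7, 3, 2, 1, 4, 3, 5, 8, 7, 3, 2, 1, 4, 3, 2, 5, 4, 3, 7, 3, 2, 4, 8, 9, 6, 5, 4, 3]), 1001, 0),
    ((0, [1, 2, 3, 4, 5, 6, 7, 3, 2, 1, 4, 3, 2, 5, 4, 7, 8, 7, 3, 2, 1, 4, 3, 2, 5, 4, 3, 7, 3, 4, 8, 9, 6, 5]), 1001, 0),
    ((0, [1, 2, 3, 4, 5, 6, 7, 3, 2, 1, 4, 3, 2, 5, 8, 7, 3, 2, 1, 4, 3, 2, 5, 4, 6, 7, 3, 4, 5, 6, 8, 9, 6, 5]), 1001, 0),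
    ((0, [1, 2, 3, 4, 5, 6, 7, 3, 2, 1, 4, 3, 2, 5, 8, 7, 3, 2, 1, 4, 3, 2, 5, 4, 6, 7, 3, 4, 5, 8, 7, 9, 6, 5]), 1001, 0),
    ((0, [1, 2, 3, 4, 5, 6, 7, 3, 2, 1, 4, 3, 5, 4, 8, 7, 3, 2, 1, 4, 3, 2, 5, 4, 7, 3, 2, 4, 8, 7, 3, 9, 6, 5]), 1001, 0),
    ((0, [1, 2, 3, 4, 5, 6, 7, 3, 2, 1, 4, 3, 5, 7, 8, 7, 3, 2, 1, 4, 3, 2, 5, 4, 7, 3, 2, 4, 8, 7, 3, 9, 6, 5]), 901, 0),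
    ((0, [1, 2, 3, 4, 5, 6, 7, 3, 2, 1, 4, 3, 5, 4, 8, 7, 3, 2, 1, 4, 3, 2, 5, 4, 3, 7, 3, 2, 8, 7, 3, 9, 6, 5]), 901, 0),
    ((0, [1, 2, 3, 4, 5, 6, 7, 3, 2, 1, 4, 3, 5, 8, 7, 3, 2, 1, 4, 3, 2, 5, 4, 3, 7, 3, 2, 4, 8, 7, 3, 9, 6, 5]), 1001, 0),
    ((0, [1, 2, 3, 4, 5, 6, 7, 3, 2, 1, 4, 3, 2, 5, 8, 7, 3, 2, 1, 4, 3, 2, 5, 4, 3, 7, 3, 4, 8, 7, 3, 9, 6, 5]), 1001, 0),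
    ((0, [1, 2, 3, 4, 5, 6, 7, 3, 2, 1, 4, 3, 2, 5, 8, 7, 3, 2, 1, 4, 3, 2, 5, 6, 7, 3, 4, 5, 6, 8, 7, 9, 6, 5]), 1001, 0),
    ((0, [1, 2, 3, 4, 5, 6, 7, 3, 2, 1, 4, 3, 2, 5, 8, 7, 3, 2, 1, 4, 3, 2, 5, 6, 7, 3, 4, 5, 8, 7, 3, 9, 6, 5]), 1001, 0),
    ((0, [1, 2, 3, 4, 5, 6, 7, 3, 2, 1, 4, 3, 5, 4, 8, 7, 3, 2, 1, 0, 4, 3, 5, 4, 7, 3, 2, 8, 7, 9, 6, 5, 4, 3]), 1001, 0),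
    ((0, [1, 2, 3, 4, 5, 6, 7, 3, 2, 1, 4, 3, 2, 5, 8, 7, 3, 2, 1, 4, 3, 2, 5, 4, 7, 3, 2, 4, 8, 7, 3, 9, 6, 5]), 1001, 0),
    ((0, [1, 2, 3, 4, 5, 6, 7, 3, 2, 1, 4, 3, 5, 8, 7, 3, 2, 1, 0, 4, 3, 5, 4, 7, 8, 9, 6, 5, 4, 3, 2, 1, 0, 7]), 1001, 0),
    ((0, [1, 2, 3, 4, 5, 6, 7, 3, 2, 1, 4, 3, 5, 8, 7, 3, 2, 1, 4, 3, 5, 4, 7, 8, 9, 6, 5, 4, 3, 2, 1, 0, 7, 3]), 1001, 0),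
    ((0, [1, 2, 3, 4, 5, 6, 7, 3, 2, 1, 4, 5, 8, 7, 3, 2, 1, 4, 3, 5, 4, 7, 3, 8, 9, 6, 5, 4, 3, 2, 7, 3, 4, 5]), 1001, 0),
    ((0, [1, 2, 3, 4, 5, 6, 7, 3, 2, 1, 4, 5, 8, 7, 3, 2, 1, 4, 3, 5, 4, 7, 8, 9, 6, 5, 4, 3, 2, 7, 3, 4, 5, 6]), 1001, 0),
    ((0, [1, 2, 3, 4, 5, 6, 7, 3, 2, 1, 4, 3, 8, 7, 3, 2, 1, 4, 3, 2, 5, 4, 3, 7, 8, 9, 6, 5, 4, 3, 2, 1, 0, 7]), 1001, 0),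
    ((0, [1, 2, 3, 4, 5, 6, 7, 3, 2, 1, 4, 5, 8, 7, 3, 2, 1, 4, 3, 2, 5, 4, 7, 3, 2, 4, 5, 9, 6, 5, 4, 3, 7, 8]), 1001, 0),
    ((0, [1, 2, 3, 4, 5, 6, 7, 3, 2, 1, 4, 5, 8, 7, 3, 2, 1, 4, 3, 2, 5, 4, 7, 3, 2, 4, 8, 7, 9, 6, 5, 4, 3, 2]), 1001, 0),
    ((0, [1, 2, 3, 4, 5, 6, 7, 3, 2, 1, 4, 3, 5, 8, 7, 3, 2, 1, 4, 3, 5, 6, 7, 8, 9, 6, 5, 4, 3, 2, 7, 3, 4, 5]), 1001, 0),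
    ((0, [1, 2, 3, 4, 5, 6, 7, 3, 2, 1, 4, 3, 5, 8, 7, 3, 2, 1, 4, 3, 5, 7, 8, 9, 6, 5, 4, 3, 2, 7, 3, 4, 5, 6]), 1001, 0),
    ((0, [1, 2, 3, 4, 5, 6, 7, 3, 2, 1, 4, 3, 5, 8, 7, 3, 2, 1, 4, 3, 5, 7, 8, 9, 6, 5, 4, 3, 2, 1, 7, 3, 4, 5]), 1001, 0),
    ((0, [1, 2, 3, 4, 5, 6, 7, 3, 2, 1, 4, 3, 2, 5, 8, 7, 3, 2, 1, 4, 3, 2, 5, 7, 3, 4, 8, 7, 9, 6, 5, 4, 3, 2]), 1001, 0),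
    ((0, [1, 2, 3, 4, 5, 6, 7, 3, 2, 1, 4, 3, 2, 5, 8, 7, 3, 2, 1, 4, 3, 2, 5, 7, 3, 4, 5, 8, 7, 3, 2, 9, 6, 5]), 1001, 0),
    ((0, [1, 2, 3, 4, 5, 6, 7, 3, 2, 1, 4, 3, 2, 5, 8, 7, 3, 2, 1, 4, 3, 2, 5, 6, 7, 3, 4, 8, 7, 3, 2, 9, 6, 5]), 1001, 0),
    ((0, [1, 2, 3, 4, 5, 6, 7, 3, 2, 1, 4, 3, 2, 5, 8, 7, 3, 2, 1, 0, 4, 3, 2, 5, 7, 3, 4, 8, 7, 3, 2, 9, 6, 5]), 1001, 0),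
    ((0, [1, 2, 3, 4, 5, 6, 7, 3, 2, 1, 4, 3, 5, 4, 8, 7, 3, 2, 1, 4, 3, 2, 5, 4, 7, 3, 2, 8, 7, 3, 4, 9, 6, 5]), 1001, 0),
    ((0, [1, 2, 3, 4, 5, 6, 7, 3, 2, 1, 4, 3, 5, 7, 8, 7, 3, 2, 1, 4, 3, 5, 7, 8, 9, 6, 5, 4, 3, 2, 7, 3, 4, 5]), 1001, 0),
    ((0, [1, 2, 3, 4, 5, 6, 7, 3, 2, 4, 3, 8, 7, 3, 2, 1, 4, 3, 2, 5, 4, 3, 7, 8, 9, 6, 5, 4, 3, 2, 7, 3, 4, 5]), 1001, 0),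
    ((0, [1, 2, 3, 4, 5, 6, 7, 3, 2, 1, 4, 3, 2, 5, 8, 7, 3, 2, 1, 4, 3, 5, 7, 8, 9, 6, 5, 4, 3, 2, 7, 3, 4, 5]), 1001, 0),
    ((0, [1, 2, 3, 4, 5, 6, 7, 3, 2, 1, 4, 3, 2, 5, 8, 7, 3, 2, 1, 4, 3, 2, 5, 7, 3, 4, 8, 7, 3, 2, 1, 9, 6, 5]), 1001, 0),
    ((0, [1, 2, 3, 4, 5, 6, 7, 3, 2, 1, 4, 3, 2, 5, 4, 8, 7, 3, 2, 1, 4, 3, 2, 5, 4, 6, 5, 7, 9, 6, 5, 4, 3, 7, 8]), 1001, 0),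
    ((0, [1, 2, 3, 4, 5, 6, 7, 3, 2, 1, 4, 3, 2, 5, 7, 8, 7, 3, 2, 1, 0, 4, 3, 2, 1, 5, 4, 7, 8, 9, 6, 5, 4, 3, 7]), 1001, 0),
    ((0, [1, 2, 3, 4, 5, 6, 7, 3, 2, 1, 4, 3, 2, 5, 4, 8, 7, 3, 2, 1, 0, 4, 3, 2, 5, 4, 3, 7, 8, 9, 6, 5, 4, 3, 7]), 1001, 0),
    ((0, [1, 2, 3, 4, 5, 6, 7, 3, 2, 1, 4, 3, 2, 5, 4, 7, 8, 7, 3, 2, 1, 4, 3, 2, 5, 4, 3, 7, 8, 9, 6, 5, 4, 3, 7]), 1001, 0),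
    ((0, [1, 2, 3, 4, 5, 6, 7, 3, 2, 1, 4, 3, 2, 5, 4, 8, 7, 3, 2, 1, 4, 3, 2, 5, 7, 3, 4, 5, 9, 6, 5, 4, 3, 7, 8]), 1001, 0),
    ((0, [1, 2, 3, 4, 5, 6, 7, 3, 2, 1, 4, 3, 5, 8, 7, 3, 2, 1, 4, 3, 2, 5, 4, 6, 7, 3, 4, 5, 8, 9, 6, 5, 4, 3, 7]), 1001, 0),
    ((0, [1, 2, 3, 4, 5, 6, 7, 3, 2, 1, 4, 3, 2, 5, 4, 7, 8, 7, 3, 2, 1, 4, 3, 2, 5, 4, 3, 7, 8, 9, 6, 5, 4, 3, 2]), 1001, 0),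
    ((0, [1, 2, 3, 4, 5, 6, 7, 3, 2, 1, 4, 3, 2, 5, 8, 7, 3, 2, 1, 0, 4, 3, 2, 1, 5, 4, 6, 7, 8, 9, 6, 5, 4, 3, 2]), 1001, 0),
    ((0, [1, 2, 3, 4, 5, 6, 7, 3, 2, 1, 4, 3, 2, 5, 4, 8, 7, 3, 2, 1, 0, 4, 3, 2, 5, 4, 6, 5, 7, 8, 9, 6, 5, 4, 3]), 1001, 0),
    ((0, [1, 2, 3, 4, 5, 6, 7, 3, 2, 1, 4, 3, 5, 7, 8, 7, 3, 2, 1, 4, 3, 5, 4, 7, 3, 2, 9, 6, 5, 4, 3, 2, 1, 7, 8]), 1001, 0),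
    ((0, [1, 2, 3, 4, 5, 6, 7, 3, 2, 1, 4, 3, 2, 5, 8, 7, 3, 2, 1, 0, 4, 3, 2, 1, 5, 4, 6, 7, 8, 9, 6, 5, 4, 3, 7]), 1001, 0),
    ((0, [1, 2, 3, 4, 5, 6, 7, 3, 2, 1, 4, 3, 8, 7, 3, 2, 1, 4, 3, 2, 5, 4, 3, 7, 3, 2, 1, 0, 8, 9, 6, 5, 4, 3, 7]), 1001, 0),
    ((0, [1, 2, 3, 4, 5, 6, 7, 3, 2, 1, 4, 3, 2, 5, 4, 8, 7, 3, 2, 1, 4, 3, 2, 5, 4, 6, 5, 7, 8, 9, 6, 5, 4, 3, 2]), 1001, 0),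
    ((0, [1, 2, 3, 4, 5, 6, 7, 3, 2, 1, 4, 3, 2, 5, 4, 8, 7, 3, 2, 1, 0, 4, 3, 2, 5, 4, 3, 6, 7, 8, 9, 6, 5, 4, 3]), 1001, 0),
    ((0, [1, 2, 3, 4, 5, 6, 7, 3, 2, 1, 4, 3, 5, 4, 8, 7, 3, 2, 1, 4, 3, 2, 5, 7, 3, 4, 5, 6, 8, 9, 6, 5, 4, 3, 7]), 1001, 0),
    ((0, [1, 2, 3, 4, 5, 6, 7, 3, 2, 1, 4, 3, 2, 5, 4, 8, 7, 3, 2, 1, 4, 3, 2, 5, 4, 3, 6, 7, 8, 9, 6, 5, 4, 3, 7]), 1001, 0),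
    ((0, [1, 2, 3, 4, 5, 6, 7, 3, 2, 1, 4, 3, 2, 5, 8, 7, 3, 2, 1, 4, 3, 5, 4, 7, 3, 2, 1, 0, 8, 9, 6, 5, 4, 3, 7]), 1001, 0),
    ((0, [1, 2, 3, 4, 5, 6, 7, 3, 2, 1, 4, 3, 5, 4, 7, 8, 7, 3, 2, 1, 4, 3, 5, 4, 7, 3, 2, 1, 9, 6, 5, 4, 3, 7, 8]), 1001, 0),
    ((0, [1, 2, 3, 4, 5, 6, 7, 3, 2, 1, 4, 3, 2, 5, 4, 8, 7, 3, 2, 1, 4, 3, 2, 5, 4, 3, 6, 7, 8, 9, 6, 5, 4, 3, 2]), 1001, 0),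
    ((0, [1, 2, 3, 4, 5, 6, 7, 3, 2, 1, 4, 3, 2, 5, 8, 7, 3, 2, 1, 4, 3, 5, 4, 7, 3, 2, 1, 0, 8, 9, 6, 5, 4, 3, 2]), 1001, 0),
    ((0, [1, 2, 3, 4, 5, 6, 7, 3, 2, 1, 4, 3, 5, 4, 7, 8, 7, 3, 2, 1, 4, 3, 2, 5, 4, 6, 7, 8, 9, 6, 5, 4, 3, 7, 8]), 1001, 0),
    ((0, [1, 2, 3, 4, 5, 6, 7, 3, 2, 1, 4, 3, 2, 5, 7, 8, 7, 3, 2, 1, 0, 4, 3, 2, 5, 4, 7, 9, 6, 5, 4, 3, 2, 7, 8]), 1001, 0),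
    ((0, [1, 2, 3, 4, 5, 6, 7, 3, 2, 1, 4, 3, 2, 5, 7, 8, 7, 3, 2, 1, 0, 4, 3, 2, 5, 4, 7, 8, 9, 6, 5, 4, 3, 7, 8]), 1001, 0),
    ((0, [1, 2, 3, 4, 5, 6, 7, 3, 2, 1, 4, 3, 2, 5, 4, 7, 8, 7, 3, 2, 1, 4, 3, 2, 5, 4, 7, 8, 9, 6, 5, 4, 3, 7, 8]), 1001, 0),
    ((0, [1, 2, 3, 4, 5, 6, 7, 3, 2, 1, 4, 3, 2, 5, 7, 8, 7, 3, 2, 1, 4, 3, 2, 5, 4, 7, 8, 9, 6, 5, 4, 3, 2, 7, 8]), 1001, 0),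
    ((0, [1, 2, 3, 4, 5, 6, 7, 3, 2, 1, 4, 3, 5, 4, 7, 8, 7, 3, 2, 1, 4, 3, 2, 5, 4, 3, 7, 8, 9, 6, 5, 4, 3, 7, 8]), 1001, 0),
    ((0, [1, 2, 3, 4, 5, 6, 7, 3, 2, 1, 4, 3, 2, 5, 8, 7, 3, 2, 1, 0, 4, 3, 2, 1, 5, 4, 7, 8, 9, 6, 5, 4, 3, 7, 8]), 1001, 0),
    ((0, [1, 2, 3, 4, 5, 6, 7, 3, 2, 1, 4, 3, 2, 5, 4, 8, 7, 3, 2, 1, 4, 3, 2, 5, 7, 3, 4, 5, 8, 9, 6, 5, 4, 3, 2]), 1001, 0),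
    ((0, [1, 2, 3, 4, 5, 6, 7, 3, 2, 1, 4, 3, 2, 5, 8, 7, 3, 2, 1, 0, 4, 3, 2, 1, 5, 4, 3, 7, 9, 6, 5, 4, 3, 7, 8]), 1001, 0),
    ((0, [1, 2, 3, 4, 5, 6, 7, 3, 2, 1, 4, 3, 2, 5, 8, 7, 3, 2, 1, 0, 4, 3, 2, 5, 4, 3, 7, 9, 6, 5, 4, 3, 2, 7, 8]), 1001, 0),
    ((0, [1, 2, 3, 4, 5, 6, 7, 3, 2, 1, 4, 3, 2, 5, 8, 7, 3, 2, 1, 0, 4, 3, 2, 5, 4, 3, 7, 8, 9, 6, 5, 4, 3, 7, 8]), 1001, 0),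
    ((0, [1, 2, 3, 4, 5, 6, 7, 3, 2, 1, 4, 3, 2, 5, 7, 8, 7, 3, 2, 1, 4, 3, 2, 5, 4, 3, 7, 8, 9, 6, 5, 4, 3, 7, 8]), 1001, 0),
    ((0, [1, 2, 3, 4, 5, 6, 7, 3, 2, 1, 4, 3, 5, 4, 7, 8, 7, 3, 2, 1, 4, 3, 2, 5, 4, 6, 7, 9, 6, 5, 4, 3, 2, 7, 8]), 1001, 0),
    ((0, [1, 2, 3, 4, 5, 6, 7, 3, 2, 1, 4, 3, 2, 5, 8, 7, 3, 2, 1, 0, 4, 3, 2, 5, 4, 6, 7, 8, 9, 6, 5, 4, 3, 7, 8]), 1001, 0),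
    ((0, [1, 2, 3, 4, 5, 6, 7, 3, 2, 1, 4, 3, 2, 5, 8, 7, 3, 2, 1, 0, 4, 3, 2, 1, 5, 4, 6, 7, 9, 6, 5, 4, 3, 7, 8]), 1001, 0),
    ((0, [1, 2, 3, 4, 5, 6, 7, 3, 2, 1, 4, 3, 2, 5, 8, 7, 3, 2, 1, 0, 4, 3, 5, 4, 7, 3, 2, 9, 6, 5, 4, 3, 2, 7, 8]), 1001, 0),
    ((0, [1, 2, 3, 4, 5, 6, 7, 3, 2, 1, 4, 3, 2, 5, 8, 7, 3, 2, 1, 0, 4, 3, 5, 4, 7, 3, 2, 8, 9, 6, 5, 4, 3, 7, 8]), 1001, 0),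
    ((0, [1, 2, 3, 4, 5, 6, 7, 3, 2, 1, 4, 3, 2, 5, 8, 7, 3, 2, 1, 4, 3, 5, 4, 7, 3, 2, 1, 8, 9, 6, 5, 4, 3, 7, 8]), 1001, 0),
    ((0, [1, 2, 3, 4, 5, 6, 7, 3, 2, 1, 4, 3, 2, 5, 8, 7, 3, 2, 1, 4, 3, 2, 5, 4, 6, 5, 7, 8, 9, 6, 5, 4, 3, 7, 8]), 1001, 0),
    ((0, [1, 2, 3, 4, 5, 6, 7, 3, 2, 1, 4, 3, 8, 7, 3, 2, 1, 4, 3, 2, 5, 4, 3, 7, 3, 2, 1, 8, 9, 6, 5, 4, 3, 7, 8]), 1001, 0),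
    ((0, [1, 2, 3, 4, 5, 6, 7, 3, 2, 1, 4, 3, 2, 5, 4, 8, 7, 3, 2, 1, 4, 3, 2, 5, 4, 3, 6, 7, 9, 6, 5, 4, 3, 7, 8]), 1001, 0),
    ((0, [1, 2, 3, 4, 5, 6, 7, 3, 2, 1, 4, 3, 5, 4, 7, 8, 7, 3, 2, 1, 4, 3, 5, 4, 7, 3, 2, 1, 8, 9, 6, 5, 4, 3, 2]), 1001, 0),
    ((0, [1, 2, 3, 4, 5, 6, 7, 3, 2, 1, 4, 3, 5, 4, 8, 7, 3, 2, 1, 4, 3, 2, 5, 4, 6, 5, 7, 8, 9, 6, 5, 4, 3, 2, 1]), 1001, 0),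
    ((0, [1, 2, 3, 4, 5, 6, 7, 3, 2, 1, 4, 3, 2, 5, 8, 7, 3, 2, 1, 4, 3, 5, 4, 7, 3, 2, 1, 9, 6, 5, 4, 3, 2, 7, 8]), 1001, 0),
    ((0, [1, 2, 3, 4, 5, 6, 7, 3, 2, 1, 4, 3, 2, 5, 7, 8, 7, 3, 2, 1, 4, 3, 2, 5, 4, 3, 7, 9, 6, 5, 4, 3, 2, 7, 8]), 1001, 0),
    ((0, [1, 2, 3, 4, 5, 6, 7, 3, 2, 1, 4, 3, 2, 5, 8, 7, 3, 2, 1, 0, 4, 3, 2, 5, 4, 6, 7, 9, 6, 5, 4, 3, 2, 7, 8]), 1001, 0),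
    ((0, [1, 2, 3, 4, 5, 6, 7, 3, 2, 1, 4, 3, 2, 5, 8, 7, 3, 2, 1, 4, 3, 2, 5, 4, 6, 5, 7, 9, 6, 5, 4, 3, 2, 7, 8]), 1001, 0),
    ((0, [1, 2, 3, 4, 5, 6, 7, 3, 2, 1, 4, 3, 5, 7, 8, 7, 3, 2, 1, 4, 3, 2, 5, 4, 7, 3, 2, 8, 9, 6, 5, 4, 3, 7, 8]), 1001, 0),
    ((0, [1, 2, 3, 4, 5, 6, 7, 3, 2, 1, 4, 3, 5, 7, 8, 7, 3, 2, 1, 4, 3, 2, 5, 4, 7, 3, 2, 9, 6, 5, 4, 3, 2, 7, 8]), 1001, 0),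
    ((0, [1, 2, 3, 4, 5, 6, 7, 3, 2, 1, 4, 3, 2, 5, 8, 7, 3, 2, 1, 4, 3, 2, 5, 4, 6, 7, 8, 9, 6, 5, 4, 3, 2, 1, 0]), 1001, 0),
    ((0, [1, 2, 3, 4, 5, 6, 7, 3, 2, 1, 4, 3, 5, 7, 8, 7, 3, 2, 1, 4, 3, 5, 4, 7, 3, 2, 8, 9, 6, 5, 4, 3, 2, 1, 0]), 1001, 0),
    ((0, [1, 2, 3, 4, 5, 6, 7, 3, 2, 1, 4, 3, 2, 5, 4, 8, 7, 3, 2, 1, 4, 3, 2, 5, 7, 3, 4, 5, 6, 8, 9, 6, 5, 4, 3]), 1001, 0),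
    ((0, [1, 2, 3, 4, 5, 6, 7, 3, 2, 1, 4, 5, 8, 7, 3, 2, 1, 4, 3, 2, 5, 4, 7, 3, 4, 5, 8, 9, 6, 5, 4, 3, 2, 1, 0]), 1001, 0),
    ((0, [1, 2, 3, 4, 5, 6, 7, 3, 2, 1, 4, 3, 5, 4, 8, 7, 3, 2, 1, 4, 3, 5, 4, 7, 3, 2, 1, 9, 6, 5, 4, 3, 2, 7, 8]), 1001, 0),
    ((0, [1, 2, 3, 4, 5, 6, 7, 3, 2, 1, 4, 3, 5, 8, 7, 3, 2, 4, 3, 5, 4, 7, 3, 2, 1, 0, 8, 9, 6, 5, 4, 3, 2, 1, 7]), 1001, 0),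
    ((0, [1, 2, 3, 4, 5, 6, 7, 3, 2, 1, 4, 3, 5, 4, 7, 8, 7, 3, 2, 1, 4, 3, 5, 4, 7, 3, 2, 9, 6, 5, 4, 3, 2, 7, 8]), 1001, 0)]

/-- Part 43 of the cycles. -/
def reps43 : List ((Nat × List Nat) × Nat × Nat) :=
  [
    ((0, [1, 2, 3, 4, 5, 6, 7, 3, 2, 1, 4, 3, 2, 5, 8, 7, 3, 2, 4, 3, 5, 4, 7, 3, 2, 1, 0, 8, 9, 6, 5, 4, 3, 2, 1]), 1001, 0),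
    ((0, [1, 2, 3, 4, 5, 6, 7, 3, 2, 1, 4, 3, 2, 5, 4, 8, 7, 3, 2, 1, 4, 3, 5, 4, 7, 3, 2, 1, 9, 6, 5, 4, 3, 7, 8]), 1001, 0),
    ((0, [1, 2, 3, 4, 5, 6, 7, 3, 2, 1, 4, 3, 2, 5, 7, 8, 7, 3, 2, 1, 0, 4, 3, 2, 5, 7, 3, 4, 9, 6, 5, 4, 3, 7, 8]), 1001, 0),
    ((0, [1, 2, 3, 4, 5, 6, 7, 3, 2, 1, 4, 3, 2, 5, 4, 7, 8, 7, 3, 2, 1, 4, 3, 5, 4, 7, 3, 2, 9, 6, 5, 4, 3, 7, 8]), 1001, 0),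
    ((0, [1, 2, 3, 4, 5, 6, 7, 3, 2, 1, 4, 3, 5, 8, 7, 3, 2, 1, 4, 3, 2, 5, 6, 7, 3, 4, 8, 9, 6, 5, 4, 3, 2, 1, 7]), 1001, 0),
    ((0, [1, 2, 3, 4, 5, 6, 7, 3, 2, 1, 4, 3, 5, 8, 7, 3, 2, 1, 4, 3, 2, 5, 7, 3, 4, 5, 8, 9, 6, 5, 4, 3, 2, 1, 7]), 1001, 0),
    ((0, [1, 2, 3, 4, 5, 6, 7, 3, 2, 1, 4, 3, 5, 4, 8, 7, 3, 2, 1, 4, 3, 5, 4, 7, 3, 2, 1, 8, 9, 6, 5, 4, 3, 7, 8]), 1001, 0),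
    ((0, [1, 2, 3, 4, 5, 6, 7, 3, 2, 1, 4, 3, 5, 4, 7, 8, 7, 3, 2, 1, 4, 3, 5, 4, 7, 3, 2, 8, 9, 6, 5, 4, 3, 7, 8]), 1001, 0),
    ((0, [1, 2, 3, 4, 5, 6, 7, 3, 2, 1, 4, 3, 2, 5, 4, 8, 7, 3, 2, 1, 4, 3, 5, 4, 7, 3, 2, 1, 8, 9, 6, 5, 4, 3, 2]), 1001, 0),
    ((0, [1, 2, 3, 4, 5, 6, 7, 3, 2, 1, 4, 3, 2, 5, 7, 8, 7, 3, 2, 1, 0, 4, 3, 2, 5, 7, 3, 4, 8, 9, 6, 5, 4, 3, 2]), 1001, 0),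
    ((0, [1, 2, 3, 4, 5, 6, 7, 3, 2, 1, 4, 3, 2, 5, 4, 7, 8, 7, 3, 2, 1, 4, 3, 5, 4, 7, 3, 2, 8, 9, 6, 5, 4, 3, 2]), 1001, 0),
    ((0, [1, 2, 3, 4, 5, 6, 7, 3, 2, 1, 4, 3, 2, 5, 4, 8, 7, 3, 2, 1, 4, 3, 5, 4, 7, 3, 2, 1, 8, 9, 6, 5, 4, 3, 7]), 1001, 0),
    ((0, [1, 2, 3, 4, 5, 6, 7, 3, 2, 1, 4, 3, 2, 5, 7, 8, 7, 3, 2, 1, 0, 4, 3, 2, 5, 7, 3, 4, 8, 9, 6, 5, 4, 3, 7]), 1001, 0),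
    ((0, [1, 2, 3, 4, 5, 6, 7, 3, 2, 1, 4, 3, 2, 5, 4, 7, 8, 7, 3, 2, 1, 4, 3, 5, 4, 7, 3, 2, 8, 9, 6, 5, 4, 3, 7]), 1001, 0),
    ((0, [1, 2, 3, 4, 5, 6, 7, 3, 2, 1, 4, 3, 5, 8, 7, 3, 2, 1, 4, 3, 2, 5, 7, 3, 4, 8, 9, 6, 5, 4, 3, 2, 1, 7, 3]), 1001, 0),
    ((0, [1, 2, 3, 4, 5, 6, 7, 3, 2, 1, 4, 3, 5, 8, 7, 3, 2, 1, 4, 3, 5, 4, 7, 3, 2, 8, 9, 6, 5, 4, 3, 2, 1, 7, 8]), 1001, 0),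
    ((0, [1, 2, 3, 4, 5, 6, 7, 3, 2, 1, 4, 3, 5, 7, 8, 7, 3, 2, 1, 4, 3, 2, 5, 4, 7, 8, 9, 6, 5, 4, 3, 2, 1, 7, 8]), 1001, 0),
    ((0, [1, 2, 3, 4, 5, 6, 7, 3, 2, 1, 4, 3, 2, 5, 7, 8, 7, 3, 2, 1, 4, 3, 2, 5, 4, 7, 9, 6, 5, 4, 3, 2, 1, 7, 8]), 1001, 0),
    ((0, [1, 2, 3, 4, 5, 6, 7, 3, 2, 1, 4, 3, 5, 8, 7, 3, 2, 1, 4, 3, 5, 4, 7, 3, 2, 1, 9, 6, 5, 4, 3, 2, 1, 7, 8]), 1001, 0),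
    ((0, [1, 2, 3, 4, 5, 6, 7, 3, 2, 1, 4, 3, 5, 4, 7, 8, 7, 3, 2, 1, 4, 3, 2, 5, 4, 7, 9, 6, 5, 4, 3, 2, 1, 7, 8]), 1001, 0),
    ((0, [1, 2, 3, 4, 5, 6, 7, 3, 2, 1, 4, 3, 2, 5, 8, 7, 3, 2, 1, 4, 3, 5, 4, 7, 3, 2, 9, 6, 5, 4, 3, 2, 1, 7, 8]), 1001, 0),
    ((0, [1, 2, 3, 4, 5, 6, 7, 3, 2, 1, 4, 3, 5, 7, 8, 7, 3, 2, 1, 4, 3, 2, 5, 4, 6, 7, 9, 6, 5, 4, 3, 2, 1, 7, 8]), 1001, 0),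
    ((0, [1, 2, 3, 4, 5, 6, 7, 3, 2, 1, 4, 3, 5, 8, 7, 3, 2, 1, 4, 3, 5, 4, 7, 3, 2, 1, 8, 9, 6, 5, 4, 3, 2, 1, 0]), 1001, 0),
    ((0, [1, 2, 3, 4, 5, 6, 7, 3, 2, 1, 4, 3, 2, 5, 4, 7, 8, 7, 3, 2, 1, 4, 3, 2, 5, 7, 3, 4, 8, 9, 6, 5, 4, 3, 2]), 1001, 0),
    ((0, [1, 2, 3, 4, 5, 6, 7, 3, 2, 1, 4, 3, 2, 5, 8, 7, 3, 2, 1, 4, 3, 2, 5, 7, 3, 4, 5, 6, 8, 9, 6, 5, 4, 3, 2]), 1001, 0),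
    ((0, [1, 2, 3, 4, 5, 6, 7, 3, 2, 1, 4, 3, 5, 8, 7, 3, 2, 1, 4, 3, 2, 5, 4, 7, 3, 2, 1, 4, 8, 9, 6, 5, 4, 3, 2]), 1001, 0),
    ((0, [1, 2, 3, 4, 5, 6, 7, 3, 2, 1, 4, 3, 2, 5, 4, 7, 8, 7, 3, 2, 1, 4, 3, 2, 5, 7, 3, 4, 8, 9, 6, 5, 4, 3, 7]), 1001, 0),
    ((0, [1, 2, 3, 4, 5, 6, 7, 3, 2, 1, 4, 3, 2, 5, 8, 7, 3, 2, 1, 4, 3, 2, 5, 7, 3, 4, 5, 6, 8, 9, 6, 5, 4, 3, 7]), 1001, 0),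
    ((0, [1, 2, 3, 4, 5, 6, 7, 3, 2, 1, 4, 3, 5, 8, 7, 3, 2, 1, 4, 3, 5, 4, 7, 3, 2, 9, 6, 5, 4, 3, 2, 1, 0, 7, 8]), 1001, 0),
    ((0, [1, 2, 3, 4, 5, 6, 7, 3, 2, 1, 4, 3, 2, 5, 4, 7, 8, 7, 3, 2, 1, 4, 3, 2, 5, 7, 3, 4, 9, 6, 5, 4, 3, 7, 8]), 1001, 0),
    ((0, [1, 2, 3, 4, 5, 6, 7, 3, 2, 1, 4, 3, 2, 5, 8, 7, 3, 2, 1, 4, 3, 2, 5, 7, 3, 4, 5, 6, 9, 6, 5, 4, 3, 7, 8]), 1001, 0),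
    ((0, [1, 2, 3, 4, 5, 6, 7, 3, 2, 1, 4, 3, 5, 8, 7, 3, 2, 1, 4, 3, 2, 5, 7, 3, 8, 9, 6, 5, 4, 3, 2, 7, 3, 4, 5]), 1001, 0),
    ((0, [1, 2, 3, 4, 5, 6, 7, 3, 2, 1, 4, 3, 5, 8, 7, 3, 2, 1, 0, 4, 3, 5, 4, 7, 3, 2, 8, 9, 6, 5, 4, 3, 2, 1, 7]), 1001, 0),
    ((0, [1, 2, 3, 4, 5, 6, 7, 3, 2, 1, 4, 3, 2, 5, 7, 8, 7, 3, 2, 1, 4, 3, 2, 5, 4, 7, 8, 9, 6, 5, 4, 3, 2, 1, 0]), 1001, 0),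
    ((0, [1, 2, 3, 4, 5, 6, 7, 3, 2, 1, 4, 3, 5, 8, 7, 3, 2, 1, 4, 3, 5, 4, 7, 3, 2, 8, 9, 6, 5, 4, 3, 2, 1, 0, 7]), 1001, 0),
    ((0, [1, 2, 3, 4, 5, 6, 7, 3, 2, 1, 4, 5, 8, 7, 3, 2, 1, 4, 3, 2, 5, 4, 7, 3, 2, 4, 8, 9, 6, 5, 4, 3, 2, 1, 7]), 1001, 0),
    ((0, [1, 2, 3, 4, 5, 6, 7, 3, 2, 1, 4, 5, 8, 7, 3, 2, 1, 4, 3, 2, 5, 4, 7, 3, 2, 4, 8, 9, 6, 5, 4, 3, 2, 7, 8]), 1001, 0),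
    ((0, [1, 2, 3, 4, 5, 6, 7, 3, 2, 1, 4, 3, 2, 5, 4, 7, 8, 7, 3, 2, 1, 4, 3, 2, 5, 7, 3, 4, 8, 7, 9, 6, 5, 4, 3]), 1001, 0),
    ((0, [1, 2, 3, 4, 5, 6, 7, 3, 2, 1, 4, 3, 2, 5, 8, 7, 3, 2, 1, 4, 3, 2, 5, 7, 3, 4, 5, 8, 7, 9, 6, 5, 4, 3, 7]), 1001, 0),
    ((0, [1, 2, 3, 4, 5, 6, 7, 3, 2, 1, 4, 3, 2, 5, 7, 8, 7, 3, 2, 1, 4, 3, 2, 5, 7, 3, 4, 8, 7, 9, 6, 5, 4, 3, 7]), 1001, 0),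
    ((0, [1, 2, 3, 4, 5, 6, 7, 3, 2, 1, 4, 3, 2, 5, 8, 7, 3, 2, 1, 4, 3, 2, 5, 7, 3, 4, 5, 6, 8, 7, 9, 6, 5, 4, 3]), 1001, 0),
    ((0, [1, 2, 3, 4, 5, 6, 7, 3, 2, 1, 4, 5, 8, 7, 3, 2, 1, 4, 3, 2, 5, 4, 7, 3, 2, 1, 4, 8, 7, 9, 6, 5, 4, 3, 7]), 1001, 0),
    ((0, [1, 2, 3, 4, 5, 6, 7, 3, 2, 1, 4, 5, 8, 7, 3, 2, 1, 4, 3, 2, 5, 4, 7, 3, 2, 4, 8, 7, 9, 6, 5, 4, 3, 7, 8]), 1001, 0),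
    ((0, [1, 2, 3, 4, 5, 6, 7, 3, 2, 1, 4, 3, 2, 5, 4, 8, 7, 3, 2, 1, 4, 3, 2, 5, 7, 3, 4, 5, 8, 7, 9, 6, 5, 4, 3]), 1001, 0),
    ((0, [1, 2, 3, 4, 5, 6, 7, 3, 2, 1, 4, 3, 2, 5, 7, 8, 7, 3, 2, 1, 0, 4, 3, 2, 5, 7, 3, 4, 8, 7, 9, 6, 5, 4, 3]), 901, 0),
    ((0, [1, 2, 3, 4, 5, 6, 7, 3, 2, 1, 4, 3, 5, 4, 7, 8, 7, 3, 2, 1, 4, 3, 5, 4, 7, 3, 2, 8, 7, 9, 6, 5, 4, 3, 7]), 901, 0),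
    ((0, [1, 2, 3, 4, 5, 6, 7, 3, 2, 1, 4, 3, 2, 5, 4, 7, 8, 7, 3, 2, 1, 4, 3, 2, 5, 4, 7, 3, 4, 8, 7, 3, 9, 6, 5]), 1001, 0),
    ((0, [1, 2, 3, 4, 5, 6, 7, 3, 2, 1, 4, 3, 2, 5, 4, 8, 7, 3, 2, 1, 4, 3, 2, 5, 4, 7, 3, 2, 8, 7, 3, 4, 9, 6, 5]), 1001, 0),
    ((0, [1, 2, 3, 4, 5, 6, 7, 3, 2, 1, 4, 3, 2, 5, 4, 8, 7, 3, 2, 1, 4, 3, 2, 5, 4, 7, 3, 4, 5, 8, 7, 3, 9, 6, 5]), 1001, 0),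
    ((0, [1, 2, 3, 4, 5, 6, 7, 3, 2, 1, 4, 3, 2, 5, 4, 8, 7, 3, 2, 1, 4, 3, 2, 5, 7, 3, 4, 5, 6, 8, 7, 3, 9, 6, 5]), 1001, 0),
    ((0, [1, 2, 3, 4, 5, 6, 7, 3, 2, 1, 4, 3, 2, 5, 7, 8, 7, 3, 2, 1, 0, 4, 3, 2, 5, 4, 7, 3, 4, 8, 7, 3, 9, 6, 5]), 901, 0),
    ((0, [1, 2, 3, 4, 5, 6, 7, 3, 2, 1, 4, 3, 2, 5, 4, 8, 7, 3, 2, 1, 0, 4, 3, 2, 5, 7, 3, 4, 5, 8, 7, 3, 9, 6, 5]), 901, 0),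
    ((0, [1, 2, 3, 4, 5, 6, 7, 3, 2, 1, 4, 3, 5, 4, 7, 8, 7, 3, 2, 1, 4, 3, 2, 5, 4, 7, 3, 2, 1, 8, 7, 3, 9, 6, 5]), 901, 0),
    ((0, [1, 2, 3, 4, 5, 6, 7, 3, 2, 1, 4, 3, 2, 5, 4, 8, 7, 3, 2, 1, 4, 3, 2, 5, 4, 3, 7, 8, 9, 6, 5, 4, 3, 2, 1]), 1001, 0),
    ((0, [1, 2, 3, 4, 5, 6, 7, 3, 2, 1, 4, 3, 2, 5, 8, 7, 3, 2, 1, 4, 3, 2, 5, 7, 3, 4, 8, 9, 6, 5, 4, 3, 2, 7, 8]), 1001, 0),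
    ((0, [1, 2, 3, 4, 5, 6, 7, 3, 2, 1, 4, 3, 2, 5, 8, 7, 3, 2, 1, 4, 3, 2, 5, 4, 3, 7, 8, 9, 6, 5, 4, 3, 2, 1, 7]), 1001, 0),
    ((0, [1, 2, 3, 4, 5, 6, 7, 3, 2, 1, 4, 3, 2, 5, 8, 7, 3, 2, 1, 4, 3, 2, 5, 4, 3, 7, 9, 6, 5, 4, 3, 2, 1, 7, 8]), 1001, 0),
    ((0, [1, 2, 3, 4, 5, 6, 7, 3, 2, 1, 4, 3, 2, 5, 8, 7, 3, 2, 1, 4, 3, 2, 5, 6, 7, 3, 4, 5, 8, 9, 6, 5, 4, 3, 7]), 1001, 0),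
    ((0, [1, 2, 3, 4, 5, 6, 7, 3, 2, 1, 4, 3, 5, 7, 8, 7, 3, 2, 1, 0, 4, 3, 2, 5, 4, 7, 8, 9, 6, 5, 4, 3, 2, 7, 3]), 1001, 0),
    ((0, [1, 2, 3, 4, 5, 6, 7, 3, 2, 1, 4, 3, 5, 7, 8, 7, 3, 2, 1, 0, 4, 3, 5, 4, 7, 8, 9, 6, 5, 4, 3, 2, 1, 7, 3]), 1001, 0),
    ((0, [1, 2, 3, 4, 5, 6, 7, 3, 2, 1, 4, 3, 5, 4, 7, 8, 7, 3, 2, 1, 4, 3, 5, 4, 7, 3, 2, 8, 7, 9, 6, 5, 4, 3, 2]), 901, 0),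
    ((0, [1, 2, 3, 4, 5, 6, 7, 3, 2, 1, 4, 3, 5, 7, 8, 7, 3, 2, 1, 4, 3, 2, 5, 4, 6, 7, 8, 9, 6, 5, 4, 3, 2, 7, 3]), 901, 0),
    ((0, [1, 2, 3, 4, 5, 6, 7, 3, 2, 1, 4, 3, 5, 7, 8, 7, 3, 2, 1, 4, 3, 2, 5, 4, 3, 7, 8, 9, 6, 5, 4, 3, 2, 7, 3]), 1001, 0),
    ((0, [1, 2, 3, 4, 5, 6, 7, 3, 2, 1, 4, 3, 5, 8, 7, 3, 2, 1, 4, 3, 2, 5, 4, 3, 7, 8, 9, 6, 5, 4, 3, 2, 1, 7, 3]), 1001, 0),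
    ((0, [1, 2, 3, 4, 5, 6, 7, 3, 2, 1, 4, 3, 5, 7, 8, 7, 3, 2, 1, 4, 3, 2, 5, 4, 7, 8, 9, 6, 5, 4, 3, 2, 7, 3, 8]), 901, 0),
    ((0, [1, 2, 3, 4, 5, 6, 7, 3, 2, 1, 4, 3, 5, 8, 7, 3, 2, 1, 0, 4, 3, 2, 5, 4, 7, 8, 9, 6, 5, 4, 3, 2, 7, 3, 8]), 1001, 0),
    ((0, [1, 2, 3, 4, 5, 6, 7, 3, 2, 1, 4, 3, 2, 5, 8, 7, 3, 2, 1, 4, 3, 2, 5, 7, 3, 4, 8, 9, 6, 5, 4, 3, 2, 7, 3]), 1001, 0),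
    ((0, [1, 2, 3, 4, 5, 6, 7, 3, 2, 1, 4, 3, 5, 8, 7, 3, 2, 1, 4, 3, 2, 5, 4, 3, 7, 8, 9, 6, 5, 4, 3, 2, 7, 3, 8]), 1001, 0),
    ((0, [1, 2, 3, 4, 5, 6, 7, 3, 2, 1, 4, 3, 5, 8, 7, 3, 2, 1, 4, 3, 2, 5, 4, 6, 7, 8, 9, 6, 5, 4, 3, 2, 7, 3, 8]), 901, 0),
    ((0, [1, 2, 3, 4, 5, 6, 7, 3, 2, 1, 4, 3, 2, 5, 8, 7, 3, 2, 1, 0, 4, 3, 2, 5, 4, 7, 8, 9, 6, 5, 4, 3, 2, 7, 3]), 1001, 0),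
    ((0, [1, 2, 3, 4, 5, 6, 7, 3, 2, 1, 4, 3, 2, 5, 7, 8, 7, 3, 2, 1, 4, 3, 2, 5, 4, 7, 8, 9, 6, 5, 4, 3, 2, 7, 3]), 901, 0),
    ((0, [1, 2, 3, 4, 5, 6, 7, 3, 2, 1, 4, 3, 2, 5, 7, 8, 7, 3, 2, 1, 0, 4, 3, 5, 4, 7, 8, 9, 6, 5, 4, 3, 2, 7, 3]), 1001, 0),
    ((0, [1, 2, 3, 4, 5, 6, 7, 3, 2, 1, 4, 3, 2, 5, 8, 7, 3, 2, 1, 4, 3, 2, 5, 4, 7, 8, 9, 6, 5, 4, 3, 2, 7, 3, 8]), 901, 0),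
    ((0, [1, 2, 3, 4, 5, 6, 7, 3, 2, 1, 4, 3, 5, 8, 7, 3, 2, 1, 0, 4, 3, 2, 5, 7, 8, 9, 6, 5, 4, 3, 2, 7, 3, 4, 5]), 1001, 0),
    ((0, [1, 2, 3, 4, 5, 6, 7, 3, 2, 1, 4, 3, 2, 5, 8, 7, 3, 2, 1, 4, 3, 5, 4, 6, 7, 3, 8, 9, 6, 5, 4, 3, 2, 7, 3]), 901, 0),
    ((0, [1, 2, 3, 4, 5, 6, 7, 3, 2, 1, 4, 3, 5, 7, 8, 7, 3, 2, 1, 4, 3, 5, 4, 7, 3, 2, 8, 9, 6, 5, 4, 3, 2, 7, 3]), 901, 0),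
    ((0, [1, 2, 3, 4, 5, 6, 7, 3, 2, 1, 4, 3, 2, 8, 7, 3, 2, 1, 4, 3, 2, 5, 4, 3, 7, 8, 9, 6, 5, 4, 3, 2, 1, 7, 3]), 1001, 0),
    ((0, [1, 2, 3, 4, 5, 6, 7, 3, 2, 1, 4, 3, 2, 7, 8, 7, 3, 2, 1, 4, 3, 2, 5, 4, 3, 7, 8, 9, 6, 5, 4, 3, 2, 7, 3]), 1001, 0),
    ((0, [1, 2, 3, 4, 5, 6, 7, 3, 2, 1, 4, 3, 5, 8, 7, 3, 2, 1, 4, 3, 5, 4, 7, 3, 2, 8, 9, 6, 5, 4, 3, 2, 7, 3, 8]), 901, 0),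
    ((0, [1, 2, 3, 4, 5, 6, 7, 3, 2, 1, 4, 3, 8, 7, 3, 2, 1, 4, 3, 2, 5, 4, 3, 7, 3, 2, 8, 9, 6, 5, 4, 3, 2, 7, 3]), 1001, 0),
    ((0, [1, 2, 3, 4, 5, 6, 7, 3, 2, 1, 4, 3, 2, 5, 8, 7, 3, 2, 1, 0, 4, 3, 5, 4, 6, 7, 8, 9, 6, 5, 4, 3, 2, 7, 3]), 1001, 0),
    ((0, [1, 2, 3, 4, 5, 6, 7, 3, 2, 1, 4, 3, 2, 5, 8, 7, 3, 2, 1, 0, 4, 3, 5, 4, 7, 3, 8, 9, 6, 5, 4, 3, 2, 7, 3]), 1001, 0),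
    ((0, [1, 2, 3, 4, 5, 6, 7, 3, 2, 1, 4, 3, 2, 5, 8, 7, 3, 2, 1, 4, 3, 2, 5, 4, 7, 8, 9, 6, 5, 4, 3, 2, 1, 7, 3]), 901, 0),
    ((0, [1, 2, 3, 4, 5, 6, 7, 3, 2, 4, 3, 5, 8, 7, 3, 2, 1, 4, 3, 2, 5, 4, 3, 7, 3, 4, 8, 9, 6, 5, 4, 3, 2, 7, 3]), 901, 0),
    ((0, [1, 2, 3, 4, 5, 6, 7, 3, 2, 1, 4, 3, 5, 8, 7, 3, 2, 1, 4, 3, 2, 5, 4, 7, 8, 9, 6, 5, 4, 3, 2, 1, 7, 3, 8]), 901, 0),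
    ((0, [1, 2, 3, 4, 5, 6, 7, 3, 2, 1, 4, 3, 5, 8, 7, 3, 2, 1, 4, 3, 2, 5, 7, 8, 9, 6, 5, 4, 3, 2, 7, 3, 4, 5, 8]), 1001, 0),
    ((0, [1, 2, 3, 4, 5, 6, 7, 3, 2, 1, 4, 3, 5, 8, 7, 3, 2, 1, 4, 3, 2, 5, 6, 7, 8, 9, 6, 5, 4, 3, 2, 7, 3, 4, 5]), 1001, 0),
    ((0, [1, 2, 3, 4, 5, 6, 7, 3, 2, 1, 4, 5, 8, 7, 3, 2, 1, 4, 3, 2, 5, 4, 7, 3, 2, 4, 8, 9, 6, 5, 4, 3, 2, 7, 3]), 1001, 0),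
    ((0, [1, 2, 3, 4, 5, 6, 7, 3, 2, 1, 4, 3, 5, 8, 7, 3, 2, 1, 4, 3, 2, 5, 7, 3, 4, 8, 9, 6, 5, 4, 3, 2, 1, 0, 7]), 1001, 0),
    ((0, [1, 2, 3, 4, 5, 6, 7, 3, 2, 1, 4, 3, 5, 4, 8, 7, 3, 2, 1, 4, 3, 2, 5, 7, 3, 4, 8, 9, 6, 5, 4, 3, 2, 7, 3]), 901, 0),
    ((0, [1, 2, 3, 4, 5, 6, 7, 3, 2, 1, 4, 3, 2, 5, 4, 8, 7, 3, 2, 1, 4, 3, 2, 5, 7, 3, 4, 8, 7, 9, 6, 5, 4, 3, 7]), 1001, 0),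
    ((0, [1, 2, 3, 4, 5, 6, 7, 3, 2, 1, 4, 3, 5, 4, 8, 7, 3, 2, 1, 4, 3, 2, 5, 4, 3, 7, 8, 9, 6, 5, 4, 3, 2, 7, 3]), 1001, 0),
    ((0, [1, 2, 3, 4, 5, 6, 7, 3, 2, 1, 4, 3, 2, 5, 8, 7, 3, 2, 1, 4, 3, 2, 5, 7, 3, 4, 8, 7, 9, 6, 5, 4, 3, 7, 8]), 1001, 0),
    ((0, [1, 2, 3, 4, 5, 6, 7, 3, 2, 1, 4, 3, 2, 5, 8, 7, 3, 2, 1, 4, 3, 2, 5, 6, 7, 3, 4, 8, 7, 9, 6, 5, 4, 3, 7]), 1001, 0),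
    ((0, [1, 2, 3, 4, 5, 6, 7, 3, 2, 1, 4, 3, 5, 7, 8, 7, 3, 2, 1, 4, 3, 2, 5, 7, 3, 4, 8, 9, 6, 5, 4, 3, 2, 7, 3]), 1001, 0),
    ((0, [1, 2, 3, 4, 5, 6, 7, 3, 2, 1, 4, 3, 5, 4, 8, 7, 3, 2, 1, 4, 3, 5, 4, 7, 3, 2, 8, 7, 9, 6, 5, 4, 3, 7, 8]), 901, 0),
    ((0, [1, 2, 3, 4, 5, 6, 7, 3, 2, 1, 4, 3, 5, 4, 8, 7, 3, 2, 1, 0, 4, 3, 5, 4, 7, 3, 2, 8, 7, 9, 6, 5, 4, 3, 7]), 1001, 0),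
    ((0, [1, 2, 3, 4, 5, 6, 7, 3, 2, 1, 4, 3, 5, 7, 8, 7, 3, 2, 1, 4, 3, 2, 5, 4, 7, 3, 9, 6, 5, 4, 3, 2, 7, 3, 8]), 1001, 0),
    ((0, [1, 2, 3, 4, 5, 6, 7, 3, 2, 1, 4, 3, 5, 8, 7, 3, 2, 1, 4, 3, 2, 5, 4, 7, 3, 2, 9, 6, 5, 4, 3, 2, 7, 3, 8]), 1001, 0),
    ((0, [1, 2, 3, 4, 5, 6, 7, 3, 2, 1, 4, 3, 2, 5, 8, 7, 3, 2, 1, 4, 3, 2, 5, 4, 7, 3, 4, 5, 8, 7, 9, 6, 5, 4, 3]), 1001, 0),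
    ((0, [1, 2, 3, 4, 5, 6, 7, 3, 2, 1, 4, 3, 2, 5, 7, 8, 7, 3, 2, 1, 4, 3, 2, 5, 4, 7, 3, 4, 8, 7, 9, 6, 5, 4, 3]), 1001, 0),
    ((0, [1, 2, 3, 4, 5, 6, 7, 3, 2, 1, 4, 3, 5, 8, 7, 3, 2, 1, 4, 3, 2, 5, 4, 7, 3, 2, 4, 8, 7, 9, 6, 5, 4, 3, 7]), 1001, 0),
    ((0, [1, 2, 3, 4, 5, 6, 7, 3, 2, 1, 4, 3, 5, 8, 7, 3, 2, 1, 4, 3, 2, 5, 4, 3, 7, 3, 8, 9, 6, 5, 4, 3, 2, 7, 3]), 1001, 0),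
    ((0, [1, 2, 3, 4, 5, 6, 7, 3, 2, 1, 4, 3, 5, 8, 7, 3, 2, 1, 4, 3, 2, 5, 4, 7, 3, 2, 8, 9, 6, 5, 4, 3, 2, 7, 3]), 901, 0),
    ((0, [1, 2, 3, 4, 5, 6, 7, 3, 2, 1, 4, 3, 5, 8, 7, 3, 2, 1, 4, 3, 2, 5, 4, 6, 7, 3, 9, 6, 5, 4, 3, 2, 7, 3, 8]), 1001, 0),
    ((0, [1, 2, 3, 4, 5, 6, 7, 3, 2, 1, 4, 3, 2, 5, 8, 7, 3, 2, 1, 4, 3, 2, 5, 4, 7, 3, 2, 4, 9, 6, 5, 4, 3, 7, 8]), 1001, 0),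
    ((0, [1, 2, 3, 4, 5, 6, 7, 3, 2, 1, 4, 3, 2, 5, 8, 7, 3, 2, 1, 4, 3, 2, 5, 4, 3, 7, 3, 4, 8, 9, 6, 5, 4, 3, 2]), 1001, 0),
    ((0, [1, 2, 3, 4, 5, 6, 7, 3, 2, 1, 4, 3, 2, 5, 8, 7, 3, 2, 1, 4, 3, 2, 5, 4, 3, 7, 3, 4, 8, 9, 6, 5, 4, 3, 7]), 1001, 0),
    ((0, [1, 2, 3, 4, 5, 6, 7, 3, 2, 1, 4, 3, 5, 4, 8, 7, 3, 2, 1, 4, 3, 2, 5, 4, 7, 3, 2, 4, 9, 6, 5, 4, 3, 7, 8]), 1001, 0),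
    ((0, [1, 2, 3, 4, 5, 6, 7, 3, 2, 1, 4, 3, 5, 4, 8, 7, 3, 2, 1, 4, 3, 2, 5, 4, 3, 7, 3, 2, 9, 6, 5, 4, 3, 7, 8]), 1001, 0),
    ((0, [1, 2, 3, 4, 5, 6, 7, 3, 2, 1, 4, 3, 2, 5, 8, 7, 3, 2, 1, 4, 3, 2, 5, 4, 3, 7, 3, 4, 8, 7, 9, 6, 5, 4, 3]), 1001, 0),
    ((0, [1, 2, 3, 4, 5, 6, 7, 3, 2, 1, 4, 3, 2, 5, 8, 7, 3, 2, 1, 4, 3, 2, 5, 4, 7, 3, 2, 4, 8, 7, 9, 6, 5, 4, 3]), 1001, 0),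
    ((0, [1, 2, 3, 4, 5, 6, 7, 3, 2, 1, 4, 3, 2, 5, 8, 7, 3, 2, 1, 4, 3, 2, 5, 4, 7, 3, 4, 8, 7, 9, 6, 5, 4, 3, 7]), 1001, 0),
    ((0, [1, 2, 3, 4, 5, 6, 7, 3, 2, 1, 4, 3, 2, 5, 8, 7, 3, 2, 1, 0, 4, 3, 2, 5, 4, 6, 7, 3, 4, 5, 8, 7, 9, 6, 5]), 1001, 0),
    ((0, [1, 2, 3, 4, 5, 6, 7, 3, 2, 1, 4, 3, 5, 8, 7, 3, 2, 1, 4, 3, 2, 5, 4, 7, 3, 2, 1, 4, 5, 8, 7, 3, 9, 6, 5]), 1001, 0),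
    ((0, [1, 2, 3, 4, 5, 6, 7, 3, 2, 1, 4, 3, 2, 5, 4, 8, 7, 3, 2, 1, 4, 3, 2, 5, 7, 3, 4, 8, 7, 3, 2, 1, 9, 6, 5]), 1001, 0),
    ((0, [1, 2, 3, 4, 5, 6, 7, 3, 2, 1, 4, 3, 2, 5, 4, 8, 7, 3, 2, 1, 0, 4, 3, 2, 5, 4, 7, 3, 2, 8, 7, 3, 9, 6, 5]), 1001, 0),
    ((0, [1, 2, 3, 4, 5, 6, 7, 3, 2, 1, 4, 3, 2, 5, 8, 7, 3, 2, 1, 0, 4, 3, 2, 5, 4, 6, 7, 3, 4, 8, 7, 3, 9, 6, 5]), 1001, 0),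
    ((0, [1, 2, 3, 4, 5, 6, 7, 3, 2, 1, 4, 3, 5, 4, 8, 7, 3, 2, 1, 4, 3, 5, 4, 7, 3, 2, 1, 0, 8, 7, 9, 6, 5, 4, 3]), 1001, 0),
    ((0, [1, 2, 3, 4, 5, 6, 7, 3, 2, 1, 4, 3, 2, 5, 7, 8, 7, 3, 2, 1, 4, 3, 2, 5, 7, 3, 4, 5, 8, 7, 9, 6, 5, 4, 3]), 1001, 0)]

/-- Part 44 of the cycles. -/
def reps44 : List ((Nat × List Nat) × Nat × Nat) :=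
  [
    ((0, [1, 2, 3, 4, 5, 6, 7, 3, 2, 1, 4, 3, 2, 5, 4, 8, 7, 3, 2, 1, 0, 4, 3, 5, 4, 7, 3, 2, 8, 7, 9, 6, 5, 4, 3]), 1001, 0),
    ((0, [1, 2, 3, 4, 5, 6, 7, 3, 2, 1, 4, 3, 2, 5, 7, 8, 7, 3, 2, 1, 4, 3, 2, 5, 7, 3, 4, 5, 9, 6, 5, 4, 3, 7, 8]), 1001, 0),
    ((0, [1, 2, 3, 4, 5, 6, 7, 3, 2, 1, 4, 3, 2, 5, 8, 7, 3, 2, 1, 0, 4, 3, 2, 5, 6, 7, 3, 4, 9, 6, 5, 4, 3, 7, 8]), 1001, 0),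
    ((0, [1, 2, 3, 4, 5, 6, 7, 3, 2, 1, 4, 3, 5, 8, 7, 3, 2, 1, 4, 3, 2, 5, 4, 3, 7, 8, 9, 6, 5, 4, 3, 2, 1, 0, 7]), 1001, 0),
    ((0, [1, 2, 3, 4, 5, 6, 7, 3, 2, 1, 4, 3, 2, 5, 8, 7, 3, 2, 1, 0, 4, 3, 2, 5, 6, 7, 3, 4, 8, 9, 6, 5, 4, 3, 2]), 1001, 0),
    ((0, [1, 2, 3, 4, 5, 6, 7, 3, 2, 1, 4, 3, 2, 5, 8, 7, 3, 2, 1, 0, 4, 3, 2, 5, 6, 7, 3, 4, 8, 9, 6, 5, 4, 3, 7]), 1001, 0),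
    ((0, [1, 2, 3, 4, 5, 6, 7, 3, 2, 1, 4, 3, 2, 5, 8, 7, 3, 2, 1, 0, 4, 3, 2, 5, 7, 3, 4, 8, 7, 9, 6, 5, 4, 3, 7]), 1001, 0),
    ((0, [1, 2, 3, 4, 5, 6, 7, 3, 2, 1, 4, 3, 2, 5, 8, 7, 3, 2, 1, 0, 4, 3, 2, 1, 5, 4, 7, 8, 9, 6, 5, 4, 3, 2, 1]), 1001, 0),
    ((0, [1, 2, 3, 4, 5, 6, 7, 3, 2, 1, 4, 3, 5, 4, 7, 8, 7, 3, 2, 1, 4, 3, 2, 5, 4, 3, 7, 8, 9, 6, 5, 4, 3, 2, 1]), 1001, 0),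
    ((0, [1, 2, 3, 4, 5, 6, 7, 3, 2, 1, 4, 3, 2, 5, 8, 7, 3, 2, 1, 0, 4, 3, 2, 5, 4, 7, 8, 9, 6, 5, 4, 3, 2, 1, 7]), 1001, 0),
    ((0, [1, 2, 3, 4, 5, 6, 7, 3, 2, 1, 4, 3, 5, 7, 8, 7, 3, 2, 1, 4, 3, 2, 5, 4, 3, 7, 8, 9, 6, 5, 4, 3, 2, 1, 7]), 1001, 0),
    ((0, [1, 2, 3, 4, 5, 6, 7, 3, 2, 1, 4, 3, 2, 5, 8, 7, 3, 2, 1, 0, 4, 3, 2, 5, 4, 7, 8, 9, 6, 5, 4, 3, 2, 1, 0]), 1001, 0),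
    ((0, [1, 2, 3, 4, 5, 6, 7, 3, 2, 1, 4, 3, 2, 5, 8, 7, 3, 2, 1, 0, 4, 3, 2, 5, 4, 7, 9, 6, 5, 4, 3, 2, 1, 7, 8]), 1001, 0),
    ((0, [1, 2, 3, 4, 5, 6, 7, 3, 2, 1, 4, 3, 5, 7, 8, 7, 3, 2, 1, 4, 3, 2, 5, 4, 3, 7, 9, 6, 5, 4, 3, 2, 1, 7, 8]), 1001, 0),
    ((0, [1, 2, 3, 4, 5, 6, 7, 3, 2, 1, 4, 3, 5, 8, 7, 3, 2, 1, 0, 4, 3, 2, 5, 4, 7, 8, 9, 6, 5, 4, 3, 2, 1, 7, 8]), 1001, 0),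
    ((0, [1, 2, 3, 4, 5, 6, 7, 3, 2, 1, 4, 3, 5, 8, 7, 3, 2, 1, 0, 4, 3, 2, 5, 4, 7, 8, 9, 6, 5, 4, 3, 2, 1, 0, 7]), 1001, 0),
    ((0, [1, 2, 3, 4, 5, 6, 7, 3, 2, 1, 4, 3, 2, 5, 8, 7, 3, 2, 1, 0, 4, 3, 5, 4, 6, 7, 8, 9, 6, 5, 4, 3, 2, 1, 0]), 1001, 0),
    ((0, [1, 2, 3, 4, 5, 6, 7, 3, 2, 1, 4, 3, 5, 7, 8, 7, 3, 2, 1, 4, 3, 2, 5, 4, 3, 7, 8, 9, 6, 5, 4, 3, 2, 1, 0]), 1001, 0),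
    ((0, [1, 2, 3, 4, 5, 6, 7, 3, 2, 1, 4, 3, 2, 5, 8, 7, 3, 2, 1, 0, 4, 3, 2, 5, 7, 3, 4, 8, 9, 6, 5, 4, 3, 2, 1]), 1001, 0),
    ((0, [1, 2, 3, 4, 5, 6, 7, 3, 2, 1, 4, 3, 5, 7, 8, 7, 3, 2, 1, 4, 3, 2, 5, 4, 6, 7, 8, 9, 6, 5, 4, 3, 2, 1, 0]), 1001, 0),
    ((0, [1, 2, 3, 4, 5, 6, 7, 3, 2, 1, 4, 3, 8, 7, 3, 2, 1, 4, 3, 2, 5, 4, 3, 7, 3, 2, 1, 8, 9, 6, 5, 4, 3, 2, 1]), 1001, 0),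
    ((0, [1, 2, 3, 4, 5, 6, 7, 3, 2, 1, 4, 3, 8, 7, 3, 2, 1, 4, 3, 2, 5, 4, 3, 7, 3, 2, 8, 9, 6, 5, 4, 3, 2, 1, 7]), 1001, 0),
    ((0, [1, 2, 3, 4, 5, 6, 7, 3, 2, 1, 4, 3, 8, 7, 3, 2, 1, 4, 3, 2, 5, 4, 3, 7, 3, 2, 9, 6, 5, 4, 3, 2, 1, 7, 8]), 1001, 0),
    ((0, [1, 2, 3, 4, 5, 6, 7, 3, 2, 1, 4, 3, 2, 7, 8, 7, 3, 2, 1, 4, 3, 2, 5, 4, 3, 7, 8, 9, 6, 5, 4, 3, 2, 1, 0]), 1001, 0),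
    ((0, [1, 2, 3, 4, 5, 6, 7, 3, 2, 1, 4, 3, 5, 8, 7, 3, 2, 1, 0, 4, 3, 2, 5, 4, 7, 8, 9, 6, 5, 4, 3, 2, 1, 7, 3]), 1001, 0),
    ((0, [1, 2, 3, 4, 5, 6, 7, 3, 2, 1, 4, 5, 8, 7, 3, 2, 1, 4, 3, 5, 4, 7, 3, 2, 8, 9, 6, 5, 4, 3, 2, 7, 3, 4, 5]), 1001, 0),
    ((0, [1, 2, 3, 4, 5, 6, 7, 3, 2, 1, 4, 3, 5, 8, 7, 3, 2, 1, 4, 3, 2, 5, 7, 8, 9, 6, 5, 4, 3, 2, 7, 3, 4, 5, 6]), 1001, 0),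
    ((0, [1, 2, 3, 4, 5, 6, 7, 3, 2, 1, 4, 3, 5, 8, 7, 3, 2, 1, 0, 4, 3, 2, 5, 4, 7, 3, 9, 6, 5, 4, 3, 2, 7, 3, 8]), 1001, 0),
    ((0, [1, 2, 3, 4, 5, 6, 7, 3, 2, 1, 4, 3, 5, 8, 7, 3, 2, 1, 0, 4, 3, 2, 5, 4, 7, 3, 8, 9, 6, 5, 4, 3, 2, 7, 3]), 1001, 0),
    ((0, [1, 2, 3, 4, 5, 6, 7, 3, 2, 1, 4, 3, 5, 8, 7, 3, 2, 1, 4, 3, 2, 5, 4, 7, 3, 8, 9, 6, 5, 4, 3, 2, 7, 3, 8]), 901, 0),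
    ((0, [1, 2, 3, 4, 5, 6, 7, 3, 2, 1, 4, 3, 5, 8, 7, 3, 2, 1, 4, 3, 2, 5, 4, 3, 7, 3, 2, 4, 9, 6, 5, 4, 3, 7, 8]), 1001, 0),
    ((0, [1, 2, 3, 4, 5, 6, 7, 3, 2, 1, 4, 3, 5, 8, 7, 3, 2, 1, 4, 3, 2, 5, 4, 3, 7, 3, 2, 4, 8, 7, 9, 6, 5, 4, 3]), 1001, 0),
    ((0, [1, 2, 3, 4, 5, 6, 7, 3, 2, 1, 4, 3, 5, 7, 8, 7, 3, 2, 1, 4, 3, 2, 5, 4, 7, 3, 2, 4, 8, 7, 9, 6, 5, 4, 3]), 901, 0),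
    ((0, [1, 2, 3, 4, 5, 6, 7, 3, 2, 1, 4, 3, 2, 5, 8, 7, 3, 2, 1, 4, 3, 2, 5, 4, 7, 3, 2, 4, 5, 8, 7, 3, 9, 6, 5]), 1001, 0),
    ((0, [1, 2, 3, 4, 5, 6, 7, 3, 2, 1, 4, 3, 5, 4, 8, 7, 3, 2, 1, 4, 3, 2, 5, 4, 7, 3, 2, 1, 4, 8, 7, 3, 9, 6, 5]), 1001, 0),
    ((0, [1, 2, 3, 4, 5, 6, 7, 3, 2, 1, 4, 3, 5, 8, 7, 3, 2, 1, 4, 3, 2, 5, 4, 7, 3, 2, 4, 5, 8, 7, 9, 6, 5, 4, 3]), 1001, 0),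
    ((0, [1, 2, 3, 4, 5, 6, 7, 3, 2, 1, 4, 3, 5, 4, 8, 7, 3, 2, 1, 0, 4, 3, 2, 5, 4, 7, 3, 2, 4, 8, 7, 3, 9, 6, 5]), 901, 0),
    ((0, [1, 2, 3, 4, 5, 6, 7, 3, 2, 1, 4, 3, 2, 5, 7, 8, 7, 3, 2, 1, 4, 3, 2, 5, 4, 3, 7, 3, 4, 8, 7, 3, 9, 6, 5]), 1001, 0),
    ((0, [1, 2, 3, 4, 5, 6, 7, 3, 2, 1, 4, 3, 5, 4, 8, 7, 3, 2, 1, 4, 3, 2, 5, 4, 7, 3, 2, 4, 5, 8, 7, 3, 9, 6, 5]), 1001, 0),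
    ((0, [1, 2, 3, 4, 5, 6, 7, 3, 2, 1, 4, 3, 2, 5, 8, 7, 3, 2, 1, 0, 4, 3, 2, 1, 5, 4, 7, 3, 2, 8, 7, 3, 9, 6, 5]), 901, 0),
    ((0, [1, 2, 3, 4, 5, 6, 7, 3, 2, 1, 4, 3, 5, 4, 8, 7, 3, 2, 1, 0, 4, 3, 2, 5, 4, 3, 7, 3, 2, 8, 7, 3, 9, 6, 5]), 1001, 0),
    ((0, [1, 2, 3, 4, 5, 6, 7, 3, 2, 1, 4, 3, 2, 5, 8, 7, 3, 2, 1, 4, 3, 2, 5, 4, 6, 5, 7, 3, 4, 8, 7, 3, 9, 6, 5]), 901, 0),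
    ((0, [1, 2, 3, 4, 5, 6, 7, 3, 2, 1, 4, 3, 2, 5, 8, 7, 3, 2, 1, 4, 3, 2, 5, 4, 7, 3, 2, 1, 4, 8, 7, 3, 9, 6, 5]), 1001, 0),
    ((0, [1, 2, 3, 4, 5, 6, 7, 3, 2, 1, 4, 3, 5, 4, 8, 7, 3, 2, 1, 4, 3, 2, 5, 4, 6, 5, 7, 3, 4, 8, 7, 3, 9, 6, 5]), 901, 0),
    ((0, [1, 2, 3, 4, 5, 6, 7, 3, 2, 1, 4, 3, 2, 5, 8, 7, 3, 2, 1, 4, 3, 2, 5, 4, 3, 7, 3, 4, 5, 8, 7, 3, 9, 6, 5]), 1001, 0),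
    ((0, [1, 2, 3, 4, 5, 6, 7, 3, 2, 1, 4, 3, 2, 5, 4, 8, 7, 3, 2, 1, 4, 3, 2, 5, 4, 3, 7, 3, 2, 8, 7, 3, 9, 6, 5]), 901, 0),
    ((0, [1, 2, 3, 4, 5, 6, 7, 3, 2, 1, 4, 3, 5, 8, 7, 3, 2, 1, 4, 3, 2, 5, 4, 3, 7, 3, 2, 4, 5, 8, 7, 3, 9, 6, 5]), 1001, 0),
    ((0, [1, 2, 3, 4, 5, 6, 7, 3, 2, 1, 4, 3, 5, 4, 8, 7, 3, 2, 1, 4, 3, 2, 5, 4, 3, 7, 3, 2, 1, 8, 7, 3, 9, 6, 5]), 901, 0),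
    ((0, [1, 2, 3, 4, 5, 6, 7, 3, 2, 1, 4, 3, 2, 5, 4, 8, 7, 3, 2, 1, 4, 3, 2, 5, 4, 3, 7, 3, 4, 8, 7, 3, 9, 6, 5]), 1001, 0),
    ((0, [1, 2, 3, 4, 5, 6, 7, 3, 2, 1, 4, 3, 2, 5, 8, 7, 3, 2, 1, 0, 4, 3, 2, 5, 4, 7, 3, 2, 4, 8, 7, 3, 9, 6, 5]), 1001, 0),
    ((0, [1, 2, 3, 4, 5, 6, 7, 3, 2, 1, 4, 3, 5, 4, 8, 7, 3, 2, 1, 4, 3, 2, 5, 4, 7, 3, 2, 4, 8, 7, 9, 6, 5, 4, 3]), 1001, 0),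
    ((0, [1, 2, 3, 4, 5, 6, 7, 3, 2, 1, 4, 3, 5, 4, 8, 7, 3, 2, 1, 4, 3, 2, 5, 4, 3, 7, 3, 2, 8, 7, 9, 6, 5, 4, 3]), 901, 0),
    ((0, [1, 2, 3, 4, 5, 6, 7, 3, 2, 1, 4, 3, 2, 5, 4, 8, 7, 3, 2, 1, 4, 3, 5, 4, 7, 3, 2, 8, 7, 3, 4, 5, 9, 6, 5]), 1001, 0),
    ((0, [1, 2, 3, 4, 5, 6, 7, 3, 2, 1, 4, 3, 2, 5, 8, 7, 3, 2, 1, 4, 3, 2, 5, 4, 6, 7, 3, 4, 5, 8, 7, 3, 9, 6, 5]), 1001, 0),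
    ((0, [1, 2, 3, 4, 5, 6, 7, 3, 2, 1, 4, 3, 5, 4, 8, 7, 3, 2, 1, 0, 4, 3, 5, 4, 6, 7, 3, 2, 8, 7, 9, 6, 5, 4, 3]), 1001, 0),
    ((0, [1, 2, 3, 4, 5, 6, 7, 3, 2, 1, 4, 3, 5, 4, 8, 7, 3, 2, 1, 0, 4, 3, 2, 5, 4, 7, 3, 2, 8, 7, 9, 6, 5, 4, 3]), 1001, 0),
    ((0, [1, 2, 3, 4, 5, 6, 7, 3, 2, 1, 4, 3, 2, 5, 8, 7, 3, 2, 1, 0, 4, 3, 2, 5, 4, 3, 7, 3, 4, 8, 7, 3, 9, 6, 5]), 1001, 0),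
    ((0, [1, 2, 3, 4, 5, 6, 7, 3, 2, 1, 4, 3, 5, 8, 7, 3, 2, 1, 4, 3, 2, 5, 4, 3, 7, 3, 2, 1, 4, 8, 7, 3, 9, 6, 5]), 1001, 0),
    ((0, [1, 2, 3, 4, 5, 6, 7, 3, 2, 1, 4, 3, 2, 5, 8, 7, 3, 2, 1, 0, 4, 3, 5, 4, 7, 8, 9, 6, 5, 4, 3, 2, 1, 0, 7]), 1001, 0),
    ((0, [1, 2, 3, 4, 5, 6, 7, 3, 2, 1, 4, 3, 2, 5, 7, 8, 7, 3, 2, 1, 4, 3, 5, 7, 8, 9, 6, 5, 4, 3, 2, 7, 3, 4, 5]), 1001, 0),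
    ((0, [1, 2, 3, 4, 5, 6, 7, 3, 2, 1, 4, 3, 5, 8, 7, 3, 2, 1, 4, 3, 5, 4, 6, 7, 8, 9, 6, 5, 4, 3, 2, 1, 0, 7, 3]), 1001, 0),
    ((0, [1, 2, 3, 4, 5, 6, 7, 3, 2, 1, 4, 3, 5, 4, 8, 7, 3, 2, 1, 0, 4, 3, 5, 4, 7, 3, 2, 8, 7, 9, 6, 5, 4, 3, 2]), 1001, 0),
    ((0, [1, 2, 3, 4, 5, 6, 7, 3, 2, 1, 4, 3, 5, 4, 8, 7, 3, 2, 1, 4, 3, 5, 4, 7, 3, 2, 1, 0, 9, 6, 5, 4, 3, 7, 8]), 1001, 0),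
    ((0, [1, 2, 3, 4, 5, 6, 7, 3, 2, 1, 4, 5, 8, 7, 3, 2, 1, 4, 3, 2, 5, 4, 7, 3, 2, 1, 4, 5, 9, 6, 5, 4, 3, 7, 8]), 1001, 0),
    ((0, [1, 2, 3, 4, 5, 6, 7, 3, 2, 1, 4, 5, 8, 7, 3, 2, 1, 4, 3, 2, 5, 4, 7, 3, 2, 1, 4, 5, 8, 9, 6, 5, 4, 3, 7]), 1001, 0),
    ((0, [1, 2, 3, 4, 5, 6, 7, 3, 2, 1, 4, 5, 8, 7, 3, 2, 1, 4, 3, 2, 5, 4, 7, 3, 2, 4, 5, 8, 7, 9, 6, 5, 4, 3, 7]), 1001, 0),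
    ((0, [1, 2, 3, 4, 5, 6, 7, 3, 2, 1, 4, 5, 8, 7, 3, 2, 1, 4, 3, 2, 5, 4, 7, 3, 2, 1, 4, 5, 8, 9, 6, 5, 4, 3, 2]), 1001, 0),
    ((0, [1, 2, 3, 4, 5, 6, 7, 3, 2, 1, 4, 5, 8, 7, 3, 2, 1, 4, 3, 2, 5, 4, 7, 3, 2, 4, 5, 8, 7, 9, 6, 5, 4, 3, 2]), 1001, 0),
    ((0, [1, 2, 3, 4, 5, 6, 7, 3, 2, 1, 4, 3, 5, 8, 7, 3, 2, 1, 4, 3, 5, 4, 7, 3, 8, 9, 6, 5, 4, 3, 2, 1, 0, 7, 3]), 1001, 0),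
    ((0, [1, 2, 3, 4, 5, 6, 7, 3, 2, 1, 4, 3, 2, 5, 7, 8, 7, 3, 2, 1, 4, 3, 2, 5, 7, 3, 4, 8, 7, 9, 6, 5, 4, 3, 2]), 1001, 0),
    ((0, [1, 2, 3, 4, 5, 6, 7, 3, 2, 1, 4, 3, 2, 5, 8, 7, 3, 2, 1, 4, 3, 2, 5, 7, 3, 4, 5, 8, 7, 9, 6, 5, 4, 3, 2]), 1001, 0),
    ((0, [1, 2, 3, 4, 5, 6, 7, 3, 2, 1, 4, 3, 2, 5, 8, 7, 3, 2, 1, 4, 3, 2, 5, 6, 7, 3, 4, 8, 7, 9, 6, 5, 4, 3, 2]), 1001, 0),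
    ((0, [1, 2, 3, 4, 5, 6, 7, 3, 2, 1, 4, 3, 2, 5, 8, 7, 3, 2, 1, 0, 4, 3, 2, 5, 7, 3, 4, 8, 7, 9, 6, 5, 4, 3, 2]), 1001, 0),
    ((0, [1, 2, 3, 4, 5, 6, 7, 3, 2, 1, 4, 3, 2, 5, 4, 7, 8, 7, 3, 2, 1, 4, 3, 5, 4, 7, 3, 2, 8, 7, 3, 4, 9, 6, 5]), 1001, 0),
    ((0, [1, 2, 3, 4, 5, 6, 7, 3, 2, 1, 4, 3, 2, 5, 8, 7, 3, 2, 1, 4, 3, 2, 5, 4, 7, 3, 2, 4, 8, 7, 3, 2, 9, 6, 5]), 1001, 0),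
    ((0, [1, 2, 3, 4, 5, 6, 7, 3, 2, 1, 4, 3, 2, 5, 8, 7, 3, 2, 1, 4, 3, 2, 5, 4, 3, 7, 3, 4, 8, 7, 3, 2, 9, 6, 5]), 1001, 0),
    ((0, [1, 2, 3, 4, 5, 6, 7, 3, 2, 1, 4, 3, 5, 7, 8, 7, 3, 2, 1, 4, 3, 5, 7, 8, 9, 6, 5, 4, 3, 2, 7, 3, 4, 5, 6]), 1001, 0),
    ((0, [1, 2, 3, 4, 5, 6, 7, 3, 2, 1, 4, 3, 5, 7, 8, 7, 3, 2, 1, 0, 4, 3, 5, 7, 8, 9, 6, 5, 4, 3, 2, 7, 3, 4, 5]), 1001, 0),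
    ((0, [1, 2, 3, 4, 5, 6, 7, 3, 2, 4, 3, 8, 7, 3, 2, 1, 4, 3, 2, 5, 4, 3, 7, 8, 9, 6, 5, 4, 3, 2, 1, 7, 3, 4, 5]), 1001, 0),
    ((0, [1, 2, 3, 4, 5, 6, 7, 3, 2, 1, 4, 3, 5, 7, 8, 7, 3, 2, 1, 4, 3, 5, 6, 7, 8, 9, 6, 5, 4, 3, 2, 7, 3, 4, 5]), 1001, 0),
    ((0, [1, 2, 3, 4, 5, 6, 7, 3, 2, 4, 3, 8, 7, 3, 2, 1, 4, 3, 2, 5, 4, 3, 7, 8, 9, 6, 5, 4, 3, 2, 7, 3, 4, 5, 6]), 1001, 0),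
    ((0, [1, 2, 3, 4, 5, 6, 7, 3, 2, 1, 4, 3, 2, 5, 8, 7, 3, 2, 1, 4, 3, 2, 5, 7, 3, 4, 8, 7, 9, 6, 5, 4, 3, 2, 1]), 1001, 0),
    ((0, [1, 2, 3, 4, 5, 6, 7, 3, 2, 1, 4, 3, 2, 5, 8, 7, 3, 2, 1, 4, 3, 5, 6, 7, 8, 9, 6, 5, 4, 3, 2, 7, 3, 4, 5]), 1001, 0),
    ((0, [1, 2, 3, 4, 5, 6, 7, 3, 2, 1, 4, 3, 2, 5, 8, 7, 3, 2, 1, 4, 3, 2, 5, 7, 3, 4, 8, 7, 3, 2, 9, 6, 5, 4, 3]), 1001, 0),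
    ((0, [1, 2, 3, 4, 5, 6, 7, 3, 2, 1, 4, 3, 5, 8, 7, 3, 2, 1, 4, 3, 2, 5, 4, 7, 3, 8, 7, 9, 6, 5, 4, 3, 2, 1, 0]), 1001, 0),
    ((0, [1, 2, 3, 4, 5, 6, 7, 3, 2, 1, 4, 3, 2, 5, 4, 8, 7, 3, 2, 1, 0, 4, 3, 2, 5, 4, 3, 6, 7, 8, 9, 6, 5, 4, 3, 7]), 1001, 0),
    ((0, [1, 2, 3, 4, 5, 6, 7, 3, 2, 1, 4, 3, 2, 5, 4, 7, 8, 7, 3, 2, 1, 4, 3, 2, 5, 4, 3, 7, 9, 6, 5, 4, 3, 2, 7, 8]), 1001, 0),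
    ((0, [1, 2, 3, 4, 5, 6, 7, 3, 2, 1, 4, 3, 2, 5, 8, 7, 3, 2, 4, 3, 5, 4, 7, 3, 2, 1, 0, 8, 9, 6, 5, 4, 3, 2, 1, 7]), 1001, 0),
    ((0, [1, 2, 3, 4, 5, 6, 7, 3, 2, 1, 4, 3, 2, 5, 4, 7, 8, 7, 3, 2, 1, 4, 3, 5, 4, 7, 3, 2, 9, 6, 5, 4, 3, 2, 7, 8]), 1001, 0),
    ((0, [1, 2, 3, 4, 5, 6, 7, 3, 2, 1, 4, 3, 5, 4, 7, 8, 7, 3, 2, 1, 4, 3, 5, 4, 7, 3, 2, 8, 9, 6, 5, 4, 3, 2, 7, 8]), 1001, 0),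
    ((0, [1, 2, 3, 4, 5, 6, 7, 3, 2, 1, 4, 3, 2, 5, 4, 7, 8, 7, 3, 2, 1, 4, 3, 5, 4, 7, 3, 2, 8, 9, 6, 5, 4, 3, 7, 8]), 1001, 0),
    ((0, [1, 2, 3, 4, 5, 6, 7, 3, 2, 1, 4, 3, 2, 5, 4, 8, 7, 3, 2, 1, 0, 4, 3, 2, 1, 5, 7, 3, 4, 8, 9, 6, 5, 4, 3, 7]), 1001, 0),
    ((0, [1, 2, 3, 4, 5, 6, 7, 3, 2, 1, 4, 3, 2, 5, 8, 7, 3, 2, 1, 4, 3, 5, 4, 7, 3, 2, 8, 9, 6, 5, 4, 3, 2, 1, 7, 8]), 1001, 0),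
    ((0, [1, 2, 3, 4, 5, 6, 7, 3, 2, 1, 4, 3, 2, 5, 8, 7, 3, 2, 1, 4, 3, 5, 4, 7, 3, 2, 1, 9, 6, 5, 4, 3, 2, 1, 7, 8]), 1001, 0),
    ((0, [1, 2, 3, 4, 5, 6, 7, 3, 2, 1, 4, 3, 5, 7, 8, 7, 3, 2, 1, 4, 3, 2, 5, 4, 6, 7, 8, 9, 6, 5, 4, 3, 2, 1, 7, 8]), 1001, 0),
    ((0, [1, 2, 3, 4, 5, 6, 7, 3, 2, 1, 4, 3, 5, 4, 7, 8, 7, 3, 2, 1, 4, 3, 2, 5, 4, 6, 7, 9, 6, 5, 4, 3, 2, 1, 7, 8]), 1001, 0),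
    ((0, [1, 2, 3, 4, 5, 6, 7, 3, 2, 1, 4, 3, 2, 5, 8, 7, 3, 2, 1, 0, 4, 3, 2, 5, 4, 3, 7, 9, 6, 5, 4, 3, 2, 1, 7, 8]), 1001, 0),
    ((0, [1, 2, 3, 4, 5, 6, 7, 3, 2, 1, 4, 3, 2, 5, 4, 7, 8, 7, 3, 2, 1, 4, 3, 2, 5, 7, 3, 4, 8, 9, 6, 5, 4, 3, 2, 1]), 1001, 0),
    ((0, [1, 2, 3, 4, 5, 6, 7, 3, 2, 1, 4, 3, 2, 5, 7, 8, 7, 3, 2, 1, 0, 4, 3, 2, 5, 4, 7, 8, 9, 6, 5, 4, 3, 2, 1, 7]), 1001, 0),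
    ((0, [1, 2, 3, 4, 5, 6, 7, 3, 2, 1, 4, 3, 2, 5, 7, 8, 7, 3, 2, 1, 4, 3, 2, 5, 7, 3, 4, 8, 9, 6, 5, 4, 3, 2, 1, 7]), 1001, 0),
    ((0, [1, 2, 3, 4, 5, 6, 7, 3, 2, 1, 4, 3, 2, 5, 7, 8, 7, 3, 2, 1, 4, 3, 2, 5, 7, 3, 4, 8, 9, 6, 5, 4, 3, 2, 7, 8]), 1001, 0),
    ((0, [1, 2, 3, 4, 5, 6, 7, 3, 2, 1, 4, 3, 2, 5, 4, 7, 8, 7, 3, 2, 1, 4, 3, 2, 5, 7, 3, 4, 8, 7, 9, 6, 5, 4, 3, 7]), 1001, 0),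
    ((0, [1, 2, 3, 4, 5, 6, 7, 3, 2, 1, 4, 3, 2, 5, 8, 7, 3, 2, 1, 4, 3, 2, 5, 7, 3, 4, 5, 6, 8, 7, 9, 6, 5, 4, 3, 7]), 1001, 0),
    ((0, [1, 2, 3, 4, 5, 6, 7, 3, 2, 1, 4, 3, 2, 5, 8, 7, 3, 2, 1, 4, 3, 2, 5, 7, 3, 4, 5, 8, 7, 9, 6, 5, 4, 3, 7, 8]), 1001, 0),
    ((0, [1, 2, 3, 4, 5, 6, 7, 3, 2, 1, 4, 3, 2, 5, 7, 8, 7, 3, 2, 1, 4, 3, 2, 5, 7, 3, 4, 8, 7, 9, 6, 5, 4, 3, 7, 8]), 1001, 0),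
    ((0, [1, 2, 3, 4, 5, 6, 7, 3, 2, 1, 4, 5, 8, 7, 3, 2, 1, 4, 3, 2, 5, 4, 7, 3, 2, 1, 4, 8, 7, 9, 6, 5, 4, 3, 7, 8]), 1001, 0),
    ((0, [1, 2, 3, 4, 5, 6, 7, 3, 2, 1, 4, 3, 2, 5, 4, 8, 7, 3, 2, 1, 4, 3, 2, 5, 7, 3, 4, 5, 6, 8, 7, 9, 6, 5, 4, 3]), 1001, 0),
    ((0, [1, 2, 3, 4, 5, 6, 7, 3, 2, 1, 4, 3, 5, 8, 7, 3, 2, 1, 0, 4, 3, 5, 4, 7, 3, 2, 1, 8, 9, 6, 5, 4, 3, 2, 7, 3]), 1001, 0),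
    ((0, [1, 2, 3, 4, 5, 6, 7, 3, 2, 1, 4, 3, 5, 4, 7, 8, 7, 3, 2, 1, 4, 3, 5, 4, 7, 3, 2, 8, 7, 9, 6, 5, 4, 3, 7, 8]), 901, 0),
    ((0, [1, 2, 3, 4, 5, 6, 7, 3, 2, 1, 4, 3, 2, 5, 4, 8, 7, 3, 2, 1, 4, 3, 2, 5, 4, 3, 6, 7, 8, 9, 6, 5, 4, 3, 2, 1]), 1001, 0),
    ((0, [1, 2, 3, 4, 5, 6, 7, 3, 2, 1, 4, 3, 2, 5, 8, 7, 3, 2, 1, 0, 4, 3, 5, 4, 7, 3, 2, 9, 6, 5, 4, 3, 2, 1, 7, 8]), 1001, 0),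
    ((0, [1, 2, 3, 4, 5, 6, 7, 3, 2, 1, 4, 3, 2, 5, 8, 7, 3, 2, 1, 4, 3, 2, 5, 6, 7, 3, 4, 5, 6, 8, 9, 6, 5, 4, 3, 7]), 1001, 0),
    ((0, [1, 2, 3, 4, 5, 6, 7, 3, 2, 1, 4, 3, 2, 5, 8, 7, 3, 2, 1, 4, 3, 2, 5, 7, 3, 4, 8, 9, 6, 5, 4, 3, 2, 7, 3, 8]), 1001, 0),
    ((0, [1, 2, 3, 4, 5, 6, 7, 3, 2, 1, 4, 3, 2, 5, 8, 7, 3, 2, 1, 4, 3, 2, 5, 7, 3, 4, 8, 9, 6, 5, 4, 3, 2, 1, 7, 3]), 1001, 0),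
    ((0, [1, 2, 3, 4, 5, 6, 7, 3, 2, 1, 4, 3, 5, 7, 8, 7, 3, 2, 1, 4, 3, 2, 5, 4, 7, 8, 9, 6, 5, 4, 3, 2, 1, 7, 3, 8]), 901, 0),
    ((0, [1, 2, 3, 4, 5, 6, 7, 3, 2, 1, 4, 3, 5, 7, 8, 7, 3, 2, 1, 4, 3, 2, 5, 4, 6, 7, 8, 9, 6, 5, 4, 3, 2, 7, 3, 8]), 901, 0),
    ((0, [1, 2, 3, 4, 5, 6, 7, 3, 2, 1, 4, 3, 5, 7, 8, 7, 3, 2, 1, 4, 3, 2, 5, 4, 3, 7, 8, 9, 6, 5, 4, 3, 2, 7, 3, 8]), 1001, 0),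
    ((0, [1, 2, 3, 4, 5, 6, 7, 3, 2, 1, 4, 3, 2, 5, 8, 7, 3, 2, 1, 4, 3, 2, 5, 6, 7, 3, 4, 8, 9, 6, 5, 4, 3, 2, 7, 3]), 1001, 0),
    ((0, [1, 2, 3, 4, 5, 6, 7, 3, 2, 1, 4, 3, 2, 5, 7, 8, 7, 3, 2, 1, 0, 4, 3, 2, 5, 4, 7, 8, 9, 6, 5, 4, 3, 2, 7, 3]), 1001, 0),
    ((0, [1, 2, 3, 4, 5, 6, 7, 3, 2, 1, 4, 3, 2, 5, 7, 8, 7, 3, 2, 1, 4, 3, 2, 5, 4, 7, 8, 9, 6, 5, 4, 3, 2, 7, 3, 8]), 901, 0)]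

/-- Part 45 of the cycles. -/
def reps45 : List ((Nat × List Nat) × Nat × Nat) :=
  [
    ((0, [1, 2, 3, 4, 5, 6, 7, 3, 2, 1, 4, 3, 2, 5, 8, 7, 3, 2, 1, 0, 4, 3, 2, 5, 4, 7, 8, 9, 6, 5, 4, 3, 2, 7, 3, 8]), 1001, 0),
    ((0, [1, 2, 3, 4, 5, 6, 7, 3, 2, 1, 4, 3, 2, 5, 8, 7, 3, 2, 1, 4, 3, 2, 5, 7, 3, 4, 5, 8, 9, 6, 5, 4, 3, 2, 7, 3]), 1001, 0),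
    ((0, [1, 2, 3, 4, 5, 6, 7, 3, 2, 1, 4, 3, 2, 5, 7, 8, 7, 3, 2, 1, 4, 3, 2, 5, 4, 3, 7, 8, 9, 6, 5, 4, 3, 2, 7, 3]), 1001, 0),
    ((0, [1, 2, 3, 4, 5, 6, 7, 3, 2, 1, 4, 3, 2, 5, 8, 7, 3, 2, 1, 4, 3, 2, 5, 4, 3, 7, 8, 9, 6, 5, 4, 3, 2, 1, 7, 3]), 1001, 0),
    ((0, [1, 2, 3, 4, 5, 6, 7, 3, 2, 1, 4, 3, 2, 5, 8, 7, 3, 2, 1, 4, 3, 2, 5, 4, 3, 7, 8, 9, 6, 5, 4, 3, 2, 7, 3, 8]), 1001, 0),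
    ((0, [1, 2, 3, 4, 5, 6, 7, 3, 2, 1, 4, 3, 5, 7, 8, 7, 3, 2, 1, 4, 3, 5, 4, 7, 3, 2, 8, 9, 6, 5, 4, 3, 2, 7, 3, 8]), 901, 0),
    ((0, [1, 2, 3, 4, 5, 6, 7, 3, 2, 1, 4, 3, 5, 8, 7, 3, 2, 1, 0, 4, 3, 5, 4, 7, 3, 2, 8, 9, 6, 5, 4, 3, 2, 7, 3, 8]), 1001, 0),
    ((0, [1, 2, 3, 4, 5, 6, 7, 3, 2, 1, 4, 3, 5, 8, 7, 3, 2, 1, 4, 3, 5, 4, 7, 3, 2, 8, 9, 6, 5, 4, 3, 2, 1, 7, 3, 8]), 901, 0),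
    ((0, [1, 2, 3, 4, 5, 6, 7, 3, 2, 1, 4, 3, 2, 5, 8, 7, 3, 2, 1, 4, 3, 2, 5, 4, 6, 7, 8, 9, 6, 5, 4, 3, 2, 7, 3, 8]), 901, 0),
    ((0, [1, 2, 3, 4, 5, 6, 7, 3, 2, 1, 4, 3, 2, 5, 8, 7, 3, 2, 1, 4, 3, 5, 4, 7, 3, 2, 8, 9, 6, 5, 4, 3, 2, 7, 3, 8]), 901, 0),
    ((0, [1, 2, 3, 4, 5, 6, 7, 3, 2, 1, 4, 3, 8, 7, 3, 2, 1, 4, 3, 2, 5, 4, 3, 7, 3, 2, 8, 9, 6, 5, 4, 3, 2, 7, 3, 8]), 1001, 0),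
    ((0, [1, 2, 3, 4, 5, 6, 7, 3, 2, 1, 4, 3, 5, 8, 7, 3, 2, 1, 0, 4, 3, 2, 5, 6, 7, 8, 9, 6, 5, 4, 3, 2, 7, 3, 4, 5]), 1001, 0),
    ((0, [1, 2, 3, 4, 5, 6, 7, 3, 2, 1, 4, 3, 2, 5, 8, 7, 3, 2, 1, 4, 3, 2, 5, 4, 7, 8, 9, 6, 5, 4, 3, 2, 1, 7, 3, 8]), 901, 0),
    ((0, [1, 2, 3, 4, 5, 6, 7, 3, 2, 1, 4, 3, 5, 4, 8, 7, 3, 2, 1, 4, 3, 5, 4, 7, 3, 2, 8, 7, 9, 6, 5, 4, 3, 2, 7, 8]), 901, 0),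
    ((0, [1, 2, 3, 4, 5, 6, 7, 3, 2, 1, 4, 3, 5, 8, 7, 3, 2, 1, 4, 3, 2, 5, 4, 6, 7, 8, 9, 6, 5, 4, 3, 2, 1, 7, 3, 8]), 901, 0),
    ((0, [1, 2, 3, 4, 5, 6, 7, 3, 2, 1, 4, 3, 5, 8, 7, 3, 2, 1, 4, 3, 2, 5, 7, 8, 9, 6, 5, 4, 3, 2, 1, 7, 3, 4, 5, 8]), 1001, 0),
    ((0, [1, 2, 3, 4, 5, 6, 7, 3, 2, 1, 4, 3, 5, 8, 7, 3, 2, 1, 4, 3, 2, 5, 6, 7, 8, 9, 6, 5, 4, 3, 2, 7, 3, 4, 5, 8]), 1001, 0),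
    ((0, [1, 2, 3, 4, 5, 6, 7, 3, 2, 1, 4, 3, 2, 5, 7, 8, 7, 3, 2, 1, 4, 3, 2, 5, 7, 3, 4, 8, 9, 6, 5, 4, 3, 2, 7, 3]), 1001, 0),
    ((0, [1, 2, 3, 4, 5, 6, 7, 3, 2, 1, 4, 3, 2, 5, 4, 8, 7, 3, 2, 1, 4, 3, 2, 5, 7, 3, 4, 8, 7, 9, 6, 5, 4, 3, 7, 8]), 1001, 0),
    ((0, [1, 2, 3, 4, 5, 6, 7, 3, 2, 1, 4, 3, 5, 4, 8, 7, 3, 2, 1, 4, 3, 2, 5, 7, 3, 4, 8, 9, 6, 5, 4, 3, 2, 1, 7, 3]), 901, 0),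
    ((0, [1, 2, 3, 4, 5, 6, 7, 3, 2, 1, 4, 3, 2, 5, 4, 8, 7, 3, 2, 1, 4, 3, 5, 4, 7, 3, 2, 8, 7, 9, 6, 5, 4, 3, 7, 8]), 901, 0),
    ((0, [1, 2, 3, 4, 5, 6, 7, 3, 2, 1, 4, 3, 2, 5, 4, 8, 7, 3, 2, 1, 0, 4, 3, 5, 4, 7, 3, 2, 8, 7, 9, 6, 5, 4, 3, 7]), 1001, 0),
    ((0, [1, 2, 3, 4, 5, 6, 7, 3, 2, 1, 4, 3, 2, 5, 8, 7, 3, 2, 1, 4, 3, 2, 5, 6, 7, 3, 4, 8, 7, 9, 6, 5, 4, 3, 7, 8]), 1001, 0),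
    ((0, [1, 2, 3, 4, 5, 6, 7, 3, 2, 1, 4, 3, 5, 4, 7, 8, 7, 3, 2, 1, 4, 3, 2, 5, 4, 3, 7, 8, 9, 6, 5, 4, 3, 2, 7, 3]), 1001, 0),
    ((0, [1, 2, 3, 4, 5, 6, 7, 3, 2, 1, 4, 3, 2, 5, 4, 8, 7, 3, 2, 1, 4, 3, 2, 5, 4, 3, 7, 8, 9, 6, 5, 4, 3, 2, 7, 3]), 1001, 0),
    ((0, [1, 2, 3, 4, 5, 6, 7, 3, 2, 1, 4, 3, 5, 4, 8, 7, 3, 2, 1, 4, 3, 5, 4, 7, 3, 2, 1, 8, 7, 9, 6, 5, 4, 3, 7, 8]), 901, 0),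
    ((0, [1, 2, 3, 4, 5, 6, 7, 3, 2, 1, 4, 3, 2, 5, 8, 7, 3, 2, 1, 4, 3, 2, 5, 6, 7, 3, 4, 5, 8, 7, 9, 6, 5, 4, 3, 7]), 1001, 0),
    ((0, [1, 2, 3, 4, 5, 6, 7, 3, 2, 1, 4, 3, 2, 5, 8, 7, 3, 2, 1, 0, 4, 3, 2, 1, 5, 4, 7, 8, 9, 6, 5, 4, 3, 2, 7, 3]), 1001, 0),
    ((0, [1, 2, 3, 4, 5, 6, 7, 3, 2, 1, 4, 3, 5, 4, 8, 7, 3, 2, 1, 4, 3, 5, 4, 6, 7, 3, 2, 8, 7, 9, 6, 5, 4, 3, 7, 8]), 901, 0),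
    ((0, [1, 2, 3, 4, 5, 6, 7, 3, 2, 1, 4, 3, 8, 7, 3, 2, 1, 4, 3, 2, 5, 4, 3, 7, 3, 2, 1, 8, 9, 6, 5, 4, 3, 2, 7, 3]), 1001, 0),
    ((0, [1, 2, 3, 4, 5, 6, 7, 3, 2, 1, 4, 3, 5, 7, 8, 7, 3, 2, 1, 4, 3, 2, 5, 4, 6, 7, 3, 9, 6, 5, 4, 3, 2, 7, 3, 8]), 1001, 0),
    ((0, [1, 2, 3, 4, 5, 6, 7, 3, 2, 1, 4, 3, 2, 5, 8, 7, 3, 2, 1, 4, 3, 2, 5, 4, 7, 3, 2, 9, 6, 5, 4, 3, 2, 7, 3, 8]), 1001, 0),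
    ((0, [1, 2, 3, 4, 5, 6, 7, 3, 2, 1, 4, 3, 2, 5, 7, 8, 7, 3, 2, 1, 4, 3, 2, 5, 4, 7, 3, 4, 8, 7, 9, 6, 5, 4, 3, 7]), 1001, 0),
    ((0, [1, 2, 3, 4, 5, 6, 7, 3, 2, 1, 4, 3, 5, 8, 7, 3, 2, 1, 4, 3, 2, 5, 4, 7, 3, 2, 4, 8, 7, 9, 6, 5, 4, 3, 7, 8]), 1001, 0),
    ((0, [1, 2, 3, 4, 5, 6, 7, 3, 2, 1, 4, 3, 5, 7, 8, 7, 3, 2, 1, 0, 4, 3, 2, 5, 4, 7, 3, 8, 9, 6, 5, 4, 3, 2, 7, 3]), 1001, 0),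
    ((0, [1, 2, 3, 4, 5, 6, 7, 3, 2, 1, 4, 3, 5, 7, 8, 7, 3, 2, 1, 4, 3, 2, 5, 4, 7, 3, 8, 9, 6, 5, 4, 3, 2, 7, 3, 8]), 901, 0),
    ((0, [1, 2, 3, 4, 5, 6, 7, 3, 2, 1, 4, 3, 5, 8, 7, 3, 2, 1, 4, 3, 2, 5, 4, 3, 7, 3, 8, 9, 6, 5, 4, 3, 2, 7, 3, 8]), 1001, 0),
    ((0, [1, 2, 3, 4, 5, 6, 7, 3, 2, 1, 4, 3, 5, 8, 7, 3, 2, 1, 4, 3, 2, 5, 4, 7, 3, 2, 8, 9, 6, 5, 4, 3, 2, 7, 3, 8]), 901, 0),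
    ((0, [1, 2, 3, 4, 5, 6, 7, 3, 2, 1, 4, 3, 5, 8, 7, 3, 2, 1, 4, 3, 2, 5, 4, 7, 3, 2, 4, 8, 9, 6, 5, 4, 3, 2, 7, 3]), 1001, 0),
    ((0, [1, 2, 3, 4, 5, 6, 7, 3, 2, 1, 4, 3, 2, 5, 8, 7, 3, 2, 1, 4, 3, 2, 5, 4, 3, 7, 3, 8, 9, 6, 5, 4, 3, 2, 7, 3]), 1001, 0),
    ((0, [1, 2, 3, 4, 5, 6, 7, 3, 2, 1, 4, 3, 2, 5, 8, 7, 3, 2, 1, 0, 4, 3, 2, 5, 4, 7, 3, 2, 4, 8, 9, 6, 5, 4, 3, 2]), 1001, 0),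
    ((0, [1, 2, 3, 4, 5, 6, 7, 3, 2, 1, 4, 3, 5, 8, 7, 3, 2, 1, 4, 3, 2, 5, 4, 3, 7, 3, 2, 9, 6, 5, 4, 3, 2, 7, 3, 8]), 1001, 0),
    ((0, [1, 2, 3, 4, 5, 6, 7, 3, 2, 1, 4, 3, 2, 5, 4, 8, 7, 3, 2, 1, 4, 3, 2, 5, 4, 3, 7, 3, 4, 8, 9, 6, 5, 4, 3, 2]), 1001, 0),
    ((0, [1, 2, 3, 4, 5, 6, 7, 3, 2, 1, 4, 3, 2, 5, 8, 7, 3, 2, 1, 4, 3, 2, 5, 4, 7, 3, 2, 4, 8, 7, 9, 6, 5, 4, 3, 7]), 1001, 0),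
    ((0, [1, 2, 3, 4, 5, 6, 7, 3, 2, 1, 4, 3, 2, 5, 8, 7, 3, 2, 1, 4, 3, 2, 5, 4, 3, 7, 3, 4, 8, 7, 9, 6, 5, 4, 3, 7]), 1001, 0),
    ((0, [1, 2, 3, 4, 5, 6, 7, 3, 2, 1, 4, 3, 5, 8, 7, 3, 2, 1, 4, 3, 2, 5, 4, 7, 3, 8, 9, 6, 5, 4, 3, 2, 7, 3, 8, 7]), 901, 0),
    ((0, [1, 2, 3, 4, 5, 6, 7, 3, 2, 1, 4, 3, 5, 4, 8, 7, 3, 2, 1, 4, 3, 2, 5, 4, 7, 3, 4, 8, 9, 6, 5, 4, 3, 2, 7, 3]), 901, 0),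
    ((0, [1, 2, 3, 4, 5, 6, 7, 3, 2, 1, 4, 3, 5, 4, 8, 7, 3, 2, 1, 4, 3, 2, 5, 4, 3, 7, 3, 8, 9, 6, 5, 4, 3, 2, 7, 3]), 1001, 0),
    ((0, [1, 2, 3, 4, 5, 6, 7, 3, 2, 1, 4, 3, 2, 5, 8, 7, 3, 2, 1, 4, 3, 2, 5, 4, 6, 7, 3, 4, 8, 7, 9, 6, 5, 4, 3, 7]), 1001, 0),
    ((0, [1, 2, 3, 4, 5, 6, 7, 3, 2, 1, 4, 3, 5, 4, 8, 7, 3, 2, 1, 4, 3, 2, 5, 4, 7, 3, 2, 8, 7, 9, 6, 5, 4, 3, 7, 8]), 901, 0),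
    ((0, [1, 2, 3, 4, 5, 6, 7, 3, 2, 1, 4, 3, 5, 4, 8, 7, 3, 2, 1, 0, 4, 3, 2, 5, 4, 7, 3, 2, 8, 7, 9, 6, 5, 4, 3, 7]), 1001, 0),
    ((0, [1, 2, 3, 4, 5, 6, 7, 3, 2, 1, 4, 3, 5, 4, 8, 7, 3, 2, 1, 4, 3, 2, 5, 4, 7, 3, 2, 4, 8, 7, 9, 6, 5, 4, 3, 7]), 1001, 0),
    ((0, [1, 2, 3, 4, 5, 6, 7, 3, 2, 1, 4, 3, 5, 4, 8, 7, 3, 2, 1, 4, 3, 2, 5, 4, 3, 7, 3, 2, 8, 7, 9, 6, 5, 4, 3, 7]), 901, 0),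
    ((0, [1, 2, 3, 4, 5, 6, 7, 3, 2, 1, 4, 3, 2, 5, 8, 7, 3, 2, 1, 0, 4, 3, 2, 5, 7, 3, 4, 8, 9, 6, 5, 4, 3, 2, 7, 8]), 1001, 0),
    ((0, [1, 2, 3, 4, 5, 6, 7, 3, 2, 1, 4, 3, 2, 5, 8, 7, 3, 2, 1, 0, 4, 3, 2, 5, 7, 3, 4, 8, 7, 9, 6, 5, 4, 3, 7, 8]), 1001, 0),
    ((0, [1, 2, 3, 4, 5, 6, 7, 3, 2, 1, 4, 3, 2, 5, 8, 7, 3, 2, 1, 0, 4, 3, 2, 5, 6, 7, 3, 4, 8, 7, 9, 6, 5, 4, 3, 7]), 1001, 0),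
    ((0, [1, 2, 3, 4, 5, 6, 7, 3, 2, 1, 4, 3, 2, 5, 8, 7, 3, 2, 1, 0, 4, 3, 2, 5, 4, 6, 7, 8, 9, 6, 5, 4, 3, 2, 1, 0]), 1001, 0),
    ((0, [1, 2, 3, 4, 5, 6, 7, 3, 2, 1, 4, 3, 5, 7, 8, 7, 3, 2, 1, 4, 3, 2, 5, 4, 3, 7, 8, 9, 6, 5, 4, 3, 2, 1, 7, 8]), 1001, 0),
    ((0, [1, 2, 3, 4, 5, 6, 7, 3, 2, 1, 4, 3, 2, 5, 8, 7, 3, 2, 1, 0, 4, 3, 2, 1, 5, 4, 6, 7, 8, 9, 6, 5, 4, 3, 2, 1]), 1001, 0),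
    ((0, [1, 2, 3, 4, 5, 6, 7, 3, 2, 1, 4, 3, 2, 5, 8, 7, 3, 2, 1, 0, 4, 3, 2, 5, 4, 6, 7, 8, 9, 6, 5, 4, 3, 2, 1, 7]), 1001, 0),
    ((0, [1, 2, 3, 4, 5, 6, 7, 3, 2, 1, 4, 3, 2, 5, 8, 7, 3, 2, 1, 0, 4, 3, 2, 5, 4, 6, 7, 9, 6, 5, 4, 3, 2, 1, 7, 8]), 1001, 0),
    ((0, [1, 2, 3, 4, 5, 6, 7, 3, 2, 1, 4, 3, 5, 7, 8, 7, 3, 2, 1, 4, 3, 2, 5, 4, 3, 7, 8, 9, 6, 5, 4, 3, 2, 1, 0, 7]), 1001, 0),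
    ((0, [1, 2, 3, 4, 5, 6, 7, 3, 2, 1, 4, 3, 2, 5, 4, 7, 8, 7, 3, 2, 1, 4, 3, 2, 5, 4, 3, 7, 8, 9, 6, 5, 4, 3, 2, 1]), 1001, 0),
    ((0, [1, 2, 3, 4, 5, 6, 7, 3, 2, 1, 4, 3, 2, 5, 7, 8, 7, 3, 2, 1, 4, 3, 2, 5, 4, 3, 7, 8, 9, 6, 5, 4, 3, 2, 1, 7]), 1001, 0),
    ((0, [1, 2, 3, 4, 5, 6, 7, 3, 2, 1, 4, 3, 2, 5, 7, 8, 7, 3, 2, 1, 4, 3, 2, 5, 4, 3, 7, 9, 6, 5, 4, 3, 2, 1, 7, 8]), 1001, 0),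
    ((0, [1, 2, 3, 4, 5, 6, 7, 3, 2, 1, 4, 3, 8, 7, 3, 2, 1, 4, 3, 2, 5, 4, 3, 7, 3, 2, 8, 9, 6, 5, 4, 3, 2, 1, 0, 7]), 1001, 0),
    ((0, [1, 2, 3, 4, 5, 6, 7, 3, 2, 1, 4, 3, 2, 5, 8, 7, 3, 2, 1, 0, 4, 3, 2, 5, 4, 7, 8, 9, 6, 5, 4, 3, 2, 1, 7, 3]), 1001, 0),
    ((0, [1, 2, 3, 4, 5, 6, 7, 3, 2, 1, 4, 3, 5, 7, 8, 7, 3, 2, 1, 4, 3, 2, 5, 4, 3, 7, 8, 9, 6, 5, 4, 3, 2, 1, 7, 3]), 1001, 0),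
    ((0, [1, 2, 3, 4, 5, 6, 7, 3, 2, 1, 4, 3, 5, 8, 7, 3, 2, 1, 0, 4, 3, 2, 5, 4, 7, 8, 9, 6, 5, 4, 3, 2, 1, 7, 3, 8]), 1001, 0),
    ((0, [1, 2, 3, 4, 5, 6, 7, 3, 2, 1, 4, 3, 8, 7, 3, 2, 1, 4, 3, 2, 5, 4, 3, 7, 3, 2, 8, 9, 6, 5, 4, 3, 2, 1, 7, 3]), 1001, 0),
    ((0, [1, 2, 3, 4, 5, 6, 7, 3, 2, 1, 4, 3, 5, 7, 8, 7, 3, 2, 1, 4, 3, 2, 5, 7, 3, 4, 8, 9, 6, 5, 4, 3, 2, 1, 7, 3]), 1001, 0),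
    ((0, [1, 2, 3, 4, 5, 6, 7, 3, 2, 1, 4, 3, 2, 5, 7, 8, 7, 3, 2, 1, 4, 3, 2, 5, 7, 8, 9, 6, 5, 4, 3, 2, 7, 3, 4, 5]), 1001, 0),
    ((0, [1, 2, 3, 4, 5, 6, 7, 3, 2, 1, 4, 5, 8, 7, 3, 2, 1, 4, 3, 5, 4, 7, 3, 2, 8, 9, 6, 5, 4, 3, 2, 7, 3, 4, 5, 8]), 1001, 0),
    ((0, [1, 2, 3, 4, 5, 6, 7, 3, 2, 1, 4, 5, 8, 7, 3, 2, 1, 4, 3, 5, 4, 7, 3, 2, 8, 9, 6, 5, 4, 3, 2, 7, 3, 4, 5, 6]), 1001, 0),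
    ((0, [1, 2, 3, 4, 5, 6, 7, 3, 2, 1, 4, 3, 2, 5, 8, 7, 3, 2, 1, 0, 4, 3, 2, 5, 7, 3, 4, 8, 9, 6, 5, 4, 3, 2, 7, 3]), 1001, 0),
    ((0, [1, 2, 3, 4, 5, 6, 7, 3, 2, 1, 4, 5, 8, 7, 3, 2, 1, 4, 3, 2, 5, 4, 7, 3, 2, 4, 8, 7, 9, 6, 5, 4, 3, 2, 7, 8]), 1001, 0),
    ((0, [1, 2, 3, 4, 5, 6, 7, 3, 2, 1, 4, 3, 5, 8, 7, 3, 2, 1, 4, 3, 2, 5, 4, 3, 7, 8, 9, 6, 5, 4, 3, 2, 1, 0, 7, 3]), 1001, 0),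
    ((0, [1, 2, 3, 4, 5, 6, 7, 3, 2, 1, 4, 3, 5, 7, 8, 7, 3, 2, 1, 4, 3, 2, 5, 4, 3, 7, 3, 9, 6, 5, 4, 3, 2, 7, 3, 8]), 1001, 0),
    ((0, [1, 2, 3, 4, 5, 6, 7, 3, 2, 1, 4, 3, 2, 5, 8, 7, 3, 2, 1, 0, 4, 3, 2, 5, 4, 7, 3, 8, 9, 6, 5, 4, 3, 2, 7, 3]), 1001, 0),
    ((0, [1, 2, 3, 4, 5, 6, 7, 3, 2, 1, 4, 3, 5, 8, 7, 3, 2, 1, 0, 4, 3, 2, 5, 4, 7, 3, 8, 9, 6, 5, 4, 3, 2, 7, 3, 8]), 1001, 0),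
    ((0, [1, 2, 3, 4, 5, 6, 7, 3, 2, 1, 4, 3, 5, 7, 8, 7, 3, 2, 1, 4, 3, 2, 5, 4, 3, 7, 3, 8, 9, 6, 5, 4, 3, 2, 7, 3]), 1001, 0),
    ((0, [1, 2, 3, 4, 5, 6, 7, 3, 2, 1, 4, 3, 5, 8, 7, 3, 2, 1, 4, 3, 2, 5, 4, 6, 7, 3, 8, 9, 6, 5, 4, 3, 2, 7, 3, 8]), 901, 0),
    ((0, [1, 2, 3, 4, 5, 6, 7, 3, 2, 1, 4, 3, 5, 8, 7, 3, 2, 1, 4, 3, 2, 5, 4, 3, 7, 3, 2, 8, 9, 6, 5, 4, 3, 2, 7, 3]), 1001, 0),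
    ((0, [1, 2, 3, 4, 5, 6, 7, 3, 2, 1, 4, 3, 2, 5, 8, 7, 3, 2, 1, 4, 3, 2, 5, 4, 3, 7, 3, 4, 5, 8, 9, 6, 5, 4, 3, 7]), 1001, 0),
    ((0, [1, 2, 3, 4, 5, 6, 7, 3, 2, 1, 4, 3, 5, 7, 8, 7, 3, 2, 1, 4, 3, 2, 5, 4, 7, 3, 2, 4, 8, 7, 9, 6, 5, 4, 3, 7]), 901, 0),
    ((0, [1, 2, 3, 4, 5, 6, 7, 3, 2, 1, 4, 3, 5, 8, 7, 3, 2, 1, 4, 3, 2, 5, 4, 3, 7, 3, 2, 4, 8, 7, 9, 6, 5, 4, 3, 7]), 1001, 0),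
    ((0, [1, 2, 3, 4, 5, 6, 7, 3, 2, 1, 4, 3, 2, 5, 7, 8, 7, 3, 2, 1, 4, 3, 2, 5, 4, 3, 7, 3, 4, 8, 7, 9, 6, 5, 4, 3]), 1001, 0),
    ((0, [1, 2, 3, 4, 5, 6, 7, 3, 2, 1, 4, 3, 5, 4, 8, 7, 3, 2, 1, 4, 3, 2, 5, 4, 7, 3, 2, 4, 5, 8, 7, 9, 6, 5, 4, 3]), 1001, 0),
    ((0, [1, 2, 3, 4, 5, 6, 7, 3, 2, 1, 4, 3, 2, 5, 8, 7, 3, 2, 1, 4, 3, 2, 5, 4, 3, 7, 3, 4, 5, 8, 9, 6, 5, 4, 3, 2]), 1001, 0),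
    ((0, [1, 2, 3, 4, 5, 6, 7, 3, 2, 1, 4, 3, 5, 7, 8, 7, 3, 2, 1, 4, 3, 2, 5, 4, 7, 3, 4, 8, 9, 6, 5, 4, 3, 2, 7, 3]), 1001, 0),
    ((0, [1, 2, 3, 4, 5, 6, 7, 3, 2, 1, 4, 3, 5, 8, 7, 3, 2, 1, 4, 3, 2, 5, 4, 7, 3, 2, 1, 4, 5, 8, 9, 6, 5, 4, 3, 2]), 1001, 0),
    ((0, [1, 2, 3, 4, 5, 6, 7, 3, 2, 1, 4, 3, 2, 5, 4, 7, 8, 7, 3, 2, 1, 4, 3, 2, 5, 4, 7, 3, 2, 4, 8, 7, 3, 9, 6, 5]), 1001, 0),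
    ((0, [1, 2, 3, 4, 5, 6, 7, 3, 2, 1, 4, 3, 2, 5, 8, 7, 3, 2, 1, 4, 3, 2, 5, 4, 7, 3, 2, 4, 5, 6, 8, 7, 3, 9, 6, 5]), 1001, 0),
    ((0, [1, 2, 3, 4, 5, 6, 7, 3, 2, 1, 4, 3, 5, 8, 7, 3, 2, 1, 4, 3, 2, 5, 4, 3, 7, 3, 2, 4, 5, 8, 7, 9, 6, 5, 4, 3]), 1001, 0),
    ((0, [1, 2, 3, 4, 5, 6, 7, 3, 2, 1, 4, 3, 2, 5, 4, 8, 7, 3, 2, 1, 4, 3, 2, 5, 4, 6, 5, 7, 3, 4, 8, 7, 3, 9, 6, 5]), 901, 0),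
    ((0, [1, 2, 3, 4, 5, 6, 7, 3, 2, 1, 4, 3, 2, 5, 4, 8, 7, 3, 2, 1, 0, 4, 3, 2, 1, 5, 4, 7, 3, 2, 8, 7, 3, 9, 6, 5]), 1001, 0),
    ((0, [1, 2, 3, 4, 5, 6, 7, 3, 2, 1, 4, 3, 2, 5, 4, 8, 7, 3, 2, 1, 4, 3, 2, 5, 4, 3, 7, 3, 2, 8, 7, 3, 4, 9, 6, 5]), 1001, 0),
    ((0, [1, 2, 3, 4, 5, 6, 7, 3, 2, 1, 4, 3, 2, 5, 4, 8, 7, 3, 2, 1, 0, 4, 3, 2, 5, 4, 3, 7, 3, 2, 8, 7, 3, 9, 6, 5]), 1001, 0),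
    ((0, [1, 2, 3, 4, 5, 6, 7, 3, 2, 1, 4, 3, 2, 5, 4, 7, 8, 7, 3, 2, 1, 4, 3, 2, 5, 4, 3, 7, 3, 2, 8, 7, 3, 9, 6, 5]), 901, 0),
    ((0, [1, 2, 3, 4, 5, 6, 7, 3, 2, 1, 4, 3, 5, 4, 8, 7, 3, 2, 1, 0, 4, 3, 2, 5, 4, 3, 7, 3, 2, 8, 7, 9, 6, 5, 4, 3]), 1001, 0),
    ((0, [1, 2, 3, 4, 5, 6, 7, 3, 2, 1, 4, 3, 2, 5, 4, 8, 7, 3, 2, 1, 4, 3, 2, 5, 4, 7, 3, 2, 8, 7, 3, 4, 5, 9, 6, 5]), 1001, 0),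
    ((0, [1, 2, 3, 4, 5, 6, 7, 3, 2, 1, 4, 3, 5, 4, 8, 7, 3, 2, 1, 0, 4, 3, 2, 5, 4, 6, 7, 3, 2, 8, 7, 9, 6, 5, 4, 3]), 1001, 0),
    ((0, [1, 2, 3, 4, 5, 6, 7, 3, 2, 1, 4, 3, 2, 5, 4, 7, 8, 7, 3, 2, 1, 4, 3, 2, 5, 4, 3, 7, 3, 4, 8, 7, 3, 9, 6, 5]), 1001, 0),
    ((0, [1, 2, 3, 4, 5, 6, 7, 3, 2, 1, 4, 3, 2, 5, 4, 8, 7, 3, 2, 1, 4, 3, 2, 5, 7, 3, 4, 8, 7, 9, 6, 5, 4, 3, 2, 1]), 1001, 0),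
    ((0, [1, 2, 3, 4, 5, 6, 7, 3, 2, 1, 4, 3, 5, 4, 8, 7, 3, 2, 1, 0, 4, 3, 5, 4, 6, 7, 3, 2, 8, 7, 9, 6, 5, 4, 3, 2]), 1001, 0),
    ((0, [1, 2, 3, 4, 5, 6, 7, 3, 2, 1, 4, 3, 2, 5, 4, 8, 7, 3, 2, 1, 4, 3, 2, 5, 4, 3, 7, 8, 9, 6, 5, 4, 3, 2, 1, 0]), 1001, 0),
    ((0, [1, 2, 3, 4, 5, 6, 7, 3, 2, 1, 4, 3, 5, 8, 7, 3, 2, 1, 4, 3, 2, 5, 4, 3, 7, 3, 2, 4, 5, 9, 6, 5, 4, 3, 7, 8]), 1001, 0),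
    ((0, [1, 2, 3, 4, 5, 6, 7, 3, 2, 1, 4, 3, 2, 5, 8, 7, 3, 2, 1, 4, 3, 2, 5, 4, 7, 3, 2, 4, 5, 9, 6, 5, 4, 3, 7, 8]), 1001, 0),
    ((0, [1, 2, 3, 4, 5, 6, 7, 3, 2, 1, 4, 5, 8, 7, 3, 2, 1, 4, 3, 2, 5, 4, 7, 3, 2, 4, 5, 8, 9, 6, 5, 4, 3, 2, 7, 8]), 1001, 0),
    ((0, [1, 2, 3, 4, 5, 6, 7, 3, 2, 1, 4, 5, 8, 7, 3, 2, 1, 4, 3, 2, 5, 4, 7, 3, 2, 4, 5, 8, 7, 9, 6, 5, 4, 3, 7, 8]), 1001, 0),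
    ((0, [1, 2, 3, 4, 5, 6, 7, 3, 2, 1, 4, 3, 2, 5, 8, 7, 3, 2, 1, 0, 4, 3, 2, 5, 6, 7, 3, 4, 5, 8, 9, 6, 5, 4, 3, 7]), 1001, 0),
    ((0, [1, 2, 3, 4, 5, 6, 7, 3, 2, 1, 4, 5, 8, 7, 3, 2, 1, 4, 3, 2, 5, 4, 7, 3, 2, 1, 4, 5, 8, 7, 9, 6, 5, 4, 3, 7]), 1001, 0),
    ((0, [1, 2, 3, 4, 5, 6, 7, 3, 2, 1, 4, 3, 2, 5, 8, 7, 3, 2, 1, 4, 3, 2, 5, 4, 3, 7, 8, 9, 6, 5, 4, 3, 2, 1, 0, 7]), 1001, 0),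
    ((0, [1, 2, 3, 4, 5, 6, 7, 3, 2, 1, 4, 3, 5, 8, 7, 3, 2, 1, 4, 3, 2, 5, 4, 7, 3, 2, 4, 5, 8, 7, 9, 6, 5, 4, 3, 7]), 1001, 0),
    ((0, [1, 2, 3, 4, 5, 6, 7, 3, 2, 1, 4, 5, 8, 7, 3, 2, 1, 4, 3, 2, 5, 4, 7, 3, 2, 4, 5, 8, 9, 6, 5, 4, 3, 2, 1, 7]), 1001, 0),
    ((0, [1, 2, 3, 4, 5, 6, 7, 3, 2, 1, 4, 3, 5, 8, 7, 3, 2, 1, 4, 3, 2, 5, 6, 7, 8, 9, 6, 5, 4, 3, 2, 7, 3, 4, 5, 6]), 1001, 0),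
    ((0, [1, 2, 3, 4, 5, 6, 7, 3, 2, 1, 4, 3, 2, 5, 8, 7, 3, 2, 1, 0, 4, 3, 2, 5, 6, 7, 3, 4, 5, 8, 9, 6, 5, 4, 3, 2]), 1001, 0),
    ((0, [1, 2, 3, 4, 5, 6, 7, 3, 2, 1, 4, 3, 2, 5, 8, 7, 3, 2, 1, 4, 3, 5, 4, 7, 3, 2, 9, 6, 5, 4, 3, 2, 1, 0, 7, 8]), 1001, 0),
    ((0, [1, 2, 3, 4, 5, 6, 7, 3, 2, 1, 4, 3, 2, 5, 8, 7, 3, 2, 1, 4, 3, 5, 4, 7, 3, 8, 9, 6, 5, 4, 3, 2, 1, 0, 7, 3]), 1001, 0),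
    ((0, [1, 2, 3, 4, 5, 6, 7, 3, 2, 1, 4, 3, 2, 5, 8, 7, 3, 2, 1, 4, 3, 2, 5, 7, 3, 4, 5, 6, 8, 7, 9, 6, 5, 4, 3, 2]), 1001, 0)]

/-- Part 46 of the cycles. -/
def reps46 : List ((Nat × List Nat) × Nat × Nat) :=
  [
    ((0, [1, 2, 3, 4, 5, 6, 7, 3, 2, 1, 4, 3, 5, 7, 8, 7, 3, 2, 1, 4, 3, 2, 5, 7, 8, 9, 6, 5, 4, 3, 2, 7, 3, 4, 5, 8]), 1001, 0),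
    ((0, [1, 2, 3, 4, 5, 6, 7, 3, 2, 1, 4, 3, 5, 7, 8, 7, 3, 2, 1, 4, 3, 2, 5, 7, 3, 8, 9, 6, 5, 4, 3, 2, 7, 3, 4, 5]), 1001, 0),
    ((0, [1, 2, 3, 4, 5, 6, 7, 3, 2, 4, 3, 5, 8, 7, 3, 2, 1, 4, 3, 2, 5, 4, 3, 7, 3, 8, 9, 6, 5, 4, 3, 2, 7, 3, 4, 5]), 1001, 0),
    ((0, [1, 2, 3, 4, 5, 6, 7, 3, 2, 4, 3, 5, 8, 7, 3, 2, 1, 4, 3, 2, 5, 4, 3, 7, 8, 9, 6, 5, 4, 3, 2, 7, 3, 4, 5, 8]), 1001, 0),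
    ((0, [1, 2, 3, 4, 5, 6, 7, 3, 2, 1, 4, 3, 2, 5, 8, 7, 3, 2, 1, 0, 4, 3, 2, 5, 6, 7, 3, 4, 8, 7, 9, 6, 5, 4, 3, 2]), 1001, 0),
    ((0, [1, 2, 3, 4, 5, 6, 7, 3, 2, 1, 4, 3, 2, 5, 8, 7, 3, 2, 1, 4, 3, 2, 5, 7, 3, 4, 8, 7, 9, 6, 5, 4, 3, 2, 7, 8]), 1001, 0),
    ((0, [1, 2, 3, 4, 5, 6, 7, 3, 2, 1, 4, 3, 2, 5, 8, 7, 3, 2, 1, 4, 3, 2, 5, 7, 3, 4, 8, 7, 9, 6, 5, 4, 3, 2, 7, 3]), 1001, 0),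
    ((0, [1, 2, 3, 4, 5, 6, 7, 3, 2, 1, 4, 3, 2, 5, 8, 7, 3, 2, 1, 4, 3, 2, 5, 4, 3, 7, 3, 4, 8, 7, 3, 2, 1, 9, 6, 5]), 1001, 0),
    ((0, [1, 2, 3, 4, 5, 6, 7, 3, 2, 1, 4, 3, 2, 5, 8, 7, 3, 2, 1, 0, 4, 3, 2, 5, 4, 7, 3, 2, 4, 8, 7, 3, 2, 9, 6, 5]), 1001, 0),
    ((0, [1, 2, 3, 4, 5, 6, 7, 3, 2, 1, 4, 3, 2, 5, 8, 7, 3, 2, 1, 0, 4, 3, 2, 5, 4, 3, 7, 3, 4, 8, 7, 3, 2, 9, 6, 5]), 1001, 0),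
    ((0, [1, 2, 3, 4, 5, 6, 7, 3, 2, 1, 4, 3, 5, 7, 8, 7, 3, 2, 1, 4, 3, 5, 7, 8, 9, 6, 5, 4, 3, 2, 7, 3, 4, 5, 6, 9]), 1001, 0),
    ((0, [1, 2, 3, 4, 5, 6, 7, 3, 2, 1, 4, 3, 2, 5, 8, 7, 3, 2, 1, 4, 3, 2, 5, 7, 8, 9, 6, 5, 4, 3, 2, 7, 3, 4, 5, 8]), 1001, 0),
    ((0, [1, 2, 3, 4, 5, 6, 7, 3, 2, 1, 4, 3, 2, 5, 8, 7, 3, 2, 1, 4, 3, 2, 5, 7, 3, 8, 9, 6, 5, 4, 3, 2, 7, 3, 4, 5]), 1001, 0),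
    ((0, [1, 2, 3, 4, 5, 6, 7, 3, 2, 1, 4, 3, 5, 7, 8, 7, 3, 2, 1, 4, 3, 5, 6, 7, 8, 9, 6, 5, 4, 3, 2, 7, 3, 4, 5, 6]), 1001, 0),
    ((0, [1, 2, 3, 4, 5, 6, 7, 3, 2, 1, 4, 3, 2, 5, 8, 7, 3, 2, 1, 4, 3, 2, 5, 6, 7, 3, 4, 8, 7, 9, 6, 5, 4, 3, 2, 1]), 1001, 0),
    ((0, [1, 2, 3, 4, 5, 6, 7, 3, 2, 1, 4, 3, 2, 5, 8, 7, 3, 2, 1, 4, 3, 5, 6, 7, 8, 9, 6, 5, 4, 3, 2, 7, 3, 4, 5, 6]), 1001, 0),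
    ((0, [1, 2, 3, 4, 5, 6, 7, 3, 2, 1, 4, 3, 5, 8, 7, 3, 2, 1, 4, 3, 2, 5, 4, 7, 3, 8, 7, 9, 6, 5, 4, 3, 2, 7, 3, 8]), 901, 0),
    ((0, [1, 2, 3, 4, 5, 6, 7, 3, 2, 1, 4, 3, 2, 5, 8, 7, 3, 2, 1, 4, 3, 2, 5, 4, 3, 7, 3, 4, 8, 7, 9, 6, 5, 4, 3, 2]), 1001, 0),
    ((0, [1, 2, 3, 4, 5, 6, 7, 3, 2, 1, 4, 3, 2, 5, 8, 7, 3, 2, 1, 4, 3, 2, 5, 4, 7, 3, 2, 4, 8, 7, 9, 6, 5, 4, 3, 2]), 1001, 0),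
    ((0, [1, 2, 3, 4, 5, 6, 7, 3, 2, 1, 4, 3, 5, 7, 8, 7, 3, 2, 1, 4, 3, 2, 5, 4, 7, 3, 2, 4, 8, 7, 9, 6, 5, 4, 3, 2]), 901, 0),
    ((0, [1, 2, 3, 4, 5, 6, 7, 3, 2, 1, 4, 3, 5, 8, 7, 3, 2, 1, 4, 3, 2, 5, 4, 3, 7, 3, 2, 4, 8, 7, 9, 6, 5, 4, 3, 2]), 1001, 0),
    ((0, [1, 2, 3, 4, 5, 6, 7, 3, 2, 1, 4, 3, 5, 4, 8, 7, 3, 2, 1, 4, 3, 2, 5, 4, 7, 3, 2, 4, 8, 7, 9, 6, 5, 4, 3, 2]), 1001, 0),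
    ((0, [1, 2, 3, 4, 5, 6, 7, 3, 2, 1, 4, 3, 5, 4, 8, 7, 3, 2, 1, 4, 3, 2, 5, 4, 3, 7, 3, 2, 8, 7, 9, 6, 5, 4, 3, 2]), 901, 0),
    ((0, [1, 2, 3, 4, 5, 6, 7, 3, 2, 1, 4, 3, 2, 5, 8, 7, 3, 2, 1, 4, 3, 2, 5, 4, 3, 7, 3, 4, 5, 8, 7, 3, 2, 9, 6, 5]), 1001, 0),
    ((0, [1, 2, 3, 4, 5, 6, 7, 3, 2, 1, 4, 3, 2, 5, 8, 7, 3, 2, 1, 4, 3, 2, 5, 7, 3, 4, 8, 7, 3, 2, 9, 6, 5, 4, 3, 2]), 1001, 0),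
    ((0, [1, 2, 3, 4, 5, 6, 7, 3, 2, 1, 4, 3, 8, 7, 3, 2, 1, 4, 3, 2, 5, 4, 3, 7, 3, 8, 9, 6, 5, 4, 3, 2, 7, 3, 4, 5]), 1001, 0),
    ((0, [1, 2, 3, 4, 5, 6, 7, 3, 2, 1, 4, 3, 5, 8, 7, 3, 2, 1, 4, 3, 2, 5, 4, 7, 3, 8, 7, 9, 6, 5, 4, 3, 2, 1, 0, 7]), 1001, 0),
    ((0, [1, 2, 3, 4, 5, 6, 7, 3, 2, 1, 4, 3, 5, 8, 7, 3, 2, 1, 4, 3, 2, 5, 4, 7, 3, 4, 8, 7, 9, 6, 5, 4, 3, 2, 1, 0]), 1001, 0),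
    ((0, [1, 2, 3, 4, 5, 6, 7, 3, 2, 1, 4, 3, 5, 7, 8, 7, 3, 2, 1, 4, 3, 2, 5, 4, 7, 3, 8, 7, 9, 6, 5, 4, 3, 2, 1, 0]), 1001, 0),
    ((0, [1, 2, 3, 4, 5, 6, 7, 3, 2, 1, 4, 3, 5, 4, 8, 7, 3, 2, 1, 4, 3, 2, 5, 4, 7, 3, 8, 7, 9, 6, 5, 4, 3, 2, 1, 0]), 1001, 0),
    ((0, [1, 2, 3, 4, 5, 6, 7, 3, 2, 1, 4, 3, 2, 5, 8, 7, 3, 2, 1, 4, 3, 2, 5, 4, 7, 3, 8, 7, 9, 6, 5, 4, 3, 2, 1, 0]), 1001, 0),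
    ((0, [1, 2, 3, 4, 5, 6, 7, 3, 2, 1, 4, 3, 5, 8, 7, 3, 2, 1, 4, 3, 2, 5, 4, 6, 7, 3, 8, 7, 9, 6, 5, 4, 3, 2, 1, 0]), 1001, 0),
    ((0, [1, 2, 3, 4, 5, 6, 7, 3, 2, 1, 4, 3, 5, 8, 7, 3, 2, 1, 4, 3, 2, 5, 4, 7, 3, 2, 8, 7, 9, 6, 5, 4, 3, 2, 1, 0]), 1001, 0),
    ((0, [1, 2, 3, 4, 5, 6, 7, 3, 2, 1, 4, 3, 5, 8, 7, 3, 2, 1, 4, 3, 2, 5, 4, 3, 7, 3, 8, 7, 9, 6, 5, 4, 3, 2, 1, 0]), 1001, 0),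
    ((0, [1, 2, 3, 4, 5, 6, 7, 3, 2, 1, 4, 3, 5, 8, 7, 3, 2, 1, 0, 4, 3, 2, 5, 4, 7, 3, 8, 7, 9, 6, 5, 4, 3, 2, 1, 0]), 1001, 0),
    ((0, [1, 2, 3, 4, 5, 6, 7, 3, 2, 1, 4, 3, 2, 5, 4, 7, 8, 7, 3, 2, 1, 4, 3, 2, 5, 7, 3, 4, 8, 7, 9, 6, 5, 4, 3, 7, 8]), 1001, 0),
    ((0, [1, 2, 3, 4, 5, 6, 7, 3, 2, 1, 4, 3, 2, 5, 8, 7, 3, 2, 1, 4, 3, 2, 5, 7, 3, 4, 5, 6, 8, 7, 9, 6, 5, 4, 3, 7, 8]), 1001, 0),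
    ((0, [1, 2, 3, 4, 5, 6, 7, 3, 2, 1, 4, 3, 2, 5, 4, 8, 7, 3, 2, 1, 4, 3, 2, 5, 7, 3, 4, 5, 8, 7, 9, 6, 5, 4, 3, 7, 8]), 1001, 0),
    ((0, [1, 2, 3, 4, 5, 6, 7, 3, 2, 1, 4, 3, 5, 4, 7, 8, 7, 3, 2, 1, 4, 3, 5, 4, 7, 3, 2, 8, 7, 9, 6, 5, 4, 3, 2, 7, 8]), 901, 0),
    ((0, [1, 2, 3, 4, 5, 6, 7, 3, 2, 1, 4, 3, 2, 5, 7, 8, 7, 3, 2, 1, 0, 4, 3, 2, 5, 4, 7, 8, 9, 6, 5, 4, 3, 2, 7, 3, 8]), 1001, 0),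
    ((0, [1, 2, 3, 4, 5, 6, 7, 3, 2, 1, 4, 3, 2, 5, 8, 7, 3, 2, 1, 0, 4, 3, 2, 5, 4, 3, 7, 8, 9, 6, 5, 4, 3, 2, 7, 3, 8]), 901, 0),
    ((0, [1, 2, 3, 4, 5, 6, 7, 3, 2, 1, 4, 3, 2, 5, 7, 8, 7, 3, 2, 1, 4, 3, 2, 5, 4, 3, 7, 8, 9, 6, 5, 4, 3, 2, 7, 3, 8]), 1001, 0),
    ((0, [1, 2, 3, 4, 5, 6, 7, 3, 2, 1, 4, 3, 2, 5, 8, 7, 3, 2, 1, 4, 3, 2, 5, 4, 3, 7, 8, 9, 6, 5, 4, 3, 2, 1, 7, 3, 8]), 1001, 0),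
    ((0, [1, 2, 3, 4, 5, 6, 7, 3, 2, 1, 4, 3, 2, 5, 8, 7, 3, 2, 1, 0, 4, 3, 2, 5, 4, 6, 7, 8, 9, 6, 5, 4, 3, 2, 7, 3, 8]), 1001, 0),
    ((0, [1, 2, 3, 4, 5, 6, 7, 3, 2, 1, 4, 3, 2, 5, 8, 7, 3, 2, 1, 0, 4, 3, 5, 4, 7, 3, 2, 8, 9, 6, 5, 4, 3, 2, 7, 3, 8]), 1001, 0),
    ((0, [1, 2, 3, 4, 5, 6, 7, 3, 2, 1, 4, 3, 2, 5, 8, 7, 3, 2, 1, 4, 3, 2, 5, 4, 6, 5, 7, 8, 9, 6, 5, 4, 3, 2, 7, 3, 8]), 901, 0),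
    ((0, [1, 2, 3, 4, 5, 6, 7, 3, 2, 1, 4, 3, 2, 5, 8, 7, 3, 2, 1, 0, 4, 3, 5, 4, 7, 3, 2, 8, 9, 6, 5, 4, 3, 2, 1, 7, 3]), 1001, 0),
    ((0, [1, 2, 3, 4, 5, 6, 7, 3, 2, 1, 4, 3, 2, 5, 8, 7, 3, 2, 1, 4, 3, 2, 5, 7, 3, 4, 5, 6, 8, 9, 6, 5, 4, 3, 2, 7, 3]), 1001, 0),
    ((0, [1, 2, 3, 4, 5, 6, 7, 3, 2, 1, 4, 3, 5, 4, 8, 7, 3, 2, 1, 4, 3, 5, 4, 6, 7, 3, 2, 8, 7, 9, 6, 5, 4, 3, 2, 7, 8]), 901, 0),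
    ((0, [1, 2, 3, 4, 5, 6, 7, 3, 2, 1, 4, 3, 5, 8, 7, 3, 2, 1, 4, 3, 2, 5, 6, 7, 8, 9, 6, 5, 4, 3, 2, 1, 7, 3, 4, 5, 8]), 1001, 0),
    ((0, [1, 2, 3, 4, 5, 6, 7, 3, 2, 1, 4, 3, 2, 5, 4, 8, 7, 3, 2, 1, 4, 3, 2, 5, 4, 3, 7, 8, 9, 6, 5, 4, 3, 2, 1, 7, 3]), 1001, 0),
    ((0, [1, 2, 3, 4, 5, 6, 7, 3, 2, 1, 4, 3, 2, 5, 4, 7, 8, 7, 3, 2, 1, 4, 3, 2, 5, 4, 3, 7, 8, 9, 6, 5, 4, 3, 2, 7, 3]), 1001, 0),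
    ((0, [1, 2, 3, 4, 5, 6, 7, 3, 2, 1, 4, 3, 2, 5, 4, 8, 7, 3, 2, 1, 4, 3, 2, 5, 4, 3, 6, 7, 8, 9, 6, 5, 4, 3, 2, 7, 3]), 1001, 0),
    ((0, [1, 2, 3, 4, 5, 6, 7, 3, 2, 1, 4, 3, 2, 5, 4, 7, 8, 7, 3, 2, 1, 4, 3, 5, 4, 7, 3, 2, 8, 7, 9, 6, 5, 4, 3, 7, 8]), 901, 0),
    ((0, [1, 2, 3, 4, 5, 6, 7, 3, 2, 1, 4, 3, 2, 5, 8, 7, 3, 2, 1, 4, 3, 2, 5, 6, 7, 3, 4, 5, 6, 8, 7, 9, 6, 5, 4, 3, 7]), 1001, 0),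
    ((0, [1, 2, 3, 4, 5, 6, 7, 3, 2, 1, 4, 3, 2, 5, 8, 7, 3, 2, 1, 0, 4, 3, 2, 1, 5, 4, 6, 7, 8, 9, 6, 5, 4, 3, 2, 7, 3]), 1001, 0),
    ((0, [1, 2, 3, 4, 5, 6, 7, 3, 2, 1, 4, 3, 2, 5, 8, 7, 3, 2, 1, 0, 4, 3, 2, 5, 4, 3, 7, 3, 9, 6, 5, 4, 3, 2, 7, 3, 8]), 1001, 0),
    ((0, [1, 2, 3, 4, 5, 6, 7, 3, 2, 1, 4, 3, 5, 8, 7, 3, 2, 1, 4, 3, 2, 5, 4, 7, 3, 2, 1, 4, 8, 9, 6, 5, 4, 3, 2, 7, 3]), 1001, 0),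
    ((0, [1, 2, 3, 4, 5, 6, 7, 3, 2, 1, 4, 3, 2, 5, 8, 7, 3, 2, 1, 4, 3, 2, 5, 4, 3, 7, 3, 8, 9, 6, 5, 4, 3, 2, 7, 3, 8]), 1001, 0),
    ((0, [1, 2, 3, 4, 5, 6, 7, 3, 2, 1, 4, 3, 2, 5, 8, 7, 3, 2, 1, 0, 4, 3, 2, 1, 5, 4, 7, 3, 2, 8, 7, 9, 6, 5, 4, 3, 7]), 901, 0),
    ((0, [1, 2, 3, 4, 5, 6, 7, 3, 2, 1, 4, 3, 2, 5, 8, 7, 3, 2, 1, 0, 4, 3, 2, 5, 4, 3, 7, 3, 4, 8, 7, 9, 6, 5, 4, 3, 7]), 1001, 0),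
    ((0, [1, 2, 3, 4, 5, 6, 7, 3, 2, 1, 4, 3, 2, 5, 4, 8, 7, 3, 2, 1, 4, 3, 2, 5, 4, 3, 7, 3, 2, 8, 7, 9, 6, 5, 4, 3, 7]), 901, 0),
    ((0, [1, 2, 3, 4, 5, 6, 7, 3, 2, 1, 4, 3, 2, 5, 8, 7, 3, 2, 1, 0, 4, 3, 2, 5, 4, 7, 3, 2, 4, 8, 7, 9, 6, 5, 4, 3, 7]), 1001, 0),
    ((0, [1, 2, 3, 4, 5, 6, 7, 3, 2, 1, 4, 3, 2, 5, 8, 7, 3, 2, 1, 4, 3, 2, 5, 4, 7, 3, 2, 4, 8, 7, 9, 6, 5, 4, 3, 7, 8]), 1001, 0),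
    ((0, [1, 2, 3, 4, 5, 6, 7, 3, 2, 1, 4, 3, 5, 4, 8, 7, 3, 2, 1, 4, 3, 2, 5, 4, 7, 3, 2, 4, 8, 9, 6, 5, 4, 3, 2, 7, 3]), 901, 0),
    ((0, [1, 2, 3, 4, 5, 6, 7, 3, 2, 1, 4, 3, 2, 5, 8, 7, 3, 2, 1, 4, 3, 2, 5, 4, 3, 7, 3, 4, 8, 7, 9, 6, 5, 4, 3, 7, 8]), 1001, 0),
    ((0, [1, 2, 3, 4, 5, 6, 7, 3, 2, 1, 4, 3, 5, 4, 8, 7, 3, 2, 1, 4, 3, 2, 5, 4, 3, 7, 3, 2, 8, 9, 6, 5, 4, 3, 2, 7, 3]), 1001, 0),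
    ((0, [1, 2, 3, 4, 5, 6, 7, 3, 2, 1, 4, 3, 5, 8, 7, 3, 2, 1, 4, 3, 2, 5, 4, 6, 7, 3, 8, 9, 6, 5, 4, 3, 2, 7, 3, 8, 7]), 901, 0),
    ((0, [1, 2, 3, 4, 5, 6, 7, 3, 2, 1, 4, 3, 5, 8, 7, 3, 2, 1, 4, 3, 2, 5, 4, 7, 3, 2, 8, 9, 6, 5, 4, 3, 2, 7, 3, 8, 7]), 901, 0),
    ((0, [1, 2, 3, 4, 5, 6, 7, 3, 2, 1, 4, 3, 2, 5, 8, 7, 3, 2, 1, 4, 3, 2, 5, 4, 3, 7, 3, 4, 8, 9, 6, 5, 4, 3, 2, 7, 3]), 1001, 0),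
    ((0, [1, 2, 3, 4, 5, 6, 7, 3, 2, 1, 4, 3, 2, 5, 8, 7, 3, 2, 1, 4, 3, 2, 5, 4, 7, 3, 2, 4, 8, 9, 6, 5, 4, 3, 2, 7, 3]), 1001, 0),
    ((0, [1, 2, 3, 4, 5, 6, 7, 3, 2, 1, 4, 3, 5, 8, 7, 3, 2, 1, 4, 3, 2, 5, 4, 3, 7, 3, 8, 9, 6, 5, 4, 3, 2, 7, 3, 8, 7]), 1001, 0),
    ((0, [1, 2, 3, 4, 5, 6, 7, 3, 2, 1, 4, 3, 2, 5, 4, 8, 7, 3, 2, 1, 4, 3, 2, 5, 4, 3, 7, 3, 8, 9, 6, 5, 4, 3, 2, 7, 3]), 1001, 0),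
    ((0, [1, 2, 3, 4, 5, 6, 7, 3, 2, 1, 4, 3, 5, 4, 8, 7, 3, 2, 1, 4, 3, 2, 5, 4, 7, 3, 2, 4, 8, 7, 9, 6, 5, 4, 3, 7, 8]), 1001, 0),
    ((0, [1, 2, 3, 4, 5, 6, 7, 3, 2, 1, 4, 3, 5, 4, 8, 7, 3, 2, 1, 0, 4, 3, 2, 5, 4, 7, 3, 2, 4, 8, 7, 9, 6, 5, 4, 3, 7]), 901, 0),
    ((0, [1, 2, 3, 4, 5, 6, 7, 3, 2, 1, 4, 3, 5, 4, 8, 7, 3, 2, 1, 4, 3, 2, 5, 4, 6, 7, 3, 2, 8, 7, 9, 6, 5, 4, 3, 7, 8]), 901, 0),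
    ((0, [1, 2, 3, 4, 5, 6, 7, 3, 2, 1, 4, 3, 5, 4, 8, 7, 3, 2, 1, 0, 4, 3, 2, 5, 4, 6, 7, 3, 2, 8, 7, 9, 6, 5, 4, 3, 7]), 1001, 0),
    ((0, [1, 2, 3, 4, 5, 6, 7, 3, 2, 1, 4, 3, 5, 4, 8, 7, 3, 2, 1, 4, 3, 2, 5, 4, 3, 7, 3, 2, 8, 7, 9, 6, 5, 4, 3, 7, 8]), 901, 0),
    ((0, [1, 2, 3, 4, 5, 6, 7, 3, 2, 1, 4, 3, 5, 4, 8, 7, 3, 2, 1, 0, 4, 3, 2, 5, 4, 3, 7, 3, 2, 8, 7, 9, 6, 5, 4, 3, 7]), 1001, 0),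
    ((0, [1, 2, 3, 4, 5, 6, 7, 3, 2, 1, 4, 3, 2, 5, 7, 8, 7, 3, 2, 1, 4, 3, 2, 5, 7, 3, 4, 5, 8, 7, 9, 6, 5, 4, 3, 7, 8]), 1001, 0),
    ((0, [1, 2, 3, 4, 5, 6, 7, 3, 2, 1, 4, 3, 2, 5, 8, 7, 3, 2, 1, 0, 4, 3, 2, 5, 6, 7, 3, 4, 8, 7, 9, 6, 5, 4, 3, 7, 8]), 1001, 0),
    ((0, [1, 2, 3, 4, 5, 6, 7, 3, 2, 1, 4, 3, 2, 5, 8, 7, 3, 2, 1, 0, 4, 3, 2, 5, 4, 7, 8, 9, 6, 5, 4, 3, 2, 1, 7, 3, 8]), 1001, 0),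
    ((0, [1, 2, 3, 4, 5, 6, 7, 3, 2, 1, 4, 3, 5, 7, 8, 7, 3, 2, 1, 4, 3, 2, 5, 4, 3, 7, 8, 9, 6, 5, 4, 3, 2, 1, 7, 3, 8]), 1001, 0),
    ((0, [1, 2, 3, 4, 5, 6, 7, 3, 2, 1, 4, 3, 2, 5, 7, 8, 7, 3, 2, 1, 4, 3, 2, 5, 4, 3, 7, 8, 9, 6, 5, 4, 3, 2, 1, 7, 3]), 1001, 0),
    ((0, [1, 2, 3, 4, 5, 6, 7, 3, 2, 1, 4, 3, 8, 7, 3, 2, 1, 4, 3, 2, 5, 4, 3, 7, 3, 2, 8, 9, 6, 5, 4, 3, 2, 1, 7, 3, 8]), 1001, 0),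
    ((0, [1, 2, 3, 4, 5, 6, 7, 3, 2, 1, 4, 3, 2, 5, 7, 8, 7, 3, 2, 1, 4, 3, 2, 5, 7, 8, 9, 6, 5, 4, 3, 2, 7, 3, 4, 5, 8]), 1001, 0),
    ((0, [1, 2, 3, 4, 5, 6, 7, 3, 2, 1, 4, 3, 5, 4, 7, 8, 7, 3, 2, 1, 4, 3, 2, 5, 4, 3, 7, 8, 9, 6, 5, 4, 3, 2, 1, 7, 3]), 1001, 0),
    ((0, [1, 2, 3, 4, 5, 6, 7, 3, 2, 1, 4, 3, 5, 4, 8, 7, 3, 2, 1, 0, 4, 3, 5, 4, 7, 3, 2, 8, 7, 9, 6, 5, 4, 3, 2, 1, 7]), 1001, 0),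
    ((0, [1, 2, 3, 4, 5, 6, 7, 3, 2, 1, 4, 3, 8, 7, 3, 2, 1, 4, 3, 2, 5, 4, 3, 7, 3, 2, 1, 8, 9, 6, 5, 4, 3, 2, 1, 7, 3]), 1001, 0),
    ((0, [1, 2, 3, 4, 5, 6, 7, 3, 2, 1, 4, 3, 2, 5, 7, 8, 7, 3, 2, 1, 4, 3, 2, 5, 7, 3, 4, 8, 7, 9, 6, 5, 4, 3, 2, 7, 8]), 1001, 0),
    ((0, [1, 2, 3, 4, 5, 6, 7, 3, 2, 1, 4, 3, 2, 5, 8, 7, 3, 2, 1, 0, 4, 3, 2, 5, 6, 7, 3, 4, 8, 9, 6, 5, 4, 3, 2, 7, 3]), 1001, 0),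
    ((0, [1, 2, 3, 4, 5, 6, 7, 3, 2, 1, 4, 3, 5, 7, 8, 7, 3, 2, 1, 4, 3, 2, 5, 4, 3, 7, 3, 8, 9, 6, 5, 4, 3, 2, 7, 3, 8]), 1001, 0),
    ((0, [1, 2, 3, 4, 5, 6, 7, 3, 2, 1, 4, 3, 2, 5, 7, 8, 7, 3, 2, 1, 4, 3, 2, 5, 4, 3, 7, 3, 8, 9, 6, 5, 4, 3, 2, 7, 3]), 1001, 0),
    ((0, [1, 2, 3, 4, 5, 6, 7, 3, 2, 1, 4, 3, 5, 8, 7, 3, 2, 1, 4, 3, 2, 5, 4, 3, 7, 3, 2, 8, 9, 6, 5, 4, 3, 2, 7, 3, 8]), 1001, 0),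
    ((0, [1, 2, 3, 4, 5, 6, 7, 3, 2, 1, 4, 3, 2, 5, 7, 8, 7, 3, 2, 1, 4, 3, 2, 5, 4, 3, 7, 3, 4, 8, 7, 9, 6, 5, 4, 3, 7]), 1001, 0),
    ((0, [1, 2, 3, 4, 5, 6, 7, 3, 2, 1, 4, 3, 2, 5, 8, 7, 3, 2, 1, 4, 3, 2, 5, 4, 6, 5, 7, 3, 4, 8, 7, 9, 6, 5, 4, 3, 7]), 901, 0),
    ((0, [1, 2, 3, 4, 5, 6, 7, 3, 2, 1, 4, 3, 5, 8, 7, 3, 2, 1, 4, 3, 2, 5, 4, 3, 7, 3, 2, 4, 8, 7, 9, 6, 5, 4, 3, 7, 8]), 1001, 0),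
    ((0, [1, 2, 3, 4, 5, 6, 7, 3, 2, 1, 4, 3, 5, 7, 8, 7, 3, 2, 1, 4, 3, 2, 5, 4, 7, 3, 2, 4, 8, 7, 9, 6, 5, 4, 3, 7, 8]), 901, 0),
    ((0, [1, 2, 3, 4, 5, 6, 7, 3, 2, 1, 4, 3, 2, 5, 8, 7, 3, 2, 1, 4, 3, 2, 5, 4, 3, 7, 3, 4, 5, 8, 7, 9, 6, 5, 4, 3, 7]), 1001, 0),
    ((0, [1, 2, 3, 4, 5, 6, 7, 3, 2, 1, 4, 3, 5, 4, 8, 7, 3, 2, 1, 4, 3, 2, 5, 4, 7, 3, 2, 4, 5, 8, 7, 9, 6, 5, 4, 3, 7]), 1001, 0),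
    ((0, [1, 2, 3, 4, 5, 6, 7, 3, 2, 1, 4, 3, 5, 7, 8, 7, 3, 2, 1, 4, 3, 2, 5, 4, 7, 3, 2, 4, 8, 9, 6, 5, 4, 3, 2, 7, 3]), 1001, 0),
    ((0, [1, 2, 3, 4, 5, 6, 7, 3, 2, 1, 4, 3, 5, 8, 7, 3, 2, 1, 4, 3, 2, 5, 4, 3, 7, 3, 2, 4, 8, 9, 6, 5, 4, 3, 2, 7, 3]), 901, 0),
    ((0, [1, 2, 3, 4, 5, 6, 7, 3, 2, 1, 4, 3, 2, 5, 8, 7, 3, 2, 1, 4, 3, 2, 5, 4, 7, 3, 8, 9, 6, 5, 4, 3, 2, 7, 3, 8, 7]), 901, 0),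
    ((0, [1, 2, 3, 4, 5, 6, 7, 3, 2, 1, 4, 3, 5, 4, 7, 8, 7, 3, 2, 1, 4, 3, 2, 5, 4, 3, 7, 3, 8, 9, 6, 5, 4, 3, 2, 7, 3]), 1001, 0),
    ((0, [1, 2, 3, 4, 5, 6, 7, 3, 2, 1, 4, 3, 5, 8, 7, 3, 2, 1, 4, 3, 2, 5, 4, 3, 7, 3, 2, 1, 8, 9, 6, 5, 4, 3, 2, 7, 3]), 1001, 0),
    ((0, [1, 2, 3, 4, 5, 6, 7, 3, 2, 1, 4, 3, 5, 4, 8, 7, 3, 2, 1, 4, 3, 5, 4, 7, 3, 2, 1, 0, 8, 7, 9, 6, 5, 4, 3, 7, 8]), 1001, 0),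
    ((0, [1, 2, 3, 4, 5, 6, 7, 3, 2, 1, 4, 5, 8, 7, 3, 2, 1, 4, 3, 2, 5, 4, 7, 3, 2, 1, 4, 5, 8, 7, 9, 6, 5, 4, 3, 7, 8]), 1001, 0),
    ((0, [1, 2, 3, 4, 5, 6, 7, 3, 2, 1, 4, 3, 2, 5, 8, 7, 3, 2, 1, 0, 4, 3, 2, 5, 6, 7, 3, 4, 5, 8, 7, 9, 6, 5, 4, 3, 7]), 1001, 0),
    ((0, [1, 2, 3, 4, 5, 6, 7, 3, 2, 1, 4, 3, 5, 8, 7, 3, 2, 1, 4, 3, 2, 5, 4, 7, 3, 2, 4, 5, 8, 7, 9, 6, 5, 4, 3, 7, 8]), 1001, 0),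
    ((0, [1, 2, 3, 4, 5, 6, 7, 3, 2, 1, 4, 3, 5, 4, 8, 7, 3, 2, 1, 4, 3, 2, 5, 4, 7, 3, 2, 1, 0, 8, 7, 9, 6, 5, 4, 3, 7]), 1001, 0),
    ((0, [1, 2, 3, 4, 5, 6, 7, 3, 2, 1, 4, 3, 5, 8, 7, 3, 2, 1, 4, 3, 2, 5, 4, 3, 7, 3, 2, 4, 5, 8, 7, 9, 6, 5, 4, 3, 7]), 1001, 0),
    ((0, [1, 2, 3, 4, 5, 6, 7, 3, 2, 1, 4, 3, 2, 5, 8, 7, 3, 2, 1, 4, 3, 2, 5, 4, 7, 3, 2, 4, 5, 8, 7, 9, 6, 5, 4, 3, 7]), 1001, 0),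
    ((0, [1, 2, 3, 4, 5, 6, 7, 3, 2, 1, 4, 3, 5, 8, 7, 3, 2, 1, 0, 4, 3, 2, 5, 4, 7, 3, 8, 9, 6, 5, 4, 3, 2, 7, 3, 8, 7]), 1001, 0),
    ((0, [1, 2, 3, 4, 5, 6, 7, 3, 2, 1, 4, 3, 2, 5, 8, 7, 3, 2, 1, 4, 3, 2, 5, 4, 3, 7, 8, 9, 6, 5, 4, 3, 2, 1, 0, 7, 3]), 1001, 0),
    ((0, [1, 2, 3, 4, 5, 6, 7, 3, 2, 1, 4, 3, 5, 8, 7, 3, 2, 1, 4, 3, 2, 5, 6, 7, 8, 9, 6, 5, 4, 3, 2, 7, 3, 4, 5, 6, 8]), 1001, 0),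
    ((0, [1, 2, 3, 4, 5, 6, 7, 3, 2, 1, 4, 5, 8, 7, 3, 2, 1, 4, 3, 2, 5, 4, 7, 3, 2, 4, 5, 8, 7, 9, 6, 5, 4, 3, 2, 7, 8]), 1001, 0),
    ((0, [1, 2, 3, 4, 5, 6, 7, 3, 2, 1, 4, 3, 5, 7, 8, 7, 3, 2, 1, 4, 3, 2, 5, 4, 7, 3, 8, 9, 6, 5, 4, 3, 2, 7, 3, 8, 7]), 901, 0),
    ((0, [1, 2, 3, 4, 5, 6, 7, 3, 2, 1, 4, 3, 5, 7, 8, 7, 3, 2, 1, 4, 3, 2, 5, 6, 7, 8, 9, 6, 5, 4, 3, 2, 7, 3, 4, 5, 8]), 1001, 0),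
    ((0, [1, 2, 3, 4, 5, 6, 7, 3, 2, 1, 4, 3, 2, 5, 8, 7, 3, 2, 1, 4, 3, 2, 5, 7, 3, 4, 5, 8, 7, 9, 6, 5, 4, 3, 2, 7, 8]), 1001, 0),
    ((0, [1, 2, 3, 4, 5, 6, 7, 3, 2, 1, 4, 3, 2, 5, 8, 7, 3, 2, 1, 4, 3, 2, 5, 7, 3, 4, 5, 8, 7, 9, 6, 5, 4, 3, 2, 7, 3]), 1001, 0)]

/-- Part 47 of the cycles. -/
def reps47 : List ((Nat × List Nat) × Nat × Nat) :=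
  [
    ((0, [1, 2, 3, 4, 5, 6, 7, 3, 2, 1, 4, 3, 2, 5, 8, 7, 3, 2, 1, 0, 4, 3, 2, 5, 7, 3, 4, 8, 7, 9, 6, 5, 4, 3, 2, 7, 8]), 1001, 0),
    ((0, [1, 2, 3, 4, 5, 6, 7, 3, 2, 1, 4, 3, 2, 5, 8, 7, 3, 2, 1, 0, 4, 3, 2, 5, 7, 3, 4, 8, 7, 9, 6, 5, 4, 3, 2, 7, 3]), 1001, 0),
    ((0, [1, 2, 3, 4, 5, 6, 7, 3, 2, 1, 4, 3, 2, 8, 7, 3, 2, 1, 4, 3, 2, 5, 4, 3, 7, 8, 9, 6, 5, 4, 3, 2, 1, 0, 7, 3, 2]), 1001, 0),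
    ((0, [1, 2, 3, 4, 5, 6, 7, 3, 2, 1, 4, 3, 2, 5, 8, 7, 3, 2, 1, 4, 3, 2, 5, 6, 7, 8, 9, 6, 5, 4, 3, 2, 7, 3, 4, 5, 8]), 1001, 0),
    ((0, [1, 2, 3, 4, 5, 6, 7, 3, 2, 1, 4, 3, 2, 5, 8, 7, 3, 2, 1, 4, 3, 2, 5, 6, 7, 3, 8, 9, 6, 5, 4, 3, 2, 7, 3, 4, 5]), 1001, 0),
    ((0, [1, 2, 3, 4, 5, 6, 7, 3, 2, 4, 3, 5, 8, 7, 3, 2, 1, 4, 3, 2, 5, 4, 3, 7, 3, 8, 9, 6, 5, 4, 3, 2, 7, 3, 4, 5, 6]), 1001, 0),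
    ((0, [1, 2, 3, 4, 5, 6, 7, 3, 2, 4, 3, 5, 8, 7, 3, 2, 1, 4, 3, 2, 5, 4, 3, 7, 8, 9, 6, 5, 4, 3, 2, 7, 3, 4, 5, 6, 8]), 1001, 0),
    ((0, [1, 2, 3, 4, 5, 6, 7, 3, 2, 1, 4, 3, 2, 5, 8, 7, 3, 2, 1, 4, 3, 2, 5, 6, 7, 3, 4, 5, 8, 7, 9, 6, 5, 4, 3, 2, 1]), 1001, 0),
    ((0, [1, 2, 3, 4, 5, 6, 7, 3, 2, 1, 4, 3, 2, 5, 8, 7, 3, 2, 1, 4, 3, 2, 5, 4, 7, 3, 2, 4, 5, 8, 7, 9, 6, 5, 4, 3, 2]), 1001, 0),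
    ((0, [1, 2, 3, 4, 5, 6, 7, 3, 2, 1, 4, 3, 5, 4, 8, 7, 3, 2, 1, 4, 3, 2, 5, 4, 7, 3, 4, 8, 7, 9, 6, 5, 4, 3, 2, 7, 3]), 901, 0),
    ((0, [1, 2, 3, 4, 5, 6, 7, 3, 2, 1, 4, 3, 5, 4, 8, 7, 3, 2, 1, 4, 3, 2, 5, 4, 3, 7, 3, 8, 7, 9, 6, 5, 4, 3, 2, 7, 3]), 1001, 0),
    ((0, [1, 2, 3, 4, 5, 6, 7, 3, 2, 1, 4, 3, 2, 5, 8, 7, 3, 2, 1, 0, 4, 3, 2, 1, 5, 4, 7, 3, 2, 8, 7, 9, 6, 5, 4, 3, 2]), 901, 0),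
    ((0, [1, 2, 3, 4, 5, 6, 7, 3, 2, 1, 4, 3, 5, 4, 8, 7, 3, 2, 1, 4, 3, 2, 5, 4, 7, 3, 2, 4, 5, 8, 7, 9, 6, 5, 4, 3, 2]), 1001, 0),
    ((0, [1, 2, 3, 4, 5, 6, 7, 3, 2, 1, 4, 3, 5, 7, 8, 7, 3, 2, 1, 4, 3, 2, 5, 4, 7, 3, 8, 7, 9, 6, 5, 4, 3, 2, 7, 3, 8]), 901, 0),
    ((0, [1, 2, 3, 4, 5, 6, 7, 3, 2, 1, 4, 3, 5, 8, 7, 3, 2, 1, 4, 3, 2, 5, 4, 3, 7, 3, 8, 7, 9, 6, 5, 4, 3, 2, 7, 3, 8]), 1001, 0),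
    ((0, [1, 2, 3, 4, 5, 6, 7, 3, 2, 1, 4, 3, 5, 8, 7, 3, 2, 1, 0, 4, 3, 2, 5, 4, 7, 3, 8, 7, 9, 6, 5, 4, 3, 2, 7, 3, 8]), 1001, 0),
    ((0, [1, 2, 3, 4, 5, 6, 7, 3, 2, 1, 4, 3, 2, 5, 8, 7, 3, 2, 1, 4, 3, 2, 5, 4, 7, 3, 8, 7, 9, 6, 5, 4, 3, 2, 7, 3, 8]), 901, 0),
    ((0, [1, 2, 3, 4, 5, 6, 7, 3, 2, 1, 4, 3, 5, 8, 7, 3, 2, 1, 4, 3, 2, 5, 4, 6, 7, 3, 8, 7, 9, 6, 5, 4, 3, 2, 7, 3, 8]), 901, 0),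
    ((0, [1, 2, 3, 4, 5, 6, 7, 3, 2, 1, 4, 3, 5, 8, 7, 3, 2, 1, 4, 3, 2, 5, 4, 7, 3, 2, 8, 7, 9, 6, 5, 4, 3, 2, 7, 3, 8]), 901, 0),
    ((0, [1, 2, 3, 4, 5, 6, 7, 3, 2, 1, 4, 3, 5, 8, 7, 3, 2, 1, 4, 3, 2, 5, 4, 7, 3, 2, 4, 8, 7, 9, 6, 5, 4, 3, 2, 7, 8]), 1001, 0),
    ((0, [1, 2, 3, 4, 5, 6, 7, 3, 2, 1, 4, 3, 2, 5, 8, 7, 3, 2, 1, 4, 3, 2, 5, 4, 7, 3, 4, 8, 7, 9, 6, 5, 4, 3, 2, 7, 8]), 1001, 0),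
    ((0, [1, 2, 3, 4, 5, 6, 7, 3, 2, 1, 4, 3, 2, 5, 8, 7, 3, 2, 1, 4, 3, 2, 5, 4, 7, 3, 4, 8, 7, 9, 6, 5, 4, 3, 2, 7, 3]), 1001, 0),
    ((0, [1, 2, 3, 4, 5, 6, 7, 3, 2, 1, 4, 3, 2, 5, 8, 7, 3, 2, 1, 0, 4, 3, 2, 5, 4, 3, 7, 3, 4, 8, 7, 9, 6, 5, 4, 3, 2]), 1001, 0),
    ((0, [1, 2, 3, 4, 5, 6, 7, 3, 2, 1, 4, 3, 2, 5, 8, 7, 3, 2, 1, 0, 4, 3, 2, 5, 4, 7, 3, 2, 4, 8, 7, 9, 6, 5, 4, 3, 2]), 1001, 0),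
    ((0, [1, 2, 3, 4, 5, 6, 7, 3, 2, 1, 4, 3, 2, 5, 7, 8, 7, 3, 2, 1, 4, 3, 2, 5, 4, 3, 7, 3, 4, 8, 7, 9, 6, 5, 4, 3, 2]), 1001, 0),
    ((0, [1, 2, 3, 4, 5, 6, 7, 3, 2, 1, 4, 3, 2, 5, 8, 7, 3, 2, 1, 4, 3, 2, 5, 4, 6, 5, 7, 3, 4, 8, 7, 9, 6, 5, 4, 3, 2]), 901, 0),
    ((0, [1, 2, 3, 4, 5, 6, 7, 3, 2, 1, 4, 3, 5, 7, 8, 7, 3, 2, 1, 4, 3, 2, 5, 4, 7, 3, 4, 8, 7, 9, 6, 5, 4, 3, 2, 7, 3]), 1001, 0),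
    ((0, [1, 2, 3, 4, 5, 6, 7, 3, 2, 1, 4, 3, 5, 8, 7, 3, 2, 1, 4, 3, 2, 5, 4, 3, 7, 3, 4, 8, 7, 9, 6, 5, 4, 3, 2, 7, 3]), 901, 0),
    ((0, [1, 2, 3, 4, 5, 6, 7, 3, 2, 1, 4, 3, 5, 4, 8, 7, 3, 2, 1, 0, 4, 3, 2, 5, 4, 7, 3, 2, 4, 8, 7, 9, 6, 5, 4, 3, 2]), 901, 0),
    ((0, [1, 2, 3, 4, 5, 6, 7, 3, 2, 1, 4, 3, 5, 4, 8, 7, 3, 2, 1, 0, 4, 3, 2, 5, 4, 3, 7, 3, 2, 8, 7, 9, 6, 5, 4, 3, 2]), 1001, 0),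
    ((0, [1, 2, 3, 4, 5, 6, 7, 3, 2, 1, 4, 3, 5, 4, 8, 7, 3, 2, 1, 4, 3, 2, 5, 4, 7, 3, 2, 8, 7, 9, 6, 5, 4, 3, 2, 7, 8]), 901, 0),
    ((0, [1, 2, 3, 4, 5, 6, 7, 3, 2, 1, 4, 3, 2, 5, 4, 8, 7, 3, 2, 1, 4, 3, 2, 5, 4, 3, 7, 3, 2, 8, 7, 9, 6, 5, 4, 3, 2]), 901, 0),
    ((0, [1, 2, 3, 4, 5, 6, 7, 3, 2, 1, 4, 3, 2, 5, 8, 7, 3, 2, 1, 4, 3, 2, 5, 4, 3, 7, 3, 4, 5, 8, 7, 9, 6, 5, 4, 3, 2]), 1001, 0),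
    ((0, [1, 2, 3, 4, 5, 6, 7, 3, 2, 1, 4, 3, 5, 8, 7, 3, 2, 1, 4, 3, 2, 5, 4, 3, 7, 3, 2, 4, 5, 8, 7, 9, 6, 5, 4, 3, 2]), 1001, 0),
    ((0, [1, 2, 3, 4, 5, 6, 7, 3, 2, 1, 4, 3, 2, 5, 8, 7, 3, 2, 1, 4, 3, 2, 5, 6, 7, 3, 4, 8, 7, 3, 2, 9, 6, 5, 4, 3, 2]), 1001, 0),
    ((0, [1, 2, 3, 4, 5, 6, 7, 3, 2, 1, 4, 3, 2, 5, 8, 7, 3, 2, 1, 4, 3, 2, 5, 4, 7, 3, 4, 8, 7, 3, 2, 9, 6, 5, 4, 3, 2]), 1001, 0),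
    ((0, [1, 2, 3, 4, 5, 6, 7, 3, 2, 1, 4, 3, 5, 4, 8, 7, 3, 2, 1, 4, 3, 2, 5, 4, 7, 3, 2, 8, 7, 3, 4, 9, 6, 5, 4, 3, 2]), 1001, 0),
    ((0, [1, 2, 3, 4, 5, 6, 7, 3, 2, 1, 4, 3, 5, 4, 8, 7, 3, 2, 1, 4, 3, 5, 4, 7, 3, 2, 8, 7, 3, 4, 9, 6, 5, 4, 3, 7, 8]), 1001, 0),
    ((0, [1, 2, 3, 4, 5, 6, 7, 3, 2, 1, 4, 3, 5, 4, 8, 7, 3, 2, 1, 4, 3, 2, 5, 4, 7, 3, 2, 8, 7, 3, 4, 9, 6, 5, 4, 3, 7]), 1001, 0),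
    ((0, [1, 2, 3, 4, 5, 6, 7, 3, 2, 1, 4, 3, 2, 5, 8, 7, 3, 2, 1, 4, 3, 2, 5, 7, 3, 4, 8, 7, 3, 2, 9, 6, 5, 4, 3, 7, 8]), 1001, 0),
    ((0, [1, 2, 3, 4, 5, 6, 7, 3, 2, 1, 4, 3, 2, 5, 8, 7, 3, 2, 1, 4, 3, 2, 5, 4, 7, 3, 4, 8, 7, 3, 2, 9, 6, 5, 4, 3, 7]), 1001, 0),
    ((0, [1, 2, 3, 4, 5, 6, 7, 3, 2, 1, 4, 3, 5, 8, 7, 3, 2, 1, 4, 3, 2, 5, 4, 7, 3, 4, 8, 7, 9, 6, 5, 4, 3, 2, 1, 0, 7]), 1001, 0),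
    ((0, [1, 2, 3, 4, 5, 6, 7, 3, 2, 1, 4, 3, 5, 7, 8, 7, 3, 2, 1, 4, 3, 2, 5, 4, 7, 3, 8, 7, 9, 6, 5, 4, 3, 2, 1, 0, 7]), 1001, 0),
    ((0, [1, 2, 3, 4, 5, 6, 7, 3, 2, 1, 4, 3, 5, 4, 8, 7, 3, 2, 1, 4, 3, 2, 5, 4, 7, 3, 8, 7, 9, 6, 5, 4, 3, 2, 1, 0, 7]), 1001, 0),
    ((0, [1, 2, 3, 4, 5, 6, 7, 3, 2, 1, 4, 3, 2, 5, 8, 7, 3, 2, 1, 4, 3, 2, 5, 4, 7, 3, 8, 7, 9, 6, 5, 4, 3, 2, 1, 0, 7]), 1001, 0),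
    ((0, [1, 2, 3, 4, 5, 6, 7, 3, 2, 1, 4, 3, 5, 4, 7, 8, 7, 3, 2, 1, 4, 3, 2, 5, 4, 7, 3, 8, 7, 9, 6, 5, 4, 3, 2, 1, 0]), 1001, 0),
    ((0, [1, 2, 3, 4, 5, 6, 7, 3, 2, 1, 4, 3, 5, 4, 8, 7, 3, 2, 1, 0, 4, 3, 2, 5, 4, 7, 3, 8, 7, 9, 6, 5, 4, 3, 2, 1, 0]), 1001, 0),
    ((0, [1, 2, 3, 4, 5, 6, 7, 3, 2, 1, 4, 3, 5, 8, 7, 3, 2, 1, 4, 3, 2, 5, 4, 7, 3, 4, 5, 8, 7, 9, 6, 5, 4, 3, 2, 1, 0]), 1001, 0),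
    ((0, [1, 2, 3, 4, 5, 6, 7, 3, 2, 1, 4, 3, 2, 5, 7, 8, 7, 3, 2, 1, 4, 3, 2, 5, 4, 7, 3, 8, 7, 9, 6, 5, 4, 3, 2, 1, 0]), 1001, 0),
    ((0, [1, 2, 3, 4, 5, 6, 7, 3, 2, 1, 4, 3, 2, 5, 4, 8, 7, 3, 2, 1, 4, 3, 2, 5, 4, 7, 3, 8, 7, 9, 6, 5, 4, 3, 2, 1, 0]), 1001, 0),
    ((0, [1, 2, 3, 4, 5, 6, 7, 3, 2, 1, 4, 3, 5, 8, 7, 3, 2, 1, 4, 3, 2, 5, 4, 7, 3, 8, 7, 9, 6, 5, 4, 3, 2, 1, 0, 7, 8]), 1001, 0),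
    ((0, [1, 2, 3, 4, 5, 6, 7, 3, 2, 1, 4, 3, 5, 8, 7, 3, 2, 1, 4, 3, 2, 5, 4, 6, 7, 3, 8, 7, 9, 6, 5, 4, 3, 2, 1, 0, 7]), 1001, 0),
    ((0, [1, 2, 3, 4, 5, 6, 7, 3, 2, 1, 4, 3, 5, 8, 7, 3, 2, 1, 4, 3, 2, 5, 4, 6, 7, 3, 4, 8, 7, 9, 6, 5, 4, 3, 2, 1, 0]), 1001, 0),
    ((0, [1, 2, 3, 4, 5, 6, 7, 3, 2, 1, 4, 3, 5, 7, 8, 7, 3, 2, 1, 4, 3, 2, 5, 4, 6, 7, 3, 8, 7, 9, 6, 5, 4, 3, 2, 1, 0]), 1001, 0),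
    ((0, [1, 2, 3, 4, 5, 6, 7, 3, 2, 1, 4, 3, 5, 4, 8, 7, 3, 2, 1, 4, 3, 2, 5, 4, 6, 7, 3, 8, 7, 9, 6, 5, 4, 3, 2, 1, 0]), 1001, 0),
    ((0, [1, 2, 3, 4, 5, 6, 7, 3, 2, 1, 4, 3, 5, 4, 8, 7, 3, 2, 1, 4, 3, 2, 5, 4, 7, 3, 4, 8, 7, 9, 6, 5, 4, 3, 2, 1, 0]), 1001, 0),
    ((0, [1, 2, 3, 4, 5, 6, 7, 3, 2, 1, 4, 3, 5, 8, 7, 3, 2, 1, 4, 3, 2, 5, 4, 3, 7, 3, 4, 8, 7, 9, 6, 5, 4, 3, 2, 1, 0]), 1001, 0),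
    ((0, [1, 2, 3, 4, 5, 6, 7, 3, 2, 1, 4, 3, 5, 8, 7, 3, 2, 1, 0, 4, 3, 2, 5, 4, 7, 3, 8, 7, 9, 6, 5, 4, 3, 2, 1, 0, 7]), 1001, 0),
    ((0, [1, 2, 3, 4, 5, 6, 7, 3, 2, 1, 4, 3, 5, 8, 7, 3, 2, 1, 4, 3, 2, 5, 4, 3, 7, 3, 8, 7, 9, 6, 5, 4, 3, 2, 1, 0, 7]), 1001, 0),
    ((0, [1, 2, 3, 4, 5, 6, 7, 3, 2, 1, 4, 3, 5, 8, 7, 3, 2, 1, 4, 3, 2, 5, 4, 7, 3, 8, 7, 9, 6, 5, 4, 3, 2, 1, 0, 7, 3]), 1001, 0),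
    ((0, [1, 2, 3, 4, 5, 6, 7, 3, 2, 1, 4, 3, 5, 8, 7, 3, 2, 1, 4, 3, 2, 5, 4, 7, 3, 2, 8, 7, 9, 6, 5, 4, 3, 2, 1, 0, 7]), 1001, 0),
    ((0, [1, 2, 3, 4, 5, 6, 7, 3, 2, 1, 4, 3, 5, 8, 7, 3, 2, 1, 4, 3, 2, 5, 4, 7, 3, 2, 1, 8, 7, 9, 6, 5, 4, 3, 2, 1, 0]), 1001, 0),
    ((0, [1, 2, 3, 4, 5, 6, 7, 3, 2, 1, 4, 3, 2, 5, 8, 7, 3, 2, 1, 4, 3, 2, 5, 4, 6, 7, 3, 8, 7, 9, 6, 5, 4, 3, 2, 1, 0]), 1001, 0),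
    ((0, [1, 2, 3, 4, 5, 6, 7, 3, 2, 1, 4, 3, 5, 8, 7, 3, 2, 1, 4, 3, 2, 5, 4, 7, 3, 2, 4, 8, 7, 9, 6, 5, 4, 3, 2, 1, 0]), 1001, 0),
    ((0, [1, 2, 3, 4, 5, 6, 7, 3, 2, 1, 4, 3, 2, 5, 8, 7, 3, 2, 1, 4, 3, 2, 5, 4, 7, 3, 4, 8, 7, 9, 6, 5, 4, 3, 2, 1, 0]), 1001, 0),
    ((0, [1, 2, 3, 4, 5, 6, 7, 3, 2, 1, 4, 3, 5, 7, 8, 7, 3, 2, 1, 4, 3, 2, 5, 4, 3, 7, 3, 8, 7, 9, 6, 5, 4, 3, 2, 1, 0]), 1001, 0),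
    ((0, [1, 2, 3, 4, 5, 6, 7, 3, 2, 1, 4, 3, 5, 4, 8, 7, 3, 2, 1, 4, 3, 2, 5, 4, 3, 7, 3, 8, 7, 9, 6, 5, 4, 3, 2, 1, 0]), 1001, 0),
    ((0, [1, 2, 3, 4, 5, 6, 7, 3, 2, 1, 4, 3, 5, 7, 8, 7, 3, 2, 1, 4, 3, 2, 5, 4, 7, 3, 4, 8, 7, 9, 6, 5, 4, 3, 2, 1, 0]), 1001, 0),
    ((0, [1, 2, 3, 4, 5, 6, 7, 3, 2, 1, 4, 3, 5, 7, 8, 7, 3, 2, 1, 0, 4, 3, 2, 5, 4, 7, 3, 8, 7, 9, 6, 5, 4, 3, 2, 1, 0]), 1001, 0),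
    ((0, [1, 2, 3, 4, 5, 6, 7, 3, 2, 1, 4, 3, 5, 8, 7, 3, 2, 1, 4, 3, 2, 5, 4, 3, 7, 3, 2, 8, 7, 9, 6, 5, 4, 3, 2, 1, 0]), 1001, 0),
    ((0, [1, 2, 3, 4, 5, 6, 7, 3, 2, 1, 4, 3, 5, 4, 8, 7, 3, 2, 1, 4, 3, 2, 5, 4, 7, 3, 2, 8, 7, 9, 6, 5, 4, 3, 2, 1, 0]), 1001, 0),
    ((0, [1, 2, 3, 4, 5, 6, 7, 3, 2, 1, 4, 3, 5, 7, 8, 7, 3, 2, 1, 4, 3, 2, 5, 4, 7, 3, 2, 8, 7, 9, 6, 5, 4, 3, 2, 1, 0]), 1001, 0),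
    ((0, [1, 2, 3, 4, 5, 6, 7, 3, 2, 1, 4, 3, 2, 5, 8, 7, 3, 2, 1, 4, 3, 2, 5, 4, 7, 3, 2, 8, 7, 9, 6, 5, 4, 3, 2, 1, 0]), 1001, 0),
    ((0, [1, 2, 3, 4, 5, 6, 7, 3, 2, 1, 4, 3, 2, 5, 8, 7, 3, 2, 1, 0, 4, 3, 2, 5, 4, 7, 3, 8, 7, 9, 6, 5, 4, 3, 2, 1, 0]), 1001, 0),
    ((0, [1, 2, 3, 4, 5, 6, 7, 3, 2, 1, 4, 3, 5, 8, 7, 3, 2, 1, 0, 4, 3, 2, 5, 4, 7, 3, 2, 8, 7, 9, 6, 5, 4, 3, 2, 1, 0]), 1001, 0),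
    ((0, [1, 2, 3, 4, 5, 6, 7, 3, 2, 1, 4, 3, 2, 5, 8, 7, 3, 2, 1, 0, 4, 3, 5, 4, 7, 3, 2, 8, 9, 6, 5, 4, 3, 2, 1, 7, 3, 8]), 1001, 0),
    ((0, [1, 2, 3, 4, 5, 6, 7, 3, 2, 1, 4, 3, 2, 5, 4, 8, 7, 3, 2, 1, 4, 3, 2, 5, 4, 3, 6, 7, 8, 9, 6, 5, 4, 3, 2, 1, 7, 3]), 1001, 0),
    ((0, [1, 2, 3, 4, 5, 6, 7, 3, 2, 1, 4, 3, 2, 5, 8, 7, 3, 2, 1, 0, 4, 3, 2, 5, 4, 3, 7, 3, 4, 8, 7, 9, 6, 5, 4, 3, 7, 8]), 1001, 0),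
    ((0, [1, 2, 3, 4, 5, 6, 7, 3, 2, 1, 4, 3, 2, 5, 8, 7, 3, 2, 1, 4, 3, 2, 5, 4, 7, 3, 2, 1, 4, 8, 7, 9, 6, 5, 4, 3, 7, 8]), 1001, 0),
    ((0, [1, 2, 3, 4, 5, 6, 7, 3, 2, 1, 4, 3, 2, 5, 4, 8, 7, 3, 2, 1, 4, 3, 2, 5, 4, 3, 7, 3, 2, 8, 7, 9, 6, 5, 4, 3, 7, 8]), 901, 0),
    ((0, [1, 2, 3, 4, 5, 6, 7, 3, 2, 1, 4, 3, 2, 5, 8, 7, 3, 2, 1, 0, 4, 3, 2, 1, 5, 4, 7, 3, 2, 8, 9, 6, 5, 4, 3, 2, 7, 3]), 1001, 0),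
    ((0, [1, 2, 3, 4, 5, 6, 7, 3, 2, 1, 4, 3, 2, 5, 7, 8, 7, 3, 2, 1, 4, 3, 2, 5, 4, 7, 3, 8, 9, 6, 5, 4, 3, 2, 7, 3, 8, 7]), 901, 0),
    ((0, [1, 2, 3, 4, 5, 6, 7, 3, 2, 1, 4, 3, 5, 4, 8, 7, 3, 2, 1, 4, 3, 2, 5, 4, 7, 3, 2, 1, 4, 8, 9, 6, 5, 4, 3, 2, 7, 3]), 1001, 0),
    ((0, [1, 2, 3, 4, 5, 6, 7, 3, 2, 1, 4, 3, 2, 5, 8, 7, 3, 2, 1, 0, 4, 3, 2, 5, 4, 7, 3, 2, 4, 8, 9, 6, 5, 4, 3, 2, 7, 3]), 1001, 0),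
    ((0, [1, 2, 3, 4, 5, 6, 7, 3, 2, 1, 4, 3, 2, 5, 8, 7, 3, 2, 1, 4, 3, 2, 5, 4, 3, 7, 3, 4, 8, 9, 6, 5, 4, 3, 2, 7, 3, 8]), 1001, 0),
    ((0, [1, 2, 3, 4, 5, 6, 7, 3, 2, 1, 4, 3, 2, 5, 8, 7, 3, 2, 1, 4, 3, 2, 5, 4, 7, 3, 2, 4, 8, 9, 6, 5, 4, 3, 2, 7, 3, 8]), 1001, 0),
    ((0, [1, 2, 3, 4, 5, 6, 7, 3, 2, 1, 4, 3, 5, 8, 7, 3, 2, 1, 4, 3, 2, 5, 4, 3, 7, 3, 2, 8, 9, 6, 5, 4, 3, 2, 7, 3, 8, 7]), 1001, 0),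
    ((0, [1, 2, 3, 4, 5, 6, 7, 3, 2, 1, 4, 3, 2, 5, 8, 7, 3, 2, 1, 4, 3, 2, 5, 4, 3, 7, 3, 4, 8, 9, 6, 5, 4, 3, 2, 1, 7, 3]), 1001, 0),
    ((0, [1, 2, 3, 4, 5, 6, 7, 3, 2, 1, 4, 3, 5, 4, 8, 7, 3, 2, 1, 4, 3, 2, 5, 4, 3, 7, 3, 2, 1, 8, 9, 6, 5, 4, 3, 2, 7, 3]), 1001, 0),
    ((0, [1, 2, 3, 4, 5, 6, 7, 3, 2, 1, 4, 3, 2, 5, 4, 8, 7, 3, 2, 1, 4, 3, 2, 5, 4, 3, 7, 3, 4, 8, 9, 6, 5, 4, 3, 2, 7, 3]), 901, 0),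
    ((0, [1, 2, 3, 4, 5, 6, 7, 3, 2, 1, 4, 3, 5, 4, 8, 7, 3, 2, 1, 4, 3, 2, 5, 4, 7, 3, 2, 1, 4, 8, 7, 9, 6, 5, 4, 3, 7, 8]), 1001, 0),
    ((0, [1, 2, 3, 4, 5, 6, 7, 3, 2, 1, 4, 3, 2, 5, 4, 8, 7, 3, 2, 1, 4, 3, 2, 5, 4, 3, 7, 3, 2, 8, 9, 6, 5, 4, 3, 2, 7, 3]), 1001, 0),
    ((0, [1, 2, 3, 4, 5, 6, 7, 3, 2, 1, 4, 3, 2, 5, 8, 7, 3, 2, 1, 0, 4, 3, 2, 5, 4, 6, 7, 8, 9, 6, 5, 4, 3, 2, 1, 7, 3, 8]), 1001, 0),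
    ((0, [1, 2, 3, 4, 5, 6, 7, 3, 2, 1, 4, 3, 2, 5, 7, 8, 7, 3, 2, 1, 4, 3, 2, 5, 4, 3, 7, 8, 9, 6, 5, 4, 3, 2, 1, 7, 3, 8]), 1001, 0),
    ((0, [1, 2, 3, 4, 5, 6, 7, 3, 2, 1, 4, 3, 2, 5, 4, 7, 8, 7, 3, 2, 1, 4, 3, 2, 5, 4, 3, 7, 8, 9, 6, 5, 4, 3, 2, 1, 7, 3]), 1001, 0),
    ((0, [1, 2, 3, 4, 5, 6, 7, 3, 2, 1, 4, 3, 2, 5, 7, 8, 7, 3, 2, 1, 4, 3, 2, 5, 4, 3, 7, 3, 8, 9, 6, 5, 4, 3, 2, 7, 3, 8]), 1001, 0),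
    ((0, [1, 2, 3, 4, 5, 6, 7, 3, 2, 1, 4, 3, 2, 5, 7, 8, 7, 3, 2, 1, 4, 3, 2, 5, 4, 3, 7, 3, 4, 8, 7, 9, 6, 5, 4, 3, 7, 8]), 1001, 0),
    ((0, [1, 2, 3, 4, 5, 6, 7, 3, 2, 1, 4, 3, 2, 5, 8, 7, 3, 2, 1, 4, 3, 2, 5, 4, 6, 5, 7, 3, 4, 8, 7, 9, 6, 5, 4, 3, 7, 8]), 901, 0),
    ((0, [1, 2, 3, 4, 5, 6, 7, 3, 2, 1, 4, 3, 2, 5, 8, 7, 3, 2, 1, 4, 3, 2, 5, 4, 3, 7, 3, 4, 5, 8, 7, 9, 6, 5, 4, 3, 7, 8]), 1001, 0),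
    ((0, [1, 2, 3, 4, 5, 6, 7, 3, 2, 1, 4, 3, 5, 4, 8, 7, 3, 2, 1, 4, 3, 2, 5, 4, 6, 5, 7, 3, 4, 8, 7, 9, 6, 5, 4, 3, 7, 8]), 901, 0),
    ((0, [1, 2, 3, 4, 5, 6, 7, 3, 2, 1, 4, 3, 5, 4, 8, 7, 3, 2, 1, 4, 3, 2, 5, 4, 6, 5, 7, 3, 4, 8, 9, 6, 5, 4, 3, 2, 7, 3]), 1001, 0),
    ((0, [1, 2, 3, 4, 5, 6, 7, 3, 2, 1, 4, 3, 2, 5, 8, 7, 3, 2, 1, 4, 3, 2, 5, 4, 6, 5, 7, 3, 4, 8, 9, 6, 5, 4, 3, 2, 7, 3]), 1001, 0),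
    ((0, [1, 2, 3, 4, 5, 6, 7, 3, 2, 1, 4, 3, 5, 7, 8, 7, 3, 2, 1, 4, 3, 2, 5, 4, 7, 3, 2, 4, 8, 9, 6, 5, 4, 3, 2, 7, 3, 8]), 1001, 0),
    ((0, [1, 2, 3, 4, 5, 6, 7, 3, 2, 1, 4, 3, 5, 8, 7, 3, 2, 1, 4, 3, 2, 5, 4, 3, 7, 3, 2, 4, 8, 9, 6, 5, 4, 3, 2, 7, 3, 8]), 901, 0),
    ((0, [1, 2, 3, 4, 5, 6, 7, 3, 2, 1, 4, 3, 2, 5, 8, 7, 3, 2, 1, 4, 3, 2, 5, 4, 7, 3, 2, 8, 9, 6, 5, 4, 3, 2, 7, 3, 8, 7]), 901, 0),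
    ((0, [1, 2, 3, 4, 5, 6, 7, 3, 2, 1, 4, 3, 2, 5, 4, 7, 8, 7, 3, 2, 1, 4, 3, 2, 5, 4, 3, 7, 3, 8, 9, 6, 5, 4, 3, 2, 7, 3]), 1001, 0),
    ((0, [1, 2, 3, 4, 5, 6, 7, 3, 2, 1, 4, 3, 2, 5, 8, 7, 3, 2, 1, 4, 3, 2, 5, 4, 3, 7, 3, 4, 5, 8, 9, 6, 5, 4, 3, 2, 7, 3]), 1001, 0),
    ((0, [1, 2, 3, 4, 5, 6, 7, 3, 2, 1, 4, 3, 2, 5, 8, 7, 3, 2, 1, 4, 3, 2, 5, 4, 3, 7, 3, 8, 9, 6, 5, 4, 3, 2, 7, 3, 8, 7]), 1001, 0),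
    ((0, [1, 2, 3, 4, 5, 6, 7, 3, 2, 1, 4, 3, 5, 8, 7, 3, 2, 1, 4, 3, 2, 5, 4, 3, 7, 3, 2, 1, 4, 8, 9, 6, 5, 4, 3, 2, 7, 3]), 1001, 0),
    ((0, [1, 2, 3, 4, 5, 6, 7, 3, 2, 1, 4, 3, 2, 5, 8, 7, 3, 2, 1, 0, 4, 3, 2, 5, 4, 7, 3, 8, 9, 6, 5, 4, 3, 2, 7, 3, 8, 7]), 1001, 0),
    ((0, [1, 2, 3, 4, 5, 6, 7, 3, 2, 1, 4, 3, 2, 5, 4, 8, 7, 3, 2, 1, 4, 3, 2, 5, 4, 3, 7, 8, 9, 6, 5, 4, 3, 2, 1, 0, 7, 3]), 1001, 0),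
    ((0, [1, 2, 3, 4, 5, 6, 7, 3, 2, 1, 4, 3, 5, 4, 8, 7, 3, 2, 1, 4, 3, 2, 5, 4, 7, 3, 2, 1, 0, 8, 7, 9, 6, 5, 4, 3, 7, 8]), 1001, 0),
    ((0, [1, 2, 3, 4, 5, 6, 7, 3, 2, 1, 4, 3, 5, 8, 7, 3, 2, 1, 4, 3, 2, 5, 4, 3, 7, 3, 2, 4, 5, 8, 7, 9, 6, 5, 4, 3, 7, 8]), 1001, 0),
    ((0, [1, 2, 3, 4, 5, 6, 7, 3, 2, 1, 4, 3, 2, 5, 8, 7, 3, 2, 1, 4, 3, 2, 5, 4, 7, 3, 2, 4, 5, 8, 7, 9, 6, 5, 4, 3, 7, 8]), 1001, 0),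
    ((0, [1, 2, 3, 4, 5, 6, 7, 3, 2, 1, 4, 3, 2, 5, 8, 7, 3, 2, 1, 4, 3, 2, 5, 4, 7, 3, 2, 4, 5, 8, 9, 6, 5, 4, 3, 2, 7, 3]), 1001, 0),
    ((0, [1, 2, 3, 4, 5, 6, 7, 3, 2, 1, 4, 3, 5, 7, 8, 7, 3, 2, 1, 4, 3, 2, 5, 4, 3, 7, 3, 8, 9, 6, 5, 4, 3, 2, 7, 3, 8, 7]), 1001, 0),
    ((0, [1, 2, 3, 4, 5, 6, 7, 3, 2, 1, 4, 3, 5, 8, 7, 3, 2, 1, 0, 4, 3, 2, 5, 4, 7, 3, 2, 8, 9, 6, 5, 4, 3, 2, 7, 3, 8, 7]), 1001, 0),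
    ((0, [1, 2, 3, 4, 5, 6, 7, 3, 2, 1, 4, 3, 2, 5, 8, 7, 3, 2, 1, 0, 4, 3, 2, 5, 6, 7, 3, 4, 5, 8, 9, 6, 5, 4, 3, 2, 7, 3]), 1001, 0),
    ((0, [1, 2, 3, 4, 5, 6, 7, 3, 2, 1, 4, 3, 2, 5, 8, 7, 3, 2, 1, 4, 3, 5, 4, 7, 3, 2, 8, 9, 6, 5, 4, 3, 2, 1, 0, 7, 3, 8]), 1001, 0),
    ((0, [1, 2, 3, 4, 5, 6, 7, 3, 2, 1, 4, 3, 5, 8, 7, 3, 2, 1, 4, 3, 2, 5, 4, 3, 7, 3, 2, 4, 5, 8, 9, 6, 5, 4, 3, 2, 7, 3]), 901, 0)]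

/-- Part 48 of the cycles. -/
def reps48 : List ((Nat × List Nat) × Nat × Nat) :=
  [
    ((0, [1, 2, 3, 4, 5, 6, 7, 3, 2, 1, 4, 3, 5, 7, 8, 7, 3, 2, 1, 4, 3, 2, 5, 4, 6, 7, 3, 8, 9, 6, 5, 4, 3, 2, 7, 3, 8, 7]), 901, 0),
    ((0, [1, 2, 3, 4, 5, 6, 7, 3, 2, 1, 4, 3, 5, 7, 8, 7, 3, 2, 1, 4, 3, 2, 5, 4, 7, 3, 2, 8, 9, 6, 5, 4, 3, 2, 7, 3, 8, 7]), 901, 0),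
    ((0, [1, 2, 3, 4, 5, 6, 7, 3, 2, 1, 4, 3, 2, 5, 8, 7, 3, 2, 1, 0, 4, 3, 2, 5, 6, 7, 3, 4, 8, 7, 9, 6, 5, 4, 3, 2, 7, 8]), 1001, 0),
    ((0, [1, 2, 3, 4, 5, 6, 7, 3, 2, 1, 4, 3, 2, 5, 8, 7, 3, 2, 1, 0, 4, 3, 2, 5, 6, 7, 3, 4, 8, 7, 9, 6, 5, 4, 3, 2, 7, 3]), 1001, 0),
    ((0, [1, 2, 3, 4, 5, 6, 7, 3, 2, 1, 4, 3, 5, 7, 8, 7, 3, 2, 1, 4, 3, 2, 5, 6, 7, 8, 9, 6, 5, 4, 3, 2, 7, 3, 4, 5, 6, 8]), 1001, 0),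
    ((0, [1, 2, 3, 4, 5, 6, 7, 3, 2, 1, 4, 3, 2, 5, 8, 7, 3, 2, 1, 4, 3, 2, 5, 4, 7, 3, 4, 5, 8, 7, 9, 6, 5, 4, 3, 2, 7, 3]), 1001, 0),
    ((0, [1, 2, 3, 4, 5, 6, 7, 3, 2, 1, 4, 3, 2, 5, 8, 7, 3, 2, 1, 4, 3, 2, 5, 4, 7, 3, 4, 5, 8, 7, 9, 6, 5, 4, 3, 2, 7, 8]), 1001, 0),
    ((0, [1, 2, 3, 4, 5, 6, 7, 3, 2, 1, 4, 3, 5, 8, 7, 3, 2, 1, 4, 3, 2, 5, 4, 7, 3, 2, 1, 4, 8, 7, 9, 6, 5, 4, 3, 2, 7, 3]), 1001, 0),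
    ((0, [1, 2, 3, 4, 5, 6, 7, 3, 2, 1, 4, 3, 2, 5, 4, 8, 7, 3, 2, 1, 4, 3, 2, 5, 4, 7, 3, 2, 8, 7, 9, 6, 5, 4, 3, 2, 7, 8]), 901, 0),
    ((0, [1, 2, 3, 4, 5, 6, 7, 3, 2, 1, 4, 3, 2, 5, 7, 8, 7, 3, 2, 1, 4, 3, 2, 5, 4, 7, 3, 8, 7, 9, 6, 5, 4, 3, 2, 7, 3, 8]), 901, 0),
    ((0, [1, 2, 3, 4, 5, 6, 7, 3, 2, 1, 4, 3, 5, 7, 8, 7, 3, 2, 1, 4, 3, 2, 5, 4, 6, 7, 3, 8, 7, 9, 6, 5, 4, 3, 2, 7, 3, 8]), 901, 0),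
    ((0, [1, 2, 3, 4, 5, 6, 7, 3, 2, 1, 4, 3, 2, 5, 8, 7, 3, 2, 1, 0, 4, 3, 2, 5, 4, 7, 3, 8, 7, 9, 6, 5, 4, 3, 2, 7, 3, 8]), 1001, 0),
    ((0, [1, 2, 3, 4, 5, 6, 7, 3, 2, 1, 4, 3, 5, 7, 8, 7, 3, 2, 1, 4, 3, 2, 5, 4, 3, 7, 3, 8, 7, 9, 6, 5, 4, 3, 2, 7, 3, 8]), 1001, 0),
    ((0, [1, 2, 3, 4, 5, 6, 7, 3, 2, 1, 4, 3, 2, 5, 7, 8, 7, 3, 2, 1, 4, 3, 2, 5, 4, 7, 3, 4, 8, 7, 9, 6, 5, 4, 3, 2, 7, 8]), 1001, 0),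
    ((0, [1, 2, 3, 4, 5, 6, 7, 3, 2, 1, 4, 3, 5, 8, 7, 3, 2, 1, 0, 4, 3, 2, 5, 4, 7, 3, 2, 8, 7, 9, 6, 5, 4, 3, 2, 7, 3, 8]), 1001, 0),
    ((0, [1, 2, 3, 4, 5, 6, 7, 3, 2, 1, 4, 3, 5, 4, 7, 8, 7, 3, 2, 1, 4, 3, 2, 5, 4, 7, 3, 2, 8, 7, 9, 6, 5, 4, 3, 2, 7, 8]), 901, 0),
    ((0, [1, 2, 3, 4, 5, 6, 7, 3, 2, 1, 4, 3, 2, 5, 8, 7, 3, 2, 1, 0, 4, 3, 2, 5, 4, 7, 3, 4, 8, 7, 9, 6, 5, 4, 3, 2, 7, 8]), 1001, 0),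
    ((0, [1, 2, 3, 4, 5, 6, 7, 3, 2, 1, 4, 3, 2, 5, 8, 7, 3, 2, 1, 0, 4, 3, 2, 5, 4, 7, 3, 4, 8, 7, 9, 6, 5, 4, 3, 2, 7, 3]), 1001, 0),
    ((0, [1, 2, 3, 4, 5, 6, 7, 3, 2, 1, 4, 3, 2, 5, 8, 7, 3, 2, 1, 4, 3, 2, 5, 4, 3, 7, 3, 8, 7, 9, 6, 5, 4, 3, 2, 7, 3, 8]), 1001, 0),
    ((0, [1, 2, 3, 4, 5, 6, 7, 3, 2, 1, 4, 3, 5, 7, 8, 7, 3, 2, 1, 4, 3, 2, 5, 4, 7, 3, 2, 8, 7, 9, 6, 5, 4, 3, 2, 7, 3, 8]), 901, 0),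
    ((0, [1, 2, 3, 4, 5, 6, 7, 3, 2, 1, 4, 3, 2, 5, 8, 7, 3, 2, 1, 4, 3, 2, 5, 4, 7, 3, 2, 8, 7, 9, 6, 5, 4, 3, 2, 7, 3, 8]), 901, 0),
    ((0, [1, 2, 3, 4, 5, 6, 7, 3, 2, 1, 4, 3, 5, 8, 7, 3, 2, 1, 4, 3, 2, 5, 4, 3, 7, 3, 2, 8, 7, 9, 6, 5, 4, 3, 2, 7, 3, 8]), 1001, 0),
    ((0, [1, 2, 3, 4, 5, 6, 7, 3, 2, 1, 4, 3, 2, 5, 8, 7, 3, 2, 1, 0, 4, 3, 2, 1, 5, 4, 7, 3, 8, 7, 9, 6, 5, 4, 3, 2, 7, 3]), 1001, 0),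
    ((0, [1, 2, 3, 4, 5, 6, 7, 3, 2, 1, 4, 3, 5, 4, 7, 8, 7, 3, 2, 1, 4, 3, 2, 5, 4, 3, 7, 3, 8, 7, 9, 6, 5, 4, 3, 2, 7, 3]), 1001, 0),
    ((0, [1, 2, 3, 4, 5, 6, 7, 3, 2, 1, 4, 3, 5, 8, 7, 3, 2, 1, 0, 4, 3, 2, 5, 4, 7, 3, 2, 1, 8, 7, 9, 6, 5, 4, 3, 2, 7, 3]), 1001, 0),
    ((0, [1, 2, 3, 4, 5, 6, 7, 3, 2, 1, 4, 3, 5, 8, 7, 3, 2, 1, 4, 3, 2, 5, 4, 3, 7, 3, 4, 5, 8, 7, 9, 6, 5, 4, 3, 2, 7, 3]), 901, 0),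
    ((0, [1, 2, 3, 4, 5, 6, 7, 3, 2, 1, 4, 3, 5, 8, 7, 3, 2, 1, 4, 3, 2, 5, 4, 3, 7, 3, 2, 1, 8, 7, 9, 6, 5, 4, 3, 2, 7, 3]), 1001, 0),
    ((0, [1, 2, 3, 4, 5, 6, 7, 3, 2, 1, 4, 3, 2, 5, 4, 8, 7, 3, 2, 1, 4, 3, 2, 5, 4, 3, 7, 3, 8, 7, 9, 6, 5, 4, 3, 2, 7, 3]), 1001, 0),
    ((0, [1, 2, 3, 4, 5, 6, 7, 3, 2, 1, 4, 3, 5, 4, 8, 7, 3, 2, 1, 4, 3, 2, 5, 4, 6, 7, 3, 2, 8, 7, 9, 6, 5, 4, 3, 2, 7, 8]), 901, 0),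
    ((0, [1, 2, 3, 4, 5, 6, 7, 3, 2, 1, 4, 3, 5, 8, 7, 3, 2, 1, 4, 3, 2, 5, 4, 7, 3, 2, 4, 5, 8, 7, 9, 6, 5, 4, 3, 2, 7, 8]), 1001, 0),
    ((0, [1, 2, 3, 4, 5, 6, 7, 3, 2, 1, 4, 3, 2, 5, 8, 7, 3, 2, 1, 4, 3, 2, 5, 4, 7, 3, 4, 8, 7, 3, 9, 6, 5, 4, 3, 2, 7, 3]), 1001, 0),
    ((0, [1, 2, 3, 4, 5, 6, 7, 3, 2, 1, 4, 3, 5, 8, 7, 3, 2, 1, 4, 3, 2, 5, 4, 7, 3, 2, 1, 4, 8, 7, 3, 2, 9, 6, 5, 4, 3, 2]), 1001, 0),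
    ((0, [1, 2, 3, 4, 5, 6, 7, 3, 2, 1, 4, 3, 2, 5, 8, 7, 3, 2, 1, 0, 4, 3, 2, 5, 4, 7, 3, 4, 8, 7, 3, 2, 9, 6, 5, 4, 3, 2]), 1001, 0),
    ((0, [1, 2, 3, 4, 5, 6, 7, 3, 2, 1, 4, 3, 2, 5, 8, 7, 3, 2, 1, 4, 3, 2, 5, 4, 6, 7, 3, 4, 8, 7, 3, 2, 9, 6, 5, 4, 3, 2]), 1001, 0),
    ((0, [1, 2, 3, 4, 5, 6, 7, 3, 2, 1, 4, 3, 5, 7, 8, 7, 3, 2, 1, 4, 3, 2, 5, 4, 7, 3, 8, 7, 9, 6, 5, 4, 3, 2, 7, 3, 4, 5]), 1001, 0),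
    ((0, [1, 2, 3, 4, 5, 6, 7, 3, 2, 1, 4, 3, 5, 8, 7, 3, 2, 1, 4, 3, 2, 5, 4, 3, 7, 3, 8, 7, 9, 6, 5, 4, 3, 2, 7, 3, 4, 5]), 1001, 0),
    ((0, [1, 2, 3, 4, 5, 6, 7, 3, 2, 1, 4, 3, 2, 5, 8, 7, 3, 2, 1, 4, 3, 2, 5, 4, 7, 3, 8, 7, 9, 6, 5, 4, 3, 2, 7, 3, 4, 5]), 1001, 0),
    ((0, [1, 2, 3, 4, 5, 6, 7, 3, 2, 1, 4, 3, 2, 5, 8, 7, 3, 2, 1, 4, 3, 2, 5, 4, 3, 7, 3, 8, 9, 6, 5, 4, 3, 2, 7, 3, 4, 5]), 1001, 0),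
    ((0, [1, 2, 3, 4, 5, 6, 7, 3, 2, 1, 4, 3, 2, 5, 8, 7, 3, 2, 1, 4, 3, 2, 5, 4, 7, 3, 2, 8, 9, 6, 5, 4, 3, 2, 7, 3, 4, 5]), 1001, 0),
    ((0, [1, 2, 3, 4, 5, 6, 7, 3, 2, 1, 4, 3, 2, 5, 8, 7, 3, 2, 1, 4, 3, 2, 5, 4, 3, 7, 8, 9, 6, 5, 4, 3, 2, 7, 3, 4, 5, 8]), 1001, 0),
    ((0, [1, 2, 3, 4, 5, 6, 7, 3, 2, 1, 4, 3, 5, 7, 8, 7, 3, 2, 1, 4, 3, 5, 4, 7, 3, 2, 8, 9, 6, 5, 4, 3, 2, 7, 3, 4, 5, 8]), 1001, 0),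
    ((0, [1, 2, 3, 4, 5, 6, 7, 3, 2, 1, 4, 3, 2, 5, 8, 7, 3, 2, 1, 4, 3, 5, 4, 7, 3, 2, 8, 9, 6, 5, 4, 3, 2, 7, 3, 4, 5, 8]), 1001, 0),
    ((0, [1, 2, 3, 4, 5, 6, 7, 3, 2, 1, 4, 3, 8, 7, 3, 2, 1, 4, 3, 2, 5, 4, 3, 7, 3, 2, 8, 9, 6, 5, 4, 3, 2, 7, 3, 4, 5, 8]), 1001, 0),
    ((0, [1, 2, 3, 4, 5, 6, 7, 3, 2, 1, 4, 3, 5, 4, 8, 7, 3, 2, 1, 4, 3, 5, 4, 7, 3, 2, 8, 7, 3, 4, 9, 6, 5, 4, 3, 2, 7, 8]), 1001, 0),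
    ((0, [1, 2, 3, 4, 5, 6, 7, 3, 2, 1, 4, 3, 5, 7, 8, 7, 3, 2, 1, 4, 3, 2, 5, 4, 7, 3, 2, 8, 9, 6, 5, 4, 3, 2, 7, 3, 4, 5]), 1001, 0),
    ((0, [1, 2, 3, 4, 5, 6, 7, 3, 2, 1, 4, 3, 5, 8, 7, 3, 2, 1, 4, 3, 2, 5, 4, 3, 7, 3, 2, 8, 9, 6, 5, 4, 3, 2, 7, 3, 4, 5]), 1001, 0),
    ((0, [1, 2, 3, 4, 5, 6, 7, 3, 2, 1, 4, 3, 5, 4, 8, 7, 3, 2, 1, 4, 3, 5, 4, 7, 3, 2, 8, 7, 3, 4, 9, 6, 5, 4, 3, 2, 7, 3]), 1001, 0),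
    ((0, [1, 2, 3, 4, 5, 6, 7, 3, 2, 1, 4, 3, 2, 5, 4, 8, 7, 3, 2, 1, 4, 3, 2, 5, 4, 3, 7, 8, 9, 6, 5, 4, 3, 2, 7, 3, 4, 5]), 1001, 0),
    ((0, [1, 2, 3, 4, 5, 6, 7, 3, 2, 1, 4, 3, 2, 5, 8, 7, 3, 2, 1, 4, 3, 2, 5, 7, 3, 4, 5, 8, 7, 3, 2, 9, 6, 5, 4, 3, 7, 8]), 1001, 0),
    ((0, [1, 2, 3, 4, 5, 6, 7, 3, 2, 1, 4, 3, 5, 4, 8, 7, 3, 2, 1, 4, 3, 2, 5, 4, 7, 3, 2, 8, 7, 3, 4, 9, 6, 5, 4, 3, 7, 8]), 1001, 0),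
    ((0, [1, 2, 3, 4, 5, 6, 7, 3, 2, 1, 4, 3, 2, 5, 8, 7, 3, 2, 1, 4, 3, 2, 5, 4, 6, 7, 3, 4, 8, 7, 3, 2, 9, 6, 5, 4, 3, 7]), 1001, 0),
    ((0, [1, 2, 3, 4, 5, 6, 7, 3, 2, 1, 4, 3, 2, 5, 8, 7, 3, 2, 1, 0, 4, 3, 2, 5, 7, 3, 4, 8, 7, 3, 2, 9, 6, 5, 4, 3, 7, 8]), 1001, 0),
    ((0, [1, 2, 3, 4, 5, 6, 7, 3, 2, 1, 4, 3, 2, 5, 8, 7, 3, 2, 1, 4, 3, 2, 5, 4, 7, 3, 4, 8, 7, 3, 2, 9, 6, 5, 4, 3, 7, 8]), 1001, 0),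
    ((0, [1, 2, 3, 4, 5, 6, 7, 3, 2, 1, 4, 3, 2, 5, 8, 7, 3, 2, 1, 0, 4, 3, 2, 5, 4, 7, 3, 4, 8, 7, 3, 2, 9, 6, 5, 4, 3, 7]), 1001, 0),
    ((0, [1, 2, 3, 4, 5, 6, 7, 3, 2, 1, 4, 3, 2, 5, 8, 7, 3, 2, 1, 4, 3, 2, 5, 7, 3, 4, 8, 7, 3, 2, 1, 9, 6, 5, 4, 3, 7, 8]), 1001, 0),
    ((0, [1, 2, 3, 4, 5, 6, 7, 3, 2, 1, 4, 3, 2, 5, 8, 7, 3, 2, 1, 4, 3, 2, 5, 7, 3, 4, 8, 7, 3, 2, 9, 6, 5, 4, 3, 2, 7, 8]), 1001, 0),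
    ((0, [1, 2, 3, 4, 5, 6, 7, 3, 2, 1, 4, 5, 8, 7, 3, 2, 1, 4, 3, 2, 5, 4, 7, 3, 2, 1, 4, 8, 7, 3, 2, 9, 6, 5, 4, 3, 7, 8]), 1001, 0),
    ((0, [1, 2, 3, 4, 5, 6, 7, 3, 2, 1, 4, 3, 5, 8, 7, 3, 2, 1, 4, 3, 2, 5, 4, 7, 3, 2, 1, 4, 8, 7, 3, 2, 9, 6, 5, 4, 3, 7]), 1001, 0),
    ((0, [1, 2, 3, 4, 5, 6, 7, 3, 2, 1, 4, 3, 2, 5, 8, 7, 3, 2, 1, 4, 3, 2, 5, 7, 3, 4, 8, 7, 3, 2, 9, 6, 5, 4, 3, 2, 7, 3]), 1001, 0),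
    ((0, [1, 2, 3, 4, 5, 6, 7, 3, 2, 1, 4, 3, 2, 5, 8, 7, 3, 2, 1, 4, 3, 2, 5, 4, 7, 3, 4, 8, 7, 9, 6, 5, 4, 3, 2, 1, 7, 8]), 1001, 0),
    ((0, [1, 2, 3, 4, 5, 6, 7, 3, 2, 1, 4, 3, 5, 8, 7, 3, 2, 1, 4, 3, 2, 5, 4, 3, 7, 3, 2, 1, 4, 8, 7, 9, 6, 5, 4, 3, 2, 1]), 1001, 0),
    ((0, [1, 2, 3, 4, 5, 6, 7, 3, 2, 1, 4, 3, 5, 8, 7, 3, 2, 1, 4, 3, 2, 5, 4, 3, 7, 3, 2, 4, 8, 7, 9, 6, 5, 4, 3, 2, 1, 7]), 1001, 0),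
    ((0, [1, 2, 3, 4, 5, 6, 7, 3, 2, 1, 4, 3, 5, 4, 7, 8, 7, 3, 2, 1, 4, 3, 2, 5, 4, 7, 3, 8, 7, 9, 6, 5, 4, 3, 2, 1, 0, 7]), 1001, 0),
    ((0, [1, 2, 3, 4, 5, 6, 7, 3, 2, 1, 4, 3, 5, 8, 7, 3, 2, 1, 4, 3, 2, 5, 4, 7, 3, 4, 8, 7, 9, 6, 5, 4, 3, 2, 1, 0, 7, 3]), 1001, 0),
    ((0, [1, 2, 3, 4, 5, 6, 7, 3, 2, 1, 4, 3, 5, 4, 8, 7, 3, 2, 1, 0, 4, 3, 2, 5, 4, 7, 3, 8, 7, 9, 6, 5, 4, 3, 2, 1, 0, 7]), 1001, 0),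
    ((0, [1, 2, 3, 4, 5, 6, 7, 3, 2, 1, 4, 3, 5, 8, 7, 3, 2, 1, 4, 3, 2, 5, 4, 7, 3, 4, 5, 8, 7, 9, 6, 5, 4, 3, 2, 1, 0, 7]), 1001, 0),
    ((0, [1, 2, 3, 4, 5, 6, 7, 3, 2, 1, 4, 3, 2, 5, 7, 8, 7, 3, 2, 1, 4, 3, 2, 5, 4, 7, 3, 8, 7, 9, 6, 5, 4, 3, 2, 1, 0, 7]), 1001, 0),
    ((0, [1, 2, 3, 4, 5, 6, 7, 3, 2, 1, 4, 3, 2, 5, 4, 7, 8, 7, 3, 2, 1, 4, 3, 2, 5, 4, 7, 3, 8, 7, 9, 6, 5, 4, 3, 2, 1, 0]), 1001, 0),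
    ((0, [1, 2, 3, 4, 5, 6, 7, 3, 2, 1, 4, 3, 2, 5, 4, 8, 7, 3, 2, 1, 0, 4, 3, 2, 5, 4, 7, 3, 8, 7, 9, 6, 5, 4, 3, 2, 1, 0]), 1001, 0),
    ((0, [1, 2, 3, 4, 5, 6, 7, 3, 2, 1, 4, 3, 5, 8, 7, 3, 2, 1, 4, 3, 2, 5, 4, 7, 3, 4, 8, 7, 9, 6, 5, 4, 3, 2, 1, 0, 7, 8]), 1001, 0),
    ((0, [1, 2, 3, 4, 5, 6, 7, 3, 2, 1, 4, 3, 5, 7, 8, 7, 3, 2, 1, 4, 3, 2, 5, 4, 7, 3, 8, 7, 9, 6, 5, 4, 3, 2, 1, 0, 7, 8]), 1001, 0),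
    ((0, [1, 2, 3, 4, 5, 6, 7, 3, 2, 1, 4, 3, 5, 4, 8, 7, 3, 2, 1, 4, 3, 2, 5, 4, 7, 3, 8, 7, 9, 6, 5, 4, 3, 2, 1, 0, 7, 8]), 1001, 0),
    ((0, [1, 2, 3, 4, 5, 6, 7, 3, 2, 1, 4, 3, 5, 4, 8, 7, 3, 2, 1, 4, 3, 2, 5, 4, 7, 3, 8, 7, 9, 6, 5, 4, 3, 2, 1, 0, 7, 3]), 1001, 0),
    ((0, [1, 2, 3, 4, 5, 6, 7, 3, 2, 1, 4, 3, 2, 5, 8, 7, 3, 2, 1, 4, 3, 2, 5, 4, 7, 3, 8, 7, 9, 6, 5, 4, 3, 2, 1, 0, 7, 8]), 1001, 0),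
    ((0, [1, 2, 3, 4, 5, 6, 7, 3, 2, 1, 4, 3, 5, 8, 7, 3, 2, 1, 4, 3, 2, 5, 4, 6, 7, 3, 4, 8, 7, 9, 6, 5, 4, 3, 2, 1, 0, 7]), 1001, 0),
    ((0, [1, 2, 3, 4, 5, 6, 7, 3, 2, 1, 4, 3, 5, 7, 8, 7, 3, 2, 1, 4, 3, 2, 5, 4, 6, 7, 3, 8, 7, 9, 6, 5, 4, 3, 2, 1, 0, 7]), 1001, 0),
    ((0, [1, 2, 3, 4, 5, 6, 7, 3, 2, 1, 4, 3, 5, 4, 8, 7, 3, 2, 1, 4, 3, 2, 5, 4, 6, 7, 3, 8, 7, 9, 6, 5, 4, 3, 2, 1, 0, 7]), 1001, 0),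
    ((0, [1, 2, 3, 4, 5, 6, 7, 3, 2, 1, 4, 3, 5, 4, 7, 8, 7, 3, 2, 1, 4, 3, 2, 5, 4, 6, 7, 3, 8, 7, 9, 6, 5, 4, 3, 2, 1, 0]), 1001, 0),
    ((0, [1, 2, 3, 4, 5, 6, 7, 3, 2, 1, 4, 3, 5, 4, 8, 7, 3, 2, 1, 0, 4, 3, 2, 5, 4, 6, 7, 3, 8, 7, 9, 6, 5, 4, 3, 2, 1, 0]), 1001, 0),
    ((0, [1, 2, 3, 4, 5, 6, 7, 3, 2, 1, 4, 3, 5, 8, 7, 3, 2, 1, 4, 3, 2, 5, 4, 6, 7, 3, 8, 7, 9, 6, 5, 4, 3, 2, 1, 0, 7, 8]), 1001, 0),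
    ((0, [1, 2, 3, 4, 5, 6, 7, 3, 2, 1, 4, 3, 5, 4, 8, 7, 3, 2, 1, 4, 3, 2, 5, 4, 7, 3, 4, 8, 7, 9, 6, 5, 4, 3, 2, 1, 0, 7]), 1001, 0),
    ((0, [1, 2, 3, 4, 5, 6, 7, 3, 2, 1, 4, 3, 5, 4, 8, 7, 3, 2, 1, 0, 4, 3, 2, 1, 5, 4, 7, 3, 8, 7, 9, 6, 5, 4, 3, 2, 1, 0]), 1001, 0),
    ((0, [1, 2, 3, 4, 5, 6, 7, 3, 2, 1, 4, 3, 5, 8, 7, 3, 2, 1, 4, 3, 2, 5, 4, 3, 7, 3, 4, 8, 7, 9, 6, 5, 4, 3, 2, 1, 0, 7]), 1001, 0),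
    ((0, [1, 2, 3, 4, 5, 6, 7, 3, 2, 1, 4, 3, 5, 4, 8, 7, 3, 2, 1, 0, 4, 3, 2, 5, 4, 3, 7, 3, 8, 7, 9, 6, 5, 4, 3, 2, 1, 0]), 1001, 0),
    ((0, [1, 2, 3, 4, 5, 6, 7, 3, 2, 1, 4, 3, 5, 7, 8, 7, 3, 2, 1, 0, 4, 3, 2, 5, 4, 7, 3, 8, 7, 9, 6, 5, 4, 3, 2, 1, 0, 7]), 1001, 0),
    ((0, [1, 2, 3, 4, 5, 6, 7, 3, 2, 1, 4, 3, 2, 5, 8, 7, 3, 2, 1, 0, 4, 3, 2, 5, 4, 7, 3, 8, 7, 9, 6, 5, 4, 3, 2, 1, 0, 7]), 1001, 0),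
    ((0, [1, 2, 3, 4, 5, 6, 7, 3, 2, 1, 4, 3, 5, 8, 7, 3, 2, 1, 0, 4, 3, 2, 5, 4, 7, 3, 8, 7, 9, 6, 5, 4, 3, 2, 1, 0, 7, 8]), 1001, 0),
    ((0, [1, 2, 3, 4, 5, 6, 7, 3, 2, 1, 4, 3, 5, 8, 7, 3, 2, 1, 4, 3, 2, 5, 4, 3, 7, 3, 8, 7, 9, 6, 5, 4, 3, 2, 1, 0, 7, 8]), 1001, 0),
    ((0, [1, 2, 3, 4, 5, 6, 7, 3, 2, 1, 4, 3, 5, 7, 8, 7, 3, 2, 1, 4, 3, 2, 5, 4, 7, 3, 4, 8, 7, 9, 6, 5, 4, 3, 2, 1, 0, 7]), 1001, 0),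
    ((0, [1, 2, 3, 4, 5, 6, 7, 3, 2, 1, 4, 3, 5, 7, 8, 7, 3, 2, 1, 4, 3, 2, 5, 4, 7, 3, 8, 7, 9, 6, 5, 4, 3, 2, 1, 0, 7, 3]), 1001, 0),
    ((0, [1, 2, 3, 4, 5, 6, 7, 3, 2, 1, 4, 3, 5, 8, 7, 3, 2, 1, 4, 3, 2, 5, 4, 3, 7, 3, 8, 7, 9, 6, 5, 4, 3, 2, 1, 0, 7, 3]), 1001, 0),
    ((0, [1, 2, 3, 4, 5, 6, 7, 3, 2, 1, 4, 3, 2, 5, 8, 7, 3, 2, 1, 4, 3, 2, 5, 4, 7, 3, 8, 7, 9, 6, 5, 4, 3, 2, 1, 0, 7, 3]), 1001, 0),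
    ((0, [1, 2, 3, 4, 5, 6, 7, 3, 2, 1, 4, 3, 5, 8, 7, 3, 2, 1, 4, 3, 2, 5, 4, 7, 3, 8, 7, 9, 6, 5, 4, 3, 2, 1, 0, 7, 3, 8]), 1001, 0),
    ((0, [1, 2, 3, 4, 5, 6, 7, 3, 2, 1, 4, 3, 5, 8, 7, 3, 2, 1, 4, 3, 2, 5, 4, 6, 7, 3, 8, 7, 9, 6, 5, 4, 3, 2, 1, 0, 7, 3]), 1001, 0),
    ((0, [1, 2, 3, 4, 5, 6, 7, 3, 2, 1, 4, 3, 5, 8, 7, 3, 2, 1, 0, 4, 3, 2, 5, 4, 7, 3, 8, 7, 9, 6, 5, 4, 3, 2, 1, 0, 7, 3]), 1001, 0),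
    ((0, [1, 2, 3, 4, 5, 6, 7, 3, 2, 1, 4, 3, 2, 5, 8, 7, 3, 2, 1, 4, 3, 2, 5, 4, 7, 3, 4, 5, 8, 7, 9, 6, 5, 4, 3, 2, 1, 0]), 1001, 0),
    ((0, [1, 2, 3, 4, 5, 6, 7, 3, 2, 1, 4, 3, 2, 5, 7, 8, 7, 3, 2, 1, 4, 3, 2, 5, 4, 7, 3, 4, 8, 7, 9, 6, 5, 4, 3, 2, 1, 0]), 1001, 0),
    ((0, [1, 2, 3, 4, 5, 6, 7, 3, 2, 1, 4, 3, 2, 5, 8, 7, 3, 2, 1, 4, 3, 2, 5, 4, 6, 7, 3, 8, 7, 9, 6, 5, 4, 3, 2, 1, 0, 7]), 1001, 0),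
    ((0, [1, 2, 3, 4, 5, 6, 7, 3, 2, 1, 4, 3, 5, 8, 7, 3, 2, 1, 4, 3, 2, 5, 4, 7, 3, 2, 1, 0, 8, 7, 9, 6, 5, 4, 3, 2, 1, 0]), 1001, 0),
    ((0, [1, 2, 3, 4, 5, 6, 7, 3, 2, 1, 4, 3, 2, 5, 4, 8, 7, 3, 2, 1, 4, 3, 2, 5, 4, 6, 7, 3, 8, 7, 9, 6, 5, 4, 3, 2, 1, 0]), 1001, 0),
    ((0, [1, 2, 3, 4, 5, 6, 7, 3, 2, 1, 4, 3, 5, 8, 7, 3, 2, 1, 4, 3, 2, 5, 4, 7, 3, 2, 8, 7, 9, 6, 5, 4, 3, 2, 1, 0, 7, 3]), 1001, 0),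
    ((0, [1, 2, 3, 4, 5, 6, 7, 3, 2, 1, 4, 3, 5, 8, 7, 3, 2, 1, 4, 3, 2, 5, 4, 7, 3, 2, 4, 8, 7, 9, 6, 5, 4, 3, 2, 1, 0, 7]), 1001, 0),
    ((0, [1, 2, 3, 4, 5, 6, 7, 3, 2, 1, 4, 3, 5, 8, 7, 3, 2, 1, 4, 3, 2, 5, 4, 7, 3, 2, 1, 4, 8, 7, 9, 6, 5, 4, 3, 2, 1, 0]), 1001, 0),
    ((0, [1, 2, 3, 4, 5, 6, 7, 3, 2, 1, 4, 3, 5, 8, 7, 3, 2, 1, 0, 4, 3, 2, 5, 4, 7, 3, 2, 8, 7, 9, 6, 5, 4, 3, 2, 1, 0, 7]), 1001, 0),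
    ((0, [1, 2, 3, 4, 5, 6, 7, 3, 2, 1, 4, 3, 2, 5, 8, 7, 3, 2, 1, 4, 3, 2, 5, 4, 7, 3, 4, 8, 7, 9, 6, 5, 4, 3, 2, 1, 0, 7]), 1001, 0),
    ((0, [1, 2, 3, 4, 5, 6, 7, 3, 2, 1, 4, 3, 2, 5, 4, 8, 7, 3, 2, 1, 4, 3, 2, 5, 4, 7, 3, 4, 8, 7, 9, 6, 5, 4, 3, 2, 1, 0]), 1001, 0),
    ((0, [1, 2, 3, 4, 5, 6, 7, 3, 2, 1, 4, 3, 2, 5, 8, 7, 3, 2, 1, 4, 3, 2, 5, 4, 6, 7, 3, 4, 8, 7, 9, 6, 5, 4, 3, 2, 1, 0]), 1001, 0),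
    ((0, [1, 2, 3, 4, 5, 6, 7, 3, 2, 1, 4, 3, 2, 5, 4, 8, 7, 3, 2, 1, 4, 3, 2, 5, 4, 7, 3, 2, 8, 7, 9, 6, 5, 4, 3, 2, 1, 0]), 1001, 0),
    ((0, [1, 2, 3, 4, 5, 6, 7, 3, 2, 1, 4, 3, 5, 4, 7, 8, 7, 3, 2, 1, 4, 3, 2, 5, 4, 7, 3, 2, 8, 7, 9, 6, 5, 4, 3, 2, 1, 0]), 1001, 0),
    ((0, [1, 2, 3, 4, 5, 6, 7, 3, 2, 1, 4, 3, 5, 8, 7, 3, 2, 1, 4, 3, 2, 5, 4, 7, 3, 2, 4, 5, 8, 7, 9, 6, 5, 4, 3, 2, 1, 0]), 1001, 0),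
    ((0, [1, 2, 3, 4, 5, 6, 7, 3, 2, 1, 4, 3, 5, 4, 7, 8, 7, 3, 2, 1, 4, 3, 2, 5, 4, 3, 7, 3, 8, 7, 9, 6, 5, 4, 3, 2, 1, 0]), 1001, 0),
    ((0, [1, 2, 3, 4, 5, 6, 7, 3, 2, 1, 4, 3, 2, 5, 4, 8, 7, 3, 2, 1, 4, 3, 2, 5, 4, 3, 7, 3, 8, 7, 9, 6, 5, 4, 3, 2, 1, 0]), 1001, 0),
    ((0, [1, 2, 3, 4, 5, 6, 7, 3, 2, 1, 4, 3, 5, 4, 8, 7, 3, 2, 1, 0, 4, 3, 2, 5, 4, 7, 3, 4, 8, 7, 9, 6, 5, 4, 3, 2, 1, 0]), 1001, 0),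
    ((0, [1, 2, 3, 4, 5, 6, 7, 3, 2, 1, 4, 3, 5, 8, 7, 3, 2, 1, 4, 3, 2, 5, 4, 3, 7, 3, 2, 1, 8, 7, 9, 6, 5, 4, 3, 2, 1, 0]), 1001, 0),
    ((0, [1, 2, 3, 4, 5, 6, 7, 3, 2, 1, 4, 3, 5, 8, 7, 3, 2, 1, 4, 3, 2, 5, 4, 3, 7, 3, 2, 4, 8, 7, 9, 6, 5, 4, 3, 2, 1, 0]), 1001, 0),
    ((0, [1, 2, 3, 4, 5, 6, 7, 3, 2, 1, 4, 3, 2, 5, 8, 7, 3, 2, 1, 4, 3, 2, 5, 4, 3, 7, 3, 4, 8, 7, 9, 6, 5, 4, 3, 2, 1, 0]), 1001, 0),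
    ((0, [1, 2, 3, 4, 5, 6, 7, 3, 2, 1, 4, 3, 5, 7, 8, 7, 3, 2, 1, 4, 3, 2, 5, 4, 7, 3, 2, 4, 8, 7, 9, 6, 5, 4, 3, 2, 1, 0]), 1001, 0),
    ((0, [1, 2, 3, 4, 5, 6, 7, 3, 2, 1, 4, 3, 5, 4, 8, 7, 3, 2, 1, 0, 4, 3, 2, 5, 4, 7, 3, 2, 8, 7, 9, 6, 5, 4, 3, 2, 1, 0]), 1001, 0),
    ((0, [1, 2, 3, 4, 5, 6, 7, 3, 2, 1, 4, 3, 5, 4, 8, 7, 3, 2, 1, 4, 3, 2, 5, 4, 6, 7, 3, 2, 8, 7, 9, 6, 5, 4, 3, 2, 1, 0]), 1001, 0),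
    ((0, [1, 2, 3, 4, 5, 6, 7, 3, 2, 1, 4, 3, 5, 4, 8, 7, 3, 2, 1, 4, 3, 2, 5, 4, 3, 7, 3, 2, 8, 7, 9, 6, 5, 4, 3, 2, 1, 0]), 1001, 0)]

/-- Part 49 of the cycles. -/
def reps49 : List ((Nat × List Nat) × Nat × Nat) :=
  [
    ((0, [1, 2, 3, 4, 5, 6, 7, 3, 2, 1, 4, 3, 5, 7, 8, 7, 3, 2, 1, 4, 3, 2, 5, 4, 7, 3, 2, 8, 7, 9, 6, 5, 4, 3, 2, 1, 0, 7]), 1001, 0),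
    ((0, [1, 2, 3, 4, 5, 6, 7, 3, 2, 1, 4, 3, 5, 4, 8, 7, 3, 2, 1, 4, 3, 2, 5, 4, 6, 5, 7, 3, 8, 7, 9, 6, 5, 4, 3, 2, 1, 0]), 1001, 0),
    ((0, [1, 2, 3, 4, 5, 6, 7, 3, 2, 1, 4, 3, 5, 8, 7, 3, 2, 1, 4, 3, 2, 5, 4, 6, 7, 3, 4, 5, 8, 7, 9, 6, 5, 4, 3, 2, 1, 0]), 1001, 0),
    ((0, [1, 2, 3, 4, 5, 6, 7, 3, 2, 1, 4, 3, 2, 5, 8, 7, 3, 2, 1, 4, 3, 2, 5, 4, 3, 7, 3, 8, 7, 9, 6, 5, 4, 3, 2, 1, 0, 7]), 1001, 0),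
    ((0, [1, 2, 3, 4, 5, 6, 7, 3, 2, 1, 4, 3, 2, 5, 8, 7, 3, 2, 1, 4, 3, 2, 5, 4, 7, 3, 2, 8, 7, 9, 6, 5, 4, 3, 2, 1, 0, 7]), 1001, 0),
    ((0, [1, 2, 3, 4, 5, 6, 7, 3, 2, 1, 4, 3, 2, 5, 8, 7, 3, 2, 1, 4, 3, 2, 5, 4, 7, 3, 2, 1, 8, 7, 9, 6, 5, 4, 3, 2, 1, 0]), 1001, 0),
    ((0, [1, 2, 3, 4, 5, 6, 7, 3, 2, 1, 4, 3, 2, 5, 8, 7, 3, 2, 1, 4, 3, 2, 5, 4, 6, 5, 7, 3, 8, 7, 9, 6, 5, 4, 3, 2, 1, 0]), 1001, 0),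
    ((0, [1, 2, 3, 4, 5, 6, 7, 3, 2, 1, 4, 3, 2, 5, 8, 7, 3, 2, 1, 0, 4, 3, 2, 1, 5, 4, 7, 3, 8, 7, 9, 6, 5, 4, 3, 2, 1, 0]), 1001, 0),
    ((0, [1, 2, 3, 4, 5, 6, 7, 3, 2, 1, 4, 3, 2, 5, 7, 8, 7, 3, 2, 1, 0, 4, 3, 2, 5, 4, 7, 3, 8, 7, 9, 6, 5, 4, 3, 2, 1, 0]), 1001, 0),
    ((0, [1, 2, 3, 4, 5, 6, 7, 3, 2, 1, 4, 3, 5, 8, 7, 3, 2, 1, 0, 4, 3, 2, 5, 4, 7, 3, 2, 1, 8, 7, 9, 6, 5, 4, 3, 2, 1, 0]), 1001, 0),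
    ((0, [1, 2, 3, 4, 5, 6, 7, 3, 2, 1, 4, 3, 5, 4, 8, 7, 3, 2, 1, 4, 3, 2, 5, 4, 7, 3, 2, 4, 8, 7, 9, 6, 5, 4, 3, 2, 1, 0]), 1001, 0),
    ((0, [1, 2, 3, 4, 5, 6, 7, 3, 2, 1, 4, 3, 2, 5, 8, 7, 3, 2, 1, 4, 3, 2, 5, 4, 7, 3, 4, 8, 7, 3, 9, 6, 5, 4, 3, 2, 1, 0]), 1001, 0),
    ((0, [1, 2, 3, 4, 5, 6, 7, 3, 2, 1, 4, 3, 2, 5, 8, 7, 3, 2, 1, 4, 3, 2, 5, 4, 7, 3, 2, 4, 8, 7, 9, 6, 5, 4, 3, 2, 1, 0]), 1001, 0),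
    ((0, [1, 2, 3, 4, 5, 6, 7, 3, 2, 1, 4, 3, 2, 5, 4, 8, 7, 3, 2, 1, 4, 3, 2, 5, 4, 3, 7, 3, 2, 1, 8, 9, 6, 5, 4, 3, 2, 7, 3]), 1001, 0),
    ((0, [1, 2, 3, 4, 5, 6, 7, 3, 2, 1, 4, 3, 2, 5, 4, 7, 8, 7, 3, 2, 1, 4, 3, 2, 5, 4, 7, 3, 2, 4, 8, 9, 6, 5, 4, 3, 2, 7, 3]), 1001, 0),
    ((0, [1, 2, 3, 4, 5, 6, 7, 3, 2, 1, 4, 3, 2, 5, 7, 8, 7, 3, 2, 1, 4, 3, 2, 5, 4, 3, 7, 3, 8, 9, 6, 5, 4, 3, 2, 7, 3, 8, 7]), 1001, 0),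
    ((0, [1, 2, 3, 4, 5, 6, 7, 3, 2, 1, 4, 3, 2, 5, 4, 7, 8, 7, 3, 2, 1, 4, 3, 2, 5, 4, 3, 7, 3, 2, 8, 9, 6, 5, 4, 3, 2, 7, 3]), 1001, 0),
    ((0, [1, 2, 3, 4, 5, 6, 7, 3, 2, 1, 4, 3, 2, 5, 8, 7, 3, 2, 1, 4, 3, 2, 5, 4, 3, 7, 3, 4, 5, 8, 9, 6, 5, 4, 3, 2, 1, 7, 3]), 1001, 0),
    ((0, [1, 2, 3, 4, 5, 6, 7, 3, 2, 1, 4, 3, 2, 5, 8, 7, 3, 2, 1, 0, 4, 3, 2, 5, 4, 3, 7, 3, 8, 9, 6, 5, 4, 3, 2, 7, 3, 8, 7]), 901, 0),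
    ((0, [1, 2, 3, 4, 5, 6, 7, 3, 2, 1, 4, 3, 2, 5, 8, 7, 3, 2, 1, 0, 4, 3, 2, 5, 4, 6, 7, 3, 8, 9, 6, 5, 4, 3, 2, 7, 3, 8, 7]), 1001, 0),
    ((0, [1, 2, 3, 4, 5, 6, 7, 3, 2, 1, 4, 3, 2, 5, 8, 7, 3, 2, 1, 4, 3, 2, 5, 4, 3, 7, 3, 4, 5, 6, 8, 9, 6, 5, 4, 3, 2, 7, 3]), 1001, 0),
    ((0, [1, 2, 3, 4, 5, 6, 7, 3, 2, 1, 4, 3, 2, 5, 8, 7, 3, 2, 1, 0, 4, 3, 2, 5, 4, 7, 3, 2, 8, 9, 6, 5, 4, 3, 2, 7, 3, 8, 7]), 1001, 0),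
    ((0, [1, 2, 3, 4, 5, 6, 7, 3, 2, 1, 4, 3, 2, 5, 8, 7, 3, 2, 1, 4, 3, 2, 5, 4, 7, 3, 2, 1, 4, 5, 8, 7, 9, 6, 5, 4, 3, 7, 8]), 1001, 0),
    ((0, [1, 2, 3, 4, 5, 6, 7, 3, 2, 1, 4, 3, 2, 5, 8, 7, 3, 2, 1, 0, 4, 3, 2, 5, 6, 7, 3, 4, 5, 8, 7, 9, 6, 5, 4, 3, 2, 7, 3]), 1001, 0),
    ((0, [1, 2, 3, 4, 5, 6, 7, 3, 2, 1, 4, 3, 2, 5, 4, 7, 8, 7, 3, 2, 1, 4, 3, 2, 5, 4, 7, 3, 4, 8, 7, 9, 6, 5, 4, 3, 2, 7, 3]), 1001, 0),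
    ((0, [1, 2, 3, 4, 5, 6, 7, 3, 2, 1, 4, 3, 2, 5, 8, 7, 3, 2, 1, 0, 4, 3, 2, 5, 4, 6, 7, 3, 8, 7, 9, 6, 5, 4, 3, 2, 7, 3, 8]), 1001, 0),
    ((0, [1, 2, 3, 4, 5, 6, 7, 3, 2, 1, 4, 3, 2, 5, 8, 7, 3, 2, 1, 0, 4, 3, 2, 1, 5, 4, 6, 7, 3, 8, 7, 9, 6, 5, 4, 3, 2, 7, 3]), 1001, 0),
    ((0, [1, 2, 3, 4, 5, 6, 7, 3, 2, 1, 4, 3, 5, 8, 7, 3, 2, 1, 4, 3, 2, 5, 4, 7, 3, 2, 1, 4, 8, 7, 3, 9, 6, 5, 4, 3, 2, 7, 3]), 1001, 0),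
    ((0, [1, 2, 3, 4, 5, 6, 7, 3, 2, 1, 4, 3, 2, 5, 8, 7, 3, 2, 1, 4, 3, 2, 5, 4, 6, 7, 3, 4, 8, 7, 3, 9, 6, 5, 4, 3, 2, 7, 3]), 1001, 0),
    ((0, [1, 2, 3, 4, 5, 6, 7, 3, 2, 1, 4, 3, 5, 7, 8, 7, 3, 2, 1, 0, 4, 3, 2, 5, 4, 7, 3, 8, 7, 9, 6, 5, 4, 3, 2, 7, 3, 4, 5]), 1001, 0),
    ((0, [1, 2, 3, 4, 5, 6, 7, 3, 2, 1, 4, 3, 2, 5, 8, 7, 3, 2, 1, 4, 3, 2, 5, 4, 6, 7, 3, 8, 7, 9, 6, 5, 4, 3, 2, 7, 3, 4, 5]), 1001, 0),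
    ((0, [1, 2, 3, 4, 5, 6, 7, 3, 2, 1, 4, 3, 2, 5, 8, 7, 3, 2, 1, 0, 4, 3, 2, 5, 4, 3, 7, 3, 8, 9, 6, 5, 4, 3, 2, 7, 3, 4, 5]), 1001, 0),
    ((0, [1, 2, 3, 4, 5, 6, 7, 3, 2, 1, 4, 3, 2, 5, 8, 7, 3, 2, 1, 0, 4, 3, 2, 5, 4, 7, 3, 2, 8, 9, 6, 5, 4, 3, 2, 7, 3, 4, 5]), 1001, 0),
    ((0, [1, 2, 3, 4, 5, 6, 7, 3, 2, 1, 4, 3, 2, 5, 8, 7, 3, 2, 1, 4, 3, 2, 5, 4, 3, 7, 3, 8, 9, 6, 5, 4, 3, 2, 1, 7, 3, 4, 5]), 1001, 0),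
    ((0, [1, 2, 3, 4, 5, 6, 7, 3, 2, 1, 4, 3, 2, 5, 8, 7, 3, 2, 1, 0, 4, 3, 2, 5, 4, 3, 7, 8, 9, 6, 5, 4, 3, 2, 7, 3, 4, 5, 8]), 1001, 0),
    ((0, [1, 2, 3, 4, 5, 6, 7, 3, 2, 1, 4, 3, 2, 5, 7, 8, 7, 3, 2, 1, 4, 3, 2, 5, 4, 3, 7, 8, 9, 6, 5, 4, 3, 2, 7, 3, 4, 5, 8]), 1001, 0),
    ((0, [1, 2, 3, 4, 5, 6, 7, 3, 2, 1, 4, 3, 2, 5, 8, 7, 3, 2, 1, 0, 4, 3, 5, 4, 7, 3, 2, 8, 9, 6, 5, 4, 3, 2, 7, 3, 4, 5, 8]), 1001, 0),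
    ((0, [1, 2, 3, 4, 5, 6, 7, 3, 2, 1, 4, 3, 2, 5, 8, 7, 3, 2, 1, 4, 3, 2, 5, 4, 6, 5, 7, 8, 9, 6, 5, 4, 3, 2, 7, 3, 4, 5, 8]), 1001, 0),
    ((0, [1, 2, 3, 4, 5, 6, 7, 3, 2, 1, 4, 3, 2, 5, 8, 7, 3, 2, 1, 4, 3, 2, 5, 4, 3, 7, 8, 9, 6, 5, 4, 3, 2, 1, 7, 3, 4, 5, 8]), 1001, 0),
    ((0, [1, 2, 3, 4, 5, 6, 7, 3, 2, 1, 4, 3, 8, 7, 3, 2, 1, 4, 3, 2, 5, 4, 3, 7, 3, 2, 8, 9, 6, 5, 4, 3, 2, 1, 7, 3, 4, 5, 8]), 1001, 0),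
    ((0, [1, 2, 3, 4, 5, 6, 7, 3, 2, 1, 4, 3, 2, 5, 8, 7, 3, 2, 1, 4, 3, 2, 5, 7, 3, 4, 5, 8, 7, 3, 2, 9, 6, 5, 4, 3, 2, 7, 8]), 1001, 0),
    ((0, [1, 2, 3, 4, 5, 6, 7, 3, 2, 1, 4, 3, 2, 5, 8, 7, 3, 2, 1, 4, 3, 2, 5, 4, 3, 7, 3, 8, 9, 6, 5, 4, 3, 2, 7, 3, 4, 5, 8]), 1001, 0),
    ((0, [1, 2, 3, 4, 5, 6, 7, 3, 2, 1, 4, 3, 2, 5, 8, 7, 3, 2, 1, 4, 3, 2, 5, 4, 7, 3, 2, 8, 9, 6, 5, 4, 3, 2, 7, 3, 4, 5, 8]), 1001, 0),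
    ((0, [1, 2, 3, 4, 5, 6, 7, 3, 2, 1, 4, 3, 2, 5, 8, 7, 3, 2, 1, 0, 4, 3, 2, 5, 7, 3, 4, 8, 7, 3, 2, 9, 6, 5, 4, 3, 2, 7, 8]), 1001, 0),
    ((0, [1, 2, 3, 4, 5, 6, 7, 3, 2, 1, 4, 3, 2, 5, 7, 8, 7, 3, 2, 1, 4, 3, 2, 5, 4, 3, 7, 3, 8, 9, 6, 5, 4, 3, 2, 7, 3, 4, 5]), 1001, 0),
    ((0, [1, 2, 3, 4, 5, 6, 7, 3, 2, 1, 4, 3, 2, 5, 8, 7, 3, 2, 1, 4, 3, 2, 5, 4, 6, 5, 7, 3, 8, 9, 6, 5, 4, 3, 2, 7, 3, 4, 5]), 1001, 0),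
    ((0, [1, 2, 3, 4, 5, 6, 7, 3, 2, 1, 4, 3, 5, 7, 8, 7, 3, 2, 1, 4, 3, 2, 5, 4, 7, 3, 2, 8, 9, 6, 5, 4, 3, 2, 7, 3, 4, 5, 8]), 1001, 0),
    ((0, [1, 2, 3, 4, 5, 6, 7, 3, 2, 1, 4, 3, 5, 8, 7, 3, 2, 1, 4, 3, 2, 5, 4, 3, 7, 3, 2, 8, 9, 6, 5, 4, 3, 2, 7, 3, 4, 5, 8]), 1001, 0),
    ((0, [1, 2, 3, 4, 5, 6, 7, 3, 2, 1, 4, 3, 5, 4, 8, 7, 3, 2, 1, 4, 3, 5, 4, 7, 3, 2, 8, 7, 3, 4, 9, 6, 5, 4, 3, 2, 7, 3, 8]), 1001, 0),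
    ((0, [1, 2, 3, 4, 5, 6, 7, 3, 2, 1, 4, 3, 5, 7, 8, 7, 3, 2, 1, 4, 3, 2, 5, 4, 7, 3, 2, 8, 9, 6, 5, 4, 3, 2, 7, 3, 4, 5, 6]), 1001, 0),
    ((0, [1, 2, 3, 4, 5, 6, 7, 3, 2, 1, 4, 5, 8, 7, 3, 2, 1, 4, 3, 2, 5, 4, 7, 3, 2, 1, 4, 8, 7, 3, 2, 9, 6, 5, 4, 3, 2, 7, 3]), 1001, 0),
    ((0, [1, 2, 3, 4, 5, 6, 7, 3, 2, 1, 4, 3, 5, 7, 8, 7, 3, 2, 1, 4, 3, 5, 4, 7, 3, 2, 8, 9, 6, 5, 4, 3, 2, 7, 3, 4, 5, 6, 8]), 1001, 0),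
    ((0, [1, 2, 3, 4, 5, 6, 7, 3, 2, 1, 4, 5, 8, 7, 3, 2, 1, 4, 3, 2, 5, 4, 7, 3, 2, 1, 4, 8, 7, 3, 2, 9, 6, 5, 4, 3, 2, 7, 8]), 1001, 0),
    ((0, [1, 2, 3, 4, 5, 6, 7, 3, 2, 1, 4, 3, 2, 5, 8, 7, 3, 2, 1, 4, 3, 2, 5, 4, 3, 7, 8, 9, 6, 5, 4, 3, 2, 7, 3, 4, 5, 6, 8]), 1001, 0),
    ((0, [1, 2, 3, 4, 5, 6, 7, 3, 2, 1, 4, 3, 8, 7, 3, 2, 1, 4, 3, 2, 5, 4, 3, 7, 3, 2, 8, 9, 6, 5, 4, 3, 2, 7, 3, 4, 5, 6, 8]), 1001, 0),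
    ((0, [1, 2, 3, 4, 5, 6, 7, 3, 2, 1, 4, 3, 5, 8, 7, 3, 2, 1, 4, 3, 2, 5, 4, 3, 7, 3, 2, 8, 9, 6, 5, 4, 3, 2, 7, 3, 4, 5, 6]), 1001, 0),
    ((0, [1, 2, 3, 4, 5, 6, 7, 3, 2, 1, 4, 3, 2, 5, 8, 7, 3, 2, 1, 4, 3, 2, 5, 4, 3, 7, 3, 8, 9, 6, 5, 4, 3, 2, 7, 3, 4, 5, 6]), 1001, 0),
    ((0, [1, 2, 3, 4, 5, 6, 7, 3, 2, 1, 4, 3, 5, 8, 7, 3, 2, 1, 4, 3, 2, 5, 4, 3, 7, 3, 8, 7, 9, 6, 5, 4, 3, 2, 7, 3, 4, 5, 6]), 1001, 0),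
    ((0, [1, 2, 3, 4, 5, 6, 7, 3, 2, 1, 4, 3, 5, 7, 8, 7, 3, 2, 1, 4, 3, 2, 5, 4, 7, 3, 8, 7, 9, 6, 5, 4, 3, 2, 7, 3, 4, 5, 6]), 1001, 0),
    ((0, [1, 2, 3, 4, 5, 6, 7, 3, 2, 1, 4, 3, 2, 5, 4, 8, 7, 3, 2, 1, 4, 3, 2, 5, 4, 3, 7, 3, 8, 9, 6, 5, 4, 3, 2, 7, 3, 4, 5]), 1001, 0),
    ((0, [1, 2, 3, 4, 5, 6, 7, 3, 2, 1, 4, 3, 2, 5, 8, 7, 3, 2, 1, 4, 3, 2, 5, 4, 7, 3, 4, 5, 8, 7, 3, 2, 9, 6, 5, 4, 3, 7, 8]), 1001, 0),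
    ((0, [1, 2, 3, 4, 5, 6, 7, 3, 2, 1, 4, 3, 2, 5, 4, 7, 8, 7, 3, 2, 1, 4, 3, 5, 4, 7, 3, 2, 8, 7, 3, 4, 9, 6, 5, 4, 3, 7, 8]), 1001, 0),
    ((0, [1, 2, 3, 4, 5, 6, 7, 3, 2, 1, 4, 3, 2, 5, 8, 7, 3, 2, 1, 0, 4, 3, 2, 5, 4, 7, 3, 4, 8, 7, 3, 2, 9, 6, 5, 4, 3, 7, 8]), 1001, 0),
    ((0, [1, 2, 3, 4, 5, 6, 7, 3, 2, 1, 4, 3, 2, 5, 4, 8, 7, 3, 2, 1, 4, 3, 2, 5, 4, 3, 7, 8, 9, 6, 5, 4, 3, 2, 1, 7, 3, 4, 5]), 1001, 0),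
    ((0, [1, 2, 3, 4, 5, 6, 7, 3, 2, 1, 4, 3, 2, 5, 8, 7, 3, 2, 1, 4, 3, 2, 5, 4, 7, 3, 4, 8, 7, 3, 2, 1, 9, 6, 5, 4, 3, 7, 8]), 1001, 0),
    ((0, [1, 2, 3, 4, 5, 6, 7, 3, 2, 1, 4, 3, 2, 5, 4, 7, 8, 7, 3, 2, 1, 4, 3, 2, 5, 4, 3, 7, 8, 9, 6, 5, 4, 3, 2, 7, 3, 4, 5]), 1001, 0),
    ((0, [1, 2, 3, 4, 5, 6, 7, 3, 2, 1, 4, 3, 2, 5, 4, 7, 8, 7, 3, 2, 1, 4, 3, 2, 5, 7, 3, 4, 8, 7, 3, 2, 9, 6, 5, 4, 3, 7, 8]), 1001, 0),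
    ((0, [1, 2, 3, 4, 5, 6, 7, 3, 2, 1, 4, 3, 5, 8, 7, 3, 2, 1, 4, 3, 2, 5, 4, 7, 3, 2, 1, 4, 8, 7, 3, 2, 9, 6, 5, 4, 3, 7, 8]), 1001, 0),
    ((0, [1, 2, 3, 4, 5, 6, 7, 3, 2, 1, 4, 3, 2, 5, 4, 8, 7, 3, 2, 1, 4, 3, 2, 5, 4, 3, 7, 8, 9, 6, 5, 4, 3, 2, 7, 3, 4, 5, 6]), 1001, 0),
    ((0, [1, 2, 3, 4, 5, 6, 7, 3, 2, 1, 4, 3, 2, 5, 8, 7, 3, 2, 1, 4, 3, 2, 5, 4, 7, 3, 2, 4, 8, 7, 3, 2, 9, 6, 5, 4, 3, 7, 8]), 1001, 0),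
    ((0, [1, 2, 3, 4, 5, 6, 7, 3, 2, 1, 4, 3, 2, 5, 8, 7, 3, 2, 1, 4, 3, 2, 5, 7, 3, 4, 8, 7, 3, 2, 9, 6, 5, 4, 3, 2, 1, 7, 8]), 1001, 0),
    ((0, [1, 2, 3, 4, 5, 6, 7, 3, 2, 1, 4, 3, 2, 5, 8, 7, 3, 2, 1, 4, 3, 2, 5, 6, 7, 3, 4, 8, 7, 3, 2, 9, 6, 5, 4, 3, 2, 7, 3]), 1001, 0),
    ((0, [1, 2, 3, 4, 5, 6, 7, 3, 2, 1, 4, 3, 2, 5, 8, 7, 3, 2, 1, 4, 3, 2, 5, 7, 3, 4, 8, 7, 3, 2, 9, 6, 5, 4, 3, 2, 7, 3, 8]), 1001, 0),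
    ((0, [1, 2, 3, 4, 5, 6, 7, 3, 2, 1, 4, 3, 2, 5, 8, 7, 3, 2, 1, 4, 3, 2, 5, 7, 3, 4, 8, 7, 3, 2, 1, 9, 6, 5, 4, 3, 2, 7, 3]), 1001, 0),
    ((0, [1, 2, 3, 4, 5, 6, 7, 3, 2, 1, 4, 3, 5, 4, 7, 8, 7, 3, 2, 1, 4, 3, 2, 5, 4, 7, 3, 8, 7, 9, 6, 5, 4, 3, 2, 1, 0, 7, 3]), 1001, 0),
    ((0, [1, 2, 3, 4, 5, 6, 7, 3, 2, 1, 4, 3, 5, 8, 7, 3, 2, 1, 4, 3, 2, 5, 4, 7, 3, 4, 5, 8, 7, 9, 6, 5, 4, 3, 2, 1, 0, 7, 3]), 1001, 0),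
    ((0, [1, 2, 3, 4, 5, 6, 7, 3, 2, 1, 4, 3, 2, 5, 4, 8, 7, 3, 2, 1, 0, 4, 3, 2, 5, 4, 7, 3, 8, 7, 9, 6, 5, 4, 3, 2, 1, 0, 7]), 1001, 0),
    ((0, [1, 2, 3, 4, 5, 6, 7, 3, 2, 1, 4, 3, 5, 8, 7, 3, 2, 1, 4, 3, 2, 5, 4, 7, 3, 4, 8, 7, 9, 6, 5, 4, 3, 2, 1, 0, 7, 3, 8]), 1001, 0),
    ((0, [1, 2, 3, 4, 5, 6, 7, 3, 2, 1, 4, 3, 2, 5, 4, 8, 7, 3, 2, 1, 4, 3, 2, 5, 4, 7, 3, 8, 7, 9, 6, 5, 4, 3, 2, 1, 0, 7, 3]), 1001, 0),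
    ((0, [1, 2, 3, 4, 5, 6, 7, 3, 2, 1, 4, 3, 2, 5, 7, 8, 7, 3, 2, 1, 4, 3, 2, 5, 4, 7, 3, 8, 7, 9, 6, 5, 4, 3, 2, 1, 0, 7, 8]), 1001, 0),
    ((0, [1, 2, 3, 4, 5, 6, 7, 3, 2, 1, 4, 3, 5, 8, 7, 3, 2, 1, 4, 3, 2, 5, 4, 6, 7, 3, 4, 8, 7, 9, 6, 5, 4, 3, 2, 1, 0, 7, 3]), 1001, 0),
    ((0, [1, 2, 3, 4, 5, 6, 7, 3, 2, 1, 4, 3, 5, 7, 8, 7, 3, 2, 1, 4, 3, 2, 5, 4, 6, 7, 3, 8, 7, 9, 6, 5, 4, 3, 2, 1, 0, 7, 8]), 1001, 0),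
    ((0, [1, 2, 3, 4, 5, 6, 7, 3, 2, 1, 4, 3, 5, 4, 8, 7, 3, 2, 1, 4, 3, 2, 5, 4, 6, 7, 3, 8, 7, 9, 6, 5, 4, 3, 2, 1, 0, 7, 8]), 1001, 0),
    ((0, [1, 2, 3, 4, 5, 6, 7, 3, 2, 1, 4, 3, 5, 4, 8, 7, 3, 2, 1, 0, 4, 3, 2, 1, 5, 4, 7, 3, 8, 7, 9, 6, 5, 4, 3, 2, 1, 0, 7]), 1001, 0),
    ((0, [1, 2, 3, 4, 5, 6, 7, 3, 2, 1, 4, 3, 5, 4, 8, 7, 3, 2, 1, 4, 3, 2, 5, 4, 7, 3, 4, 5, 8, 7, 9, 6, 5, 4, 3, 2, 1, 0, 7]), 1001, 0),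
    ((0, [1, 2, 3, 4, 5, 6, 7, 3, 2, 1, 4, 3, 5, 4, 8, 7, 3, 2, 1, 4, 3, 2, 5, 4, 7, 3, 4, 8, 7, 9, 6, 5, 4, 3, 2, 1, 0, 7, 8]), 1001, 0),
    ((0, [1, 2, 3, 4, 5, 6, 7, 3, 2, 1, 4, 3, 5, 4, 8, 7, 3, 2, 1, 4, 3, 2, 5, 4, 7, 3, 8, 7, 9, 6, 5, 4, 3, 2, 1, 0, 7, 3, 2]), 1001, 0),
    ((0, [1, 2, 3, 4, 5, 6, 7, 3, 2, 1, 4, 3, 5, 4, 8, 7, 3, 2, 1, 0, 4, 3, 2, 5, 4, 3, 7, 3, 8, 7, 9, 6, 5, 4, 3, 2, 1, 0, 7]), 1001, 0),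
    ((0, [1, 2, 3, 4, 5, 6, 7, 3, 2, 1, 4, 3, 5, 8, 7, 3, 2, 1, 4, 3, 2, 5, 4, 3, 7, 3, 4, 8, 7, 9, 6, 5, 4, 3, 2, 1, 0, 7, 8]), 1001, 0),
    ((0, [1, 2, 3, 4, 5, 6, 7, 3, 2, 1, 4, 3, 5, 7, 8, 7, 3, 2, 1, 0, 4, 3, 2, 5, 4, 7, 3, 8, 7, 9, 6, 5, 4, 3, 2, 1, 0, 7, 8]), 1001, 0),
    ((0, [1, 2, 3, 4, 5, 6, 7, 3, 2, 1, 4, 3, 5, 7, 8, 7, 3, 2, 1, 4, 3, 2, 5, 4, 7, 3, 4, 8, 7, 9, 6, 5, 4, 3, 2, 1, 0, 7, 8]), 1001, 0),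
    ((0, [1, 2, 3, 4, 5, 6, 7, 3, 2, 1, 4, 3, 5, 4, 8, 7, 3, 2, 1, 4, 3, 2, 5, 4, 3, 7, 3, 8, 7, 9, 6, 5, 4, 3, 2, 1, 0, 7, 8]), 1001, 0),
    ((0, [1, 2, 3, 4, 5, 6, 7, 3, 2, 1, 4, 3, 2, 5, 7, 8, 7, 3, 2, 1, 0, 4, 3, 2, 5, 4, 7, 3, 8, 7, 9, 6, 5, 4, 3, 2, 1, 0, 7]), 1001, 0),
    ((0, [1, 2, 3, 4, 5, 6, 7, 3, 2, 1, 4, 3, 2, 5, 7, 8, 7, 3, 2, 1, 4, 3, 2, 5, 4, 7, 3, 8, 7, 9, 6, 5, 4, 3, 2, 1, 0, 7, 3]), 1001, 0),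
    ((0, [1, 2, 3, 4, 5, 6, 7, 3, 2, 1, 4, 3, 5, 7, 8, 7, 3, 2, 1, 4, 3, 2, 5, 4, 7, 3, 8, 7, 9, 6, 5, 4, 3, 2, 1, 0, 7, 3, 8]), 1001, 0),
    ((0, [1, 2, 3, 4, 5, 6, 7, 3, 2, 1, 4, 3, 5, 7, 8, 7, 3, 2, 1, 4, 3, 2, 5, 4, 6, 7, 3, 8, 7, 9, 6, 5, 4, 3, 2, 1, 0, 7, 3]), 1001, 0),
    ((0, [1, 2, 3, 4, 5, 6, 7, 3, 2, 1, 4, 3, 5, 7, 8, 7, 3, 2, 1, 0, 4, 3, 2, 5, 4, 7, 3, 8, 7, 9, 6, 5, 4, 3, 2, 1, 0, 7, 3]), 1001, 0),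
    ((0, [1, 2, 3, 4, 5, 6, 7, 3, 2, 1, 4, 3, 5, 8, 7, 3, 2, 1, 4, 3, 2, 5, 4, 3, 7, 3, 8, 7, 9, 6, 5, 4, 3, 2, 1, 0, 7, 3, 8]), 1001, 0),
    ((0, [1, 2, 3, 4, 5, 6, 7, 3, 2, 1, 4, 3, 5, 7, 8, 7, 3, 2, 1, 4, 3, 2, 5, 4, 7, 3, 8, 7, 9, 6, 5, 4, 3, 2, 1, 0, 7, 3, 2]), 1001, 0),
    ((0, [1, 2, 3, 4, 5, 6, 7, 3, 2, 1, 4, 3, 2, 5, 8, 7, 3, 2, 1, 4, 3, 2, 5, 4, 7, 3, 8, 7, 9, 6, 5, 4, 3, 2, 1, 0, 7, 3, 8]), 1001, 0),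
    ((0, [1, 2, 3, 4, 5, 6, 7, 3, 2, 1, 4, 3, 5, 8, 7, 3, 2, 1, 4, 3, 2, 5, 4, 6, 7, 3, 8, 7, 9, 6, 5, 4, 3, 2, 1, 0, 7, 3, 8]), 1001, 0),
    ((0, [1, 2, 3, 4, 5, 6, 7, 3, 2, 1, 4, 3, 2, 5, 8, 7, 3, 2, 1, 0, 4, 3, 2, 5, 4, 7, 3, 8, 7, 9, 6, 5, 4, 3, 2, 1, 0, 7, 3]), 1001, 0),
    ((0, [1, 2, 3, 4, 5, 6, 7, 3, 2, 1, 4, 3, 5, 8, 7, 3, 2, 1, 0, 4, 3, 2, 5, 4, 7, 3, 8, 7, 9, 6, 5, 4, 3, 2, 1, 0, 7, 3, 8]), 1001, 0),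
    ((0, [1, 2, 3, 4, 5, 6, 7, 3, 2, 1, 4, 3, 5, 7, 8, 7, 3, 2, 1, 4, 3, 2, 5, 4, 3, 7, 3, 8, 7, 9, 6, 5, 4, 3, 2, 1, 0, 7, 3]), 1001, 0),
    ((0, [1, 2, 3, 4, 5, 6, 7, 3, 2, 1, 4, 3, 2, 5, 8, 7, 3, 2, 1, 4, 3, 2, 5, 4, 7, 3, 4, 5, 8, 7, 9, 6, 5, 4, 3, 2, 1, 0, 7]), 1001, 0),
    ((0, [1, 2, 3, 4, 5, 6, 7, 3, 2, 1, 4, 3, 2, 5, 7, 8, 7, 3, 2, 1, 4, 3, 2, 5, 4, 7, 3, 4, 8, 7, 9, 6, 5, 4, 3, 2, 1, 0, 7]), 1001, 0),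
    ((0, [1, 2, 3, 4, 5, 6, 7, 3, 2, 1, 4, 3, 2, 5, 4, 8, 7, 3, 2, 1, 4, 3, 2, 5, 4, 7, 3, 4, 5, 8, 7, 9, 6, 5, 4, 3, 2, 1, 0]), 1001, 0),
    ((0, [1, 2, 3, 4, 5, 6, 7, 3, 2, 1, 4, 3, 5, 4, 8, 7, 3, 2, 1, 4, 3, 2, 5, 4, 6, 7, 3, 8, 7, 9, 6, 5, 4, 3, 2, 1, 0, 7, 3]), 1001, 0),
    ((0, [1, 2, 3, 4, 5, 6, 7, 3, 2, 1, 4, 3, 2, 5, 8, 7, 3, 2, 1, 0, 4, 3, 2, 5, 4, 6, 7, 3, 8, 7, 9, 6, 5, 4, 3, 2, 1, 0, 7]), 1001, 0),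
    ((0, [1, 2, 3, 4, 5, 6, 7, 3, 2, 1, 4, 3, 5, 8, 7, 3, 2, 1, 4, 3, 2, 5, 4, 7, 3, 2, 8, 7, 9, 6, 5, 4, 3, 2, 1, 0, 7, 3, 8]), 1001, 0),
    ((0, [1, 2, 3, 4, 5, 6, 7, 3, 2, 1, 4, 3, 2, 5, 8, 7, 3, 2, 1, 4, 3, 2, 5, 4, 6, 7, 3, 8, 7, 9, 6, 5, 4, 3, 2, 1, 0, 7, 3]), 1001, 0),
    ((0, [1, 2, 3, 4, 5, 6, 7, 3, 2, 1, 4, 3, 5, 8, 7, 3, 2, 1, 4, 3, 2, 5, 4, 7, 3, 2, 4, 8, 7, 9, 6, 5, 4, 3, 2, 1, 0, 7, 8]), 1001, 0),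
    ((0, [1, 2, 3, 4, 5, 6, 7, 3, 2, 1, 4, 3, 5, 8, 7, 3, 2, 1, 4, 3, 2, 5, 4, 7, 3, 2, 4, 8, 7, 9, 6, 5, 4, 3, 2, 1, 0, 7, 3]), 1001, 0),
    ((0, [1, 2, 3, 4, 5, 6, 7, 3, 2, 1, 4, 3, 5, 8, 7, 3, 2, 1, 0, 4, 3, 2, 5, 4, 7, 3, 2, 8, 7, 9, 6, 5, 4, 3, 2, 1, 0, 7, 3]), 1001, 0),
    ((0, [1, 2, 3, 4, 5, 6, 7, 3, 2, 1, 4, 3, 2, 5, 4, 8, 7, 3, 2, 1, 4, 3, 2, 5, 4, 7, 3, 4, 8, 7, 9, 6, 5, 4, 3, 2, 1, 0, 7]), 1001, 0),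
    ((0, [1, 2, 3, 4, 5, 6, 7, 3, 2, 1, 4, 3, 5, 4, 8, 7, 3, 2, 1, 4, 3, 2, 5, 4, 7, 3, 4, 8, 7, 9, 6, 5, 4, 3, 2, 1, 0, 7, 3]), 1001, 0),
    ((0, [1, 2, 3, 4, 5, 6, 7, 3, 2, 1, 4, 3, 2, 5, 8, 7, 3, 2, 1, 4, 3, 2, 5, 4, 7, 3, 4, 8, 7, 9, 6, 5, 4, 3, 2, 1, 0, 7, 8]), 1001, 0),
    ((0, [1, 2, 3, 4, 5, 6, 7, 3, 2, 1, 4, 3, 2, 5, 8, 7, 3, 2, 1, 0, 4, 3, 2, 5, 4, 7, 3, 4, 8, 7, 9, 6, 5, 4, 3, 2, 1, 0, 7]), 1001, 0),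
    ((0, [1, 2, 3, 4, 5, 6, 7, 3, 2, 1, 4, 3, 2, 5, 8, 7, 3, 2, 1, 4, 3, 2, 5, 4, 7, 3, 4, 8, 7, 9, 6, 5, 4, 3, 2, 1, 0, 7, 3]), 1001, 0),
    ((0, [1, 2, 3, 4, 5, 6, 7, 3, 2, 1, 4, 3, 2, 5, 8, 7, 3, 2, 1, 4, 3, 2, 5, 4, 6, 7, 3, 4, 8, 7, 9, 6, 5, 4, 3, 2, 1, 0, 7]), 1001, 0)]

/-- Part 50 of the cycles. -/
def reps50 : List ((Nat × List Nat) × Nat × Nat) :=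
  [
    ((0, [1, 2, 3, 4, 5, 6, 7, 3, 2, 1, 4, 3, 2, 5, 4, 8, 7, 3, 2, 1, 0, 4, 3, 2, 5, 4, 7, 3, 2, 8, 7, 9, 6, 5, 4, 3, 2, 1, 0]), 1001, 0),
    ((0, [1, 2, 3, 4, 5, 6, 7, 3, 2, 1, 4, 3, 5, 4, 8, 7, 3, 2, 1, 4, 3, 2, 5, 4, 3, 7, 3, 8, 7, 9, 6, 5, 4, 3, 2, 1, 0, 7, 3]), 1001, 0),
    ((0, [1, 2, 3, 4, 5, 6, 7, 3, 2, 1, 4, 3, 2, 5, 4, 8, 7, 3, 2, 1, 0, 4, 3, 2, 5, 4, 7, 3, 4, 8, 7, 9, 6, 5, 4, 3, 2, 1, 0]), 1001, 0),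
    ((0, [1, 2, 3, 4, 5, 6, 7, 3, 2, 1, 4, 3, 2, 5, 7, 8, 7, 3, 2, 1, 0, 4, 3, 2, 5, 4, 7, 3, 4, 8, 7, 9, 6, 5, 4, 3, 2, 1, 0]), 1001, 0),
    ((0, [1, 2, 3, 4, 5, 6, 7, 3, 2, 1, 4, 3, 2, 5, 8, 7, 3, 2, 1, 4, 3, 2, 5, 4, 7, 3, 2, 4, 5, 8, 7, 9, 6, 5, 4, 3, 2, 1, 0]), 1001, 0),
    ((0, [1, 2, 3, 4, 5, 6, 7, 3, 2, 1, 4, 3, 5, 4, 8, 7, 3, 2, 1, 4, 3, 2, 5, 4, 7, 3, 2, 1, 0, 8, 7, 9, 6, 5, 4, 3, 2, 1, 0]), 1001, 0),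
    ((0, [1, 2, 3, 4, 5, 6, 7, 3, 2, 1, 4, 3, 5, 4, 8, 7, 3, 2, 1, 4, 3, 2, 5, 4, 7, 3, 2, 1, 4, 8, 7, 9, 6, 5, 4, 3, 2, 1, 0]), 1001, 0),
    ((0, [1, 2, 3, 4, 5, 6, 7, 3, 2, 1, 4, 3, 2, 5, 7, 8, 7, 3, 2, 1, 4, 3, 2, 5, 4, 3, 7, 3, 4, 8, 7, 9, 6, 5, 4, 3, 2, 1, 0]), 1001, 0),
    ((0, [1, 2, 3, 4, 5, 6, 7, 3, 2, 1, 4, 3, 5, 8, 7, 3, 2, 1, 4, 3, 2, 5, 4, 3, 7, 3, 2, 1, 4, 8, 7, 9, 6, 5, 4, 3, 2, 1, 0]), 1001, 0),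
    ((0, [1, 2, 3, 4, 5, 6, 7, 3, 2, 1, 4, 3, 2, 5, 4, 8, 7, 3, 2, 1, 4, 3, 2, 5, 4, 3, 7, 3, 4, 8, 7, 9, 6, 5, 4, 3, 2, 1, 0]), 1001, 0),
    ((0, [1, 2, 3, 4, 5, 6, 7, 3, 2, 1, 4, 3, 2, 5, 8, 7, 3, 2, 1, 0, 4, 3, 2, 5, 4, 7, 3, 2, 4, 8, 7, 9, 6, 5, 4, 3, 2, 1, 0]), 1001, 0),
    ((0, [1, 2, 3, 4, 5, 6, 7, 3, 2, 1, 4, 3, 5, 4, 8, 7, 3, 2, 1, 4, 3, 2, 5, 4, 3, 7, 3, 2, 1, 8, 7, 9, 6, 5, 4, 3, 2, 1, 0]), 1001, 0),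
    ((0, [1, 2, 3, 4, 5, 6, 7, 3, 2, 1, 4, 3, 2, 5, 8, 7, 3, 2, 1, 4, 3, 2, 5, 4, 6, 5, 7, 3, 4, 8, 7, 9, 6, 5, 4, 3, 2, 1, 0]), 1001, 0),
    ((0, [1, 2, 3, 4, 5, 6, 7, 3, 2, 1, 4, 3, 5, 4, 8, 7, 3, 2, 1, 0, 4, 3, 2, 5, 4, 6, 7, 3, 2, 8, 7, 9, 6, 5, 4, 3, 2, 1, 0]), 1001, 0),
    ((0, [1, 2, 3, 4, 5, 6, 7, 3, 2, 1, 4, 3, 5, 4, 8, 7, 3, 2, 1, 0, 4, 3, 2, 5, 4, 7, 3, 2, 4, 8, 7, 9, 6, 5, 4, 3, 2, 1, 0]), 1001, 0),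
    ((0, [1, 2, 3, 4, 5, 6, 7, 3, 2, 1, 4, 3, 2, 5, 4, 8, 7, 3, 2, 1, 4, 3, 2, 5, 4, 3, 7, 3, 2, 8, 7, 9, 6, 5, 4, 3, 2, 1, 0]), 1001, 0),
    ((0, [1, 2, 3, 4, 5, 6, 7, 3, 2, 1, 4, 3, 2, 5, 8, 7, 3, 2, 1, 0, 4, 3, 2, 5, 4, 3, 7, 3, 8, 7, 9, 6, 5, 4, 3, 2, 1, 0, 7]), 1001, 0),
    ((0, [1, 2, 3, 4, 5, 6, 7, 3, 2, 1, 4, 3, 2, 5, 8, 7, 3, 2, 1, 0, 4, 3, 2, 1, 5, 4, 3, 7, 3, 8, 7, 9, 6, 5, 4, 3, 2, 1, 0]), 1001, 0),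
    ((0, [1, 2, 3, 4, 5, 6, 7, 3, 2, 1, 4, 3, 5, 4, 8, 7, 3, 2, 1, 4, 3, 2, 5, 4, 7, 3, 2, 8, 7, 9, 6, 5, 4, 3, 2, 1, 0, 7, 3]), 1001, 0),
    ((0, [1, 2, 3, 4, 5, 6, 7, 3, 2, 1, 4, 3, 2, 5, 8, 7, 3, 2, 1, 4, 3, 2, 5, 4, 6, 5, 7, 3, 8, 7, 9, 6, 5, 4, 3, 2, 1, 0, 7]), 1001, 0),
    ((0, [1, 2, 3, 4, 5, 6, 7, 3, 2, 1, 4, 3, 2, 5, 4, 8, 7, 3, 2, 1, 4, 3, 2, 5, 4, 6, 5, 7, 3, 8, 7, 9, 6, 5, 4, 3, 2, 1, 0]), 1001, 0),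
    ((0, [1, 2, 3, 4, 5, 6, 7, 3, 2, 1, 4, 3, 2, 5, 8, 7, 3, 2, 1, 4, 3, 2, 5, 4, 7, 3, 2, 1, 0, 8, 7, 9, 6, 5, 4, 3, 2, 1, 0]), 1001, 0),
    ((0, [1, 2, 3, 4, 5, 6, 7, 3, 2, 1, 4, 3, 2, 5, 8, 7, 3, 2, 1, 0, 4, 3, 2, 5, 4, 7, 3, 2, 8, 7, 9, 6, 5, 4, 3, 2, 1, 0, 7]), 1001, 0),
    ((0, [1, 2, 3, 4, 5, 6, 7, 3, 2, 1, 4, 3, 2, 5, 8, 7, 3, 2, 1, 0, 4, 3, 2, 1, 5, 4, 6, 7, 3, 8, 7, 9, 6, 5, 4, 3, 2, 1, 0]), 1001, 0),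
    ((0, [1, 2, 3, 4, 5, 6, 7, 3, 2, 1, 4, 3, 2, 5, 7, 8, 7, 3, 2, 1, 0, 4, 3, 2, 1, 5, 4, 7, 3, 8, 7, 9, 6, 5, 4, 3, 2, 1, 0]), 1001, 0),
    ((0, [1, 2, 3, 4, 5, 6, 7, 3, 2, 1, 4, 3, 2, 5, 8, 7, 3, 2, 1, 0, 4, 3, 2, 1, 5, 4, 7, 3, 2, 8, 7, 9, 6, 5, 4, 3, 2, 1, 0]), 1001, 0),
    ((0, [1, 2, 3, 4, 5, 6, 7, 3, 2, 1, 4, 3, 5, 4, 8, 7, 3, 2, 1, 4, 3, 2, 5, 4, 6, 5, 7, 3, 4, 8, 7, 9, 6, 5, 4, 3, 2, 1, 0]), 1001, 0),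
    ((0, [1, 2, 3, 4, 5, 6, 7, 3, 2, 1, 4, 3, 5, 8, 7, 3, 2, 1, 4, 3, 2, 5, 4, 7, 3, 8, 7, 9, 6, 5, 4, 3, 2, 1, 0, 7, 3, 2, 8]), 1001, 0),
    ((0, [1, 2, 3, 4, 5, 6, 7, 3, 2, 1, 4, 3, 5, 8, 7, 3, 2, 1, 4, 3, 2, 5, 4, 3, 7, 3, 4, 8, 7, 9, 6, 5, 4, 3, 2, 1, 0, 7, 3]), 1001, 0),
    ((0, [1, 2, 3, 4, 5, 6, 7, 3, 2, 1, 4, 3, 5, 7, 8, 7, 3, 2, 1, 4, 3, 2, 5, 4, 7, 3, 4, 8, 7, 9, 6, 5, 4, 3, 2, 1, 0, 7, 3]), 1001, 0),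
    ((0, [1, 2, 3, 4, 5, 6, 7, 3, 2, 1, 4, 3, 5, 4, 7, 8, 7, 3, 2, 1, 4, 3, 2, 5, 4, 7, 3, 2, 8, 7, 9, 6, 5, 4, 3, 2, 1, 0, 7]), 1001, 0),
    ((0, [1, 2, 3, 4, 5, 6, 7, 3, 2, 1, 4, 3, 5, 4, 8, 7, 3, 2, 1, 4, 3, 2, 5, 4, 7, 3, 2, 8, 7, 9, 6, 5, 4, 3, 2, 1, 0, 7, 8]), 1001, 0),
    ((0, [1, 2, 3, 4, 5, 6, 7, 3, 2, 1, 4, 3, 5, 4, 8, 7, 3, 2, 1, 4, 3, 2, 5, 4, 7, 3, 2, 4, 5, 8, 7, 9, 6, 5, 4, 3, 2, 1, 0]), 1001, 0),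
    ((0, [1, 2, 3, 4, 5, 6, 7, 3, 2, 1, 4, 3, 5, 4, 8, 7, 3, 2, 1, 0, 4, 3, 2, 5, 4, 3, 7, 3, 2, 8, 7, 9, 6, 5, 4, 3, 2, 1, 0]), 1001, 0),
    ((0, [1, 2, 3, 4, 5, 6, 7, 3, 2, 1, 4, 3, 5, 8, 7, 3, 2, 1, 4, 3, 2, 5, 4, 7, 3, 2, 4, 8, 7, 3, 9, 6, 5, 4, 3, 2, 1, 0, 7]), 1001, 0),
    ((0, [1, 2, 3, 4, 5, 6, 7, 3, 2, 1, 4, 3, 5, 8, 7, 3, 2, 1, 4, 3, 2, 5, 4, 7, 3, 2, 1, 4, 8, 7, 3, 9, 6, 5, 4, 3, 2, 1, 0]), 1001, 0),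
    ((0, [1, 2, 3, 4, 5, 6, 7, 3, 2, 1, 4, 3, 2, 5, 8, 7, 3, 2, 1, 0, 4, 3, 2, 5, 4, 7, 3, 4, 8, 7, 3, 9, 6, 5, 4, 3, 2, 1, 0]), 1001, 0),
    ((0, [1, 2, 3, 4, 5, 6, 7, 3, 2, 1, 4, 3, 5, 4, 8, 7, 3, 2, 1, 4, 3, 2, 5, 4, 7, 3, 2, 1, 8, 7, 3, 9, 6, 5, 4, 3, 2, 1, 0]), 1001, 0),
    ((0, [1, 2, 3, 4, 5, 6, 7, 3, 2, 1, 4, 3, 2, 5, 8, 7, 3, 2, 1, 4, 3, 2, 5, 4, 3, 7, 3, 4, 5, 8, 7, 9, 6, 5, 4, 3, 2, 1, 0]), 1001, 0),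
    ((0, [1, 2, 3, 4, 5, 6, 7, 3, 2, 1, 4, 3, 5, 8, 7, 3, 2, 1, 4, 3, 2, 5, 4, 3, 7, 3, 2, 4, 5, 8, 7, 9, 6, 5, 4, 3, 2, 1, 0]), 1001, 0),
    ((0, [1, 2, 3, 4, 5, 6, 7, 3, 2, 1, 4, 3, 2, 5, 8, 7, 3, 2, 1, 0, 4, 3, 2, 5, 4, 3, 7, 3, 4, 8, 7, 9, 6, 5, 4, 3, 2, 1, 0]), 1001, 0),
    ((0, [1, 2, 3, 4, 5, 6, 7, 3, 2, 1, 4, 3, 5, 8, 7, 3, 2, 1, 4, 3, 2, 5, 4, 7, 3, 8, 7, 9, 6, 5, 4, 3, 2, 1, 0, 7, 3, 8, 7]), 1001, 0),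
    ((0, [1, 2, 3, 4, 5, 6, 7, 3, 2, 1, 4, 3, 2, 5, 8, 7, 3, 2, 1, 4, 3, 2, 5, 4, 7, 3, 2, 1, 4, 8, 7, 9, 6, 5, 4, 3, 2, 1, 0]), 1001, 0),
    ((0, [1, 2, 3, 4, 5, 6, 7, 3, 2, 1, 4, 3, 5, 4, 8, 7, 3, 2, 1, 4, 3, 2, 5, 4, 7, 3, 2, 4, 8, 7, 9, 6, 5, 4, 3, 2, 1, 0, 7]), 1001, 0),
    ((0, [1, 2, 3, 4, 5, 6, 7, 3, 2, 1, 4, 3, 5, 8, 7, 3, 2, 1, 4, 3, 2, 5, 4, 3, 7, 3, 2, 4, 8, 7, 9, 6, 5, 4, 3, 2, 1, 0, 7]), 1001, 0),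
    ((0, [1, 2, 3, 4, 5, 6, 7, 3, 2, 1, 4, 3, 5, 8, 7, 3, 2, 1, 4, 3, 2, 5, 4, 7, 3, 8, 7, 9, 6, 5, 4, 3, 2, 1, 0, 7, 3, 4, 5]), 1001, 0),
    ((0, [1, 2, 3, 4, 5, 6, 7, 3, 2, 1, 4, 3, 2, 5, 8, 7, 3, 2, 1, 4, 3, 2, 5, 4, 7, 3, 4, 8, 7, 3, 2, 9, 6, 5, 4, 3, 2, 1, 0]), 1001, 0),
    ((0, [1, 2, 3, 4, 5, 6, 7, 3, 2, 1, 4, 3, 5, 4, 8, 7, 3, 2, 1, 4, 3, 2, 5, 4, 7, 3, 2, 8, 7, 3, 4, 9, 6, 5, 4, 3, 2, 1, 0]), 1001, 0),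
    ((0, [1, 2, 3, 4, 5, 6, 7, 3, 2, 1, 4, 3, 2, 5, 8, 7, 3, 2, 1, 4, 3, 2, 5, 4, 7, 3, 2, 4, 8, 7, 3, 9, 6, 5, 4, 3, 2, 1, 0]), 1001, 0),
    ((0, [1, 2, 3, 4, 5, 6, 7, 3, 2, 1, 4, 3, 2, 5, 7, 8, 7, 3, 2, 1, 4, 3, 2, 5, 4, 3, 7, 8, 9, 6, 5, 4, 3, 2, 7, 3, 4, 5, 6, 8]), 1001, 0),
    ((0, [1, 2, 3, 4, 5, 6, 7, 3, 2, 1, 4, 3, 2, 5, 7, 8, 7, 3, 2, 1, 4, 3, 2, 5, 4, 3, 7, 8, 9, 6, 5, 4, 3, 2, 1, 7, 3, 4, 5, 8]), 1001, 0),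
    ((0, [1, 2, 3, 4, 5, 6, 7, 3, 2, 1, 4, 3, 2, 5, 4, 7, 8, 7, 3, 2, 1, 4, 3, 5, 4, 7, 3, 2, 8, 7, 3, 4, 9, 6, 5, 4, 3, 2, 7, 8]), 1001, 0),
    ((0, [1, 2, 3, 4, 5, 6, 7, 3, 2, 1, 4, 3, 2, 5, 8, 7, 3, 2, 1, 0, 4, 3, 2, 5, 4, 3, 7, 3, 8, 9, 6, 5, 4, 3, 2, 7, 3, 4, 5, 8]), 1001, 0),
    ((0, [1, 2, 3, 4, 5, 6, 7, 3, 2, 1, 4, 3, 2, 5, 8, 7, 3, 2, 1, 0, 4, 3, 2, 5, 4, 7, 3, 2, 8, 9, 6, 5, 4, 3, 2, 7, 3, 4, 5, 8]), 1001, 0),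
    ((0, [1, 2, 3, 4, 5, 6, 7, 3, 2, 1, 4, 3, 2, 5, 8, 7, 3, 2, 1, 4, 3, 2, 5, 4, 3, 7, 3, 8, 9, 6, 5, 4, 3, 2, 1, 7, 3, 4, 5, 8]), 1001, 0),
    ((0, [1, 2, 3, 4, 5, 6, 7, 3, 2, 1, 4, 3, 2, 5, 8, 7, 3, 2, 1, 4, 3, 2, 5, 4, 7, 3, 2, 8, 9, 6, 5, 4, 3, 2, 1, 7, 3, 4, 5, 8]), 1001, 0),
    ((0, [1, 2, 3, 4, 5, 6, 7, 3, 2, 1, 4, 3, 2, 5, 7, 8, 7, 3, 2, 1, 4, 3, 2, 5, 4, 3, 7, 3, 8, 9, 6, 5, 4, 3, 2, 7, 3, 4, 5, 8]), 1001, 0),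
    ((0, [1, 2, 3, 4, 5, 6, 7, 3, 2, 1, 4, 3, 2, 5, 8, 7, 3, 2, 1, 4, 3, 2, 5, 4, 6, 5, 7, 3, 8, 9, 6, 5, 4, 3, 2, 7, 3, 4, 5, 8]), 1001, 0),
    ((0, [1, 2, 3, 4, 5, 6, 7, 3, 2, 1, 4, 3, 5, 8, 7, 3, 2, 1, 4, 3, 2, 5, 4, 3, 7, 3, 2, 8, 9, 6, 5, 4, 3, 2, 1, 7, 3, 4, 5, 8]), 1001, 0),
    ((0, [1, 2, 3, 4, 5, 6, 7, 3, 2, 1, 4, 3, 2, 5, 8, 7, 3, 2, 1, 0, 4, 3, 2, 5, 7, 3, 4, 8, 7, 3, 2, 9, 6, 5, 4, 3, 2, 7, 3, 8]), 1001, 0),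
    ((0, [1, 2, 3, 4, 5, 6, 7, 3, 2, 1, 4, 3, 2, 5, 8, 7, 3, 2, 1, 0, 4, 3, 2, 5, 6, 7, 3, 4, 5, 8, 9, 6, 5, 4, 3, 2, 7, 3, 4, 5]), 1001, 0),
    ((0, [1, 2, 3, 4, 5, 6, 7, 3, 2, 1, 4, 3, 2, 5, 4, 7, 8, 7, 3, 2, 1, 4, 3, 2, 5, 7, 3, 4, 8, 7, 3, 2, 9, 6, 5, 4, 3, 2, 7, 8]), 1001, 0),
    ((0, [1, 2, 3, 4, 5, 6, 7, 3, 2, 1, 4, 3, 5, 7, 8, 7, 3, 2, 1, 4, 3, 2, 5, 4, 7, 3, 2, 8, 9, 6, 5, 4, 3, 2, 7, 3, 4, 5, 6, 8]), 1001, 0),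
    ((0, [1, 2, 3, 4, 5, 6, 7, 3, 2, 1, 4, 5, 8, 7, 3, 2, 1, 4, 3, 2, 5, 4, 7, 3, 2, 1, 4, 8, 7, 3, 2, 9, 6, 5, 4, 3, 2, 7, 3, 8]), 1001, 0),
    ((0, [1, 2, 3, 4, 5, 6, 7, 3, 2, 1, 4, 3, 2, 5, 8, 7, 3, 2, 1, 4, 3, 2, 5, 4, 3, 7, 8, 9, 6, 5, 4, 3, 2, 1, 7, 3, 2, 4, 5, 8]), 1001, 0),
    ((0, [1, 2, 3, 4, 5, 6, 7, 3, 2, 1, 4, 3, 2, 5, 8, 7, 3, 2, 1, 4, 3, 2, 5, 4, 3, 7, 8, 9, 6, 5, 4, 3, 2, 1, 7, 3, 4, 5, 6, 8]), 1001, 0),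
    ((0, [1, 2, 3, 4, 5, 6, 7, 3, 2, 1, 4, 3, 2, 5, 8, 7, 3, 2, 1, 0, 4, 3, 2, 5, 4, 3, 7, 8, 9, 6, 5, 4, 3, 2, 7, 3, 4, 5, 6, 8]), 1001, 0),
    ((0, [1, 2, 3, 4, 5, 6, 7, 3, 2, 1, 4, 3, 5, 8, 7, 3, 2, 1, 4, 3, 2, 5, 4, 3, 7, 3, 2, 8, 9, 6, 5, 4, 3, 2, 7, 3, 4, 5, 6, 8]), 1001, 0),
    ((0, [1, 2, 3, 4, 5, 6, 7, 3, 2, 1, 4, 3, 2, 5, 8, 7, 3, 2, 1, 4, 3, 2, 5, 4, 3, 7, 3, 8, 9, 6, 5, 4, 3, 2, 1, 7, 3, 4, 5, 6]), 1001, 0),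
    ((0, [1, 2, 3, 4, 5, 6, 7, 3, 2, 1, 4, 3, 2, 5, 8, 7, 3, 2, 1, 4, 3, 2, 5, 4, 6, 7, 3, 8, 7, 9, 6, 5, 4, 3, 2, 7, 3, 4, 5, 6]), 1001, 0),
    ((0, [1, 2, 3, 4, 5, 6, 7, 3, 2, 1, 4, 3, 2, 5, 8, 7, 3, 2, 1, 4, 3, 2, 5, 4, 3, 7, 3, 8, 9, 6, 5, 4, 3, 2, 7, 3, 4, 5, 6, 8]), 1001, 0),
    ((0, [1, 2, 3, 4, 5, 6, 7, 3, 2, 1, 4, 3, 2, 5, 8, 7, 3, 2, 1, 0, 4, 3, 2, 5, 4, 3, 7, 3, 8, 9, 6, 5, 4, 3, 2, 7, 3, 4, 5, 6]), 1001, 0),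
    ((0, [1, 2, 3, 4, 5, 6, 7, 3, 2, 1, 4, 3, 2, 5, 8, 7, 3, 2, 1, 4, 3, 2, 5, 4, 6, 7, 3, 4, 5, 8, 7, 3, 9, 6, 5, 4, 3, 2, 7, 3]), 1001, 0),
    ((0, [1, 2, 3, 4, 5, 6, 7, 3, 2, 1, 4, 3, 5, 8, 7, 3, 2, 1, 4, 3, 2, 5, 4, 7, 3, 2, 1, 4, 5, 8, 7, 3, 9, 6, 5, 4, 3, 2, 7, 3]), 1001, 0),
    ((0, [1, 2, 3, 4, 5, 6, 7, 3, 2, 1, 4, 3, 2, 5, 4, 7, 8, 7, 3, 2, 1, 4, 3, 2, 5, 4, 7, 3, 2, 8, 7, 3, 4, 9, 6, 5, 4, 3, 7, 8]), 1001, 0),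
    ((0, [1, 2, 3, 4, 5, 6, 7, 3, 2, 1, 4, 3, 2, 5, 4, 8, 7, 3, 2, 1, 4, 3, 2, 5, 4, 3, 7, 3, 8, 9, 6, 5, 4, 3, 2, 1, 7, 3, 4, 5]), 1001, 0),
    ((0, [1, 2, 3, 4, 5, 6, 7, 3, 2, 1, 4, 3, 2, 5, 4, 7, 8, 7, 3, 2, 1, 4, 3, 2, 5, 4, 7, 3, 4, 8, 7, 3, 2, 9, 6, 5, 4, 3, 7, 8]), 1001, 0),
    ((0, [1, 2, 3, 4, 5, 6, 7, 3, 2, 1, 4, 3, 2, 5, 4, 7, 8, 7, 3, 2, 1, 4, 3, 2, 5, 7, 3, 4, 8, 7, 3, 2, 1, 9, 6, 5, 4, 3, 7, 8]), 1001, 0),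
    ((0, [1, 2, 3, 4, 5, 6, 7, 3, 2, 1, 4, 3, 2, 5, 4, 8, 7, 3, 2, 1, 4, 3, 2, 5, 4, 3, 7, 3, 8, 9, 6, 5, 4, 3, 2, 7, 3, 4, 5, 6]), 1001, 0),
    ((0, [1, 2, 3, 4, 5, 6, 7, 3, 2, 1, 4, 3, 2, 5, 4, 8, 7, 3, 2, 1, 4, 3, 2, 5, 4, 3, 7, 3, 4, 8, 9, 6, 5, 4, 3, 2, 7, 3, 4, 5]), 1001, 0),
    ((0, [1, 2, 3, 4, 5, 6, 7, 3, 2, 1, 4, 3, 2, 5, 8, 7, 3, 2, 1, 4, 3, 2, 5, 4, 7, 3, 2, 4, 5, 8, 7, 3, 4, 9, 6, 5, 4, 3, 7, 8]), 1001, 0),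
    ((0, [1, 2, 3, 4, 5, 6, 7, 3, 2, 1, 4, 3, 2, 5, 4, 7, 8, 7, 3, 2, 1, 4, 3, 2, 5, 4, 3, 7, 8, 9, 6, 5, 4, 3, 2, 1, 7, 3, 4, 5]), 1001, 0),
    ((0, [1, 2, 3, 4, 5, 6, 7, 3, 2, 1, 4, 3, 2, 5, 8, 7, 3, 2, 1, 4, 3, 2, 5, 4, 6, 5, 7, 8, 9, 6, 5, 4, 3, 2, 7, 3, 4, 5, 6, 8]), 1001, 0),
    ((0, [1, 2, 3, 4, 5, 6, 7, 3, 2, 1, 4, 3, 2, 5, 4, 7, 8, 7, 3, 2, 1, 4, 3, 2, 5, 4, 3, 7, 3, 8, 9, 6, 5, 4, 3, 2, 7, 3, 4, 5]), 1001, 0),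
    ((0, [1, 2, 3, 4, 5, 6, 7, 3, 2, 1, 4, 3, 2, 5, 8, 7, 3, 2, 1, 4, 3, 2, 5, 4, 7, 3, 2, 8, 9, 6, 5, 4, 3, 2, 7, 3, 4, 5, 6, 8]), 1001, 0),
    ((0, [1, 2, 3, 4, 5, 6, 7, 3, 2, 1, 4, 3, 2, 5, 8, 7, 3, 2, 1, 4, 3, 2, 5, 6, 7, 3, 4, 5, 8, 7, 3, 4, 9, 6, 5, 4, 3, 2, 7, 3]), 1001, 0),
    ((0, [1, 2, 3, 4, 5, 6, 7, 3, 2, 1, 4, 3, 2, 5, 8, 7, 3, 2, 1, 4, 3, 2, 5, 7, 3, 4, 8, 7, 3, 2, 1, 9, 6, 5, 4, 3, 2, 7, 3, 8]), 1001, 0),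
    ((0, [1, 2, 3, 4, 5, 6, 7, 3, 2, 1, 4, 3, 2, 5, 8, 7, 3, 2, 1, 4, 3, 2, 5, 6, 7, 3, 4, 5, 8, 7, 3, 2, 9, 6, 5, 4, 3, 2, 7, 3]), 1001, 0),
    ((0, [1, 2, 3, 4, 5, 6, 7, 3, 2, 1, 4, 3, 2, 5, 8, 7, 3, 2, 1, 4, 3, 2, 5, 4, 6, 5, 7, 3, 8, 9, 6, 5, 4, 3, 2, 7, 3, 4, 5, 6]), 1001, 0),
    ((0, [1, 2, 3, 4, 5, 6, 7, 3, 2, 1, 4, 3, 5, 4, 8, 7, 3, 2, 1, 4, 3, 2, 5, 4, 7, 3, 2, 8, 7, 3, 4, 9, 6, 5, 4, 3, 2, 1, 7, 8]), 1001, 0),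
    ((0, [1, 2, 3, 4, 5, 6, 7, 3, 2, 1, 4, 3, 2, 5, 8, 7, 3, 2, 1, 4, 3, 2, 5, 4, 7, 3, 4, 8, 7, 3, 2, 9, 6, 5, 4, 3, 2, 1, 7, 8]), 1001, 0),
    ((0, [1, 2, 3, 4, 5, 6, 7, 3, 2, 1, 4, 3, 5, 8, 7, 3, 2, 1, 4, 3, 2, 5, 4, 6, 7, 3, 4, 8, 7, 9, 6, 5, 4, 3, 2, 1, 0, 7, 3, 8]), 1001, 0),
    ((0, [1, 2, 3, 4, 5, 6, 7, 3, 2, 1, 4, 3, 2, 5, 4, 8, 7, 3, 2, 1, 0, 4, 3, 2, 1, 5, 4, 7, 3, 8, 7, 9, 6, 5, 4, 3, 2, 1, 0, 7]), 1001, 0),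
    ((0, [1, 2, 3, 4, 5, 6, 7, 3, 2, 1, 4, 3, 5, 4, 8, 7, 3, 2, 1, 4, 3, 2, 5, 4, 7, 3, 4, 5, 8, 7, 9, 6, 5, 4, 3, 2, 1, 0, 7, 8]), 1001, 0),
    ((0, [1, 2, 3, 4, 5, 6, 7, 3, 2, 1, 4, 3, 2, 5, 4, 8, 7, 3, 2, 1, 4, 3, 2, 5, 4, 7, 3, 2, 8, 7, 9, 6, 5, 4, 3, 2, 1, 0, 7, 3]), 1001, 0),
    ((0, [1, 2, 3, 4, 5, 6, 7, 3, 2, 1, 4, 3, 5, 4, 7, 8, 7, 3, 2, 1, 4, 3, 2, 5, 4, 3, 7, 3, 8, 7, 9, 6, 5, 4, 3, 2, 1, 0, 7, 8]), 1001, 0),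
    ((0, [1, 2, 3, 4, 5, 6, 7, 3, 2, 1, 4, 3, 2, 5, 7, 8, 7, 3, 2, 1, 0, 4, 3, 2, 5, 4, 7, 3, 8, 7, 9, 6, 5, 4, 3, 2, 1, 0, 7, 8]), 1001, 0),
    ((0, [1, 2, 3, 4, 5, 6, 7, 3, 2, 1, 4, 3, 2, 5, 7, 8, 7, 3, 2, 1, 4, 3, 2, 5, 4, 7, 3, 8, 7, 9, 6, 5, 4, 3, 2, 1, 0, 7, 3, 8]), 1001, 0),
    ((0, [1, 2, 3, 4, 5, 6, 7, 3, 2, 1, 4, 3, 5, 7, 8, 7, 3, 2, 1, 4, 3, 2, 5, 4, 6, 7, 3, 8, 7, 9, 6, 5, 4, 3, 2, 1, 0, 7, 3, 8]), 1001, 0),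
    ((0, [1, 2, 3, 4, 5, 6, 7, 3, 2, 1, 4, 3, 2, 5, 8, 7, 3, 2, 1, 4, 3, 2, 5, 4, 7, 3, 4, 8, 7, 9, 6, 5, 4, 3, 2, 1, 0, 7, 3, 2]), 1001, 0),
    ((0, [1, 2, 3, 4, 5, 6, 7, 3, 2, 1, 4, 3, 2, 5, 7, 8, 7, 3, 2, 1, 0, 4, 3, 2, 5, 4, 7, 3, 8, 7, 9, 6, 5, 4, 3, 2, 1, 0, 7, 3]), 1001, 0),
    ((0, [1, 2, 3, 4, 5, 6, 7, 3, 2, 1, 4, 3, 5, 4, 7, 8, 7, 3, 2, 1, 4, 3, 2, 5, 4, 7, 3, 8, 7, 9, 6, 5, 4, 3, 2, 1, 0, 7, 3, 2]), 1001, 0),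
    ((0, [1, 2, 3, 4, 5, 6, 7, 3, 2, 1, 4, 3, 5, 7, 8, 7, 3, 2, 1, 4, 3, 2, 5, 4, 7, 3, 8, 7, 9, 6, 5, 4, 3, 2, 1, 0, 7, 3, 2, 8]), 1001, 0),
    ((0, [1, 2, 3, 4, 5, 6, 7, 3, 2, 1, 4, 3, 2, 5, 8, 7, 3, 2, 1, 0, 4, 3, 2, 5, 4, 7, 3, 8, 7, 9, 6, 5, 4, 3, 2, 1, 0, 7, 3, 8]), 1001, 0),
    ((0, [1, 2, 3, 4, 5, 6, 7, 3, 2, 1, 4, 3, 5, 7, 8, 7, 3, 2, 1, 4, 3, 2, 5, 4, 3, 7, 3, 8, 7, 9, 6, 5, 4, 3, 2, 1, 0, 7, 3, 8]), 1001, 0),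
    ((0, [1, 2, 3, 4, 5, 6, 7, 3, 2, 1, 4, 3, 2, 5, 8, 7, 3, 2, 1, 4, 3, 2, 5, 4, 7, 3, 4, 5, 8, 7, 9, 6, 5, 4, 3, 2, 1, 0, 7, 3]), 1001, 0),
    ((0, [1, 2, 3, 4, 5, 6, 7, 3, 2, 1, 4, 3, 2, 5, 8, 7, 3, 2, 1, 4, 3, 2, 5, 4, 7, 3, 4, 5, 8, 7, 9, 6, 5, 4, 3, 2, 1, 0, 7, 8]), 1001, 0),
    ((0, [1, 2, 3, 4, 5, 6, 7, 3, 2, 1, 4, 3, 2, 5, 7, 8, 7, 3, 2, 1, 4, 3, 2, 5, 4, 7, 3, 4, 8, 7, 9, 6, 5, 4, 3, 2, 1, 0, 7, 8]), 1001, 0),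
    ((0, [1, 2, 3, 4, 5, 6, 7, 3, 2, 1, 4, 3, 5, 4, 8, 7, 3, 2, 1, 4, 3, 2, 5, 4, 7, 3, 4, 5, 6, 8, 7, 9, 6, 5, 4, 3, 2, 1, 0, 7]), 1001, 0),
    ((0, [1, 2, 3, 4, 5, 6, 7, 3, 2, 1, 4, 3, 5, 4, 8, 7, 3, 2, 1, 4, 3, 2, 5, 4, 6, 7, 3, 8, 7, 9, 6, 5, 4, 3, 2, 1, 0, 7, 3, 2]), 1001, 0),
    ((0, [1, 2, 3, 4, 5, 6, 7, 3, 2, 1, 4, 3, 5, 8, 7, 3, 2, 1, 4, 3, 2, 5, 4, 7, 3, 2, 1, 8, 7, 9, 6, 5, 4, 3, 2, 1, 0, 7, 3, 2]), 1001, 0),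
    ((0, [1, 2, 3, 4, 5, 6, 7, 3, 2, 1, 4, 3, 5, 8, 7, 3, 2, 1, 4, 3, 2, 5, 4, 7, 3, 2, 8, 7, 9, 6, 5, 4, 3, 2, 1, 0, 7, 3, 2, 8]), 1001, 0),
    ((0, [1, 2, 3, 4, 5, 6, 7, 3, 2, 1, 4, 3, 2, 5, 8, 7, 3, 2, 1, 4, 3, 2, 5, 4, 6, 7, 3, 8, 7, 9, 6, 5, 4, 3, 2, 1, 0, 7, 3, 8]), 1001, 0),
    ((0, [1, 2, 3, 4, 5, 6, 7, 3, 2, 1, 4, 3, 2, 5, 8, 7, 3, 2, 1, 4, 3, 2, 5, 4, 7, 3, 4, 5, 6, 8, 7, 9, 6, 5, 4, 3, 2, 1, 0, 7]), 1001, 0),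
    ((0, [1, 2, 3, 4, 5, 6, 7, 3, 2, 1, 4, 3, 5, 8, 7, 3, 2, 1, 4, 3, 2, 5, 4, 7, 3, 2, 1, 4, 8, 7, 9, 6, 5, 4, 3, 2, 1, 0, 7, 3]), 1001, 0),
    ((0, [1, 2, 3, 4, 5, 6, 7, 3, 2, 1, 4, 3, 5, 8, 7, 3, 2, 1, 4, 3, 2, 5, 4, 7, 3, 2, 1, 4, 8, 7, 9, 6, 5, 4, 3, 2, 1, 0, 7, 8]), 1001, 0),
    ((0, [1, 2, 3, 4, 5, 6, 7, 3, 2, 1, 4, 3, 2, 5, 4, 8, 7, 3, 2, 1, 4, 3, 2, 5, 4, 7, 3, 4, 5, 6, 8, 7, 9, 6, 5, 4, 3, 2, 1, 0]), 1001, 0),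
    ((0, [1, 2, 3, 4, 5, 6, 7, 3, 2, 1, 4, 3, 5, 8, 7, 3, 2, 1, 0, 4, 3, 2, 5, 4, 7, 3, 2, 1, 8, 7, 9, 6, 5, 4, 3, 2, 1, 0, 7, 3]), 1001, 0),
    ((0, [1, 2, 3, 4, 5, 6, 7, 3, 2, 1, 4, 3, 5, 8, 7, 3, 2, 1, 0, 4, 3, 2, 5, 4, 7, 3, 2, 8, 7, 9, 6, 5, 4, 3, 2, 1, 0, 7, 3, 8]), 1001, 0),
    ((0, [1, 2, 3, 4, 5, 6, 7, 3, 2, 1, 4, 3, 5, 4, 7, 8, 7, 3, 2, 1, 4, 3, 2, 5, 4, 7, 3, 2, 8, 7, 9, 6, 5, 4, 3, 2, 1, 0, 7, 3]), 1001, 0)]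

/-- Part 51 of the cycles. -/
def reps51 : List ((Nat × List Nat) × Nat × Nat) :=
  [
    ((0, [1, 2, 3, 4, 5, 6, 7, 3, 2, 1, 4, 3, 2, 5, 4, 8, 7, 3, 2, 1, 4, 3, 2, 5, 4, 7, 3, 4, 8, 7, 9, 6, 5, 4, 3, 2, 1, 0, 7, 8]), 1001, 0),
    ((0, [1, 2, 3, 4, 5, 6, 7, 3, 2, 1, 4, 3, 5, 4, 8, 7, 3, 2, 1, 4, 3, 2, 5, 4, 7, 3, 4, 8, 7, 9, 6, 5, 4, 3, 2, 1, 0, 7, 3, 2]), 1001, 0),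
    ((0, [1, 2, 3, 4, 5, 6, 7, 3, 2, 1, 4, 3, 2, 5, 8, 7, 3, 2, 1, 0, 4, 3, 2, 5, 4, 7, 3, 4, 8, 7, 9, 6, 5, 4, 3, 2, 1, 0, 7, 8]), 1001, 0),
    ((0, [1, 2, 3, 4, 5, 6, 7, 3, 2, 1, 4, 3, 2, 5, 8, 7, 3, 2, 1, 4, 3, 2, 5, 4, 7, 3, 4, 8, 7, 9, 6, 5, 4, 3, 2, 1, 0, 7, 3, 8]), 1001, 0),
    ((0, [1, 2, 3, 4, 5, 6, 7, 3, 2, 1, 4, 3, 2, 5, 8, 7, 3, 2, 1, 0, 4, 3, 2, 5, 4, 7, 3, 4, 8, 7, 9, 6, 5, 4, 3, 2, 1, 0, 7, 3]), 1001, 0),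
    ((0, [1, 2, 3, 4, 5, 6, 7, 3, 2, 1, 4, 3, 2, 5, 4, 8, 7, 3, 2, 1, 4, 3, 2, 5, 4, 7, 3, 2, 8, 7, 9, 6, 5, 4, 3, 2, 1, 0, 7, 8]), 1001, 0),
    ((0, [1, 2, 3, 4, 5, 6, 7, 3, 2, 1, 4, 3, 2, 5, 8, 7, 3, 2, 1, 4, 3, 2, 5, 4, 6, 7, 3, 4, 8, 7, 9, 6, 5, 4, 3, 2, 1, 0, 7, 8]), 1001, 0),
    ((0, [1, 2, 3, 4, 5, 6, 7, 3, 2, 1, 4, 3, 2, 5, 8, 7, 3, 2, 1, 0, 4, 3, 2, 5, 4, 6, 7, 3, 4, 8, 7, 9, 6, 5, 4, 3, 2, 1, 0, 7]), 1001, 0),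
    ((0, [1, 2, 3, 4, 5, 6, 7, 3, 2, 1, 4, 3, 2, 5, 8, 7, 3, 2, 1, 4, 3, 2, 5, 4, 6, 7, 3, 4, 8, 7, 9, 6, 5, 4, 3, 2, 1, 0, 7, 3]), 1001, 0),
    ((0, [1, 2, 3, 4, 5, 6, 7, 3, 2, 1, 4, 3, 2, 5, 4, 7, 8, 7, 3, 2, 1, 4, 3, 2, 5, 4, 7, 3, 2, 4, 8, 7, 9, 6, 5, 4, 3, 2, 1, 0]), 1001, 0),
    ((0, [1, 2, 3, 4, 5, 6, 7, 3, 2, 1, 4, 3, 2, 5, 8, 7, 3, 2, 1, 4, 3, 2, 5, 4, 7, 3, 2, 4, 5, 6, 8, 7, 9, 6, 5, 4, 3, 2, 1, 0]), 1001, 0),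
    ((0, [1, 2, 3, 4, 5, 6, 7, 3, 2, 1, 4, 3, 2, 5, 4, 7, 8, 7, 3, 2, 1, 4, 3, 2, 5, 4, 3, 7, 3, 4, 8, 7, 9, 6, 5, 4, 3, 2, 1, 0]), 1001, 0),
    ((0, [1, 2, 3, 4, 5, 6, 7, 3, 2, 1, 4, 3, 2, 5, 4, 8, 7, 3, 2, 1, 0, 4, 3, 2, 5, 4, 3, 7, 3, 2, 8, 7, 9, 6, 5, 4, 3, 2, 1, 0]), 1001, 0),
    ((0, [1, 2, 3, 4, 5, 6, 7, 3, 2, 1, 4, 3, 2, 5, 4, 7, 8, 7, 3, 2, 1, 4, 3, 2, 5, 4, 3, 7, 3, 2, 8, 7, 9, 6, 5, 4, 3, 2, 1, 0]), 1001, 0),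
    ((0, [1, 2, 3, 4, 5, 6, 7, 3, 2, 1, 4, 3, 2, 5, 4, 8, 7, 3, 2, 1, 0, 4, 3, 2, 5, 4, 3, 7, 3, 4, 8, 7, 9, 6, 5, 4, 3, 2, 1, 0]), 1001, 0),
    ((0, [1, 2, 3, 4, 5, 6, 7, 3, 2, 1, 4, 3, 2, 5, 4, 8, 7, 3, 2, 1, 0, 4, 3, 2, 5, 4, 3, 7, 3, 8, 7, 9, 6, 5, 4, 3, 2, 1, 0, 7]), 1001, 0),
    ((0, [1, 2, 3, 4, 5, 6, 7, 3, 2, 1, 4, 3, 5, 4, 8, 7, 3, 2, 1, 4, 3, 2, 5, 4, 7, 3, 2, 8, 7, 9, 6, 5, 4, 3, 2, 1, 0, 7, 3, 4]), 1001, 0),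
    ((0, [1, 2, 3, 4, 5, 6, 7, 3, 2, 1, 4, 3, 2, 5, 8, 7, 3, 2, 1, 4, 3, 2, 5, 4, 3, 7, 3, 8, 7, 9, 6, 5, 4, 3, 2, 1, 0, 7, 3, 8]), 1001, 0),
    ((0, [1, 2, 3, 4, 5, 6, 7, 3, 2, 1, 4, 3, 5, 8, 7, 3, 2, 1, 4, 3, 2, 5, 4, 7, 3, 4, 8, 7, 9, 6, 5, 4, 3, 2, 1, 0, 7, 3, 8, 7]), 1001, 0),
    ((0, [1, 2, 3, 4, 5, 6, 7, 3, 2, 1, 4, 3, 5, 7, 8, 7, 3, 2, 1, 4, 3, 2, 5, 4, 7, 3, 2, 8, 7, 9, 6, 5, 4, 3, 2, 1, 0, 7, 3, 8]), 1001, 0),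
    ((0, [1, 2, 3, 4, 5, 6, 7, 3, 2, 1, 4, 3, 5, 4, 8, 7, 3, 2, 1, 4, 3, 2, 5, 4, 6, 7, 3, 2, 8, 7, 9, 6, 5, 4, 3, 2, 1, 0, 7, 3]), 1001, 0),
    ((0, [1, 2, 3, 4, 5, 6, 7, 3, 2, 1, 4, 3, 2, 5, 8, 7, 3, 2, 1, 4, 3, 2, 5, 4, 7, 3, 2, 8, 7, 9, 6, 5, 4, 3, 2, 1, 0, 7, 3, 8]), 1001, 0),
    ((0, [1, 2, 3, 4, 5, 6, 7, 3, 2, 1, 4, 3, 5, 8, 7, 3, 2, 1, 4, 3, 2, 5, 4, 3, 7, 3, 2, 8, 7, 9, 6, 5, 4, 3, 2, 1, 0, 7, 3, 8]), 1001, 0),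
    ((0, [1, 2, 3, 4, 5, 6, 7, 3, 2, 1, 4, 3, 2, 5, 4, 8, 7, 3, 2, 1, 4, 3, 2, 5, 4, 3, 7, 3, 2, 1, 8, 7, 9, 6, 5, 4, 3, 2, 1, 0]), 1001, 0),
    ((0, [1, 2, 3, 4, 5, 6, 7, 3, 2, 1, 4, 3, 5, 4, 8, 7, 3, 2, 1, 4, 3, 2, 5, 4, 7, 3, 2, 1, 8, 7, 9, 6, 5, 4, 3, 2, 1, 0, 7, 3]), 1001, 0),
    ((0, [1, 2, 3, 4, 5, 6, 7, 3, 2, 1, 4, 3, 2, 5, 4, 8, 7, 3, 2, 1, 4, 3, 2, 5, 4, 6, 5, 7, 3, 4, 8, 7, 9, 6, 5, 4, 3, 2, 1, 0]), 1001, 0),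
    ((0, [1, 2, 3, 4, 5, 6, 7, 3, 2, 1, 4, 3, 2, 5, 8, 7, 3, 2, 1, 4, 3, 2, 5, 4, 7, 3, 8, 7, 9, 6, 5, 4, 3, 2, 1, 0, 7, 3, 2, 8]), 1001, 0),
    ((0, [1, 2, 3, 4, 5, 6, 7, 3, 2, 1, 4, 3, 2, 5, 8, 7, 3, 2, 1, 0, 4, 3, 2, 1, 5, 4, 7, 3, 8, 7, 9, 6, 5, 4, 3, 2, 1, 0, 7, 3]), 1001, 0),
    ((0, [1, 2, 3, 4, 5, 6, 7, 3, 2, 1, 4, 3, 5, 4, 7, 8, 7, 3, 2, 1, 4, 3, 2, 5, 4, 3, 7, 3, 8, 7, 9, 6, 5, 4, 3, 2, 1, 0, 7, 3]), 1001, 0),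
    ((0, [1, 2, 3, 4, 5, 6, 7, 3, 2, 1, 4, 3, 5, 8, 7, 3, 2, 1, 4, 3, 2, 5, 4, 6, 7, 3, 8, 7, 9, 6, 5, 4, 3, 2, 1, 0, 7, 3, 2, 8]), 1001, 0),
    ((0, [1, 2, 3, 4, 5, 6, 7, 3, 2, 1, 4, 3, 5, 8, 7, 3, 2, 1, 4, 3, 2, 5, 4, 7, 3, 4, 8, 7, 9, 6, 5, 4, 3, 2, 1, 0, 7, 3, 2, 8]), 1001, 0),
    ((0, [1, 2, 3, 4, 5, 6, 7, 3, 2, 1, 4, 3, 5, 8, 7, 3, 2, 1, 4, 3, 2, 5, 4, 3, 7, 3, 4, 5, 8, 7, 9, 6, 5, 4, 3, 2, 1, 0, 7, 3]), 1001, 0),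
    ((0, [1, 2, 3, 4, 5, 6, 7, 3, 2, 1, 4, 3, 5, 8, 7, 3, 2, 1, 4, 3, 2, 5, 4, 3, 7, 3, 2, 1, 8, 7, 9, 6, 5, 4, 3, 2, 1, 0, 7, 3]), 1001, 0),
    ((0, [1, 2, 3, 4, 5, 6, 7, 3, 2, 1, 4, 3, 5, 4, 8, 7, 3, 2, 1, 4, 3, 2, 5, 4, 7, 3, 4, 5, 8, 7, 9, 6, 5, 4, 3, 2, 1, 0, 7, 3]), 1001, 0),
    ((0, [1, 2, 3, 4, 5, 6, 7, 3, 2, 1, 4, 3, 2, 5, 7, 8, 7, 3, 2, 1, 0, 4, 3, 2, 5, 4, 7, 3, 4, 8, 7, 9, 6, 5, 4, 3, 2, 1, 0, 7]), 1001, 0),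
    ((0, [1, 2, 3, 4, 5, 6, 7, 3, 2, 1, 4, 3, 5, 4, 7, 8, 7, 3, 2, 1, 4, 3, 2, 5, 4, 7, 3, 2, 8, 7, 9, 6, 5, 4, 3, 2, 1, 0, 7, 8]), 1001, 0),
    ((0, [1, 2, 3, 4, 5, 6, 7, 3, 2, 1, 4, 3, 5, 4, 8, 7, 3, 2, 1, 4, 3, 2, 5, 4, 6, 7, 3, 2, 8, 7, 9, 6, 5, 4, 3, 2, 1, 0, 7, 8]), 1001, 0),
    ((0, [1, 2, 3, 4, 5, 6, 7, 3, 2, 1, 4, 3, 5, 4, 8, 7, 3, 2, 1, 4, 3, 2, 5, 4, 7, 3, 2, 1, 8, 7, 9, 6, 5, 4, 3, 2, 1, 0, 7, 8]), 1001, 0),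
    ((0, [1, 2, 3, 4, 5, 6, 7, 3, 2, 1, 4, 3, 2, 5, 4, 8, 7, 3, 2, 1, 4, 3, 2, 5, 4, 3, 7, 3, 8, 7, 9, 6, 5, 4, 3, 2, 1, 0, 7, 3]), 1001, 0),
    ((0, [1, 2, 3, 4, 5, 6, 7, 3, 2, 1, 4, 3, 5, 8, 7, 3, 2, 1, 0, 4, 3, 2, 5, 4, 7, 3, 8, 7, 9, 6, 5, 4, 3, 2, 1, 0, 7, 3, 2, 8]), 1001, 0),
    ((0, [1, 2, 3, 4, 5, 6, 7, 3, 2, 1, 4, 3, 5, 7, 8, 7, 3, 2, 1, 4, 3, 2, 5, 4, 7, 3, 4, 8, 7, 9, 6, 5, 4, 3, 2, 1, 0, 7, 3, 2]), 1001, 0),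
    ((0, [1, 2, 3, 4, 5, 6, 7, 3, 2, 1, 4, 3, 2, 5, 8, 7, 3, 2, 1, 4, 3, 2, 5, 4, 3, 7, 3, 4, 5, 6, 8, 7, 9, 6, 5, 4, 3, 2, 1, 0]), 1001, 0),
    ((0, [1, 2, 3, 4, 5, 6, 7, 3, 2, 1, 4, 3, 2, 5, 8, 7, 3, 2, 1, 4, 3, 2, 5, 4, 7, 3, 2, 1, 4, 5, 8, 7, 9, 6, 5, 4, 3, 2, 1, 0]), 1001, 0),
    ((0, [1, 2, 3, 4, 5, 6, 7, 3, 2, 1, 4, 3, 2, 5, 4, 8, 7, 3, 2, 1, 0, 4, 3, 2, 1, 5, 4, 7, 3, 2, 8, 7, 9, 6, 5, 4, 3, 2, 1, 0]), 1001, 0),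
    ((0, [1, 2, 3, 4, 5, 6, 7, 3, 2, 1, 4, 3, 5, 4, 8, 7, 3, 2, 1, 4, 3, 2, 5, 4, 7, 3, 2, 4, 8, 7, 9, 6, 5, 4, 3, 2, 1, 0, 7, 3]), 1001, 0),
    ((0, [1, 2, 3, 4, 5, 6, 7, 3, 2, 1, 4, 3, 2, 5, 4, 8, 7, 3, 2, 1, 4, 3, 2, 5, 4, 3, 7, 3, 4, 8, 7, 9, 6, 5, 4, 3, 2, 1, 0, 7]), 1001, 0),
    ((0, [1, 2, 3, 4, 5, 6, 7, 3, 2, 1, 4, 3, 5, 8, 7, 3, 2, 1, 4, 3, 2, 5, 4, 7, 3, 2, 8, 7, 9, 6, 5, 4, 3, 2, 1, 0, 7, 3, 8, 7]), 1001, 0),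
    ((0, [1, 2, 3, 4, 5, 6, 7, 3, 2, 1, 4, 3, 5, 8, 7, 3, 2, 1, 4, 3, 2, 5, 4, 3, 7, 3, 8, 7, 9, 6, 5, 4, 3, 2, 1, 0, 7, 3, 8, 7]), 1001, 0),
    ((0, [1, 2, 3, 4, 5, 6, 7, 3, 2, 1, 4, 3, 2, 5, 8, 7, 3, 2, 1, 4, 3, 2, 5, 4, 7, 3, 2, 1, 4, 8, 7, 9, 6, 5, 4, 3, 2, 1, 0, 7]), 1001, 0),
    ((0, [1, 2, 3, 4, 5, 6, 7, 3, 2, 1, 4, 3, 2, 5, 4, 8, 7, 3, 2, 1, 4, 3, 2, 5, 4, 3, 7, 3, 2, 8, 7, 9, 6, 5, 4, 3, 2, 1, 0, 7]), 1001, 0),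
    ((0, [1, 2, 3, 4, 5, 6, 7, 3, 2, 1, 4, 3, 5, 4, 8, 7, 3, 2, 1, 4, 3, 2, 5, 4, 3, 7, 3, 2, 8, 7, 9, 6, 5, 4, 3, 2, 1, 0, 7, 3]), 1001, 0),
    ((0, [1, 2, 3, 4, 5, 6, 7, 3, 2, 1, 4, 3, 5, 4, 8, 7, 3, 2, 1, 0, 4, 3, 2, 5, 4, 3, 7, 3, 2, 8, 7, 9, 6, 5, 4, 3, 2, 1, 0, 7]), 1001, 0),
    ((0, [1, 2, 3, 4, 5, 6, 7, 3, 2, 1, 4, 3, 5, 4, 8, 7, 3, 2, 1, 4, 3, 2, 5, 4, 7, 3, 2, 4, 8, 7, 9, 6, 5, 4, 3, 2, 1, 0, 7, 8]), 1001, 0),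
    ((0, [1, 2, 3, 4, 5, 6, 7, 3, 2, 1, 4, 3, 5, 4, 8, 7, 3, 2, 1, 4, 3, 2, 5, 4, 3, 7, 3, 2, 8, 7, 9, 6, 5, 4, 3, 2, 1, 0, 7, 8]), 1001, 0),
    ((0, [1, 2, 3, 4, 5, 6, 7, 3, 2, 1, 4, 3, 2, 5, 7, 8, 7, 3, 2, 1, 4, 3, 2, 5, 4, 3, 7, 3, 4, 8, 7, 9, 6, 5, 4, 3, 2, 1, 0, 7]), 1001, 0),
    ((0, [1, 2, 3, 4, 5, 6, 7, 3, 2, 1, 4, 3, 5, 7, 8, 7, 3, 2, 1, 4, 3, 2, 5, 4, 7, 3, 2, 4, 8, 7, 9, 6, 5, 4, 3, 2, 1, 0, 7, 3]), 1001, 0),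
    ((0, [1, 2, 3, 4, 5, 6, 7, 3, 2, 1, 4, 3, 5, 4, 8, 7, 3, 2, 1, 4, 3, 2, 5, 4, 7, 3, 2, 4, 5, 8, 7, 9, 6, 5, 4, 3, 2, 1, 0, 7]), 1001, 0),
    ((0, [1, 2, 3, 4, 5, 6, 7, 3, 2, 1, 4, 3, 5, 8, 7, 3, 2, 1, 4, 3, 2, 5, 4, 3, 7, 3, 2, 4, 8, 7, 9, 6, 5, 4, 3, 2, 1, 0, 7, 8]), 1001, 0),
    ((0, [1, 2, 3, 4, 5, 6, 7, 3, 2, 1, 4, 3, 5, 8, 7, 3, 2, 1, 4, 3, 2, 5, 4, 7, 3, 2, 4, 5, 8, 7, 9, 6, 5, 4, 3, 2, 1, 0, 7, 8]), 1001, 0),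
    ((0, [1, 2, 3, 4, 5, 6, 7, 3, 2, 1, 4, 3, 5, 8, 7, 3, 2, 1, 0, 4, 3, 2, 5, 4, 7, 3, 8, 7, 9, 6, 5, 4, 3, 2, 1, 0, 7, 3, 8, 7]), 1001, 0),
    ((0, [1, 2, 3, 4, 5, 6, 7, 3, 2, 1, 4, 3, 5, 8, 7, 3, 2, 1, 4, 3, 2, 5, 4, 3, 7, 3, 2, 4, 5, 8, 7, 9, 6, 5, 4, 3, 2, 1, 0, 7]), 1001, 0),
    ((0, [1, 2, 3, 4, 5, 6, 7, 3, 2, 1, 4, 3, 5, 7, 8, 7, 3, 2, 1, 4, 3, 2, 5, 4, 7, 3, 8, 7, 9, 6, 5, 4, 3, 2, 1, 0, 7, 3, 4, 5]), 1001, 0),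
    ((0, [1, 2, 3, 4, 5, 6, 7, 3, 2, 1, 4, 3, 2, 5, 8, 7, 3, 2, 1, 4, 3, 2, 5, 4, 7, 3, 4, 8, 7, 3, 9, 6, 5, 4, 3, 2, 1, 0, 7, 3]), 1001, 0),
    ((0, [1, 2, 3, 4, 5, 6, 7, 3, 2, 1, 4, 3, 2, 5, 7, 8, 7, 3, 2, 1, 4, 3, 2, 5, 4, 3, 7, 3, 8, 9, 6, 5, 4, 3, 2, 7, 3, 4, 5, 6, 8]), 1001, 0),
    ((0, [1, 2, 3, 4, 5, 6, 7, 3, 2, 1, 4, 3, 2, 5, 4, 7, 8, 7, 3, 2, 1, 4, 3, 5, 4, 7, 3, 2, 8, 7, 3, 4, 9, 6, 5, 4, 3, 2, 7, 3, 8]), 1001, 0),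
    ((0, [1, 2, 3, 4, 5, 6, 7, 3, 2, 1, 4, 3, 2, 5, 8, 7, 3, 2, 1, 0, 4, 3, 2, 5, 4, 6, 7, 3, 4, 5, 8, 9, 6, 5, 4, 3, 2, 7, 3, 4, 5]), 1001, 0),
    ((0, [1, 2, 3, 4, 5, 6, 7, 3, 2, 1, 4, 3, 2, 5, 4, 7, 8, 7, 3, 2, 1, 4, 3, 2, 5, 7, 3, 4, 8, 7, 3, 2, 9, 6, 5, 4, 3, 2, 7, 3, 8]), 1001, 0),
    ((0, [1, 2, 3, 4, 5, 6, 7, 3, 2, 1, 4, 3, 2, 5, 4, 7, 8, 7, 3, 2, 1, 4, 3, 2, 5, 4, 3, 7, 8, 9, 6, 5, 4, 3, 2, 1, 7, 3, 4, 5, 6]), 1001, 0),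
    ((0, [1, 2, 3, 4, 5, 6, 7, 3, 2, 1, 4, 3, 2, 5, 8, 7, 3, 2, 1, 4, 3, 2, 5, 4, 3, 7, 3, 8, 9, 6, 5, 4, 3, 2, 7, 3, 4, 5, 6, 8, 9]), 1001, 0),
    ((0, [1, 2, 3, 4, 5, 6, 7, 3, 2, 1, 4, 3, 2, 5, 8, 7, 3, 2, 1, 4, 3, 2, 5, 4, 3, 7, 3, 8, 9, 6, 5, 4, 3, 2, 1, 7, 3, 4, 5, 6, 8]), 1001, 0),
    ((0, [1, 2, 3, 4, 5, 6, 7, 3, 2, 1, 4, 3, 2, 5, 8, 7, 3, 2, 1, 0, 4, 3, 2, 5, 4, 3, 7, 3, 8, 9, 6, 5, 4, 3, 2, 7, 3, 4, 5, 6, 8]), 1001, 0),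
    ((0, [1, 2, 3, 4, 5, 6, 7, 3, 2, 1, 4, 3, 2, 5, 4, 7, 8, 7, 3, 2, 1, 4, 3, 2, 5, 4, 7, 3, 2, 8, 7, 3, 4, 5, 9, 6, 5, 4, 3, 7, 8]), 1001, 0),
    ((0, [1, 2, 3, 4, 5, 6, 7, 3, 2, 1, 4, 3, 2, 5, 4, 7, 8, 7, 3, 2, 1, 4, 3, 2, 5, 4, 7, 3, 2, 4, 8, 7, 3, 2, 9, 6, 5, 4, 3, 7, 8]), 1001, 0),
    ((0, [1, 2, 3, 4, 5, 6, 7, 3, 2, 1, 4, 3, 2, 5, 4, 7, 8, 7, 3, 2, 1, 4, 3, 2, 5, 4, 3, 7, 8, 9, 6, 5, 4, 3, 2, 1, 7, 3, 2, 4, 5]), 1001, 0),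
    ((0, [1, 2, 3, 4, 5, 6, 7, 3, 2, 1, 4, 3, 2, 5, 4, 7, 8, 7, 3, 2, 1, 4, 3, 2, 5, 4, 3, 7, 3, 8, 9, 6, 5, 4, 3, 2, 1, 7, 3, 4, 5]), 1001, 0),
    ((0, [1, 2, 3, 4, 5, 6, 7, 3, 2, 1, 4, 3, 2, 5, 4, 7, 8, 7, 3, 2, 1, 4, 3, 2, 5, 4, 3, 7, 3, 8, 9, 6, 5, 4, 3, 2, 7, 3, 4, 5, 6]), 1001, 0),
    ((0, [1, 2, 3, 4, 5, 6, 7, 3, 2, 1, 4, 3, 2, 5, 8, 7, 3, 2, 1, 4, 3, 2, 5, 4, 6, 5, 7, 3, 8, 9, 6, 5, 4, 3, 2, 7, 3, 4, 5, 6, 8]), 1001, 0),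
    ((0, [1, 2, 3, 4, 5, 6, 7, 3, 2, 1, 4, 3, 2, 5, 7, 8, 7, 3, 2, 1, 0, 4, 3, 2, 5, 4, 7, 3, 8, 7, 9, 6, 5, 4, 3, 2, 1, 0, 7, 3, 8]), 1001, 0),
    ((0, [1, 2, 3, 4, 5, 6, 7, 3, 2, 1, 4, 3, 2, 5, 7, 8, 7, 3, 2, 1, 4, 3, 2, 5, 4, 7, 3, 8, 7, 9, 6, 5, 4, 3, 2, 1, 0, 7, 3, 2, 8]), 1001, 0),
    ((0, [1, 2, 3, 4, 5, 6, 7, 3, 2, 1, 4, 3, 5, 7, 8, 7, 3, 2, 1, 4, 3, 2, 5, 4, 6, 7, 3, 8, 7, 9, 6, 5, 4, 3, 2, 1, 0, 7, 3, 2, 8]), 1001, 0),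
    ((0, [1, 2, 3, 4, 5, 6, 7, 3, 2, 1, 4, 3, 2, 5, 4, 7, 8, 7, 3, 2, 1, 4, 3, 2, 5, 4, 7, 3, 4, 8, 7, 9, 6, 5, 4, 3, 2, 1, 0, 7, 3]), 1001, 0),
    ((0, [1, 2, 3, 4, 5, 6, 7, 3, 2, 1, 4, 3, 2, 5, 4, 7, 8, 7, 3, 2, 1, 4, 3, 2, 5, 4, 7, 3, 4, 8, 7, 9, 6, 5, 4, 3, 2, 1, 0, 7, 8]), 1001, 0),
    ((0, [1, 2, 3, 4, 5, 6, 7, 3, 2, 1, 4, 3, 2, 5, 8, 7, 3, 2, 1, 0, 4, 3, 2, 5, 4, 6, 7, 3, 8, 7, 9, 6, 5, 4, 3, 2, 1, 0, 7, 3, 8]), 1001, 0),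
    ((0, [1, 2, 3, 4, 5, 6, 7, 3, 2, 1, 4, 3, 2, 5, 8, 7, 3, 2, 1, 4, 3, 2, 5, 4, 7, 3, 4, 5, 6, 8, 7, 9, 6, 5, 4, 3, 2, 1, 0, 7, 3]), 1001, 0),
    ((0, [1, 2, 3, 4, 5, 6, 7, 3, 2, 1, 4, 3, 2, 5, 8, 7, 3, 2, 1, 4, 3, 2, 5, 4, 7, 3, 4, 5, 6, 8, 7, 9, 6, 5, 4, 3, 2, 1, 0, 7, 8]), 1001, 0),
    ((0, [1, 2, 3, 4, 5, 6, 7, 3, 2, 1, 4, 3, 5, 8, 7, 3, 2, 1, 4, 3, 2, 5, 4, 7, 3, 2, 1, 4, 8, 7, 9, 6, 5, 4, 3, 2, 1, 0, 7, 3, 2]), 1001, 0),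
    ((0, [1, 2, 3, 4, 5, 6, 7, 3, 2, 1, 4, 3, 2, 5, 7, 8, 7, 3, 2, 1, 4, 3, 2, 5, 4, 7, 3, 4, 5, 8, 7, 9, 6, 5, 4, 3, 2, 1, 0, 7, 8]), 1001, 0),
    ((0, [1, 2, 3, 4, 5, 6, 7, 3, 2, 1, 4, 3, 2, 5, 4, 8, 7, 3, 2, 1, 4, 3, 2, 5, 4, 7, 3, 2, 1, 8, 7, 9, 6, 5, 4, 3, 2, 1, 0, 7, 8]), 1001, 0),
    ((0, [1, 2, 3, 4, 5, 6, 7, 3, 2, 1, 4, 3, 2, 5, 8, 7, 3, 2, 1, 0, 4, 3, 2, 5, 4, 6, 7, 3, 4, 8, 7, 9, 6, 5, 4, 3, 2, 1, 0, 7, 8]), 1001, 0),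
    ((0, [1, 2, 3, 4, 5, 6, 7, 3, 2, 1, 4, 3, 2, 5, 8, 7, 3, 2, 1, 0, 4, 3, 2, 5, 4, 6, 7, 3, 4, 8, 7, 9, 6, 5, 4, 3, 2, 1, 0, 7, 3]), 1001, 0),
    ((0, [1, 2, 3, 4, 5, 6, 7, 3, 2, 1, 4, 3, 2, 5, 8, 7, 3, 2, 1, 0, 4, 3, 2, 5, 4, 3, 7, 3, 8, 7, 9, 6, 5, 4, 3, 2, 1, 0, 7, 3, 8]), 1001, 0),
    ((0, [1, 2, 3, 4, 5, 6, 7, 3, 2, 1, 4, 3, 2, 5, 7, 8, 7, 3, 2, 1, 4, 3, 2, 5, 4, 3, 7, 3, 8, 7, 9, 6, 5, 4, 3, 2, 1, 0, 7, 3, 8]), 1001, 0),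
    ((0, [1, 2, 3, 4, 5, 6, 7, 3, 2, 1, 4, 3, 2, 5, 4, 8, 7, 3, 2, 1, 0, 4, 3, 2, 5, 4, 3, 6, 7, 3, 8, 7, 9, 6, 5, 4, 3, 2, 1, 0, 7]), 1001, 0),
    ((0, [1, 2, 3, 4, 5, 6, 7, 3, 2, 1, 4, 3, 5, 4, 8, 7, 3, 2, 1, 4, 3, 2, 5, 4, 6, 5, 7, 3, 8, 7, 9, 6, 5, 4, 3, 2, 1, 0, 7, 3, 2]), 1001, 0),
    ((0, [1, 2, 3, 4, 5, 6, 7, 3, 2, 1, 4, 3, 2, 5, 8, 7, 3, 2, 1, 0, 4, 3, 2, 5, 4, 7, 3, 2, 8, 7, 9, 6, 5, 4, 3, 2, 1, 0, 7, 3, 8]), 1001, 0),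
    ((0, [1, 2, 3, 4, 5, 6, 7, 3, 2, 1, 4, 3, 2, 5, 8, 7, 3, 2, 1, 4, 3, 2, 5, 4, 7, 3, 2, 1, 8, 7, 9, 6, 5, 4, 3, 2, 1, 0, 7, 3, 2]), 1001, 0),
    ((0, [1, 2, 3, 4, 5, 6, 7, 3, 2, 1, 4, 3, 2, 5, 8, 7, 3, 2, 1, 4, 3, 2, 5, 4, 7, 3, 2, 8, 7, 9, 6, 5, 4, 3, 2, 1, 0, 7, 3, 2, 8]), 1001, 0),
    ((0, [1, 2, 3, 4, 5, 6, 7, 3, 2, 1, 4, 3, 2, 5, 8, 7, 3, 2, 1, 4, 3, 2, 5, 4, 6, 5, 7, 3, 8, 7, 9, 6, 5, 4, 3, 2, 1, 0, 7, 3, 8]), 1001, 0),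
    ((0, [1, 2, 3, 4, 5, 6, 7, 3, 2, 1, 4, 3, 2, 5, 8, 7, 3, 2, 1, 0, 4, 3, 2, 1, 5, 4, 6, 7, 3, 8, 7, 9, 6, 5, 4, 3, 2, 1, 0, 7, 3]), 1001, 0),
    ((0, [1, 2, 3, 4, 5, 6, 7, 3, 2, 1, 4, 3, 2, 5, 4, 8, 7, 3, 2, 1, 4, 3, 2, 5, 4, 7, 3, 2, 1, 8, 7, 9, 6, 5, 4, 3, 2, 1, 0, 7, 3]), 1001, 0),
    ((0, [1, 2, 3, 4, 5, 6, 7, 3, 2, 1, 4, 3, 2, 5, 4, 7, 8, 7, 3, 2, 1, 4, 3, 2, 5, 4, 3, 7, 3, 8, 7, 9, 6, 5, 4, 3, 2, 1, 0, 7, 3]), 1001, 0),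
    ((0, [1, 2, 3, 4, 5, 6, 7, 3, 2, 1, 4, 3, 5, 7, 8, 7, 3, 2, 1, 4, 3, 2, 5, 4, 7, 3, 2, 8, 7, 9, 6, 5, 4, 3, 2, 1, 0, 7, 3, 2, 8]), 1001, 0),
    ((0, [1, 2, 3, 4, 5, 6, 7, 3, 2, 1, 4, 3, 5, 4, 7, 8, 7, 3, 2, 1, 4, 3, 2, 5, 4, 7, 3, 2, 1, 8, 7, 9, 6, 5, 4, 3, 2, 1, 0, 7, 8]), 1001, 0),
    ((0, [1, 2, 3, 4, 5, 6, 7, 3, 2, 1, 4, 3, 2, 5, 7, 8, 7, 3, 2, 1, 0, 4, 3, 2, 5, 4, 7, 3, 4, 8, 7, 9, 6, 5, 4, 3, 2, 1, 0, 7, 8]), 1001, 0),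
    ((0, [1, 2, 3, 4, 5, 6, 7, 3, 2, 1, 4, 3, 2, 5, 4, 7, 8, 7, 3, 2, 1, 4, 3, 2, 5, 4, 7, 3, 2, 8, 7, 9, 6, 5, 4, 3, 2, 1, 0, 7, 8]), 1001, 0),
    ((0, [1, 2, 3, 4, 5, 6, 7, 3, 2, 1, 4, 3, 2, 5, 4, 8, 7, 3, 2, 1, 4, 3, 2, 5, 4, 3, 6, 7, 3, 8, 7, 9, 6, 5, 4, 3, 2, 1, 0, 7, 3]), 1001, 0),
    ((0, [1, 2, 3, 4, 5, 6, 7, 3, 2, 1, 4, 3, 2, 5, 8, 7, 3, 2, 1, 0, 4, 3, 2, 5, 4, 7, 3, 8, 7, 9, 6, 5, 4, 3, 2, 1, 0, 7, 3, 2, 8]), 1001, 0),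
    ((0, [1, 2, 3, 4, 5, 6, 7, 3, 2, 1, 4, 3, 5, 7, 8, 7, 3, 2, 1, 4, 3, 2, 5, 4, 3, 7, 3, 8, 7, 9, 6, 5, 4, 3, 2, 1, 0, 7, 3, 2, 8]), 1001, 0),
    ((0, [1, 2, 3, 4, 5, 6, 7, 3, 2, 1, 4, 3, 2, 5, 8, 7, 3, 2, 1, 0, 4, 3, 2, 5, 4, 7, 3, 4, 8, 7, 9, 6, 5, 4, 3, 2, 1, 0, 7, 3, 2]), 1001, 0),
    ((0, [1, 2, 3, 4, 5, 6, 7, 3, 2, 1, 4, 3, 5, 8, 7, 3, 2, 1, 4, 3, 2, 5, 4, 3, 7, 3, 2, 8, 7, 9, 6, 5, 4, 3, 2, 1, 0, 7, 3, 2, 8]), 1001, 0),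
    ((0, [1, 2, 3, 4, 5, 6, 7, 3, 2, 1, 4, 3, 2, 5, 8, 7, 3, 2, 1, 0, 4, 3, 2, 1, 5, 4, 7, 3, 8, 7, 9, 6, 5, 4, 3, 2, 1, 0, 7, 3, 2]), 1001, 0),
    ((0, [1, 2, 3, 4, 5, 6, 7, 3, 2, 1, 4, 3, 5, 4, 7, 8, 7, 3, 2, 1, 4, 3, 2, 5, 4, 3, 7, 3, 8, 7, 9, 6, 5, 4, 3, 2, 1, 0, 7, 3, 2]), 1001, 0),
    ((0, [1, 2, 3, 4, 5, 6, 7, 3, 2, 1, 4, 3, 5, 8, 7, 3, 2, 1, 4, 3, 2, 5, 4, 3, 7, 3, 2, 1, 8, 7, 9, 6, 5, 4, 3, 2, 1, 0, 7, 3, 2]), 1001, 0),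
    ((0, [1, 2, 3, 4, 5, 6, 7, 3, 2, 1, 4, 3, 2, 5, 8, 7, 3, 2, 1, 0, 4, 3, 2, 1, 5, 4, 7, 3, 2, 8, 7, 9, 6, 5, 4, 3, 2, 1, 0, 7, 3]), 1001, 0),
    ((0, [1, 2, 3, 4, 5, 6, 7, 3, 2, 1, 4, 3, 2, 5, 4, 8, 7, 3, 2, 1, 4, 3, 2, 5, 4, 3, 7, 3, 4, 8, 7, 9, 6, 5, 4, 3, 2, 1, 0, 7, 8]), 1001, 0),
    ((0, [1, 2, 3, 4, 5, 6, 7, 3, 2, 1, 4, 3, 5, 8, 7, 3, 2, 1, 4, 3, 2, 5, 4, 3, 7, 3, 2, 8, 7, 9, 6, 5, 4, 3, 2, 1, 0, 7, 3, 8, 7]), 1001, 0),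
    ((0, [1, 2, 3, 4, 5, 6, 7, 3, 2, 1, 4, 3, 2, 5, 8, 7, 3, 2, 1, 4, 3, 2, 5, 4, 7, 3, 2, 1, 4, 8, 7, 9, 6, 5, 4, 3, 2, 1, 0, 7, 8]), 1001, 0),
    ((0, [1, 2, 3, 4, 5, 6, 7, 3, 2, 1, 4, 3, 2, 5, 8, 7, 3, 2, 1, 4, 3, 2, 5, 4, 7, 3, 2, 4, 8, 7, 9, 6, 5, 4, 3, 2, 1, 0, 7, 3, 2]), 1001, 0),
    ((0, [1, 2, 3, 4, 5, 6, 7, 3, 2, 1, 4, 3, 2, 5, 4, 8, 7, 3, 2, 1, 4, 3, 2, 5, 4, 3, 7, 3, 2, 8, 7, 9, 6, 5, 4, 3, 2, 1, 0, 7, 3]), 1001, 0),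
    ((0, [1, 2, 3, 4, 5, 6, 7, 3, 2, 1, 4, 3, 2, 5, 4, 8, 7, 3, 2, 1, 4, 3, 2, 5, 4, 3, 7, 3, 4, 8, 7, 9, 6, 5, 4, 3, 2, 1, 0, 7, 3]), 1001, 0)]

/-- Part 52 of the cycles. -/
def reps52 : List ((Nat × List Nat) × Nat × Nat) :=
  [
    ((0, [1, 2, 3, 4, 5, 6, 7, 3, 2, 1, 4, 3, 2, 5, 4, 8, 7, 3, 2, 1, 4, 3, 2, 5, 4, 3, 7, 3, 4, 5, 8, 7, 9, 6, 5, 4, 3, 2, 1, 0, 7]), 1001, 0),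
    ((0, [1, 2, 3, 4, 5, 6, 7, 3, 2, 1, 4, 3, 2, 5, 7, 8, 7, 3, 2, 1, 4, 3, 2, 5, 4, 3, 7, 3, 4, 8, 7, 9, 6, 5, 4, 3, 2, 1, 0, 7, 8]), 1001, 0),
    ((0, [1, 2, 3, 4, 5, 6, 7, 3, 2, 1, 4, 3, 5, 7, 8, 7, 3, 2, 1, 4, 3, 2, 5, 4, 7, 3, 2, 4, 8, 7, 9, 6, 5, 4, 3, 2, 1, 0, 7, 3, 8]), 1001, 0),
    ((0, [1, 2, 3, 4, 5, 6, 7, 3, 2, 1, 4, 3, 5, 4, 8, 7, 3, 2, 1, 4, 3, 2, 5, 4, 6, 5, 7, 3, 4, 8, 7, 9, 6, 5, 4, 3, 2, 1, 0, 7, 3]), 1001, 0),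
    ((0, [1, 2, 3, 4, 5, 6, 7, 3, 2, 1, 4, 3, 2, 5, 8, 7, 3, 2, 1, 4, 3, 2, 5, 4, 6, 5, 7, 3, 4, 8, 7, 9, 6, 5, 4, 3, 2, 1, 0, 7, 3]), 1001, 0),
    ((0, [1, 2, 3, 4, 5, 6, 7, 3, 2, 1, 4, 3, 2, 5, 8, 7, 3, 2, 1, 4, 3, 2, 5, 4, 7, 3, 2, 8, 7, 9, 6, 5, 4, 3, 2, 1, 0, 7, 3, 8, 7]), 1001, 0),
    ((0, [1, 2, 3, 4, 5, 6, 7, 3, 2, 1, 4, 3, 2, 5, 8, 7, 3, 2, 1, 4, 3, 2, 5, 4, 3, 7, 3, 8, 7, 9, 6, 5, 4, 3, 2, 1, 0, 7, 3, 8, 7]), 1001, 0),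
    ((0, [1, 2, 3, 4, 5, 6, 7, 3, 2, 1, 4, 3, 2, 5, 8, 7, 3, 2, 1, 0, 4, 3, 2, 5, 4, 7, 3, 8, 7, 9, 6, 5, 4, 3, 2, 1, 0, 7, 3, 8, 7]), 1001, 0),
    ((0, [1, 2, 3, 4, 5, 6, 7, 3, 2, 1, 4, 3, 2, 5, 8, 7, 3, 2, 1, 4, 3, 2, 5, 4, 3, 7, 3, 8, 7, 9, 6, 5, 4, 3, 2, 1, 0, 7, 3, 2, 8]), 1001, 0),
    ((0, [1, 2, 3, 4, 5, 6, 7, 3, 2, 1, 4, 3, 2, 5, 4, 8, 7, 3, 2, 1, 4, 3, 2, 5, 4, 3, 7, 3, 8, 7, 9, 6, 5, 4, 3, 2, 1, 0, 7, 3, 2]), 1001, 0),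
    ((0, [1, 2, 3, 4, 5, 6, 7, 3, 2, 1, 4, 3, 2, 5, 8, 7, 3, 2, 1, 4, 3, 2, 5, 4, 3, 7, 3, 4, 8, 7, 9, 6, 5, 4, 3, 2, 1, 0, 7, 3, 2]), 1001, 0),
    ((0, [1, 2, 3, 4, 5, 6, 7, 3, 2, 1, 4, 3, 5, 4, 8, 7, 3, 2, 1, 4, 3, 2, 5, 4, 3, 7, 3, 2, 1, 8, 7, 9, 6, 5, 4, 3, 2, 1, 0, 7, 3]), 1001, 0),
    ((0, [1, 2, 3, 4, 5, 6, 7, 3, 2, 1, 4, 3, 5, 8, 7, 3, 2, 1, 0, 4, 3, 2, 5, 4, 7, 3, 2, 8, 7, 9, 6, 5, 4, 3, 2, 1, 0, 7, 3, 8, 7]), 1001, 0),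
    ((0, [1, 2, 3, 4, 5, 6, 7, 3, 2, 1, 4, 3, 5, 7, 8, 7, 3, 2, 1, 4, 3, 2, 5, 4, 3, 7, 3, 8, 7, 9, 6, 5, 4, 3, 2, 1, 0, 7, 3, 8, 7]), 1001, 0),
    ((0, [1, 2, 3, 4, 5, 6, 7, 3, 2, 1, 4, 3, 5, 8, 7, 3, 2, 1, 4, 3, 2, 5, 4, 7, 3, 2, 1, 4, 5, 8, 7, 9, 6, 5, 4, 3, 2, 1, 0, 7, 3]), 1001, 0),
    ((0, [1, 2, 3, 4, 5, 6, 7, 3, 2, 1, 4, 3, 5, 8, 7, 3, 2, 1, 4, 3, 2, 5, 4, 7, 3, 2, 1, 4, 5, 8, 7, 9, 6, 5, 4, 3, 2, 1, 0, 7, 8]), 1001, 0),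
    ((0, [1, 2, 3, 4, 5, 6, 7, 3, 2, 1, 4, 3, 5, 8, 7, 3, 2, 1, 4, 3, 2, 5, 4, 3, 7, 3, 2, 4, 5, 8, 7, 9, 6, 5, 4, 3, 2, 1, 0, 7, 8]), 1001, 0),
    ((0, [1, 2, 3, 4, 5, 6, 7, 3, 2, 1, 4, 3, 2, 5, 8, 7, 3, 2, 1, 4, 3, 2, 5, 4, 7, 3, 2, 1, 4, 5, 8, 7, 9, 6, 5, 4, 3, 2, 1, 0, 7]), 1001, 0),
    ((0, [1, 2, 3, 4, 5, 6, 7, 3, 2, 1, 4, 3, 2, 5, 8, 7, 3, 2, 1, 4, 3, 2, 5, 4, 7, 3, 4, 5, 8, 7, 3, 9, 6, 5, 4, 3, 2, 1, 0, 7, 3]), 1001, 0),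
    ((0, [1, 2, 3, 4, 5, 6, 7, 3, 2, 1, 4, 3, 5, 4, 8, 7, 3, 2, 1, 4, 3, 2, 5, 4, 7, 3, 2, 8, 7, 3, 4, 9, 6, 5, 4, 3, 2, 1, 0, 7, 8]), 1001, 0),
    ((0, [1, 2, 3, 4, 5, 6, 7, 3, 2, 1, 4, 3, 2, 5, 8, 7, 3, 2, 1, 4, 3, 2, 5, 4, 7, 3, 4, 8, 7, 3, 2, 9, 6, 5, 4, 3, 2, 1, 0, 7, 8]), 1001, 0),
    ((0, [1, 2, 3, 4, 5, 6, 7, 3, 2, 1, 4, 3, 2, 5, 4, 7, 8, 7, 3, 2, 1, 4, 3, 2, 5, 4, 3, 7, 3, 8, 9, 6, 5, 4, 3, 2, 1, 7, 3, 4, 5, 6]), 1001, 0),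
    ((0, [1, 2, 3, 4, 5, 6, 7, 3, 2, 1, 4, 3, 2, 5, 4, 7, 8, 7, 3, 2, 1, 4, 3, 2, 5, 4, 3, 7, 3, 8, 9, 6, 5, 4, 3, 2, 7, 3, 4, 5, 6, 9]), 1001, 0),
    ((0, [1, 2, 3, 4, 5, 6, 7, 3, 2, 1, 4, 3, 2, 5, 4, 7, 8, 7, 3, 2, 1, 4, 3, 2, 5, 4, 3, 7, 8, 9, 6, 5, 4, 3, 2, 1, 7, 3, 2, 4, 3, 5]), 1001, 0),
    ((0, [1, 2, 3, 4, 5, 6, 7, 3, 2, 1, 4, 3, 2, 5, 8, 7, 3, 2, 1, 0, 4, 3, 2, 5, 4, 3, 7, 3, 8, 7, 9, 6, 5, 4, 3, 2, 1, 0, 7, 3, 2, 8]), 1001, 0),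
    ((0, [1, 2, 3, 4, 5, 6, 7, 3, 2, 1, 4, 3, 2, 5, 8, 7, 3, 2, 1, 0, 4, 3, 2, 5, 4, 6, 7, 3, 8, 7, 9, 6, 5, 4, 3, 2, 1, 0, 7, 3, 2, 8]), 1001, 0),
    ((0, [1, 2, 3, 4, 5, 6, 7, 3, 2, 1, 4, 3, 2, 5, 8, 7, 3, 2, 1, 0, 4, 3, 2, 5, 4, 6, 7, 3, 4, 8, 7, 9, 6, 5, 4, 3, 2, 1, 0, 7, 3, 2]), 1001, 0),
    ((0, [1, 2, 3, 4, 5, 6, 7, 3, 2, 1, 4, 3, 2, 5, 7, 8, 7, 3, 2, 1, 4, 3, 2, 5, 4, 3, 7, 3, 8, 7, 9, 6, 5, 4, 3, 2, 1, 0, 7, 3, 2, 8]), 1001, 0),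
    ((0, [1, 2, 3, 4, 5, 6, 7, 3, 2, 1, 4, 3, 2, 5, 8, 7, 3, 2, 1, 0, 4, 3, 2, 1, 5, 4, 6, 7, 3, 8, 7, 9, 6, 5, 4, 3, 2, 1, 0, 7, 3, 2]), 1001, 0),
    ((0, [1, 2, 3, 4, 5, 6, 7, 3, 2, 1, 4, 3, 2, 5, 4, 7, 8, 7, 3, 2, 1, 4, 3, 2, 5, 4, 3, 7, 3, 8, 7, 9, 6, 5, 4, 3, 2, 1, 0, 7, 3, 2]), 1001, 0),
    ((0, [1, 2, 3, 4, 5, 6, 7, 3, 2, 1, 4, 3, 2, 5, 4, 8, 7, 3, 2, 1, 0, 4, 3, 2, 1, 5, 4, 7, 3, 2, 8, 7, 9, 6, 5, 4, 3, 2, 1, 0, 7, 8]), 1001, 0),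
    ((0, [1, 2, 3, 4, 5, 6, 7, 3, 2, 1, 4, 3, 2, 5, 8, 7, 3, 2, 1, 0, 4, 3, 2, 1, 5, 4, 7, 3, 2, 8, 7, 9, 6, 5, 4, 3, 2, 1, 0, 7, 3, 8]), 1001, 0),
    ((0, [1, 2, 3, 4, 5, 6, 7, 3, 2, 1, 4, 3, 2, 5, 4, 8, 7, 3, 2, 1, 4, 3, 2, 5, 4, 3, 7, 3, 2, 1, 8, 7, 9, 6, 5, 4, 3, 2, 1, 0, 7, 3]), 1001, 0),
    ((0, [1, 2, 3, 4, 5, 6, 7, 3, 2, 1, 4, 3, 2, 5, 7, 8, 7, 3, 2, 1, 4, 3, 2, 5, 4, 3, 7, 3, 8, 7, 9, 6, 5, 4, 3, 2, 1, 0, 7, 3, 8, 7]), 1001, 0),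
    ((0, [1, 2, 3, 4, 5, 6, 7, 3, 2, 1, 4, 3, 2, 5, 8, 7, 3, 2, 1, 4, 3, 2, 5, 4, 3, 7, 3, 4, 5, 8, 7, 9, 6, 5, 4, 3, 2, 1, 0, 7, 3, 2]), 1001, 0),
    ((0, [1, 2, 3, 4, 5, 6, 7, 3, 2, 1, 4, 3, 2, 5, 8, 7, 3, 2, 1, 0, 4, 3, 2, 5, 4, 6, 7, 3, 8, 7, 9, 6, 5, 4, 3, 2, 1, 0, 7, 3, 8, 7]), 1001, 0),
    ((0, [1, 2, 3, 4, 5, 6, 7, 3, 2, 1, 4, 3, 2, 5, 8, 7, 3, 2, 1, 0, 4, 3, 2, 5, 4, 7, 3, 2, 8, 7, 9, 6, 5, 4, 3, 2, 1, 0, 7, 3, 8, 7]), 1001, 0),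
    ((0, [1, 2, 3, 4, 5, 6, 7, 3, 2, 1, 4, 3, 2, 5, 8, 7, 3, 2, 1, 0, 4, 3, 2, 5, 4, 7, 3, 2, 8, 7, 9, 6, 5, 4, 3, 2, 1, 0, 7, 3, 2, 8]), 1001, 0),
    ((0, [1, 2, 3, 4, 5, 6, 7, 3, 2, 1, 4, 3, 2, 5, 4, 8, 7, 3, 2, 1, 4, 3, 2, 5, 4, 3, 6, 7, 3, 8, 7, 9, 6, 5, 4, 3, 2, 1, 0, 7, 3, 2]), 1001, 0),
    ((0, [1, 2, 3, 4, 5, 6, 7, 3, 2, 1, 4, 3, 2, 5, 4, 7, 8, 7, 3, 2, 1, 4, 3, 2, 5, 4, 3, 7, 3, 2, 8, 7, 9, 6, 5, 4, 3, 2, 1, 0, 7, 3]), 1001, 0),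
    ((0, [1, 2, 3, 4, 5, 6, 7, 3, 2, 1, 4, 3, 2, 5, 7, 8, 7, 3, 2, 1, 0, 4, 3, 2, 5, 4, 7, 3, 8, 7, 9, 6, 5, 4, 3, 2, 1, 0, 7, 3, 8, 7]), 1001, 0),
    ((0, [1, 2, 3, 4, 5, 6, 7, 3, 2, 1, 4, 3, 2, 5, 8, 7, 3, 2, 1, 0, 4, 3, 2, 5, 4, 6, 7, 3, 4, 5, 8, 7, 9, 6, 5, 4, 3, 2, 1, 0, 7, 3]), 1001, 0),
    ((0, [1, 2, 3, 4, 5, 6, 7, 3, 2, 1, 4, 3, 2, 5, 4, 8, 7, 3, 2, 1, 4, 3, 2, 5, 4, 3, 7, 3, 8, 7, 9, 6, 5, 4, 3, 2, 1, 0, 7, 3, 2, 1]), 1001, 0),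
    ((0, [1, 2, 3, 4, 5, 6, 7, 3, 2, 1, 4, 3, 2, 5, 8, 7, 3, 2, 1, 4, 3, 2, 5, 4, 7, 3, 2, 1, 4, 5, 8, 7, 9, 6, 5, 4, 3, 2, 1, 0, 7, 8]), 1001, 0),
    ((0, [1, 2, 3, 4, 5, 6, 7, 3, 2, 1, 4, 3, 2, 5, 8, 7, 3, 2, 1, 4, 3, 2, 5, 4, 3, 7, 3, 8, 7, 9, 6, 5, 4, 3, 2, 1, 0, 7, 3, 4, 5, 8]), 1001, 0),
    ((0, [1, 2, 3, 4, 5, 6, 7, 3, 2, 1, 4, 3, 5, 7, 8, 7, 3, 2, 1, 4, 3, 2, 5, 4, 7, 3, 2, 8, 7, 9, 6, 5, 4, 3, 2, 1, 0, 7, 3, 4, 5, 8]), 1001, 0),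
    ((0, [1, 2, 3, 4, 5, 6, 7, 3, 2, 1, 4, 3, 2, 5, 8, 7, 3, 2, 1, 4, 3, 2, 5, 4, 7, 3, 2, 8, 7, 9, 6, 5, 4, 3, 2, 1, 0, 7, 3, 4, 5, 8]), 1001, 0),
    ((0, [1, 2, 3, 4, 5, 6, 7, 3, 2, 1, 4, 3, 5, 8, 7, 3, 2, 1, 4, 3, 2, 5, 4, 3, 7, 3, 2, 8, 7, 9, 6, 5, 4, 3, 2, 1, 0, 7, 3, 4, 5, 8]), 1001, 0),
    ((0, [1, 2, 3, 4, 5, 6, 7, 3, 2, 1, 4, 3, 5, 4, 8, 7, 3, 2, 1, 4, 3, 2, 5, 4, 7, 3, 2, 8, 7, 3, 4, 9, 6, 5, 4, 3, 2, 1, 0, 7, 3, 8]), 1001, 0),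
    ((0, [1, 2, 3, 4, 5, 6, 7, 3, 2, 1, 4, 3, 2, 5, 8, 7, 3, 2, 1, 4, 3, 2, 5, 4, 7, 3, 4, 8, 7, 3, 2, 9, 6, 5, 4, 3, 2, 1, 0, 7, 3, 8]), 1001, 0),
    ((0, [1, 2, 3, 4, 5, 6, 7, 3, 2, 1, 4, 3, 2, 5, 8, 7, 3, 2, 1, 0, 4, 3, 2, 5, 4, 7, 3, 4, 8, 7, 3, 2, 9, 6, 5, 4, 3, 2, 1, 0, 7, 8]), 1001, 0),
    ((0, [1, 2, 3, 4, 5, 6, 7, 3, 2, 1, 4, 3, 2, 5, 4, 8, 7, 3, 2, 1, 4, 3, 2, 5, 4, 3, 7, 3, 8, 7, 9, 6, 5, 4, 3, 2, 1, 0, 7, 3, 4, 5]), 1001, 0),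
    ((0, [1, 2, 3, 4, 5, 6, 7, 3, 2, 1, 4, 3, 2, 5, 8, 7, 3, 2, 1, 4, 3, 2, 5, 4, 7, 3, 4, 5, 8, 7, 3, 2, 9, 6, 5, 4, 3, 2, 1, 0, 7, 8]), 1001, 0),
    ((0, [1, 2, 3, 4, 5, 6, 7, 3, 2, 1, 4, 3, 2, 5, 8, 7, 3, 2, 1, 4, 3, 2, 5, 4, 7, 3, 4, 8, 7, 3, 2, 1, 9, 6, 5, 4, 3, 2, 1, 0, 7, 8]), 1001, 0),
    ((0, [1, 2, 3, 4, 5, 6, 7, 3, 2, 1, 4, 3, 5, 8, 7, 3, 2, 1, 4, 3, 2, 5, 4, 7, 3, 2, 1, 4, 8, 7, 3, 2, 9, 6, 5, 4, 3, 2, 1, 0, 7, 8]), 1001, 0),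
    ((0, [1, 2, 3, 4, 5, 6, 7, 3, 2, 1, 4, 3, 2, 5, 8, 7, 3, 2, 1, 4, 3, 2, 5, 4, 7, 3, 2, 4, 8, 7, 3, 2, 9, 6, 5, 4, 3, 2, 1, 0, 7, 8]), 1001, 0),
    ((0, [1, 2, 3, 4, 5, 6, 7, 3, 2, 1, 4, 3, 2, 5, 8, 7, 3, 2, 1, 0, 4, 3, 2, 5, 4, 3, 7, 3, 8, 7, 9, 6, 5, 4, 3, 2, 1, 0, 7, 3, 4, 5, 8]), 1001, 0),
    ((0, [1, 2, 3, 4, 5, 6, 7, 3, 2, 1, 4, 3, 2, 5, 7, 8, 7, 3, 2, 1, 4, 3, 2, 5, 4, 3, 7, 3, 8, 7, 9, 6, 5, 4, 3, 2, 1, 0, 7, 3, 4, 5, 8]), 1001, 0),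
    ((0, [1, 2, 3, 4, 5, 6, 7, 3, 2, 1, 4, 3, 2, 5, 8, 7, 3, 2, 1, 0, 4, 3, 2, 5, 4, 7, 3, 2, 8, 7, 9, 6, 5, 4, 3, 2, 1, 0, 7, 3, 4, 5, 8]), 1001, 0),
    ((0, [1, 2, 3, 4, 5, 6, 7, 3, 2, 1, 4, 3, 2, 5, 8, 7, 3, 2, 1, 4, 3, 2, 5, 4, 7, 3, 2, 8, 7, 9, 6, 5, 4, 3, 2, 1, 0, 7, 3, 2, 4, 5, 8]), 1001, 0),
    ((0, [1, 2, 3, 4, 5, 6, 7, 3, 2, 1, 4, 3, 2, 5, 8, 7, 3, 2, 1, 4, 3, 2, 5, 4, 6, 5, 7, 3, 8, 7, 9, 6, 5, 4, 3, 2, 1, 0, 7, 3, 4, 5, 8]), 1001, 0),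
    ((0, [1, 2, 3, 4, 5, 6, 7, 3, 2, 1, 4, 3, 5, 8, 7, 3, 2, 1, 4, 3, 2, 5, 4, 3, 7, 3, 2, 8, 7, 9, 6, 5, 4, 3, 2, 1, 0, 7, 3, 2, 4, 5, 8]), 1001, 0),
    ((0, [1, 2, 3, 4, 5, 6, 7, 3, 2, 1, 4, 3, 2, 5, 8, 7, 3, 2, 1, 4, 3, 2, 5, 4, 3, 7, 3, 8, 7, 9, 6, 5, 4, 3, 2, 1, 0, 7, 3, 2, 4, 5, 8]), 1001, 0),
    ((0, [1, 2, 3, 4, 5, 6, 7, 3, 2, 1, 4, 3, 5, 8, 7, 3, 2, 1, 4, 3, 2, 5, 4, 7, 3, 2, 1, 4, 8, 7, 3, 2, 9, 6, 5, 4, 3, 2, 1, 0, 7, 3, 8]), 1001, 0),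
    ((0, [1, 2, 3, 4, 5, 6, 7, 3, 2, 1, 4, 3, 5, 7, 8, 7, 3, 2, 1, 4, 3, 2, 5, 4, 7, 3, 2, 8, 7, 9, 6, 5, 4, 3, 2, 1, 0, 7, 3, 4, 5, 6, 8]), 1001, 0),
    ((0, [1, 2, 3, 4, 5, 6, 7, 3, 2, 1, 4, 3, 5, 8, 7, 3, 2, 1, 4, 3, 2, 5, 4, 3, 7, 3, 2, 8, 7, 9, 6, 5, 4, 3, 2, 1, 0, 7, 3, 4, 5, 6, 8]), 1001, 0),
    ((0, [1, 2, 3, 4, 5, 6, 7, 3, 2, 1, 4, 3, 2, 5, 8, 7, 3, 2, 1, 4, 3, 2, 5, 4, 3, 7, 3, 8, 7, 9, 6, 5, 4, 3, 2, 1, 0, 7, 3, 4, 5, 6, 8]), 1001, 0),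
    ((0, [1, 2, 3, 4, 5, 6, 7, 3, 2, 1, 4, 3, 5, 8, 7, 3, 2, 1, 4, 3, 2, 5, 4, 3, 7, 3, 2, 8, 7, 9, 6, 5, 4, 3, 2, 1, 0, 7, 3, 4, 5, 8, 7]), 1001, 0),
    ((0, [1, 2, 3, 4, 5, 6, 7, 3, 2, 1, 4, 3, 5, 4, 8, 7, 3, 2, 1, 4, 3, 2, 5, 4, 7, 3, 2, 8, 7, 3, 4, 9, 6, 5, 4, 3, 2, 1, 0, 7, 3, 8, 7]), 1001, 0),
    ((0, [1, 2, 3, 4, 5, 6, 7, 3, 2, 1, 4, 3, 5, 7, 8, 7, 3, 2, 1, 4, 3, 2, 5, 4, 7, 3, 2, 4, 8, 7, 9, 6, 5, 4, 3, 2, 1, 0, 7, 3, 4, 5, 8]), 1001, 0),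
    ((0, [1, 2, 3, 4, 5, 6, 7, 3, 2, 1, 4, 3, 2, 5, 8, 7, 3, 2, 1, 4, 3, 2, 5, 4, 7, 3, 2, 8, 7, 9, 6, 5, 4, 3, 2, 1, 0, 7, 3, 4, 5, 8, 7]), 1001, 0),
    ((0, [1, 2, 3, 4, 5, 6, 7, 3, 2, 1, 4, 3, 2, 5, 8, 7, 3, 2, 1, 0, 4, 3, 2, 5, 4, 7, 3, 4, 8, 7, 3, 2, 9, 6, 5, 4, 3, 2, 1, 0, 7, 3, 8]), 1001, 0),
    ((0, [1, 2, 3, 4, 5, 6, 7, 3, 2, 1, 4, 3, 2, 5, 4, 7, 8, 7, 3, 2, 1, 4, 3, 2, 5, 4, 7, 3, 2, 8, 7, 3, 4, 9, 6, 5, 4, 3, 2, 1, 0, 7, 8]), 1001, 0),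
    ((0, [1, 2, 3, 4, 5, 6, 7, 3, 2, 1, 4, 3, 2, 5, 8, 7, 3, 2, 1, 4, 3, 2, 5, 4, 7, 3, 2, 8, 7, 9, 6, 5, 4, 3, 2, 1, 0, 7, 3, 4, 5, 6, 8]), 1001, 0),
    ((0, [1, 2, 3, 4, 5, 6, 7, 3, 2, 1, 4, 3, 2, 5, 4, 8, 7, 3, 2, 1, 4, 3, 2, 5, 4, 3, 7, 3, 8, 7, 9, 6, 5, 4, 3, 2, 1, 0, 7, 3, 2, 4, 5]), 1001, 0),
    ((0, [1, 2, 3, 4, 5, 6, 7, 3, 2, 1, 4, 3, 2, 5, 4, 8, 7, 3, 2, 1, 4, 3, 2, 5, 4, 3, 7, 3, 8, 7, 9, 6, 5, 4, 3, 2, 1, 0, 7, 3, 4, 5, 6]), 1001, 0),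
    ((0, [1, 2, 3, 4, 5, 6, 7, 3, 2, 1, 4, 3, 2, 5, 8, 7, 3, 2, 1, 4, 3, 2, 5, 4, 7, 3, 4, 8, 7, 3, 2, 1, 9, 6, 5, 4, 3, 2, 1, 0, 7, 3, 8]), 1001, 0),
    ((0, [1, 2, 3, 4, 5, 6, 7, 3, 2, 1, 4, 3, 2, 5, 8, 7, 3, 2, 1, 4, 3, 2, 5, 4, 3, 7, 3, 8, 7, 9, 6, 5, 4, 3, 2, 1, 0, 7, 3, 4, 5, 8, 7]), 1001, 0),
    ((0, [1, 2, 3, 4, 5, 6, 7, 3, 2, 1, 4, 3, 2, 5, 4, 7, 8, 7, 3, 2, 1, 4, 3, 2, 5, 4, 7, 3, 2, 8, 7, 3, 4, 9, 6, 5, 4, 3, 2, 1, 0, 7, 3, 8]), 1001, 0),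
    ((0, [1, 2, 3, 4, 5, 6, 7, 3, 2, 1, 4, 3, 2, 5, 7, 8, 7, 3, 2, 1, 4, 3, 2, 5, 4, 3, 7, 3, 8, 7, 9, 6, 5, 4, 3, 2, 1, 0, 7, 3, 2, 4, 5, 8]), 1001, 0),
    ((0, [1, 2, 3, 4, 5, 6, 7, 3, 2, 1, 4, 3, 2, 5, 7, 8, 7, 3, 2, 1, 4, 3, 2, 5, 4, 3, 7, 3, 8, 7, 9, 6, 5, 4, 3, 2, 1, 0, 7, 3, 4, 5, 6, 8]), 1001, 0),
    ((0, [1, 2, 3, 4, 5, 6, 7, 3, 2, 1, 4, 3, 2, 5, 8, 7, 3, 2, 1, 0, 4, 3, 2, 5, 4, 6, 7, 3, 4, 5, 8, 7, 9, 6, 5, 4, 3, 2, 1, 0, 7, 3, 4, 5]), 1001, 0),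
    ((0, [1, 2, 3, 4, 5, 6, 7, 3, 2, 1, 4, 3, 2, 5, 8, 7, 3, 2, 1, 4, 3, 2, 5, 4, 3, 7, 3, 8, 7, 9, 6, 5, 4, 3, 2, 1, 0, 7, 3, 2, 4, 3, 7, 8]), 1001, 0),
    ((0, [1, 2, 3, 4, 5, 6, 7, 3, 2, 1, 4, 3, 2, 5, 8, 7, 3, 2, 1, 4, 3, 2, 5, 4, 3, 7, 3, 8, 7, 9, 6, 5, 4, 3, 2, 1, 0, 7, 3, 2, 4, 3, 5, 8]), 1001, 0),
    ((0, [1, 2, 3, 4, 5, 6, 7, 3, 2, 1, 4, 3, 2, 5, 8, 7, 3, 2, 1, 0, 4, 3, 2, 5, 4, 3, 7, 3, 8, 7, 9, 6, 5, 4, 3, 2, 1, 0, 7, 3, 4, 5, 6, 8]), 1001, 0),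
    ((0, [1, 2, 3, 4, 5, 6, 7, 3, 2, 1, 4, 3, 2, 5, 8, 7, 3, 2, 1, 0, 4, 3, 2, 5, 4, 7, 3, 4, 8, 7, 3, 2, 9, 6, 5, 4, 3, 2, 1, 0, 7, 3, 8, 7]), 1001, 0),
    ((0, [1, 2, 3, 4, 5, 6, 7, 3, 2, 1, 4, 3, 2, 5, 8, 7, 3, 2, 1, 0, 4, 3, 2, 5, 4, 3, 7, 3, 8, 7, 9, 6, 5, 4, 3, 2, 1, 0, 7, 3, 4, 5, 8, 7]), 1001, 0),
    ((0, [1, 2, 3, 4, 5, 6, 7, 3, 2, 1, 4, 3, 2, 5, 4, 7, 8, 7, 3, 2, 1, 4, 3, 2, 5, 4, 3, 7, 3, 8, 7, 9, 6, 5, 4, 3, 2, 1, 0, 7, 3, 2, 4, 5]), 1001, 0),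
    ((0, [1, 2, 3, 4, 5, 6, 7, 3, 2, 1, 4, 3, 2, 5, 4, 7, 8, 7, 3, 2, 1, 4, 3, 2, 5, 4, 7, 3, 2, 8, 7, 3, 4, 5, 9, 6, 5, 4, 3, 2, 1, 0, 7, 8]), 1001, 0),
    ((0, [1, 2, 3, 4, 5, 6, 7, 3, 2, 1, 4, 3, 2, 5, 4, 8, 7, 3, 2, 1, 4, 3, 2, 5, 4, 3, 7, 3, 8, 7, 9, 6, 5, 4, 3, 2, 1, 0, 7, 3, 2, 4, 3, 5]), 1001, 0)]

/-- The cycles with refutations. -/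
def reps : List ((Nat × List Nat) × Nat × Nat) :=
  [reps0,
    reps1,
    reps2,
    reps3,
    reps4,
    reps5,
    reps6,
    reps7,
    reps8,
    reps9,
    reps10,
    reps11,
    reps12,
    reps13,
    reps14,
    reps15,
    reps16,
    reps17,
    reps18,
    reps19,
    reps20,
    reps21,
    reps22,
    reps23,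
    reps24,
    reps25,
    reps26,
    reps27,
    reps28,
    reps29,
    reps30,
    reps31,
    reps32,
    reps33,
    reps34,
    reps35,
    reps36,
    reps37,
    reps38,
    reps39,
    reps40,
    reps41,
    reps42,
    reps43,
    reps44,
    reps45,
    reps46,
    reps47,
    reps48,
    reps49,
    reps50,
    reps51,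
    reps52].flatten

/-- The cycle of the seeds. -/
def q0 : Nat × List Nat :=
  (2, [3, 4, 5, 7, 3])

/-- Derivation steps. -/
def steps : List (Nat × Nat) :=
  [(5, 6), (6, 7), (7, 8), (8, 9), (9, 10), (0, 13), (2, 13), (3, 13), (4, 13), (12, 5),
    (13, 6), (18, 11), (14, 20), (15, 22), (17, 23), (19, 24), (15, 25), (14, 26), (18, 27), (16, 28)]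

/-- The positions of the base. -/
def tgt : List Nat :=
  [5, 6, 29, 30, 21]

/-- The realised cases. -/
def inn : List ((Nat × List Nat) × Nat × List Nat) :=
  [((2, [3, 4, 5, 7, 3]), 0, [])]

/-- Labels of the fixed cosets. -/
def labels : List (Nat × Nat) :=
  [(0, 1), (0, 2), (0, 3), (0, 4), (0, 5), (0, 6), (1, 2), (1, 3), (1, 4), (1, 5), (1, 6), (2, 3), (2, 4), (2, 5), (2, 6), (3, 4), (3, 5), (3, 6), (4, 5), (4, 6), (5, 6)]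

/-- Fixed cosets whose transpositions give a five-cycle. -/
def ccI : List Nat :=
  [0, 6, 11, 15]

/-- A word carrying the element to another one of the Sylow group (0). -/
def car0 : List Nat :=
  [5, 7, 0, 1, 2, 3, 2, 1, 4, 3, 2, 5, 4, 3, 7, 3, 4, 6, 5, 4, 3, 2, 1, 7, 3, 2, 4, 3, 5, 4,
    6, 5, 9, 6, 5, 4, 3, 2, 1, 7, 3, 2, 4, 3, 5, 4, 6, 5, 7, 3, 2, 1, 4, 3, 7, 9, 6, 5, 4, 3]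

/-- A word carrying the element to another one of the Sylow group (1). -/
def car1 : List Nat :=
  [8, 3, 7, 0, 1, 2, 3, 4, 5, 6, 9, 3, 7, 8, 4, 3, 7, 4, 5, 2, 3, 4, 0, 1, 2, 3, 7, 8, 5, 2,
    3, 4, 1, 2, 3, 7, 6, 5, 4, 3, 2, 1, 0, 1, 2, 3, 4, 5, 6, 7, 3, 2, 1, 4, 3, 2, 5, 8, 7, 3,
    2, 1, 0, 4, 3, 2, 5, 4, 7, 3, 4, 8, 7, 3, 9, 6, 5, 4, 3, 2, 1, 0, 7, 3, 8, 0, 1, 2, 3, 4,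
    5, 6, 9, 3, 7, 8, 1, 2, 3, 7, 3, 4, 5, 2, 3, 4, 1, 2, 3, 7, 8, 4, 5, 3, 4, 1, 2, 3, 7, 6,
    5, 4, 3, 2, 1, 0, 1, 2, 3, 4, 5, 6, 7, 3, 2, 1, 4, 3, 5, 4, 8, 7, 3, 2, 1, 4, 3, 2, 5, 4,
    3, 7, 3, 2, 1, 8, 7, 3, 9, 6, 5, 4, 3, 2, 1, 0, 1, 2, 3, 4, 5, 6, 9, 7, 8, 1, 2, 3, 7, 3,
    4, 5, 2, 3, 4, 1, 2, 3, 7, 8, 5, 3, 4, 1, 2, 3, 7, 6, 5, 4, 3, 2, 1, 0, 1, 2, 3, 4, 5, 6,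
    7, 3, 2, 1, 4, 3, 5, 8, 7, 3, 2, 1, 4, 3, 2, 5, 4, 3, 7, 3, 2, 1, 8, 7, 9, 6, 5, 4, 3, 2,
    1, 9, 1, 2, 3, 7, 8, 5, 4, 3, 7, 5, 6, 3, 4, 5, 2, 3, 4, 1, 2, 3, 7, 8, 6, 5, 2, 3, 4, 1,
    2, 3, 7, 0, 1, 2, 3, 4, 5, 6, 9, 3, 7, 8, 2, 3, 7, 6, 4, 5, 3, 4, 1, 2, 3, 7, 8, 5, 3, 4,
    1, 2, 3, 7, 0, 1, 2, 3, 4, 5, 6, 3, 4, 2, 3, 7, 8, 3, 4, 5, 2, 3, 4, 1, 2, 3, 7, 5, 2, 3,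
    4, 1, 2, 3, 1, 0, 5, 4, 3, 7, 8, 2, 3, 7, 4, 3, 2, 0, 1, 0, 1, 0, 2, 3, 4, 7, 3, 2, 8, 7,
    3, 8, 4, 7, 3, 4, 5, 6, 9, 8, 3, 7, 6, 5, 2, 3, 4, 0, 1, 2, 3, 7, 8, 5, 2, 3, 4, 1, 2, 3,
    7, 6, 5, 4, 3, 2, 1, 0, 1, 2, 3, 4, 5, 6, 7, 3, 2, 1, 4, 3, 2, 5, 8, 7, 3, 2, 1, 0, 4, 3,
    2, 5, 6, 7, 3, 8, 9, 6, 5, 4, 3, 2, 3, 4, 5, 6, 9, 7, 2, 3, 4, 1, 2, 3, 7, 8, 7, 4, 5, 3,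
    4, 1, 2, 3, 7, 6, 5, 4, 3, 2, 1, 0, 1, 2, 3, 4, 5, 6, 7, 3, 2, 1, 4, 3, 5, 4, 7, 8, 7, 3,
    2, 1, 4, 3, 2, 7, 9, 6, 5, 4, 3, 2, 7, 5, 6, 9, 0, 1, 2, 3, 7, 8, 4, 5, 2, 3, 4, 1, 2, 3,
    7, 6, 5, 4, 3, 2, 1, 0, 1, 2, 3, 4, 5, 6, 7, 3, 2, 1, 4, 3, 2, 5, 4, 8, 7, 3, 2, 1, 0, 9,
    6, 5, 8, 7, 3, 4, 1, 2, 3, 7, 8, 7, 4, 5, 3, 4, 1, 2, 3, 7, 6, 5, 4, 3, 2, 1, 0, 1, 2, 3,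
    4, 5, 6, 7, 3, 2, 1, 4, 3, 5, 4, 7, 8, 7, 3, 2, 1, 4, 3, 7, 8, 3, 7, 4, 3, 1, 2, 0, 1, 0,
    1, 0, 2, 1, 3, 4, 7, 3, 5, 4, 3, 7, 1, 2, 3, 4, 5, 6, 9, 7, 8, 2, 3, 7, 4, 5, 2, 3, 4, 1,
    2, 3, 7, 8, 7, 5, 3, 4, 1, 2, 3, 7, 6, 5, 4, 3, 2, 1, 0, 1, 2, 3, 4, 5, 6, 7, 3, 2, 1, 4,
    3, 5, 7, 8, 7, 3, 2, 1, 4, 3, 2, 5, 4, 7, 3, 2, 8, 7, 9, 6, 5, 4, 3, 2, 1, 7, 3, 4, 5, 9,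
    3, 7, 5, 6, 4, 5, 3, 4, 0, 1, 2, 3, 7, 8, 3, 4, 1, 2, 3, 7, 0, 1, 2, 3, 4, 5, 6, 9, 7, 8,
    3, 4, 0, 1, 2, 3, 7, 4, 5, 6, 3, 4, 5, 2, 3, 4, 1, 2, 3, 7, 8, 3, 4, 1, 2, 3, 7, 0, 1, 2,
    3, 4, 5, 6, 5, 4, 0, 1, 2, 3, 7, 4, 0, 1, 2, 3, 1, 0, 2, 1, 8, 3, 4, 2, 3, 7, 5, 4, 3, 2,
    0, 1, 0, 1, 0, 2, 3, 4, 5, 7, 3, 2, 4, 3, 8, 3, 7, 8, 2, 3, 7, 4, 3, 2, 0, 1, 0, 1, 0, 2,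
    3, 4, 7, 3, 2, 8, 7, 3, 5, 0, 1, 2, 3, 2, 1, 4, 3, 2, 5, 7, 3, 2, 1, 4, 3, 5, 4, 7, 3, 2,
    8, 7, 3, 2, 4, 6, 5, 4, 3, 2, 1, 0, 7, 3, 2, 1, 4, 3, 5, 4, 8, 7, 3, 2, 1, 0, 4, 3, 2, 5,
    4, 6, 7, 3, 2, 1, 8, 9, 6, 5, 4, 3, 2, 1, 0, 7, 3, 2, 1, 4, 3, 5, 8, 7, 3, 2, 1, 4, 3, 2,
    5, 4, 3, 6, 5, 7, 3, 2, 4, 8, 7, 3, 9, 6, 5, 4, 1, 2, 3, 4, 5, 6, 9, 3, 7, 4, 5, 3, 4, 0,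
    1, 2, 3, 7, 8, 5, 4, 1, 2, 3, 7, 6, 5, 4, 3, 2, 1, 0, 1, 2, 3, 4, 5, 6, 7, 3, 2, 1, 4, 5,
    8, 7, 3, 2, 1, 0, 4, 3, 5, 4, 7, 3, 9, 6, 5, 4, 3, 2, 1, 5, 6, 9, 8, 7, 5, 1, 2, 3, 4, 0,
    1, 2, 3, 7, 8, 5, 2, 3, 4, 1, 2, 3, 7, 6, 5, 4, 3, 2, 1, 0, 1, 2, 3, 4, 5, 6, 7, 3, 2, 1,
    4, 3, 2, 5, 8, 7, 3, 2, 1, 0, 4, 3, 2, 1, 5, 7, 8, 7, 3, 4, 2, 3, 7, 8, 5, 3, 4, 1, 2, 3,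
    7, 6, 5, 4, 3, 2, 1, 0, 1, 2, 3, 4, 5, 6, 7, 3, 2, 1, 4, 3, 5, 8, 7, 3, 2, 4, 3, 7, 9, 6,
    5, 1, 8, 3, 4, 2, 3, 7, 5, 4, 3, 2, 0, 1, 0, 1, 0, 2, 3, 4, 5, 7, 3, 2, 4, 3, 8, 3, 7, 8,
    2, 3, 7, 4, 3, 2, 0, 1, 0, 1, 0, 2, 3, 4, 7, 3, 2, 8, 7, 3, 5, 0, 1, 2, 3, 2, 1, 4, 3, 2,
    5, 7, 3, 2, 1, 4, 3, 5, 4, 7, 3, 2, 8, 7, 3, 2, 4, 6, 5, 4, 3, 2, 1, 0, 7, 3, 2, 1, 4, 3,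
    5, 4, 8, 7, 3, 2, 1, 0, 4, 3, 2, 5, 4, 6, 7, 3, 2, 1, 8, 9, 6, 5, 4, 3, 2, 1, 0, 7, 3, 2,
    1, 4, 3, 5, 8, 7, 3, 2, 1, 4, 3, 2, 5, 4, 3, 6, 5, 7, 3, 2, 4, 8, 7, 3, 9, 6, 5, 4, 1, 2,
    3, 4, 5, 6, 9, 3, 7, 4, 5, 3, 4, 0, 1, 2, 3, 7, 8, 5, 4, 1, 2, 3, 7, 6, 5, 4, 3, 2, 1, 0,
    1, 2, 3, 4, 5, 6, 7, 3, 2, 1, 4, 5, 8, 7, 3, 2, 1, 0, 4, 3, 5, 4, 7, 3, 9, 6, 5, 4, 3, 2,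
    1, 5, 6, 9, 8, 7, 5, 1, 2, 3, 4, 0, 1, 2, 3, 7, 8, 5, 2, 3, 4, 1, 2, 3, 7, 6, 5, 4, 3, 2,
    1, 0, 1, 2, 3, 4, 5, 6, 7, 3, 2, 1, 4, 3, 2, 5, 8, 7, 3, 2, 1, 0, 4, 3, 2, 1, 5, 7, 8, 7,
    3, 4, 2, 3, 7, 8, 5, 3, 4, 1, 2, 3, 7, 6, 5, 4, 3, 2, 1, 0, 1, 2, 3, 4, 5, 6, 7, 3, 2, 1,
    4, 3, 5, 8, 7, 3, 2, 4, 3, 7, 9, 6, 5, 3, 7, 8, 4, 3, 7, 5, 4, 3, 2, 0, 1, 0, 1, 0, 2, 3,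
    4, 5, 7, 3, 4, 8, 7, 3, 2, 1, 7, 3, 4, 5, 6, 9, 8, 3, 7, 6, 5, 2, 3, 4, 0, 1, 2, 3, 7, 8,
    5, 2, 3, 4, 1, 2, 3, 7, 6, 5, 4, 3, 2, 1, 0, 1, 2, 3, 4, 5, 6, 7, 3, 2, 1, 4, 3, 2, 5, 8,
    7, 3, 2, 1, 0, 4, 3, 2, 5, 6, 7, 3, 8, 9, 6, 5, 4, 3, 2, 3, 4, 5, 6, 9, 7, 2, 3, 4, 1, 2,
    3, 7, 8, 7, 4, 5, 3, 4, 1, 2, 3, 7, 6, 5, 4, 3, 2, 1, 0, 1, 2, 3, 4, 5, 6, 7, 3, 2, 1, 4,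
    3, 5, 4, 7, 8, 7, 3, 2, 1, 4, 3, 2, 7, 9, 6, 5, 4, 3, 2, 7, 5, 6, 9, 0, 1, 2, 3, 7, 8, 4,
    5, 2, 3, 4, 1, 2, 3, 7, 6, 5, 4, 3, 2, 1, 0, 1, 2, 3, 4, 5, 6, 7, 3, 2, 1, 4, 3, 2, 5, 4,
    8, 7, 3, 2, 1, 0, 9, 6, 5, 8, 7, 3, 4, 1, 2, 3, 7, 8, 7, 4, 5, 3, 4, 1, 2, 3, 7, 6, 5, 4,
    3, 2, 1, 0, 1, 2, 3, 4, 5, 6, 7, 3, 2, 1, 4, 3, 5, 4, 7, 8, 7, 3, 2, 1, 4, 3, 7, 8, 3, 7,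
    4, 3, 1, 2, 0, 1, 0, 1, 0, 2, 1, 3, 4, 7, 3, 5, 4, 3, 7, 1, 2, 3, 4, 5, 6, 9, 7, 8, 2, 3,
    7, 4, 5, 2, 3, 4, 1, 2, 3, 7, 8, 7, 5, 3, 4, 1, 2, 3, 7, 6, 5, 4, 3, 2, 1, 0, 1, 2, 3, 4,
    5, 6, 7, 3, 2, 1, 4, 3, 5, 7, 8, 7, 3, 2, 1, 4, 3, 2, 5, 4, 7, 3, 2, 8, 7, 9, 6, 5, 4, 3,
    2, 1, 7, 3, 4, 5, 9, 3, 7, 5, 6, 4, 5, 3, 4, 0, 1, 2, 3, 7, 8, 3, 4, 1, 2, 3, 7, 0, 1, 2,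
    3, 4, 5, 6, 9, 7, 8, 3, 4, 0, 1, 2, 3, 7, 4, 5, 6, 3, 4, 5, 2, 3, 4, 1, 2, 3, 7, 8, 3, 4,
    1, 2, 3, 7, 0, 1, 2, 3, 4, 5, 6, 5, 4, 0, 1, 2, 3, 7, 4, 0, 1, 2, 3, 1, 0, 2, 1, 8, 3, 4,
    2, 3, 7, 5, 4, 3, 2, 0, 1, 0, 1, 0, 2, 3, 4, 5, 7, 3, 2, 4, 3, 8, 3, 7, 8, 2, 3, 7, 4, 3,
    2, 0, 1, 0, 1, 0, 2, 3, 4, 7, 3, 2, 8, 7, 3, 5, 0, 1, 2, 3, 2, 1, 4, 3, 2, 5, 7, 3, 2, 1,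
    4, 3, 5, 4, 7, 3, 2, 8, 7, 3, 2, 4, 6, 5, 4, 3, 2, 1, 0, 7, 3, 2, 1, 4, 3, 5, 4, 8, 7, 3,
    2, 1, 0, 4, 3, 2, 5, 4, 6, 7, 3, 2, 1, 8, 9, 6, 5, 4, 3, 2, 1, 0, 7, 3, 2, 1, 4, 3, 5, 8,
    7, 3, 2, 1, 4, 3, 2, 5, 4, 3, 6, 5, 7, 3, 2, 4, 8, 7, 3, 9, 6, 5, 4, 1, 2, 3, 4, 5, 6, 9,
    3, 7, 4, 5, 3, 4, 0, 1, 2, 3, 7, 8, 5, 4, 1, 2, 3, 7, 6, 5, 4, 3, 2, 1, 0, 1, 2, 3, 4, 5,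
    6, 7, 3, 2, 1, 4, 5, 8, 7, 3, 2, 1, 0, 4, 3, 5, 4, 7, 3, 9, 6, 5, 4, 3, 2, 1, 5, 6, 9, 8,
    7, 5, 1, 2, 3, 4, 0, 1, 2, 3, 7, 8, 5, 2, 3, 4, 1, 2, 3, 7, 6, 5, 4, 3, 2, 1, 0, 1, 2, 3,
    4, 5, 6, 7, 3, 2, 1, 4, 3, 2, 5, 8, 7, 3, 2, 1, 0, 4, 3, 2, 1, 5, 7, 8, 7, 3, 4, 2, 3, 7,
    8, 5, 3, 4, 1, 2, 3, 7, 6, 5, 4, 3, 2, 1, 0, 1, 2, 3, 4, 5, 6, 7, 3, 2, 1, 4, 3, 5, 8, 7,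
    3, 2, 4, 3, 7, 9, 6, 5, 1, 8, 3, 4, 2, 3, 7, 5, 4, 3, 2, 0, 1, 0, 1, 0, 2, 3, 4, 5, 7, 3,
    2, 4, 3, 8, 3, 7, 8, 2, 3, 7, 4, 3, 2, 0, 1, 0, 1, 0, 2, 3, 4, 7, 3, 2, 8, 7, 3, 5, 0, 1,
    2, 3, 2, 1, 4, 3, 2, 5, 7, 3, 2, 1, 4, 3, 5, 4, 7, 3, 2, 8, 7, 3, 2, 4, 6, 5, 4, 3, 2, 1,
    0, 7, 3, 2, 1, 4, 3, 5, 4, 8, 7, 3, 2, 1, 0, 4, 3, 2, 5, 4, 6, 7, 3, 2, 1, 8, 9, 6, 5, 4,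
    3, 2, 1, 0, 7, 3, 2, 1, 4, 3, 5, 8, 7, 3, 2, 1, 4, 3, 2, 5, 4, 3, 6, 5, 7, 3, 2, 4, 8, 7,
    3, 9, 6, 5, 4, 1, 2, 3, 4, 5, 6, 9, 3, 7, 4, 5, 3, 4, 0, 1, 2, 3, 7, 8, 5, 4, 1, 2, 3, 7,
    6, 5, 4, 3, 2, 1, 0, 1, 2, 3, 4, 5, 6, 7, 3, 2, 1, 4, 5, 8, 7, 3, 2, 1, 0, 4, 3, 5, 4, 7,
    3, 9, 6, 5, 4, 3, 2, 1, 5, 6, 9, 8, 7, 5, 1, 2, 3, 4, 0, 1, 2, 3, 7, 8, 5, 2, 3, 4, 1, 2,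
    3, 7, 6, 5, 4, 3, 2, 1, 0, 1, 2, 3, 4, 5, 6, 7, 3, 2, 1, 4, 3, 2, 5, 8, 7, 3, 2, 1, 0, 4,
    3, 2, 1, 5, 7, 8, 7, 3, 4, 2, 3, 7, 8, 5, 3, 4, 1, 2, 3, 7, 6, 5, 4, 3, 2, 1, 0, 1, 2, 3,
    4, 5, 6, 7, 3, 2, 1, 4, 3, 5, 8, 7, 3, 2, 4, 3, 7, 9, 6, 5, 3, 7, 8, 4, 3, 7, 5, 4, 3, 2,
    0, 1, 0, 1, 0, 2, 3, 4, 5, 7, 3, 4, 8, 7, 3, 2, 1, 2, 3, 7, 0, 1, 2, 3, 4, 5, 6, 9, 7, 8,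
    3, 7, 6, 4, 5, 2, 3, 4, 1, 2, 3, 7, 8, 5, 3, 4, 1, 2, 3, 7, 6, 5, 4, 3, 2, 1, 0, 1, 2, 3,
    4, 5, 6, 7, 3, 2, 1, 4, 3, 5, 8, 7, 3, 2, 1, 4, 3, 2, 5, 4, 6, 7, 3, 8, 7, 9, 6, 5, 4, 3,
    2, 1, 0, 7, 3, 4, 7, 2, 3, 4, 5, 6, 9, 8, 7, 4, 5, 3, 4, 1, 2, 3, 7, 8, 5, 3, 4, 1, 2, 3,
    7, 6, 5, 4, 3, 2, 1, 0, 1, 2, 3, 4, 5, 6, 7, 3, 2, 1, 4, 3, 5, 8, 7, 3, 2, 1, 4, 3, 5, 4,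
    7, 8, 9, 6, 5, 4, 3, 2, 7, 4, 0, 1, 2, 3, 7, 8, 3, 4, 2, 3, 7, 5, 6, 4, 5, 2, 3, 4, 1, 2,
    3, 7, 8, 7, 6, 5, 2, 3, 4, 1, 2, 3, 7, 0, 1, 2, 3, 4, 5, 6, 9, 8, 5, 4, 3, 7, 4, 5, 6, 3,
    4, 5, 2, 3, 4, 0, 1, 2, 3, 7, 8, 5, 2, 3, 4, 1, 2, 3, 7, 0, 1, 2, 3, 4, 5, 6, 7, 8, 5, 2,
    3, 4, 1, 2, 3, 7, 5, 4, 1, 2, 3, 1, 0, 5, 4, 3, 7, 8, 2, 3, 7, 4, 3, 2, 0, 1, 0, 1, 0, 2,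
    3, 4, 7, 3, 2, 8, 7, 3, 7, 3, 4, 2, 3, 7, 5, 4, 3, 2, 0, 1, 0, 1, 0, 2, 3, 4, 5, 7, 3, 2,
    4, 3, 4, 2, 8, 3, 7, 8, 2, 3, 7, 4, 3, 2, 0, 1, 0, 1, 0, 2, 3, 4, 7, 3, 2, 8, 7, 3, 0, 1,
    3, 2, 1, 0, 4, 5, 7, 3, 2, 4, 3, 5, 8, 7, 3, 6, 5, 4, 3, 2, 1, 0, 7, 3, 2, 1, 4, 3, 2, 5,
    4, 7, 8, 7, 3, 2, 1, 4, 3, 2, 5, 4, 3, 6, 5, 4, 7, 3, 2, 1, 4, 8, 7, 3, 2, 1, 4, 5, 9, 6,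
    5, 4, 3, 2, 1, 7, 3, 2, 4, 3, 5, 4, 6, 5, 7, 3, 4, 8, 7, 3, 9, 6, 5]

/-- A word carrying the element to another one of the Sylow group (2). -/
def car2 : List Nat :=
  [8, 3, 7, 0, 1, 2, 3, 4, 5, 6, 9, 3, 7, 8, 4, 3, 7, 4, 5, 2, 3, 4, 0, 1, 2, 3, 7, 8, 5, 2,
    3, 4, 1, 2, 3, 7, 6, 5, 4, 3, 2, 1, 0, 1, 2, 3, 4, 5, 6, 7, 3, 2, 1, 4, 3, 2, 5, 8, 7, 3,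
    2, 1, 0, 4, 3, 2, 5, 4, 7, 3, 4, 8, 7, 3, 9, 6, 5, 4, 3, 2, 1, 0, 7, 3, 8, 0, 1, 2, 3, 4,
    5, 6, 9, 3, 7, 8, 1, 2, 3, 7, 3, 4, 5, 2, 3, 4, 1, 2, 3, 7, 8, 4, 5, 3, 4, 1, 2, 3, 7, 6,
    5, 4, 3, 2, 1, 0, 1, 2, 3, 4, 5, 6, 7, 3, 2, 1, 4, 3, 5, 4, 8, 7, 3, 2, 1, 4, 3, 2, 5, 4,
    3, 7, 3, 2, 1, 8, 7, 3, 9, 6, 5, 4, 3, 2, 1, 0, 1, 2, 3, 4, 5, 6, 9, 7, 8, 1, 2, 3, 7, 3,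
    4, 5, 2, 3, 4, 1, 2, 3, 7, 8, 5, 3, 4, 1, 2, 3, 7, 6, 5, 4, 3, 2, 1, 0, 1, 2, 3, 4, 5, 6,
    7, 3, 2, 1, 4, 3, 5, 8, 7, 3, 2, 1, 4, 3, 2, 5, 4, 3, 7, 3, 2, 1, 8, 7, 9, 6, 5, 4, 3, 2,
    1, 9, 1, 2, 3, 7, 8, 5, 4, 3, 7, 5, 6, 3, 4, 5, 2, 3, 4, 1, 2, 3, 7, 8, 6, 5, 2, 3, 4, 1,
    2, 3, 7, 0, 1, 2, 3, 4, 5, 6, 9, 3, 7, 8, 2, 3, 7, 6, 4, 5, 3, 4, 1, 2, 3, 7, 8, 5, 3, 4,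
    1, 2, 3, 7, 0, 1, 2, 3, 4, 5, 6, 3, 4, 2, 3, 7, 8, 3, 4, 5, 2, 3, 4, 1, 2, 3, 7, 5, 2, 3,
    4, 1, 2, 3, 1, 0, 5, 4, 3, 7, 8, 2, 3, 7, 4, 3, 2, 0, 1, 0, 1, 0, 2, 3, 4, 7, 3, 2, 8, 7,
    3, 8, 4, 7, 4, 5, 3, 4, 1, 2, 3, 7, 8, 7, 4, 5, 3, 4, 1, 2, 3, 7, 6, 5, 4, 3, 2, 1, 0, 1,
    2, 3, 4, 5, 6, 7, 3, 2, 1, 4, 3, 5, 4, 7, 8, 7, 3, 2, 1, 4, 3, 5, 4, 7, 8, 7, 3, 4, 5, 6,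
    9, 3, 7, 8, 1, 2, 3, 7, 4, 5, 3, 4, 1, 2, 3, 7, 8, 4, 5, 3, 4, 1, 2, 3, 7, 6, 5, 4, 3, 2,
    1, 0, 1, 2, 3, 4, 5, 6, 7, 3, 2, 1, 4, 3, 5, 4, 8, 7, 3, 2, 1, 4, 3, 5, 4, 7, 3, 2, 1, 8,
    7, 3, 9, 6, 5, 4, 3, 2, 3, 4, 5, 6, 9, 3, 7, 8, 2, 3, 7, 4, 5, 2, 3, 4, 1, 2, 3, 7, 8, 4,
    5, 3, 4, 1, 2, 3, 7, 6, 5, 4, 3, 2, 1, 0, 1, 2, 3, 4, 5, 6, 7, 3, 2, 1, 4, 3, 5, 4, 8, 7,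
    3, 2, 1, 4, 3, 2, 5, 4, 7, 3, 2, 8, 7, 3, 9, 6, 5, 4, 3, 2, 7, 8, 6, 9, 1, 2, 3, 7, 8, 7,
    5, 3, 4, 1, 2, 3, 7, 6, 5, 4, 3, 2, 1, 0, 1, 2, 3, 4, 5, 6, 7, 3, 2, 1, 4, 3, 5, 7, 8, 7,
    3, 2, 1, 6, 4, 5, 3, 4, 2, 3, 7, 8, 7, 3, 4, 1, 2, 3, 7, 6, 5, 4, 3, 2, 1, 0, 1, 2, 3, 4,
    5, 6, 7, 3, 2, 1, 4, 3, 7, 8, 7, 3, 2, 4, 3, 5, 4, 6, 9, 6, 7, 8, 3, 7, 5, 6, 4, 5, 3, 4,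
    2, 3, 7, 8, 3, 4, 1, 2, 3, 7, 0, 1, 2, 3, 4, 5, 6, 9, 7, 5, 3, 4, 1, 2, 3, 7, 8, 3, 4, 1,
    2, 3, 7, 0, 1, 2, 3, 4, 5, 6, 7, 2, 3, 4, 1, 2, 3, 7, 0, 1, 2, 3, 2, 1, 0, 2, 4, 3, 4, 2,
    3, 7, 5, 4, 3, 2, 0, 1, 0, 1, 0, 2, 3, 4, 5, 7, 3, 2, 4, 3, 7, 3, 7, 8, 2, 3, 7, 4, 3, 2,
    0, 1, 0, 1, 0, 2, 3, 4, 7, 3, 2, 8, 7, 3, 4, 5, 0, 1, 3, 2, 1, 4, 5, 7, 3, 2, 1, 4, 3, 2,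
    5, 8, 7, 6, 5, 4, 3, 2, 1, 0, 7, 3, 2, 1, 4, 3, 2, 5, 8, 7, 3, 2, 1, 0, 4, 3, 2, 5, 4, 3,
    6, 5, 4, 7, 3, 4, 5, 8, 9, 6, 5, 4, 3, 2, 1, 0, 7, 3, 2, 1, 4, 3, 2, 5, 6, 7, 8, 7, 3, 2,
    1, 4, 3, 2, 5, 4, 6, 5, 7, 3, 2, 4, 3, 8, 7, 3, 2, 1, 0, 4, 7, 2, 3, 4, 5, 6, 9, 8, 7, 4,
    5, 3, 4, 1, 2, 3, 7, 8, 5, 3, 4, 1, 2, 3, 7, 6, 5, 4, 3, 2, 1, 0, 1, 2, 3, 4, 5, 6, 7, 3,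
    2, 1, 4, 3, 5, 8, 7, 3, 2, 1, 4, 3, 5, 4, 7, 8, 9, 6, 5, 4, 3, 2, 7, 4, 3, 7, 0, 1, 2, 3,
    4, 5, 6, 9, 7, 8, 3, 7, 6, 4, 5, 2, 3, 4, 1, 2, 3, 7, 8, 5, 3, 4, 1, 2, 3, 7, 6, 5, 4, 3,
    2, 1, 0, 1, 2, 3, 4, 5, 6, 7, 3, 2, 1, 4, 3, 5, 8, 7, 3, 2, 1, 4, 3, 2, 5, 4, 6, 7, 3, 8,
    7, 9, 6, 5, 4, 3, 2, 1, 0, 7, 3, 4, 3, 7, 8, 2, 3, 7, 4, 3, 2, 0, 1, 0, 1, 0, 2, 3, 4, 7,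
    3, 2, 8, 7, 3, 7, 8, 4, 7, 3, 4, 5, 6, 9, 8, 3, 7, 6, 5, 2, 3, 4, 0, 1, 2, 3, 7, 8, 5, 2,
    3, 4, 1, 2, 3, 7, 6, 5, 4, 3, 2, 1, 0, 1, 2, 3, 4, 5, 6, 7, 3, 2, 1, 4, 3, 2, 5, 8, 7, 3,
    2, 1, 0, 4, 3, 2, 5, 6, 7, 3, 8, 9, 6, 5, 4, 3, 2, 3, 4, 5, 6, 9, 7, 2, 3, 4, 1, 2, 3, 7,
    8, 7, 4, 5, 3, 4, 1, 2, 3, 7, 6, 5, 4, 3, 2, 1, 0, 1, 2, 3, 4, 5, 6, 7, 3, 2, 1, 4, 3, 5,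
    4, 7, 8, 7, 3, 2, 1, 4, 3, 2, 7, 9, 6, 5, 4, 3, 2, 7, 5, 6, 9, 0, 1, 2, 3, 7, 8, 4, 5, 2,
    3, 4, 1, 2, 3, 7, 6, 5, 4, 3, 2, 1, 0, 1, 2, 3, 4, 5, 6, 7, 3, 2, 1, 4, 3, 2, 5, 4, 8, 7,
    3, 2, 1, 0, 9, 6, 5, 8, 7, 3, 4, 1, 2, 3, 7, 8, 7, 4, 5, 3, 4, 1, 2, 3, 7, 6, 5, 4, 3, 2,
    1, 0, 1, 2, 3, 4, 5, 6, 7, 3, 2, 1, 4, 3, 5, 4, 7, 8, 7, 3, 2, 1, 4, 3, 7, 8, 3, 7, 4, 3,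
    1, 2, 0, 1, 0, 1, 0, 2, 1, 3, 4, 7, 3, 5, 4, 3, 7, 1, 2, 3, 4, 5, 6, 9, 7, 8, 2, 3, 7, 4,
    5, 2, 3, 4, 1, 2, 3, 7, 8, 7, 5, 3, 4, 1, 2, 3, 7, 6, 5, 4, 3, 2, 1, 0, 1, 2, 3, 4, 5, 6,
    7, 3, 2, 1, 4, 3, 5, 7, 8, 7, 3, 2, 1, 4, 3, 2, 5, 4, 7, 3, 2, 8, 7, 9, 6, 5, 4, 3, 2, 1,
    7, 3, 4, 5, 9, 3, 7, 5, 6, 4, 5, 3, 4, 0, 1, 2, 3, 7, 8, 3, 4, 1, 2, 3, 7, 0, 1, 2, 3, 4,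
    5, 6, 9, 7, 8, 3, 4, 0, 1, 2, 3, 7, 4, 5, 6, 3, 4, 5, 2, 3, 4, 1, 2, 3, 7, 8, 3, 4, 1, 2,
    3, 7, 0, 1, 2, 3, 4, 5, 6, 5, 4, 0, 1, 2, 3, 7, 4, 0, 1, 2, 3, 1, 0, 2, 1, 8, 3, 4, 2, 3,
    7, 5, 4, 3, 2, 0, 1, 0, 1, 0, 2, 3, 4, 5, 7, 3, 2, 4, 3, 8, 3, 7, 8, 2, 3, 7, 4, 3, 2, 0,
    1, 0, 1, 0, 2, 3, 4, 7, 3, 2, 8, 7, 3, 5, 0, 1, 2, 3, 2, 1, 4, 3, 2, 5, 7, 3, 2, 1, 4, 3,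
    5, 4, 7, 3, 2, 8, 7, 3, 2, 4, 6, 5, 4, 3, 2, 1, 0, 7, 3, 2, 1, 4, 3, 5, 4, 8, 7, 3, 2, 1,
    0, 4, 3, 2, 5, 4, 6, 7, 3, 2, 1, 8, 9, 6, 5, 4, 3, 2, 1, 0, 7, 3, 2, 1, 4, 3, 5, 8, 7, 3,
    2, 1, 4, 3, 2, 5, 4, 3, 6, 5, 7, 3, 2, 4, 8, 7, 3, 9, 6, 5, 4, 1, 2, 3, 4, 5, 6, 9, 3, 7,
    4, 5, 3, 4, 0, 1, 2, 3, 7, 8, 5, 4, 1, 2, 3, 7, 6, 5, 4, 3, 2, 1, 0, 1, 2, 3, 4, 5, 6, 7,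
    3, 2, 1, 4, 5, 8, 7, 3, 2, 1, 0, 4, 3, 5, 4, 7, 3, 9, 6, 5, 4, 3, 2, 1, 5, 6, 9, 8, 7, 5,
    1, 2, 3, 4, 0, 1, 2, 3, 7, 8, 5, 2, 3, 4, 1, 2, 3, 7, 6, 5, 4, 3, 2, 1, 0, 1, 2, 3, 4, 5,
    6, 7, 3, 2, 1, 4, 3, 2, 5, 8, 7, 3, 2, 1, 0, 4, 3, 2, 1, 5, 7, 8, 7, 3, 4, 2, 3, 7, 8, 5,
    3, 4, 1, 2, 3, 7, 6, 5, 4, 3, 2, 1, 0, 1, 2, 3, 4, 5, 6, 7, 3, 2, 1, 4, 3, 5, 8, 7, 3, 2,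
    4, 3, 7, 9, 6, 5, 1, 8, 3, 4, 2, 3, 7, 5, 4, 3, 2, 0, 1, 0, 1, 0, 2, 3, 4, 5, 7, 3, 2, 4,
    3, 8, 3, 7, 8, 2, 3, 7, 4, 3, 2, 0, 1, 0, 1, 0, 2, 3, 4, 7, 3, 2, 8, 7, 3, 5, 0, 1, 2, 3,
    2, 1, 4, 3, 2, 5, 7, 3, 2, 1, 4, 3, 5, 4, 7, 3, 2, 8, 7, 3, 2, 4, 6, 5, 4, 3, 2, 1, 0, 7,
    3, 2, 1, 4, 3, 5, 4, 8, 7, 3, 2, 1, 0, 4, 3, 2, 5, 4, 6, 7, 3, 2, 1, 8, 9, 6, 5, 4, 3, 2,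
    1, 0, 7, 3, 2, 1, 4, 3, 5, 8, 7, 3, 2, 1, 4, 3, 2, 5, 4, 3, 6, 5, 7, 3, 2, 4, 8, 7, 3, 9,
    6, 5, 4, 1, 2, 3, 4, 5, 6, 9, 3, 7, 4, 5, 3, 4, 0, 1, 2, 3, 7, 8, 5, 4, 1, 2, 3, 7, 6, 5,
    4, 3, 2, 1, 0, 1, 2, 3, 4, 5, 6, 7, 3, 2, 1, 4, 5, 8, 7, 3, 2, 1, 0, 4, 3, 5, 4, 7, 3, 9,
    6, 5, 4, 3, 2, 1, 5, 6, 9, 8, 7, 5, 1, 2, 3, 4, 0, 1, 2, 3, 7, 8, 5, 2, 3, 4, 1, 2, 3, 7,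
    6, 5, 4, 3, 2, 1, 0, 1, 2, 3, 4, 5, 6, 7, 3, 2, 1, 4, 3, 2, 5, 8, 7, 3, 2, 1, 0, 4, 3, 2,
    1, 5, 7, 8, 7, 3, 4, 2, 3, 7, 8, 5, 3, 4, 1, 2, 3, 7, 6, 5, 4, 3, 2, 1, 0, 1, 2, 3, 4, 5,
    6, 7, 3, 2, 1, 4, 3, 5, 8, 7, 3, 2, 4, 3, 7, 9, 6, 5, 3, 7, 8, 4, 3, 7, 5, 4, 3, 2, 0, 1,
    0, 1, 0, 2, 3, 4, 5, 7, 3, 4, 8, 7, 3, 8, 4, 3, 7, 0, 1, 2, 3, 4, 5, 6, 9, 7, 8, 3, 7, 6,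
    4, 5, 2, 3, 4, 1, 2, 3, 7, 8, 5, 3, 4, 1, 2, 3, 7, 6, 5, 4, 3, 2, 1, 0, 1, 2, 3, 4, 5, 6,
    7, 3, 2, 1, 4, 3, 5, 8, 7, 3, 2, 1, 4, 3, 2, 5, 4, 6, 7, 3, 8, 7, 9, 6, 5, 4, 3, 2, 1, 0,
    7, 3, 4, 7, 2, 3, 4, 5, 6, 9, 8, 7, 4, 5, 3, 4, 1, 2, 3, 7, 8, 5, 3, 4, 1, 2, 3, 7, 6, 5,
    4, 3, 2, 1, 0, 1, 2, 3, 4, 5, 6, 7, 3, 2, 1, 4, 3, 5, 8, 7, 3, 2, 1, 4, 3, 5, 4, 7, 8, 9,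
    6, 5, 4, 3, 2, 7, 4, 0, 1, 2, 3, 7, 8, 3, 4, 2, 3, 7, 5, 6, 4, 5, 2, 3, 4, 1, 2, 3, 7, 8,
    7, 6, 5, 2, 3, 4, 1, 2, 3, 7, 0, 1, 2, 3, 4, 5, 6, 9, 8, 5, 4, 3, 7, 4, 5, 6, 3, 4, 5, 2,
    3, 4, 0, 1, 2, 3, 7, 8, 5, 2, 3, 4, 1, 2, 3, 7, 0, 1, 2, 3, 4, 5, 6, 7, 8, 5, 2, 3, 4, 1,
    2, 3, 7, 5, 4, 1, 2, 3, 1, 0, 5, 4, 3, 7, 8, 2, 3, 7, 4, 3, 2, 0, 1, 0, 1, 0, 2, 3, 4, 7,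
    3, 2, 8, 7, 3, 7, 3, 4, 2, 3, 7, 5, 4, 3, 2, 0, 1, 0, 1, 0, 2, 3, 4, 5, 7, 3, 2, 4, 3, 4,
    2, 5, 6, 9, 7, 3, 4, 2, 3, 7, 8, 5, 3, 4, 1, 2, 3, 7, 6, 5, 4, 3, 2, 1, 0, 1, 2, 3, 4, 5,
    6, 7, 3, 2, 1, 4, 3, 5, 8, 7, 3, 2, 4, 3, 7, 8, 7, 5, 1, 2, 3, 4, 0, 1, 2, 3, 7, 8, 5, 2,
    3, 4, 1, 2, 3, 7, 6, 5, 4, 3, 2, 1, 0, 1, 2, 3, 4, 5, 6, 7, 3, 2, 1, 4, 3, 2, 5, 8, 7, 3,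
    2, 1, 0, 4, 3, 2, 1, 5, 7, 8, 9, 6, 5, 1, 2, 3, 4, 5, 6, 9, 3, 7, 4, 5, 3, 4, 0, 1, 2, 3,
    7, 8, 5, 4, 1, 2, 3, 7, 6, 5, 4, 3, 2, 1, 0, 1, 2, 3, 4, 5, 6, 7, 3, 2, 1, 4, 5, 8, 7, 3,
    2, 1, 0, 4, 3, 5, 4, 7, 3, 9, 6, 5, 4, 3, 2, 1, 4, 5, 6, 9, 3, 7, 8, 4, 2, 3, 7, 5, 6, 3,
    4, 5, 2, 3, 4, 1, 2, 3, 7, 8, 5, 3, 4, 1, 2, 3, 7, 0, 1, 2, 3, 4, 5, 6, 9, 8, 1, 2, 3, 7,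
    6, 4, 5, 2, 3, 4, 0, 1, 2, 3, 7, 8, 4, 5, 3, 4, 1, 2, 3, 7, 0, 1, 2, 3, 4, 5, 6, 4, 2, 3,
    7, 8, 2, 3, 7, 4, 5, 3, 4, 1, 2, 3, 7, 5, 2, 3, 4, 1, 2, 3, 2, 1, 0, 5, 3, 7, 8, 2, 3, 7,
    4, 3, 2, 0, 1, 0, 1, 0, 2, 3, 4, 7, 3, 2, 8, 7, 3, 8, 3, 4, 2, 3, 7, 5, 4, 3, 2, 0, 1, 0,
    1, 0, 2, 3, 4, 5, 7, 3, 2, 4, 3, 8, 1, 2, 0, 1, 2, 3, 2, 1, 7, 3, 2, 4, 3, 5, 4, 7, 3, 2,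
    1, 0, 8, 6, 5, 4, 3, 2, 1, 0, 7, 3, 2, 1, 4, 3, 2, 5, 4, 6, 8, 7, 3, 2, 1, 4, 3, 7, 9, 6,
    5, 4, 3, 2, 1, 7, 3, 2, 4, 3, 5, 4, 6, 5, 7, 3, 4, 8, 7, 3, 9, 6, 5]

/-- A word carrying the element to another one of the Sylow group (3). -/
def car3 : List Nat :=
  [8, 3, 7, 0, 1, 2, 3, 4, 5, 6, 9, 3, 7, 8, 4, 3, 7, 4, 5, 2, 3, 4, 0, 1, 2, 3, 7, 8, 5, 2,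
    3, 4, 1, 2, 3, 7, 6, 5, 4, 3, 2, 1, 0, 1, 2, 3, 4, 5, 6, 7, 3, 2, 1, 4, 3, 2, 5, 8, 7, 3,
    2, 1, 0, 4, 3, 2, 5, 4, 7, 3, 4, 8, 7, 3, 9, 6, 5, 4, 3, 2, 1, 0, 7, 3, 8, 0, 1, 2, 3, 4,
    5, 6, 9, 3, 7, 8, 1, 2, 3, 7, 3, 4, 5, 2, 3, 4, 1, 2, 3, 7, 8, 4, 5, 3, 4, 1, 2, 3, 7, 6,
    5, 4, 3, 2, 1, 0, 1, 2, 3, 4, 5, 6, 7, 3, 2, 1, 4, 3, 5, 4, 8, 7, 3, 2, 1, 4, 3, 2, 5, 4,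
    3, 7, 3, 2, 1, 8, 7, 3, 9, 6, 5, 4, 3, 2, 1, 0, 1, 2, 3, 4, 5, 6, 9, 7, 8, 1, 2, 3, 7, 3,
    4, 5, 2, 3, 4, 1, 2, 3, 7, 8, 5, 3, 4, 1, 2, 3, 7, 6, 5, 4, 3, 2, 1, 0, 1, 2, 3, 4, 5, 6,
    7, 3, 2, 1, 4, 3, 5, 8, 7, 3, 2, 1, 4, 3, 2, 5, 4, 3, 7, 3, 2, 1, 8, 7, 9, 6, 5, 4, 3, 2,
    1, 9, 1, 2, 3, 7, 8, 5, 4, 3, 7, 5, 6, 3, 4, 5, 2, 3, 4, 1, 2, 3, 7, 8, 6, 5, 2, 3, 4, 1,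
    2, 3, 7, 0, 1, 2, 3, 4, 5, 6, 9, 3, 7, 8, 2, 3, 7, 6, 4, 5, 3, 4, 1, 2, 3, 7, 8, 5, 3, 4,
    1, 2, 3, 7, 0, 1, 2, 3, 4, 5, 6, 3, 4, 2, 3, 7, 8, 3, 4, 5, 2, 3, 4, 1, 2, 3, 7, 5, 2, 3,
    4, 1, 2, 3, 1, 0, 5, 4, 3, 7, 8, 2, 3, 7, 4, 3, 2, 0, 1, 0, 1, 0, 2, 3, 4, 7, 3, 2, 8, 7,
    3, 8, 4, 8, 3, 7, 0, 1, 2, 3, 4, 5, 6, 9, 3, 7, 8, 4, 3, 7, 4, 5, 2, 3, 4, 0, 1, 2, 3, 7,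
    8, 5, 2, 3, 4, 1, 2, 3, 7, 6, 5, 4, 3, 2, 1, 0, 1, 2, 3, 4, 5, 6, 7, 3, 2, 1, 4, 3, 2, 5,
    8, 7, 3, 2, 1, 0, 4, 3, 2, 5, 4, 7, 3, 4, 8, 7, 3, 9, 6, 5, 4, 3, 2, 1, 0, 7, 3, 8, 0, 1,
    2, 3, 4, 5, 6, 9, 3, 7, 8, 1, 2, 3, 7, 3, 4, 5, 2, 3, 4, 1, 2, 3, 7, 8, 4, 5, 3, 4, 1, 2,
    3, 7, 6, 5, 4, 3, 2, 1, 0, 1, 2, 3, 4, 5, 6, 7, 3, 2, 1, 4, 3, 5, 4, 8, 7, 3, 2, 1, 4, 3,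
    2, 5, 4, 3, 7, 3, 2, 1, 8, 7, 3, 9, 6, 5, 4, 3, 2, 1, 0, 1, 2, 3, 4, 5, 6, 9, 7, 8, 1, 2,
    3, 7, 3, 4, 5, 2, 3, 4, 1, 2, 3, 7, 8, 5, 3, 4, 1, 2, 3, 7, 6, 5, 4, 3, 2, 1, 0, 1, 2, 3,
    4, 5, 6, 7, 3, 2, 1, 4, 3, 5, 8, 7, 3, 2, 1, 4, 3, 2, 5, 4, 3, 7, 3, 2, 1, 8, 7, 9, 6, 5,
    4, 3, 2, 1, 9, 1, 2, 3, 7, 8, 5, 4, 3, 7, 5, 6, 3, 4, 5, 2, 3, 4, 1, 2, 3, 7, 8, 6, 5, 2,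
    3, 4, 1, 2, 3, 7, 0, 1, 2, 3, 4, 5, 6, 9, 3, 7, 8, 2, 3, 7, 6, 4, 5, 3, 4, 1, 2, 3, 7, 8,
    5, 3, 4, 1, 2, 3, 7, 0, 1, 2, 3, 4, 5, 6, 3, 4, 2, 3, 7, 8, 3, 4, 5, 2, 3, 4, 1, 2, 3, 7,
    5, 2, 3, 4, 1, 2, 3, 1, 0, 5, 4, 3, 7, 8, 2, 3, 7, 4, 3, 2, 0, 1, 0, 1, 0, 2, 3, 4, 7, 3,
    2, 8, 7, 3, 8, 4, 7, 4, 5, 3, 4, 1, 2, 3, 7, 8, 7, 4, 5, 3, 4, 1, 2, 3, 7, 6, 5, 4, 3, 2,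
    1, 0, 1, 2, 3, 4, 5, 6, 7, 3, 2, 1, 4, 3, 5, 4, 7, 8, 7, 3, 2, 1, 4, 3, 5, 4, 7, 8, 7, 3,
    4, 5, 6, 9, 3, 7, 8, 1, 2, 3, 7, 4, 5, 3, 4, 1, 2, 3, 7, 8, 4, 5, 3, 4, 1, 2, 3, 7, 6, 5,
    4, 3, 2, 1, 0, 1, 2, 3, 4, 5, 6, 7, 3, 2, 1, 4, 3, 5, 4, 8, 7, 3, 2, 1, 4, 3, 5, 4, 7, 3,
    2, 1, 8, 7, 3, 9, 6, 5, 4, 3, 2, 3, 4, 5, 6, 9, 3, 7, 8, 2, 3, 7, 4, 5, 2, 3, 4, 1, 2, 3,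
    7, 8, 4, 5, 3, 4, 1, 2, 3, 7, 6, 5, 4, 3, 2, 1, 0, 1, 2, 3, 4, 5, 6, 7, 3, 2, 1, 4, 3, 5,
    4, 8, 7, 3, 2, 1, 4, 3, 2, 5, 4, 7, 3, 2, 8, 7, 3, 9, 6, 5, 4, 3, 2, 7, 8, 6, 9, 1, 2, 3,
    7, 8, 7, 5, 3, 4, 1, 2, 3, 7, 6, 5, 4, 3, 2, 1, 0, 1, 2, 3, 4, 5, 6, 7, 3, 2, 1, 4, 3, 5,
    7, 8, 7, 3, 2, 1, 6, 4, 5, 3, 4, 2, 3, 7, 8, 7, 3, 4, 1, 2, 3, 7, 6, 5, 4, 3, 2, 1, 0, 1,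
    2, 3, 4, 5, 6, 7, 3, 2, 1, 4, 3, 7, 8, 7, 3, 2, 4, 3, 5, 4, 6, 9, 6, 7, 8, 3, 7, 5, 6, 4,
    5, 3, 4, 2, 3, 7, 8, 3, 4, 1, 2, 3, 7, 0, 1, 2, 3, 4, 5, 6, 9, 7, 5, 3, 4, 1, 2, 3, 7, 8,
    3, 4, 1, 2, 3, 7, 0, 1, 2, 3, 4, 5, 6, 7, 2, 3, 4, 1, 2, 3, 7, 0, 1, 2, 3, 2, 1, 0, 2, 4,
    3, 4, 2, 3, 7, 5, 4, 3, 2, 0, 1, 0, 1, 0, 2, 3, 4, 5, 7, 3, 2, 4, 3, 7, 3, 7, 8, 2, 3, 7,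
    4, 3, 2, 0, 1, 0, 1, 0, 2, 3, 4, 7, 3, 2, 8, 7, 3, 4, 5, 0, 1, 3, 2, 1, 4, 5, 7, 3, 2, 1,
    4, 3, 2, 5, 8, 7, 6, 5, 4, 3, 2, 1, 0, 7, 3, 2, 1, 4, 3, 2, 5, 8, 7, 3, 2, 1, 0, 4, 3, 2,
    5, 4, 3, 6, 5, 4, 7, 3, 4, 5, 8, 9, 6, 5, 4, 3, 2, 1, 0, 7, 3, 2, 1, 4, 3, 2, 5, 6, 7, 8,
    7, 3, 2, 1, 4, 3, 2, 5, 4, 6, 5, 7, 3, 2, 4, 3, 8, 7, 3, 2, 1, 0, 4, 7, 2, 3, 4, 5, 6, 9,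
    8, 7, 4, 5, 3, 4, 1, 2, 3, 7, 8, 5, 3, 4, 1, 2, 3, 7, 6, 5, 4, 3, 2, 1, 0, 1, 2, 3, 4, 5,
    6, 7, 3, 2, 1, 4, 3, 5, 8, 7, 3, 2, 1, 4, 3, 5, 4, 7, 8, 9, 6, 5, 4, 3, 2, 7, 4, 3, 7, 0,
    1, 2, 3, 4, 5, 6, 9, 7, 8, 3, 7, 6, 4, 5, 2, 3, 4, 1, 2, 3, 7, 8, 5, 3, 4, 1, 2, 3, 7, 6,
    5, 4, 3, 2, 1, 0, 1, 2, 3, 4, 5, 6, 7, 3, 2, 1, 4, 3, 5, 8, 7, 3, 2, 1, 4, 3, 2, 5, 4, 6,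
    7, 3, 8, 7, 9, 6, 5, 4, 3, 2, 1, 0, 7, 3, 4, 3, 7, 8, 2, 3, 7, 4, 3, 2, 0, 1, 0, 1, 0, 2,
    3, 4, 7, 3, 2, 8, 7, 3, 7, 8, 4, 7, 4, 5, 3, 4, 1, 2, 3, 7, 8, 7, 4, 5, 3, 4, 1, 2, 3, 7,
    6, 5, 4, 3, 2, 1, 0, 1, 2, 3, 4, 5, 6, 7, 3, 2, 1, 4, 3, 5, 4, 7, 8, 7, 3, 2, 1, 4, 3, 5,
    4, 7, 8, 7, 3, 4, 5, 6, 9, 3, 7, 8, 1, 2, 3, 7, 4, 5, 3, 4, 1, 2, 3, 7, 8, 4, 5, 3, 4, 1,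
    2, 3, 7, 6, 5, 4, 3, 2, 1, 0, 1, 2, 3, 4, 5, 6, 7, 3, 2, 1, 4, 3, 5, 4, 8, 7, 3, 2, 1, 4,
    3, 5, 4, 7, 3, 2, 1, 8, 7, 3, 9, 6, 5, 4, 3, 2, 3, 4, 5, 6, 9, 3, 7, 8, 2, 3, 7, 4, 5, 2,
    3, 4, 1, 2, 3, 7, 8, 4, 5, 3, 4, 1, 2, 3, 7, 6, 5, 4, 3, 2, 1, 0, 1, 2, 3, 4, 5, 6, 7, 3,
    2, 1, 4, 3, 5, 4, 8, 7, 3, 2, 1, 4, 3, 2, 5, 4, 7, 3, 2, 8, 7, 3, 9, 6, 5, 4, 3, 2, 7, 8,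
    6, 9, 1, 2, 3, 7, 8, 7, 5, 3, 4, 1, 2, 3, 7, 6, 5, 4, 3, 2, 1, 0, 1, 2, 3, 4, 5, 6, 7, 3,
    2, 1, 4, 3, 5, 7, 8, 7, 3, 2, 1, 6, 4, 5, 3, 4, 2, 3, 7, 8, 7, 3, 4, 1, 2, 3, 7, 6, 5, 4,
    3, 2, 1, 0, 1, 2, 3, 4, 5, 6, 7, 3, 2, 1, 4, 3, 7, 8, 7, 3, 2, 4, 3, 5, 4, 6, 9, 6, 7, 8,
    3, 7, 5, 6, 4, 5, 3, 4, 2, 3, 7, 8, 3, 4, 1, 2, 3, 7, 0, 1, 2, 3, 4, 5, 6, 9, 7, 5, 3, 4,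
    1, 2, 3, 7, 8, 3, 4, 1, 2, 3, 7, 0, 1, 2, 3, 4, 5, 6, 7, 2, 3, 4, 1, 2, 3, 7, 0, 1, 2, 3,
    2, 1, 0, 2, 4, 3, 4, 2, 3, 7, 5, 4, 3, 2, 0, 1, 0, 1, 0, 2, 3, 4, 5, 7, 3, 2, 4, 3, 7, 3,
    7, 8, 2, 3, 7, 4, 3, 2, 0, 1, 0, 1, 0, 2, 3, 4, 7, 3, 2, 8, 7, 3, 4, 5, 0, 1, 3, 2, 1, 4,
    5, 7, 3, 2, 1, 4, 3, 2, 5, 8, 7, 6, 5, 4, 3, 2, 1, 0, 7, 3, 2, 1, 4, 3, 2, 5, 8, 7, 3, 2,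
    1, 0, 4, 3, 2, 5, 4, 3, 6, 5, 4, 7, 3, 4, 5, 8, 9, 6, 5, 4, 3, 2, 1, 0, 7, 3, 2, 1, 4, 3,
    2, 5, 6, 7, 8, 7, 3, 2, 1, 4, 3, 2, 5, 4, 6, 5, 7, 3, 2, 4, 3, 8, 7, 3, 2, 1, 0, 4, 7, 2,
    3, 4, 5, 6, 9, 8, 7, 4, 5, 3, 4, 1, 2, 3, 7, 8, 5, 3, 4, 1, 2, 3, 7, 6, 5, 4, 3, 2, 1, 0,
    1, 2, 3, 4, 5, 6, 7, 3, 2, 1, 4, 3, 5, 8, 7, 3, 2, 1, 4, 3, 5, 4, 7, 8, 9, 6, 5, 4, 3, 2,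
    7, 4, 3, 7, 0, 1, 2, 3, 4, 5, 6, 9, 7, 8, 3, 7, 6, 4, 5, 2, 3, 4, 1, 2, 3, 7, 8, 5, 3, 4,
    1, 2, 3, 7, 6, 5, 4, 3, 2, 1, 0, 1, 2, 3, 4, 5, 6, 7, 3, 2, 1, 4, 3, 5, 8, 7, 3, 2, 1, 4,
    3, 2, 5, 4, 6, 7, 3, 8, 7, 9, 6, 5, 4, 3, 2, 1, 0, 7, 3, 4, 3, 7, 8, 2, 3, 7, 4, 3, 2, 0,
    1, 0, 1, 0, 2, 3, 4, 7, 3, 2, 8, 7, 3, 7, 8, 4, 7, 3, 4, 5, 6, 9, 8, 3, 7, 6, 5, 2, 3, 4,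
    0, 1, 2, 3, 7, 8, 5, 2, 3, 4, 1, 2, 3, 7, 6, 5, 4, 3, 2, 1, 0, 1, 2, 3, 4, 5, 6, 7, 3, 2,
    1, 4, 3, 2, 5, 8, 7, 3, 2, 1, 0, 4, 3, 2, 5, 6, 7, 3, 8, 9, 6, 5, 4, 3, 2, 3, 4, 5, 6, 9,
    7, 2, 3, 4, 1, 2, 3, 7, 8, 7, 4, 5, 3, 4, 1, 2, 3, 7, 6, 5, 4, 3, 2, 1, 0, 1, 2, 3, 4, 5,
    6, 7, 3, 2, 1, 4, 3, 5, 4, 7, 8, 7, 3, 2, 1, 4, 3, 2, 7, 9, 6, 5, 4, 3, 2, 7, 5, 6, 9, 0,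
    1, 2, 3, 7, 8, 4, 5, 2, 3, 4, 1, 2, 3, 7, 6, 5, 4, 3, 2, 1, 0, 1, 2, 3, 4, 5, 6, 7, 3, 2,
    1, 4, 3, 2, 5, 4, 8, 7, 3, 2, 1, 0, 9, 6, 5, 8, 7, 3, 4, 1, 2, 3, 7, 8, 7, 4, 5, 3, 4, 1,
    2, 3, 7, 6, 5, 4, 3, 2, 1, 0, 1, 2, 3, 4, 5, 6, 7, 3, 2, 1, 4, 3, 5, 4, 7, 8, 7, 3, 2, 1,
    4, 3, 7, 8, 3, 7, 4, 3, 1, 2, 0, 1, 0, 1, 0, 2, 1, 3, 4, 7, 3, 5, 4, 3, 7, 1, 2, 3, 4, 5,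
    6, 9, 7, 8, 2, 3, 7, 4, 5, 2, 3, 4, 1, 2, 3, 7, 8, 7, 5, 3, 4, 1, 2, 3, 7, 6, 5, 4, 3, 2,
    1, 0, 1, 2, 3, 4, 5, 6, 7, 3, 2, 1, 4, 3, 5, 7, 8, 7, 3, 2, 1, 4, 3, 2, 5, 4, 7, 3, 2, 8,
    7, 9, 6, 5, 4, 3, 2, 1, 7, 3, 4, 5, 9, 3, 7, 5, 6, 4, 5, 3, 4, 0, 1, 2, 3, 7, 8, 3, 4, 1,
    2, 3, 7, 0, 1, 2, 3, 4, 5, 6, 9, 7, 8, 3, 4, 0, 1, 2, 3, 7, 4, 5, 6, 3, 4, 5, 2, 3, 4, 1,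
    2, 3, 7, 8, 3, 4, 1, 2, 3, 7, 0, 1, 2, 3, 4, 5, 6, 5, 4, 0, 1, 2, 3, 7, 4, 0, 1, 2, 3, 1,
    0, 2, 1, 8, 3, 4, 2, 3, 7, 5, 4, 3, 2, 0, 1, 0, 1, 0, 2, 3, 4, 5, 7, 3, 2, 4, 3, 8, 3, 7,
    8, 2, 3, 7, 4, 3, 2, 0, 1, 0, 1, 0, 2, 3, 4, 7, 3, 2, 8, 7, 3, 5, 0, 1, 2, 3, 2, 1, 4, 3,
    2, 5, 7, 3, 2, 1, 4, 3, 5, 4, 7, 3, 2, 8, 7, 3, 2, 4, 6, 5, 4, 3, 2, 1, 0, 7, 3, 2, 1, 4,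
    3, 5, 4, 8, 7, 3, 2, 1, 0, 4, 3, 2, 5, 4, 6, 7, 3, 2, 1, 8, 9, 6, 5, 4, 3, 2, 1, 0, 7, 3,
    2, 1, 4, 3, 5, 8, 7, 3, 2, 1, 4, 3, 2, 5, 4, 3, 6, 5, 7, 3, 2, 4, 8, 7, 3, 9, 6, 5, 4, 1,
    2, 3, 4, 5, 6, 9, 3, 7, 4, 5, 3, 4, 0, 1, 2, 3, 7, 8, 5, 4, 1, 2, 3, 7, 6, 5, 4, 3, 2, 1,
    0, 1, 2, 3, 4, 5, 6, 7, 3, 2, 1, 4, 5, 8, 7, 3, 2, 1, 0, 4, 3, 5, 4, 7, 3, 9, 6, 5, 4, 3,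
    2, 1, 5, 6, 9, 8, 7, 5, 1, 2, 3, 4, 0, 1, 2, 3, 7, 8, 5, 2, 3, 4, 1, 2, 3, 7, 6, 5, 4, 3,
    2, 1, 0, 1, 2, 3, 4, 5, 6, 7, 3, 2, 1, 4, 3, 2, 5, 8, 7, 3, 2, 1, 0, 4, 3, 2, 1, 5, 7, 8,
    7, 3, 4, 2, 3, 7, 8, 5, 3, 4, 1, 2, 3, 7, 6, 5, 4, 3, 2, 1, 0, 1, 2, 3, 4, 5, 6, 7, 3, 2,
    1, 4, 3, 5, 8, 7, 3, 2, 4, 3, 7, 9, 6, 5, 1, 8, 3, 4, 2, 3, 7, 5, 4, 3, 2, 0, 1, 0, 1, 0,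
    2, 3, 4, 5, 7, 3, 2, 4, 3, 8, 3, 7, 8, 2, 3, 7, 4, 3, 2, 0, 1, 0, 1, 0, 2, 3, 4, 7, 3, 2,
    8, 7, 3, 5, 0, 1, 2, 3, 2, 1, 4, 3, 2, 5, 7, 3, 2, 1, 4, 3, 5, 4, 7, 3, 2, 8, 7, 3, 2, 4,
    6, 5, 4, 3, 2, 1, 0, 7, 3, 2, 1, 4, 3, 5, 4, 8, 7, 3, 2, 1, 0, 4, 3, 2, 5, 4, 6, 7, 3, 2,
    1, 8, 9, 6, 5, 4, 3, 2, 1, 0, 7, 3, 2, 1, 4, 3, 5, 8, 7, 3, 2, 1, 4, 3, 2, 5, 4, 3, 6, 5,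
    7, 3, 2, 4, 8, 7, 3, 9, 6, 5, 4, 1, 2, 3, 4, 5, 6, 9, 3, 7, 4, 5, 3, 4, 0, 1, 2, 3, 7, 8,
    5, 4, 1, 2, 3, 7, 6, 5, 4, 3, 2, 1, 0, 1, 2, 3, 4, 5, 6, 7, 3, 2, 1, 4, 5, 8, 7, 3, 2, 1,
    0, 4, 3, 5, 4, 7, 3, 9, 6, 5, 4, 3, 2, 1, 5, 6, 9, 8, 7, 5, 1, 2, 3, 4, 0, 1, 2, 3, 7, 8,
    5, 2, 3, 4, 1, 2, 3, 7, 6, 5, 4, 3, 2, 1, 0, 1, 2, 3, 4, 5, 6, 7, 3, 2, 1, 4, 3, 2, 5, 8,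
    7, 3, 2, 1, 0, 4, 3, 2, 1, 5, 7, 8, 7, 3, 4, 2, 3, 7, 8, 5, 3, 4, 1, 2, 3, 7, 6, 5, 4, 3,
    2, 1, 0, 1, 2, 3, 4, 5, 6, 7, 3, 2, 1, 4, 3, 5, 8, 7, 3, 2, 4, 3, 7, 9, 6, 5, 3, 7, 8, 4,
    3, 7, 5, 4, 3, 2, 0, 1, 0, 1, 0, 2, 3, 4, 5, 7, 3, 4, 8, 7, 3, 2, 7, 3, 4, 2, 3, 7, 5, 4,
    3, 2, 0, 1, 0, 1, 0, 2, 3, 4, 5, 7, 3, 2, 4, 3, 5, 6, 9, 7, 3, 4, 2, 3, 7, 8, 5, 3, 4, 1,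
    2, 3, 7, 6, 5, 4, 3, 2, 1, 0, 1, 2, 3, 4, 5, 6, 7, 3, 2, 1, 4, 3, 5, 8, 7, 3, 2, 4, 3, 7,
    8, 7, 5, 1, 2, 3, 4, 0, 1, 2, 3, 7, 8, 5, 2, 3, 4, 1, 2, 3, 7, 6, 5, 4, 3, 2, 1, 0, 1, 2,
    3, 4, 5, 6, 7, 3, 2, 1, 4, 3, 2, 5, 8, 7, 3, 2, 1, 0, 4, 3, 2, 1, 5, 7, 8, 9, 6, 5, 1, 2,
    3, 4, 5, 6, 9, 3, 7, 4, 5, 3, 4, 0, 1, 2, 3, 7, 8, 5, 4, 1, 2, 3, 7, 6, 5, 4, 3, 2, 1, 0,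
    1, 2, 3, 4, 5, 6, 7, 3, 2, 1, 4, 5, 8, 7, 3, 2, 1, 0, 4, 3, 5, 4, 7, 3, 9, 6, 5, 4, 3, 2,
    1, 4, 5, 6, 9, 3, 7, 8, 4, 2, 3, 7, 5, 6, 3, 4, 5, 2, 3, 4, 1, 2, 3, 7, 8, 5, 3, 4, 1, 2,
    3, 7, 0, 1, 2, 3, 4, 5, 6, 9, 8, 1, 2, 3, 7, 6, 4, 5, 2, 3, 4, 0, 1, 2, 3, 7, 8, 4, 5, 3,
    4, 1, 2, 3, 7, 0, 1, 2, 3, 4, 5, 6, 4, 2, 3, 7, 8, 2, 3, 7, 4, 5, 3, 4, 1, 2, 3, 7, 5, 2,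
    3, 4, 1, 2, 3, 2, 1, 0, 5, 3, 7, 8, 2, 3, 7, 4, 3, 2, 0, 1, 0, 1, 0, 2, 3, 4, 7, 3, 2, 8,
    7, 3, 8, 3, 4, 2, 3, 7, 5, 4, 3, 2, 0, 1, 0, 1, 0, 2, 3, 4, 5, 7, 3, 2, 4, 3, 8, 1, 2, 5,
    6, 9, 7, 3, 4, 2, 3, 7, 8, 5, 3, 4, 1, 2, 3, 7, 6, 5, 4, 3, 2, 1, 0, 1, 2, 3, 4, 5, 6, 7,
    3, 2, 1, 4, 3, 5, 8, 7, 3, 2, 4, 3, 7, 8, 7, 5, 1, 2, 3, 4, 0, 1, 2, 3, 7, 8, 5, 2, 3, 4,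
    1, 2, 3, 7, 6, 5, 4, 3, 2, 1, 0, 1, 2, 3, 4, 5, 6, 7, 3, 2, 1, 4, 3, 2, 5, 8, 7, 3, 2, 1,
    0, 4, 3, 2, 1, 5, 7, 8, 9, 6, 5, 1, 2, 3, 4, 5, 6, 9, 3, 7, 4, 5, 3, 4, 0, 1, 2, 3, 7, 8,
    5, 4, 1, 2, 3, 7, 6, 5, 4, 3, 2, 1, 0, 1, 2, 3, 4, 5, 6, 7, 3, 2, 1, 4, 5, 8, 7, 3, 2, 1,
    0, 4, 3, 5, 4, 7, 3, 9, 6, 5, 4, 3, 2, 1, 4, 5, 6, 9, 3, 7, 8, 4, 2, 3, 7, 5, 6, 3, 4, 5,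
    2, 3, 4, 1, 2, 3, 7, 8, 5, 3, 4, 1, 2, 3, 7, 0, 1, 2, 3, 4, 5, 6, 9, 8, 1, 2, 3, 7, 6, 4,
    5, 2, 3, 4, 0, 1, 2, 3, 7, 8, 4, 5, 3, 4, 1, 2, 3, 7, 0, 1, 2, 3, 4, 5, 6, 4, 2, 3, 7, 8,
    2, 3, 7, 4, 5, 3, 4, 1, 2, 3, 7, 5, 2, 3, 4, 1, 2, 3, 2, 1, 0, 5, 3, 7, 8, 2, 3, 7, 4, 3,
    2, 0, 1, 0, 1, 0, 2, 3, 4, 7, 3, 2, 8, 7, 3, 8, 3, 4, 2, 3, 7, 5, 4, 3, 2, 0, 1, 0, 1, 0,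
    2, 3, 4, 5, 7, 3, 2, 4, 3, 8, 1, 2, 0, 1, 2, 3, 2, 1, 0, 4, 3, 5, 7, 3, 2, 1, 4, 3, 5, 4,
    8, 7, 3, 2, 1, 0, 4, 3, 5, 7, 6, 5, 4, 3, 2, 1, 0, 7, 3, 2, 1, 4, 3, 2, 5, 4, 8, 7, 3, 2,
    1, 4, 3, 9, 6, 5, 4, 3, 2, 1, 7, 3, 2, 4, 3, 5, 4, 6, 5, 7, 3, 4, 8, 7, 3, 9, 6, 5]

/-- A word carrying the element to another one of the Sylow group (4). -/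
def car4 : List Nat :=
  [8, 3, 7, 0, 1, 2, 3, 4, 5, 6, 9, 3, 7, 8, 4, 3, 7, 4, 5, 2, 3, 4, 0, 1, 2, 3, 7, 8, 5, 2,
    3, 4, 1, 2, 3, 7, 6, 5, 4, 3, 2, 1, 0, 1, 2, 3, 4, 5, 6, 7, 3, 2, 1, 4, 3, 2, 5, 8, 7, 3,
    2, 1, 0, 4, 3, 2, 5, 4, 7, 3, 4, 8, 7, 3, 9, 6, 5, 4, 3, 2, 1, 0, 7, 3, 8, 0, 1, 2, 3, 4,
    5, 6, 9, 3, 7, 8, 1, 2, 3, 7, 3, 4, 5, 2, 3, 4, 1, 2, 3, 7, 8, 4, 5, 3, 4, 1, 2, 3, 7, 6,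
    5, 4, 3, 2, 1, 0, 1, 2, 3, 4, 5, 6, 7, 3, 2, 1, 4, 3, 5, 4, 8, 7, 3, 2, 1, 4, 3, 2, 5, 4,
    3, 7, 3, 2, 1, 8, 7, 3, 9, 6, 5, 4, 3, 2, 1, 0, 1, 2, 3, 4, 5, 6, 9, 7, 8, 1, 2, 3, 7, 3,
    4, 5, 2, 3, 4, 1, 2, 3, 7, 8, 5, 3, 4, 1, 2, 3, 7, 6, 5, 4, 3, 2, 1, 0, 1, 2, 3, 4, 5, 6,
    7, 3, 2, 1, 4, 3, 5, 8, 7, 3, 2, 1, 4, 3, 2, 5, 4, 3, 7, 3, 2, 1, 8, 7, 9, 6, 5, 4, 3, 2,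
    1, 9, 1, 2, 3, 7, 8, 5, 4, 3, 7, 5, 6, 3, 4, 5, 2, 3, 4, 1, 2, 3, 7, 8, 6, 5, 2, 3, 4, 1,
    2, 3, 7, 0, 1, 2, 3, 4, 5, 6, 9, 3, 7, 8, 2, 3, 7, 6, 4, 5, 3, 4, 1, 2, 3, 7, 8, 5, 3, 4,
    1, 2, 3, 7, 0, 1, 2, 3, 4, 5, 6, 3, 4, 2, 3, 7, 8, 3, 4, 5, 2, 3, 4, 1, 2, 3, 7, 5, 2, 3,
    4, 1, 2, 3, 1, 0, 5, 4, 3, 7, 8, 2, 3, 7, 4, 3, 2, 0, 1, 0, 1, 0, 2, 3, 4, 7, 3, 2, 8, 7,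
    3, 8, 4, 7, 4, 5, 3, 4, 1, 2, 3, 7, 8, 7, 4, 5, 3, 4, 1, 2, 3, 7, 6, 5, 4, 3, 2, 1, 0, 1,
    2, 3, 4, 5, 6, 7, 3, 2, 1, 4, 3, 5, 4, 7, 8, 7, 3, 2, 1, 4, 3, 5, 4, 7, 8, 7, 3, 4, 5, 6,
    9, 3, 7, 8, 1, 2, 3, 7, 4, 5, 3, 4, 1, 2, 3, 7, 8, 4, 5, 3, 4, 1, 2, 3, 7, 6, 5, 4, 3, 2,
    1, 0, 1, 2, 3, 4, 5, 6, 7, 3, 2, 1, 4, 3, 5, 4, 8, 7, 3, 2, 1, 4, 3, 5, 4, 7, 3, 2, 1, 8,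
    7, 3, 9, 6, 5, 4, 3, 2, 3, 4, 5, 6, 9, 3, 7, 8, 2, 3, 7, 4, 5, 2, 3, 4, 1, 2, 3, 7, 8, 4,
    5, 3, 4, 1, 2, 3, 7, 6, 5, 4, 3, 2, 1, 0, 1, 2, 3, 4, 5, 6, 7, 3, 2, 1, 4, 3, 5, 4, 8, 7,
    3, 2, 1, 4, 3, 2, 5, 4, 7, 3, 2, 8, 7, 3, 9, 6, 5, 4, 3, 2, 7, 8, 6, 9, 1, 2, 3, 7, 8, 7,
    5, 3, 4, 1, 2, 3, 7, 6, 5, 4, 3, 2, 1, 0, 1, 2, 3, 4, 5, 6, 7, 3, 2, 1, 4, 3, 5, 7, 8, 7,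
    3, 2, 1, 6, 4, 5, 3, 4, 2, 3, 7, 8, 7, 3, 4, 1, 2, 3, 7, 6, 5, 4, 3, 2, 1, 0, 1, 2, 3, 4,
    5, 6, 7, 3, 2, 1, 4, 3, 7, 8, 7, 3, 2, 4, 3, 5, 4, 6, 9, 6, 7, 8, 3, 7, 5, 6, 4, 5, 3, 4,
    2, 3, 7, 8, 3, 4, 1, 2, 3, 7, 0, 1, 2, 3, 4, 5, 6, 9, 7, 5, 3, 4, 1, 2, 3, 7, 8, 3, 4, 1,
    2, 3, 7, 0, 1, 2, 3, 4, 5, 6, 7, 2, 3, 4, 1, 2, 3, 7, 0, 1, 2, 3, 2, 1, 0, 2, 4, 3, 4, 2,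
    3, 7, 5, 4, 3, 2, 0, 1, 0, 1, 0, 2, 3, 4, 5, 7, 3, 2, 4, 3, 7, 3, 7, 8, 2, 3, 7, 4, 3, 2,
    0, 1, 0, 1, 0, 2, 3, 4, 7, 3, 2, 8, 7, 3, 4, 5, 0, 1, 3, 2, 1, 4, 5, 7, 3, 2, 1, 4, 3, 2,
    5, 8, 7, 6, 5, 4, 3, 2, 1, 0, 7, 3, 2, 1, 4, 3, 2, 5, 8, 7, 3, 2, 1, 0, 4, 3, 2, 5, 4, 3,
    6, 5, 4, 7, 3, 4, 5, 8, 9, 6, 5, 4, 3, 2, 1, 0, 7, 3, 2, 1, 4, 3, 2, 5, 6, 7, 8, 7, 3, 2,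
    1, 4, 3, 2, 5, 4, 6, 5, 7, 3, 2, 4, 3, 8, 7, 3, 2, 1, 0, 4, 7, 2, 3, 4, 5, 6, 9, 8, 7, 4,
    5, 3, 4, 1, 2, 3, 7, 8, 5, 3, 4, 1, 2, 3, 7, 6, 5, 4, 3, 2, 1, 0, 1, 2, 3, 4, 5, 6, 7, 3,
    2, 1, 4, 3, 5, 8, 7, 3, 2, 1, 4, 3, 5, 4, 7, 8, 9, 6, 5, 4, 3, 2, 7, 4, 3, 7, 0, 1, 2, 3,
    4, 5, 6, 9, 7, 8, 3, 7, 6, 4, 5, 2, 3, 4, 1, 2, 3, 7, 8, 5, 3, 4, 1, 2, 3, 7, 6, 5, 4, 3,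
    2, 1, 0, 1, 2, 3, 4, 5, 6, 7, 3, 2, 1, 4, 3, 5, 8, 7, 3, 2, 1, 4, 3, 2, 5, 4, 6, 7, 3, 8,
    7, 9, 6, 5, 4, 3, 2, 1, 0, 7, 3, 4, 3, 7, 8, 2, 3, 7, 4, 3, 2, 0, 1, 0, 1, 0, 2, 3, 4, 7,
    3, 2, 8, 7, 3, 7, 8, 4, 7, 4, 5, 3, 4, 1, 2, 3, 7, 8, 7, 4, 5, 3, 4, 1, 2, 3, 7, 6, 5, 4,
    3, 2, 1, 0, 1, 2, 3, 4, 5, 6, 7, 3, 2, 1, 4, 3, 5, 4, 7, 8, 7, 3, 2, 1, 4, 3, 5, 4, 7, 8,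
    7, 3, 4, 5, 6, 9, 3, 7, 8, 1, 2, 3, 7, 4, 5, 3, 4, 1, 2, 3, 7, 8, 4, 5, 3, 4, 1, 2, 3, 7,
    6, 5, 4, 3, 2, 1, 0, 1, 2, 3, 4, 5, 6, 7, 3, 2, 1, 4, 3, 5, 4, 8, 7, 3, 2, 1, 4, 3, 5, 4,
    7, 3, 2, 1, 8, 7, 3, 9, 6, 5, 4, 3, 2, 3, 4, 5, 6, 9, 3, 7, 8, 2, 3, 7, 4, 5, 2, 3, 4, 1,
    2, 3, 7, 8, 4, 5, 3, 4, 1, 2, 3, 7, 6, 5, 4, 3, 2, 1, 0, 1, 2, 3, 4, 5, 6, 7, 3, 2, 1, 4,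
    3, 5, 4, 8, 7, 3, 2, 1, 4, 3, 2, 5, 4, 7, 3, 2, 8, 7, 3, 9, 6, 5, 4, 3, 2, 7, 8, 6, 9, 1,
    2, 3, 7, 8, 7, 5, 3, 4, 1, 2, 3, 7, 6, 5, 4, 3, 2, 1, 0, 1, 2, 3, 4, 5, 6, 7, 3, 2, 1, 4,
    3, 5, 7, 8, 7, 3, 2, 1, 6, 4, 5, 3, 4, 2, 3, 7, 8, 7, 3, 4, 1, 2, 3, 7, 6, 5, 4, 3, 2, 1,
    0, 1, 2, 3, 4, 5, 6, 7, 3, 2, 1, 4, 3, 7, 8, 7, 3, 2, 4, 3, 5, 4, 6, 9, 6, 7, 8, 3, 7, 5,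
    6, 4, 5, 3, 4, 2, 3, 7, 8, 3, 4, 1, 2, 3, 7, 0, 1, 2, 3, 4, 5, 6, 9, 7, 5, 3, 4, 1, 2, 3,
    7, 8, 3, 4, 1, 2, 3, 7, 0, 1, 2, 3, 4, 5, 6, 7, 2, 3, 4, 1, 2, 3, 7, 0, 1, 2, 3, 2, 1, 0,
    2, 4, 3, 4, 2, 3, 7, 5, 4, 3, 2, 0, 1, 0, 1, 0, 2, 3, 4, 5, 7, 3, 2, 4, 3, 7, 3, 7, 8, 2,
    3, 7, 4, 3, 2, 0, 1, 0, 1, 0, 2, 3, 4, 7, 3, 2, 8, 7, 3, 4, 5, 0, 1, 3, 2, 1, 4, 5, 7, 3,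
    2, 1, 4, 3, 2, 5, 8, 7, 6, 5, 4, 3, 2, 1, 0, 7, 3, 2, 1, 4, 3, 2, 5, 8, 7, 3, 2, 1, 0, 4,
    3, 2, 5, 4, 3, 6, 5, 4, 7, 3, 4, 5, 8, 9, 6, 5, 4, 3, 2, 1, 0, 7, 3, 2, 1, 4, 3, 2, 5, 6,
    7, 8, 7, 3, 2, 1, 4, 3, 2, 5, 4, 6, 5, 7, 3, 2, 4, 3, 8, 7, 3, 2, 1, 0, 4, 7, 2, 3, 4, 5,
    6, 9, 8, 7, 4, 5, 3, 4, 1, 2, 3, 7, 8, 5, 3, 4, 1, 2, 3, 7, 6, 5, 4, 3, 2, 1, 0, 1, 2, 3,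
    4, 5, 6, 7, 3, 2, 1, 4, 3, 5, 8, 7, 3, 2, 1, 4, 3, 5, 4, 7, 8, 9, 6, 5, 4, 3, 2, 7, 4, 3,
    7, 0, 1, 2, 3, 4, 5, 6, 9, 7, 8, 3, 7, 6, 4, 5, 2, 3, 4, 1, 2, 3, 7, 8, 5, 3, 4, 1, 2, 3,
    7, 6, 5, 4, 3, 2, 1, 0, 1, 2, 3, 4, 5, 6, 7, 3, 2, 1, 4, 3, 5, 8, 7, 3, 2, 1, 4, 3, 2, 5,
    4, 6, 7, 3, 8, 7, 9, 6, 5, 4, 3, 2, 1, 0, 7, 3, 4, 3, 7, 8, 2, 3, 7, 4, 3, 2, 0, 1, 0, 1,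
    0, 2, 3, 4, 7, 3, 2, 8, 7, 3, 7, 8, 4, 1, 4, 8, 0, 1, 2, 3, 2, 1, 0, 4, 3, 5, 4, 7, 3, 2,
    4, 3, 5, 4, 7, 3, 8, 7, 3, 2, 1, 0, 4, 5, 6, 5, 4, 3, 2, 1, 0, 7, 3, 2, 1, 4, 3, 2, 5, 6,
    7, 8, 7, 3, 2, 1, 4, 3, 2, 5, 4, 6, 5, 7, 9, 6, 5, 4, 3, 2, 1, 7, 3, 2, 4, 3, 5, 4, 6, 5,
    7, 3, 4, 8, 7, 3, 9, 6, 5]

end Cfsg.Agent.Fi23Local.P5
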