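import Cfsg.Agent.Lib.Fi23Local.Classify
import Cfsg.Agent.Lib.Fi23Local.Data5

/-! The certificate of the element of order 5 of the presented Fi23. -/

set_option autoImplicit false
set_option maxRecDepth 100000
set_option Elab.async false

namespace Cfsg.Agent.Fi23Local.P5

open Cfsg.Agent.CosetCert

/-- The certificate. -/
noncomputable def R : Rigid where
  m := 5
  ms := 5
  xw := xw
  fixs := fixs
  chI := chI
  reps := reps
  q0 := q0
  kb := 0
  steps := steps
  tgt := tgt
  inn := inn

theorem base_ok : R.baseOK = true := by decide +kernel

theorem inn_ok : R.inn.all R.innOK = true := by decide +kernel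

theorem one_ok : R.oneOK = true := by decide +kernel

theorem bad_ok : R.badOK = true := by decide +kernel

theorem valid : R.Valid := ⟨base_ok, inn_ok, one_ok, bad_ok⟩

end Cfsg.Agent.Fi23Local.P5
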