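import Cfsg.Agent.Lib.Fi23Local.Basic

/-!
A certificate listing the elements of the presented Fi23 that conjugate an element `x` to itself, or to one
further power, and fix given fixed cosets of `x`.
-/

set_option autoImplicit false
set_option maxRecDepth 100000

namespace Cfsg.Agent.Fi23Local

open Cfsg.Agent.CosetCert
open Cfsg.Agent.CosetData
open Cfsg.Agent.FischerPresented
open Cfsg.Agent.FischerPresented.Out23 (gpt)

/-- Data: a word of order `m`, the fixed cosets, the pinned ones among them, a name for every cycle, the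
seeds' cycle, derivation steps reaching the base, refutations for the exponents `1` and `kb`, and the
realised cases `(cycle, shift, fixed cosets)` of exponent one. -/
structure Rigid where
  m : ℕ
  ms : ℕ
  xw : List ℕ
  fixs : List (ℕ × List ℕ)
  chI : List ℕ
  reps : List ((ℕ × List ℕ) × ℕ × ℕ)
  q0 : ℕ × List ℕ
  kb : ℕ
  steps : List (ℕ × ℕ)
  tgt : List ℕ
  inn : List ((ℕ × List ℕ) × ℕ × List ℕ)

namespace Rigid

variable (R : Rigid)

/-- The element. -/
noncomputable def x : GG := el R.xw

/-- The default name. -/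
def dflt : ℕ × List ℕ := (0, [])

/-- The name of a fixed coset. -/
def fixE (i : ℕ) : ℕ × List ℕ := R.fixs.getD i dflt

/-- The fixed cosets. -/
noncomputable def fixP : List ℕ := R.fixs.map pe

/-- A pinned coset. -/
noncomputable def chP (l : ℕ) : ℕ := pe (R.fixE (R.chI.getD l 0))

/-- A member of a cycle with the word of its transposition. -/
noncomputable def cyc (r : ℕ × List ℕ) (c : ℕ) : ℕ × List ℕ :=
  (act (rep c R.xw) (pe r), (rep c R.xw).reverse ++ (tW r ++ rep c R.xw))

/-- The seeds of a case. -/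
noncomputable def seedIm (k : ℕ) (r : ℕ × List ℕ) : List (ℕ × List ℕ) :=
  (List.range R.ms).map (fun i => R.cyc r ((k * i) % R.m)) ++
    R.chI.map fun i => (pe (R.fixE i), tW (R.fixE i))

/-- The seeds. -/
noncomputable def seeds : List (ℕ × List ℕ) := R.seedIm 1 R.q0

/-- The element of fixed cosets. -/
noncomputable def esW (es : List ℕ) : List ℕ := es.flatMap fun i => tW (R.fixE i)

/-- Insert a cycle, refusing repetitions. -/
noncomputable def orbG : ℕ → ℕ → ℕ → Option ℕ
  | 0, _, m => some m
  | i + 1, p, m => bif Nat.blt p 31671 && !(bit m p) then orbG i (act R.xw p) (insBit m p) else none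

/-- Insert all cycles. -/
noncomputable def covG : List ((ℕ × List ℕ) × ℕ × ℕ) → ℕ → Option ℕ
  | [], m => some m
  | e :: l, m =>
    match R.orbG R.m (pe e.1) m with
    | some m' => covG l m'
    | none => none

/-- The starting set. -/
noncomputable def mask0 : ℕ := R.fixP.foldl insBit 0

end Rigid

/-- Derived cosets with words of their transpositions. -/
noncomputable def derive : List (ℕ × ℕ) → List (ℕ × List ℕ) → List (ℕ × List ℕ)
  | [], l => l
  | (a, b) :: s, l =>
    derive s (l ++ [(act (l.getD a (gpt 0, [0])).2 (l.getD b (gpt 0, [0])).1,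
      (l.getD a (gpt 0, [0])).2 ++ ((l.getD b (gpt 0, [0])).2 ++ (l.getD a (gpt 0, [0])).2))])

/-- An invariant of two listed cosets. -/
noncomputable def pflag (l : List (ℕ × List ℕ)) (a b : ℕ) : Bool × Bool :=
  (Nat.beq (act (l.getD a (gpt 0, [0])).2 (l.getD b (gpt 0, [0])).1) (l.getD b (gpt 0, [0])).1,
    Nat.beq (l.getD a (gpt 0, [0])).1 (l.getD b (gpt 0, [0])).1)

/-- Steps refer to earlier cosets only. -/
def stepsOK : List (ℕ × ℕ) → ℕ → Bool
  | [], _ => true
  | (a, b) :: s, m => Nat.blt a m && (Nat.blt b m && stepsOK s (m + 1))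

theorem derive_length : ∀ (s : List (ℕ × ℕ)) (l : List (ℕ × List ℕ)), (derive s l).length = l.length + s.length
  | [], l => rfl
  | (a, b) :: s, l => by
    rw [derive, derive_length s, List.length_append, List.length_cons, List.length_cons, List.length_nil]
    omega

theorem stepsOK_take : ∀ {s : List (ℕ × ℕ)} {m : ℕ} (k : ℕ), stepsOK s m = true → stepsOK (s.take k) m = true
  | _, _, 0, _ => by simp [stepsOK]
  | [], _, _, _ => by simp [stepsOK]
  | (a, b) :: s, m, k + 1, h => by
    simp only [stepsOK, Bool.and_eq_true] at h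
    simp only [List.take_succ_cons, stepsOK, Bool.and_eq_true]
    exact ⟨h.1, h.2.1, stepsOK_take k h.2.2⟩

theorem getD_good {l : List (ℕ × List ℕ)} (h : ∀ t ∈ l, Good t) (a : ℕ) : Good (l.getD a (gpt 0, [0])) := by
  rw [List.getD_eq_getElem?_getD]
  cases he : l[a]? with
  | none => exact good_default
  | some t => exact h t (List.mem_of_getElem? he)

theorem derive_map (g : GG) : ∀ (s : List (ℕ × ℕ)) (l l' : List (ℕ × List ℕ)), stepsOK s l.length = true →
    (∀ t ∈ l, Good t) → (∀ t ∈ l', Good t) → l'.map Prod.fst = (l.map Prod.fst).map (apt g) →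
    (∀ t ∈ derive s l, Good t) ∧ (∀ t ∈ derive s l', Good t) ∧
      (derive s l').map Prod.fst = ((derive s l).map Prod.fst).map (apt g)
  | [], l, l', _, hl, hl', h => ⟨hl, hl', h⟩
  | (a, b) :: s, l, l', hs, hl, hl', h => by
    simp only [stepsOK, Bool.and_eq_true, Nat.blt_eq] at hs
    obtain ⟨ha, hb, hs'⟩ := hs
    have hlen : l'.length = l.length := by simpa using congrArg List.length h
    have key : ∀ c < l.length, (l'.getD c (gpt 0, [0])).1 = apt g (l.getD c (gpt 0, [0])).1 := by
      intro c hc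
      have := congrArg (fun m : List ℕ => m[c]?) h
      simp only [List.getElem?_map, List.getElem?_eq_getElem hc, List.getElem?_eq_getElem (hlen.symm ▸ hc),
        Option.map_some] at this
      rw [List.getD_eq_getElem _ _ hc, List.getD_eq_getElem _ _ (hlen.symm ▸ hc)]
      exact Option.some.inj this
    have gA := getD_good hl a
    have gB := getD_good hl b
    have gA' := getD_good hl' a
    have gB' := getD_good hl' b
    refine derive_map g s _ _ (by rwa [List.length_append, List.length_singleton]) ?_ ?_ ?_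
    · intro t ht
      rcases List.mem_append.1 ht with ht | ht
      · exact hl t ht
      · rw [List.mem_singleton.1 ht]; exact gA.step gB
    · intro t ht
      rcases List.mem_append.1 ht with ht | ht
      · exact hl' t ht
      · rw [List.mem_singleton.1 ht]; exact gA'.step gB'
    · simp only [List.map_append, List.map_cons, List.map_nil, h]
      rw [gA'.apt_eq gB'.1, gA.apt_eq gB.1, key a ha, key b hb, apt_tapp g gA.1]

theorem pflag_map (g : GG) {l l' : List (ℕ × List ℕ)} (hl : ∀ t ∈ l, Good t) (hl' : ∀ t ∈ l', Good t)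
    (h : l'.map Prod.fst = (l.map Prod.fst).map (apt g)) {a b : ℕ} (ha : a < l.length) (hb : b < l.length) :
    pflag l' a b = pflag l a b := by
  have hlen : l'.length = l.length := by simpa using congrArg List.length h
  have key : ∀ c < l.length, (l'.getD c (gpt 0, [0])).1 = apt g (l.getD c (gpt 0, [0])).1 := by
    intro c hc
    have := congrArg (fun m : List ℕ => m[c]?) h
    simp only [List.getElem?_map, List.getElem?_eq_getElem hc, List.getElem?_eq_getElem (hlen.symm ▸ hc),
      Option.map_some] at this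
    rw [List.getD_eq_getElem _ _ hc, List.getD_eq_getElem _ _ (hlen.symm ▸ hc)]
    exact Option.some.inj this
  have gA := getD_good hl a
  have gB := getD_good hl b
  have gA' := getD_good hl' a
  have gB' := getD_good hl' b
  refine Prod.ext ?_ ?_ <;> simp only [pflag]
  · rw [gA'.apt_eq gB'.1, gA.apt_eq gB.1, key a ha, key b hb, ← apt_tapp g gA.1, Bool.eq_iff_iff, Nat.beq_eq,
      Nat.beq_eq]
    exact ⟨apt_injective g, congrArg _⟩
  · rw [key a ha, key b hb, Bool.eq_iff_iff, Nat.beq_eq, Nat.beq_eq]
    exact ⟨apt_injective g, congrArg _⟩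

namespace Rigid

variable (R : Rigid)

/-- The checks independent of the exponent. -/
noncomputable def baseOK : Bool :=
  Nat.blt 1 R.m && (wok R.xw && (sameW (rep R.m R.xw) [] &&
    ((R.fixs.all fun e => pok e && Nat.beq (act R.xw (pe e)) (pe e)) && ((R.reps.all fun e => pok e.1) &&
    ((R.reps.all fun e => !(Nat.beq (act R.xw (pe e.1)) (pe e.1))) &&
    ((R.chI.all fun i => Nat.blt i R.fixs.length) && ((pok R.q0 && !(Nat.beq (act R.xw (pe R.q0)) (pe R.q0))) &&
    ((R.covG R.reps R.mask0).any (fun c => Nat.beq c (2 ^ 31671 - 1)) &&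
    (stepsOK R.steps (R.ms + R.chI.length) &&
    (Fi23.pts.all fun p => R.tgt.any fun i => Nat.blt i (R.ms + R.chI.length + R.steps.length) &&
      Nat.beq ((derive R.steps R.seeds).getD i (gpt 0, [0])).1 p))))))))))

/-- A refutation by an invariant. -/
noncomputable def witOK (k : ℕ) (r : ℕ × List ℕ) (code : ℕ) : Bool :=
  let s := code / 10000
  let a := code / 100 % 100
  let b := code % 100 - 1
  Nat.ble s R.steps.length && (Nat.blt a (R.ms + R.chI.length + s) && (Nat.blt b (R.ms + R.chI.length + s) &&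
    !(decide (pflag (derive (R.steps.take s) R.seeds) a b =
      pflag (derive (R.steps.take s) (R.seedIm k r)) a b))))

/-- A realised case. -/
noncomputable def innOK (e : (ℕ × List ℕ) × ℕ × List ℕ) : Bool :=
  (e.2.2.all fun i => Nat.blt i R.fixs.length) &&
    allBelow (fun i => Nat.beq (act (R.esW e.2.2 ++ rep e.2.1 R.xw) (R.seeds.getD i (gpt 0, [0])).1)
      ((R.seedIm 1 e.1).getD i (gpt 0, [0])).1) (R.ms + R.chI.length)

/-- Exponent one. -/
noncomputable def oneOK : Bool :=
  R.reps.all fun r => bif Nat.beq r.2.1 0 then R.inn.any fun e => Nat.beq (pe e.1) (pe r.1)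
    else R.witOK 1 r.1 r.2.1

/-- The excluded exponent. -/
noncomputable def badOK : Bool :=
  Nat.beq R.kb 0 || (Nat.blt R.kb R.m && R.reps.all fun r =>
    !(Nat.beq r.2.2 0) && R.witOK R.kb r.1 r.2.2)

/-- The whole certificate. -/
structure Valid : Prop where
  base : R.baseOK = true
  inns : R.inn.all R.innOK = true
  one : R.oneOK = true
  bad : R.badOK = true

theorem bit_fold : ∀ (l : List ℕ) (m i : ℕ), bit (l.foldl insBit m) i = true → i ∈ l ∨ bit m i = true
  | [], m, i, h => Or.inr h
  | a :: l, m, i, h => by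
    rcases bit_fold l _ _ h with h | h
    · exact Or.inl (List.mem_cons_of_mem _ h)
    · rcases bit_insBit h with h | h
      · exact Or.inl (h ▸ List.mem_cons_self)
      · exact Or.inr h

variable {R}

theorem orbG_spec (hw : wok R.xw = true) : ∀ (i p m c : ℕ), R.orbG i p m = some c → ∀ q, bit c q = true →
    bit m q = true ∨ ∃ j < i, q = act (rep j R.xw) p
  | 0, p, m, c, h, q, hq => by
    simp only [orbG, Option.some.injEq] at h
    exact Or.inl (h ▸ hq)
  | i + 1, p, m, c, h, q, hq => by
    simp only [orbG] at h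
    cases hc : Nat.blt p 31671 && !(bit m p)
    · rw [hc] at h; simp at h
    · rw [hc, cond_true] at h
      rw [Bool.and_eq_true, Nat.blt_eq] at hc
      rcases orbG_spec hw i _ _ c h q hq with h1 | ⟨j, hj, rfl⟩
      · rcases bit_insBit h1 with rfl | h2
        · exact Or.inr ⟨0, Nat.succ_pos _, rfl⟩
        · exact Or.inl h2
      · refine Or.inr ⟨j + 1, Nat.succ_lt_succ hj, ?_⟩
        have hl : act R.xw p < 31671 := (apt_el hw hc.1) ▸ apt_lt _ hc.1
        rw [← apt_el (wok_rep hw _) hl, ← apt_el hw hc.1, ← apt_mul, ← apt_el (wok_rep hw _) hc.1, el_rep,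
          el_rep, pow_succ]

theorem covG_spec (hw : wok R.xw = true) : ∀ (l : List ((ℕ × List ℕ) × ℕ × ℕ)) (m c : ℕ), R.covG l m = some c →
    ∀ q, bit c q = true → bit m q = true ∨ ∃ e ∈ l, ∃ j < R.m, q = act (rep j R.xw) (pe e.1)
  | [], m, c, h, q, hq => by
    simp only [covG, Option.some.injEq] at h
    exact Or.inl (h ▸ hq)
  | e :: l, m, c, h, q, hq => by
    simp only [covG] at h
    cases ho : R.orbG R.m (pe e.1) m with
    | none => rw [ho] at h; simp at h
    | some m' =>
      rw [ho] at h
      rcases covG_spec hw l m' c h q hq with h1 | ⟨e', he', hj⟩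
      · rcases orbG_spec hw _ _ _ _ ho q h1 with h2 | ⟨j, hj, rfl⟩
        · exact Or.inl h2
        · exact Or.inr ⟨e, List.mem_cons_self, j, hj, rfl⟩
      · exact Or.inr ⟨e', List.mem_cons_of_mem _ he', hj⟩

section

variable (hR : R.Valid)

include hR

theorem base' :
    1 < R.m ∧ wok R.xw = true ∧ sameW (rep R.m R.xw) [] = true ∧
    (∀ e ∈ R.fixs, pok e = true ∧ act R.xw (pe e) = pe e) ∧
    (∀ e ∈ R.reps, pok e.1 = true ∧ act R.xw (pe e.1) ≠ pe e.1) ∧
    (∀ i ∈ R.chI, i < R.fixs.length) ∧ (pok R.q0 = true ∧ act R.xw (pe R.q0) ≠ pe R.q0) ∧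
    (∀ p < 31671, p ∈ R.fixP ∨ ∃ r ∈ R.reps, ∃ j < R.m, p = act (rep j R.xw) (pe r.1)) ∧
    stepsOK R.steps (R.ms + R.chI.length) = true ∧
    (∀ p ∈ Fi23.pts, ∃ i, i < R.ms + R.chI.length + R.steps.length ∧
      ((derive R.steps R.seeds).getD i (gpt 0, [0])).1 = p) := by
  have h := hR.base
  simp only [baseOK, Bool.and_eq_true, List.all_eq_true, Nat.blt_eq, Nat.beq_eq, List.any_eq_true,
    Option.any_eq_true, Bool.not_eq_true'] at h
  obtain ⟨h1, h2, h3, h4, h5, h5', h6, h7, h8, h9, h10⟩ := h
  refine ⟨h1, h2, h3, h4, fun e he => ⟨h5 e he, fun hx => ?_⟩, h6, ⟨h7.1, fun hx => ?_⟩, fun p hp => ?_, h9, fun p hp => ?_⟩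
  · have := h5' e he
    rw [hx, Nat.beq_refl] at this
    exact Bool.noConfusion this
  · have := h7.2
    rw [hx, Nat.beq_refl] at this
    exact Bool.noConfusion this
  · obtain ⟨c, hc, rfl⟩ := h8
    have hbit : bit (2 ^ 31671 - 1) p = true := by
      rw [bit_eq_testBit, Nat.testBit_two_pow_sub_one, decide_eq_true hp]
    rcases covG_spec h2 _ _ _ hc p hbit with h | ⟨e, he, j, hj, e'⟩
    · rcases bit_fold _ _ _ h with h | h
      · exact Or.inl h
      · rw [bit_zero] at h; exact absurd h Bool.false_ne_true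
    · exact Or.inr ⟨e, he, j, hj, e'⟩
  · obtain ⟨i, -, hi, hip⟩ := h10 p hp
    exact ⟨i, hi, hip⟩

theorem x_pow_m : R.x ^ R.m = 1 := by
  rw [x, ← el_rep, el_eq (base' hR).2.2.1, el_nil]

theorem good_fix {i : ℕ} (hi : i < R.fixs.length) :
    Good (pe (R.fixE i), tW (R.fixE i)) ∧ apt R.x (pe (R.fixE i)) = pe (R.fixE i) := by
  obtain ⟨-, hw, -, hf, -⟩ := base' hR
  have hm : R.fixE i ∈ R.fixs := by rw [fixE, List.getD_eq_getElem _ _ hi]; exact List.getElem_mem hi
  have hg := good_pe (hf _ hm).1
  exact ⟨hg, by rw [x, apt_el hw hg.1, (hf _ hm).2]⟩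

theorem fixP_mem {p : ℕ} (hp : p ∈ R.fixP) : ∃ i, i < R.fixs.length ∧ pe (R.fixE i) = p := by
  obtain ⟨e, he, rfl⟩ := List.mem_map.1 hp
  obtain ⟨i, hi, rfl⟩ := List.getElem_of_mem he
  exact ⟨i, hi, by rw [fixE, List.getD_eq_getElem _ _ hi]⟩

theorem apt_x_fix {p : ℕ} (hp : p ∈ R.fixP) : apt R.x p = p := by
  obtain ⟨i, hi, rfl⟩ := fixP_mem hR hp
  exact (good_fix hR hi).2

/-- A usable name of a moved coset. -/
def Moved (R : Rigid) (r : ℕ × List ℕ) : Prop := pok r = true ∧ act R.xw (pe r) ≠ pe r

theorem good_rep {r : ℕ × List ℕ} (hr : R.Moved r) :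
    Good (pe r, tW r) ∧ apt R.x (pe r) ≠ pe r := by
  obtain ⟨-, hw, -⟩ := base' hR
  have hg := good_pe hr.1
  exact ⟨hg, by rw [x, apt_el hw hg.1]; exact hr.2⟩

theorem good_cyc {r : ℕ × List ℕ} (hr : R.Moved r) (c : ℕ) :
    Good (R.cyc r c) ∧ (R.cyc r c).1 = apt (R.x ^ c) (pe r) := by
  have hw := wok_rep (base' hR).2.1 c
  refine ⟨good_conj (good_rep hR hr).1 hw, ?_⟩
  show act (rep c R.xw) _ = _
  rw [x, ← el_rep, apt_el hw (good_rep hR hr).1.1]

theorem good_seedIm {r : ℕ × List ℕ} (hr : R.Moved r) (k : ℕ) : ∀ t ∈ R.seedIm k r, Good t := by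
  intro t ht
  rcases List.mem_append.1 ht with ht | ht
  · obtain ⟨i, -, rfl⟩ := List.mem_map.1 ht
    exact (good_cyc hR hr _).1
  · obtain ⟨i, hi, rfl⟩ := List.mem_map.1 ht
    exact (good_fix hR ((base' hR).2.2.2.2.2.1 i hi)).1

theorem good_seeds : ∀ t ∈ R.seeds, Good t := good_seedIm hR (base' hR).2.2.2.2.2.2.1 1

omit hR in
theorem seedIm_length (k : ℕ) (r : ℕ × List ℕ) : (R.seedIm k r).length = R.ms + R.chI.length := by
  rw [seedIm, List.length_append, List.length_map, List.length_map, List.length_range]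

theorem seeds_map {g : GG} {k : ℕ} {r : ℕ × List ℕ} (hr : R.Moved r) (hg : g * R.x = R.x ^ k * g)
    (hq : apt g (pe R.q0) = pe r) (hch : ∀ i ∈ R.chI, apt g (pe (R.fixE i)) = pe (R.fixE i)) :
    (R.seedIm k r).map Prod.fst = (R.seeds.map Prod.fst).map (apt g) := by
  have h0 := (base' hR).2.2.2.2.2.2.1
  have hcomm : ∀ i : ℕ, g * R.x ^ i = R.x ^ (k * i) * g := by
    intro i
    induction i with
    | zero => simp
    | succ i ih => rw [pow_succ, ← mul_assoc, ih, mul_assoc, hg, ← mul_assoc, ← pow_add, Nat.mul_succ]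
  simp only [seeds, seedIm, List.map_append, List.map_map]
  refine congrArg₂ (· ++ ·) (List.map_congr_left fun i _ => ?_) (List.map_congr_left fun i hi => ?_)
  · show (R.cyc r _).1 = apt g (R.cyc R.q0 _).1
    rw [(good_cyc hR hr _).2, (good_cyc hR h0 _).2, one_mul, ← apt_mul, ← pow_eq_pow_mod _ (x_pow_m hR),
      ← pow_eq_pow_mod _ (x_pow_m hR), hcomm, apt_mul, hq]
  · exact (hch i hi).symm

theorem derive_seeds {g : GG} {k : ℕ} {r : ℕ × List ℕ} (hr : R.Moved r)
    (h : (R.seedIm k r).map Prod.fst = (R.seeds.map Prod.fst).map (apt g)) (s : ℕ) :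
    (∀ t ∈ derive (R.steps.take s) R.seeds, Good t) ∧ (∀ t ∈ derive (R.steps.take s) (R.seedIm k r), Good t) ∧
      (derive (R.steps.take s) (R.seedIm k r)).map Prod.fst =
        ((derive (R.steps.take s) R.seeds).map Prod.fst).map (apt g) :=
  derive_map g _ _ _ (by rw [seeds, seedIm_length]; exact stepsOK_take s (base' hR).2.2.2.2.2.2.2.2.1)
    (good_seeds hR) (good_seedIm hR hr k) h

/-- No element fixing the pinned cosets has the exponent `kb`; those of exponent one are listed. -/
theorem classify {g : GG} {k : ℕ} (hk : k = 1 ∨ (k = R.kb ∧ R.kb ≠ 0)) (hg : g * R.x = R.x ^ k * g)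
    (hch : ∀ i ∈ R.chI, apt g (pe (R.fixE i)) = pe (R.fixE i)) :
    k = 1 ∧ ∃ e ∈ R.inn, ∃ j : ℕ, g = R.x ^ j * el (R.esW e.2.2) := by
  obtain ⟨hm, hxw, -, -, hrep, hci, h0, hcov, -⟩ := base' hR
  have hkm : k < R.m := by
    rcases hk with rfl | ⟨rfl, hne⟩
    · exact hm
    · have hb := hR.bad
      simp only [badOK, Bool.or_eq_true, Bool.and_eq_true, Nat.beq_eq, Nat.blt_eq] at hb
      exact (hb.resolve_left hne).1
  obtain ⟨hq, hqne⟩ := good_rep hR h0
  rcases hcov (apt g (pe R.q0)) (apt_lt g hq.1) with hfx | ⟨re, hre, j, hj, e⟩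
  · exfalso
    have hfk : ∀ n : ℕ, apt (R.x ^ n) (apt g (pe R.q0)) = apt g (pe R.q0) := by
      intro n
      induction n with
      | zero => rw [pow_zero, apt_one]
      | succ n ih => rw [pow_succ, apt_mul, apt_x_fix hR hfx, ih]
    have h1 := hfk k
    rw [← apt_mul, ← hg, apt_mul] at h1
    exact hqne (apt_injective g h1)
  set r := re.1 with hrdef
  have hr : R.Moved r := hrep re hre
  set g' := R.x ^ (R.m - j) * g with hg'
  have hxj : R.x ^ (R.m - j) * R.x ^ j = 1 := by rw [← pow_add, Nat.sub_add_cancel hj.le, x_pow_m hR]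
  have hq' : apt g' (pe R.q0) = pe r := by
    have hrep := (good_cyc hR hr j).2
    rw [hg', apt_mul, e, show act (rep j R.xw) (pe r) = (R.cyc r j).1 from rfl, hrep, ← apt_mul, hxj,
      apt_one]
  have hgx : g' * R.x = R.x ^ k * g' := by
    rw [hg', mul_assoc, hg, ← mul_assoc, ← mul_assoc, ← pow_add, ← pow_add, Nat.add_comm]
  have hch' : ∀ i ∈ R.chI, apt g' (pe (R.fixE i)) = pe (R.fixE i) := by
    intro i hi
    rw [hg', apt_mul, hch i hi]
    induction (R.m - j) with
    | zero => rw [pow_zero, apt_one]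
    | succ n ih => rw [pow_succ, apt_mul, (good_fix hR (hci i hi)).2, ih]
  have him := seeds_map hR hr hgx hq' hch'
  have refute : ∀ code, R.witOK k r code = true → False := by
    intro code h
    simp only [witOK, Bool.and_eq_true, Nat.ble_eq, Nat.blt_eq, Bool.not_eq_true', decide_eq_false_iff_not] at h
    obtain ⟨hsl, ha, hb, hp⟩ := h
    obtain ⟨hl, hl', hmap⟩ := derive_seeds hR hr him (code / 10000)
    have hlen : (derive (R.steps.take (code / 10000)) R.seeds).length = R.ms + R.chI.length + code / 10000 := by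
      rw [derive_length, seeds, seedIm_length, List.length_take, Nat.min_eq_left hsl]
    exact hp (pflag_map g' hl hl' hmap (hlen ▸ ha) (hlen ▸ hb)).symm
  rcases hk with rfl | ⟨rfl, hne⟩
  · refine ⟨rfl, ?_⟩
    have hone := List.all_eq_true.1 hR.one re hre
    cases hcode : Nat.beq re.2.1 0 with
    | false =>
      rw [hcode, cond_false] at hone
      exact (refute _ hone).elim
    | true =>
      rw [hcode, cond_true, List.any_eq_true] at hone
      obtain ⟨e', he', her⟩ := hone
      rw [Nat.beq_eq] at her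
      have hi := List.all_eq_true.1 hR.inns e' he'
      simp only [innOK, Bool.and_eq_true, List.all_eq_true, Nat.blt_eq] at hi
      obtain ⟨hidx, hall⟩ := hi
      have himeq : (R.seedIm 1 e'.1).map Prod.fst = (R.seedIm 1 r).map Prod.fst := by
        simp only [seedIm, List.map_append, List.map_map]
        refine congrArg (· ++ _) (List.map_congr_left fun i _ => ?_)
        show act _ (pe e'.1) = act _ (pe r)
        rw [her]
      have hw : wok (R.esW e'.2.2 ++ rep e'.2.1 R.xw) = true := by
        refine wok_append.2 ⟨?_, wok_rep hxw _⟩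
        simp only [esW, wok, List.all_eq_true, List.mem_flatMap]
        rintro y ⟨i, hi, hy⟩
        exact List.all_eq_true.1 (good_fix hR (hidx i hi)).1.2.1 y hy
      have hsame : (R.seedIm 1 r).map Prod.fst =
          (R.seeds.map Prod.fst).map (apt (el (R.esW e'.2.2 ++ rep e'.2.1 R.xw))) := by
        rw [← himeq]
        refine List.ext_getElem (by simp [seeds, seedIm_length]) fun i h1 h2 => ?_
        have hi' : i < R.ms + R.chI.length := by simpa [seedIm_length] using h1
        have := Nat.eq_of_beq_eq_true (allBelow_spec hall hi')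
        have hsi : i < R.seeds.length := by simpa using h2
        rw [List.getD_eq_getElem _ _ hsi, List.getD_eq_getElem _ _ (by simpa using h1)] at this
        rw [List.getElem_map, List.getElem_map, List.getElem_map,
          apt_el hw (good_seeds hR _ (List.getElem_mem hsi)).1, this]
      set w := el (R.esW e'.2.2 ++ rep e'.2.1 R.xw) with hwdef
      have hgw : g' = w := by
        refine eq_of_apt fun p hp => ?_
        obtain ⟨i, hi, hip⟩ := (base' hR).2.2.2.2.2.2.2.2.2 p hp
        obtain ⟨-, -, m1⟩ := derive_seeds hR hr him R.steps.length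
        obtain ⟨-, -, m2⟩ := derive_seeds hR hr hsame R.steps.length
        rw [List.take_length] at m1 m2
        have m3 := m1.symm.trans m2
        have hlen : i < (derive R.steps R.seeds).length := by rw [derive_length, seeds, seedIm_length]; omega
        have h3 := congrArg (fun m : List ℕ => m[i]?) m3
        simp only [List.getElem?_map, List.getElem?_eq_getElem hlen, Option.map_some, Option.some.injEq] at h3
        rw [List.getD_eq_getElem _ _ hlen] at hip
        rwa [hip] at h3
      refine ⟨e', he', j + e'.2.1, ?_⟩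
      rw [show g = R.x ^ j * g' by
        rw [hg', ← mul_assoc, ← pow_add, Nat.add_sub_cancel' hj.le, x_pow_m hR, one_mul],
        hgw, hwdef, el_append, el_rep, show el R.xw = R.x from rfl, ← mul_assoc, ← pow_add]
  · exfalso
    have hb := hR.bad
    simp only [badOK, Bool.or_eq_true, Nat.beq_eq, Bool.and_eq_true] at hb
    have := List.all_eq_true.1 (hb.resolve_left hne).2 re hre
    rw [Bool.and_eq_true] at this
    exact refute _ this.2

end

end Rigid

end Cfsg.Agent.Fi23Local
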