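import Cfsg.Agent.Lib.Fi23Local.Normalizer
import Mathlib.GroupTheory.Sylow

/-!
Conjugacy of subgroups of prime order in the presented Fi23 and transport to an isomorphic group.
-/

set_option autoImplicit false
set_option maxRecDepth 100000

namespace Cfsg.Agent.Fi23Local

open Cfsg.Agent.CosetCert
open Cfsg.Agent.FischerPresented

theorem card_GG : Nat.card GG = 2 ^ 18 * 3 ^ 13 * 5 ^ 2 * 7 * 11 * 13 * 17 * 23 := by
  rw [Fi23.order_facts.2.1]; norm_num

theorem factorization_GG {p k c : ℕ} (hp : p.Prime) (h : Nat.card GG = p ^ k * c) (hc : ¬ p ∣ c) :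
    (Nat.card GG).factorization p = k := by
  have hc0 : c ≠ 0 := by rintro rfl; exact hc (dvd_zero p)
  rw [h, Nat.factorization_mul (pow_ne_zero _ hp.ne_zero) hc0, Finsupp.add_apply, hp.factorization_pow,
    Finsupp.single_eq_same, Nat.factorization_eq_zero_of_not_dvd hc, add_zero]

/-- Subgroups of prime order are conjugate when the square of the prime does not divide the order. -/
theorem exists_conj_of_card {p c : ℕ} (hp : p.Prime) (h : Nat.card GG = p ^ 1 * c) (hc : ¬ p ∣ c)
    {X Y : Subgroup GG} (hX : Nat.card X = p) (hY : Nat.card Y = p) :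
    ∃ g : GG, X.map (MulAut.conj g).toMonoidHom = Y := by
  have := Fi23.order_facts.1
  have := Fact.mk hp
  have hf := factorization_GG hp h hc
  let P : Sylow p GG := Sylow.ofCard X (by rw [hX, hf, pow_one])
  let Q : Sylow p GG := Sylow.ofCard Y (by rw [hY, hf, pow_one])
  obtain ⟨g, hg⟩ := MulAction.exists_smul_eq GG P Q
  refine ⟨g, ?_⟩
  have h2 : (g • P : Sylow p GG).toSubgroup = Y := by rw [hg]; rfl
  rw [← h2, Sylow.coe_subgroup_smul]
  rfl

variable {G : Type*} [Group G]

theorem map_centralizer_equiv {H : Type*} [Group H] (φ : H ≃* G) (s : Set H) :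
    (Subgroup.centralizer s).map φ.toMonoidHom = Subgroup.centralizer (φ '' s) := by
  ext a
  rw [Subgroup.mem_map_equiv, Subgroup.mem_centralizer_iff, Subgroup.mem_centralizer_iff]
  constructor
  · rintro h _ ⟨b, hb, rfl⟩
    simpa using congrArg φ (h b hb)
  · intro h b hb
    refine φ.injective ?_
    simpa using h _ ⟨b, hb, rfl⟩

theorem exists_frame {e : GG ≃* G} {D : Set G} (he : e '' Fi23.D = D) {X₀ : Subgroup GG}
    (hconj : ∀ Y : Subgroup GG, Nat.card Y = Nat.card X₀ → ∃ g : GG, X₀.map (MulAut.conj g).toMonoidHom = Y)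
    {X : Subgroup G} (hX : Nat.card X = Nat.card X₀) :
    ∃ φ : GG ≃* G, φ '' Fi23.D = D ∧ X₀.map φ.toMonoidHom = X := by
  obtain ⟨g, hg⟩ := hconj (X.map e.symm.toMonoidHom)
    (by rw [Subgroup.card_map_of_injective e.symm.injective, hX])
  refine ⟨(MulAut.conj g).trans e, ?_, ?_⟩
  · rw [MulEquiv.coe_trans, Set.image_comp, ← he]
    refine congrArg (Set.image e) (Set.ext fun d => ⟨?_, fun hd => ?_⟩)
    · rintro ⟨c, hc, rfl⟩
      obtain ⟨k, rfl⟩ := Fi23.mem_D.1 hc
      exact Fi23.mem_D.2 ⟨g * k, by simp [mul_assoc]⟩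
    · obtain ⟨k, rfl⟩ := Fi23.mem_D.1 hd
      exact ⟨g⁻¹ * k * Fi23.z * (g⁻¹ * k)⁻¹, Fi23.mem_D.2 ⟨_, rfl⟩, by simp [mul_assoc]⟩
  · rw [show ((MulAut.conj g).trans e).toMonoidHom = e.toMonoidHom.comp (MulAut.conj g).toMonoidHom from rfl,
      ← Subgroup.map_map, hg, Subgroup.map_map]
    convert Subgroup.map_id X
    ext a
    simp

theorem conjugate_subgroups (e : GG ≃* G) {X₀ : Subgroup GG}
    (hconj : ∀ Y : Subgroup GG, Nat.card Y = Nat.card X₀ → ∃ g : GG, X₀.map (MulAut.conj g).toMonoidHom = Y)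
    {X Y : Subgroup G} (hX : Nat.card X = Nat.card X₀) (hY : Nat.card Y = Nat.card X₀) :
    ∃ g : G, X.map (MulAut.conj g).toMonoidHom = Y := by
  obtain ⟨a, ha⟩ := hconj (X.map e.symm.toMonoidHom)
    (by rw [Subgroup.card_map_of_injective e.symm.injective, hX])
  obtain ⟨b, hb⟩ := hconj (Y.map e.symm.toMonoidHom)
    (by rw [Subgroup.card_map_of_injective e.symm.injective, hY])
  have hX' : X = (X₀.map (MulAut.conj a).toMonoidHom).map e.toMonoidHom := by
    rw [ha, Subgroup.map_map]; symm; convert Subgroup.map_id X; ext; simp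
  have hY' : Y = (X₀.map (MulAut.conj b).toMonoidHom).map e.toMonoidHom := by
    rw [hb, Subgroup.map_map]; symm; convert Subgroup.map_id Y; ext; simp
  refine ⟨e (b * a⁻¹), ?_⟩
  rw [hX', hY']
  simp only [Subgroup.map_map]
  congr 1
  ext u
  simp [mul_assoc]

/-- The data of a normaliser with a Frobenius part and a part generated by transpositions. -/
theorem normalizer_shape {L : LocalCert} (hL : L.Valid)
    (hdec : ∀ g ∈ Subgroup.normalizer ((Subgroup.zpowers L.x : Subgroup GG) : Set GG), ∃ f ∈ L.F, ∃ h ∈ L.K, g = f * h) {e : GG ≃* G} {D : Set G} (he : e '' Fi23.D = D)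
    (hconj : ∀ Y : Subgroup GG, Nat.card Y = L.R.m →
      ∃ g : GG, (Subgroup.zpowers L.x).map (MulAut.conj g).toMonoidHom = Y)
    {X : Subgroup G} (hX : Nat.card X = L.R.m) :
    ∃ F : Subgroup G, Nat.card F = L.R.m * L.e ∧ X ≤ F ∧
      F ⊓ Subgroup.centralizer ((X : Subgroup G) : Set G) = X ∧
      F ⊓ Subgroup.closure (D ∩ (Subgroup.centralizer ((X : Subgroup G) : Set G) : Set G)) = ⊥ ∧
      (∀ x ∈ F, ∀ y ∈ Subgroup.closure (D ∩ (Subgroup.centralizer ((X : Subgroup G) : Set G) : Set G)),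
        x * y = y * x) ∧
      F ⊔ Subgroup.closure (D ∩ (Subgroup.centralizer ((X : Subgroup G) : Set G) : Set G)) =
        Subgroup.normalizer ((X : Subgroup G) : Set G) ∧
      Subgroup.centralizer ((X : Subgroup G) : Set G) =
        X ⊔ Subgroup.closure (D ∩ (Subgroup.centralizer ((X : Subgroup G) : Set G) : Set G)) ∧
      (∃ φ : GG ≃* G, φ '' Fi23.D = D ∧
        Subgroup.closure (D ∩ (Subgroup.centralizer ((X : Subgroup G) : Set G) : Set G)) =
          L.K.map φ.toMonoidHom) := by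
  obtain ⟨φ, hφ, hmap⟩ := exists_frame he (X₀ := Subgroup.zpowers L.x)
    (by rw [LocalCert.card_X hL]; exact hconj) (X := X) (by rw [LocalCert.card_X hL, hX])
  have hC : Subgroup.centralizer ((X : Subgroup G) : Set G) =
      (Subgroup.centralizer ((Subgroup.zpowers L.x : Subgroup GG) : Set GG)).map φ.toMonoidHom := by
    rw [map_centralizer_equiv, ← hmap, Subgroup.coe_map]; rfl
  have hK : Subgroup.closure (D ∩ (Subgroup.centralizer ((X : Subgroup G) : Set G) : Set G)) =
      L.K.map φ.toMonoidHom := by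
    rw [LocalCert.K, ← LocalCert.D_inter hL, MonoidHom.map_closure, hC, Subgroup.coe_map, ← hφ]
    exact congrArg Subgroup.closure (Set.image_inter φ.injective).symm
  refine ⟨L.F.map φ.toMonoidHom, ?_, ?_, ?_, ?_, ?_, ?_, ?_, φ, hφ, hK⟩
  · rw [Subgroup.card_map_of_injective φ.injective, LocalCert.card_F hL]
  · rw [← hmap]; exact Subgroup.map_mono (LocalCert.X_le_F hL)
  · rw [hC, ← Subgroup.map_inf _ _ _ φ.injective, LocalCert.F_inf_centralizer hL, hmap]
  · rw [hK, ← Subgroup.map_inf _ _ _ φ.injective, LocalCert.F_inf_K hL, Subgroup.map_bot]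
  · rw [hK]
    rintro _ ⟨a, ha, rfl⟩ _ ⟨b, hb, rfl⟩
    rw [← map_mul, ← map_mul, LocalCert.F_commute hL ha hb]
  · rw [hK, ← Subgroup.map_sup, LocalCert.F_sup_K hL hdec, Subgroup.map_equiv_normalizer_eq, hmap]
  · rw [hK, hC, LocalCert.centralizer_eq hL hdec, Subgroup.map_sup, hmap]

end Cfsg.Agent.Fi23Local
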