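import Cfsg.Agent.Lib.Fi23Local.Normalizer
import Mathlib.GroupTheory.Perm.Sign

/-!
The transpositions centralising a certified element generate a symmetric group when they are labelled by pairs.
-/

set_option autoImplicit false

namespace Cfsg.Agent.Fi23Local

open Cfsg.Agent.CosetCert
open Cfsg.Agent.FischerPresented

namespace LocalCert

/-- A labelling of the fixed cosets by pairs. -/
structure PairLabel (L : LocalCert) (n : ℕ) where
  pr : Fin L.R.fixP.length → Fin n × Fin n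
  idx : Fin n → Fin n → Fin L.R.fixP.length

namespace PairLabel

variable {L : LocalCert} {n : ℕ} (P : L.PairLabel n)

/-- The permutation of pairs. -/
def pmap (σ : Equiv.Perm (Fin n)) (i : Fin L.R.fixP.length) : Fin L.R.fixP.length :=
  P.idx (σ (P.pr i).1) (σ (P.pr i).2)

/-- The conditions on a labelling. -/
structure Valid : Prop where
  ne : ∀ i, (P.pr i).1 ≠ (P.pr i).2
  comm : ∀ a b, P.idx a b = P.idx b a
  left : ∀ i, P.idx (P.pr i).1 (P.pr i).2 = i
  right : ∀ a b, a ≠ b → P.pr (P.idx a b) = (a, b) ∨ P.pr (P.idx a b) = (b, a)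
  inj : ∀ σ : Equiv.Perm (Fin n), (∀ i, P.pmap σ i = i) → σ = 1
  act : ∀ i j : Fin L.R.fixP.length, Cfsg.Agent.Fi23Local.act (tW (L.R.fixE i)) (L.R.fixP.get j) =
    L.R.fixP.get (P.pmap (Equiv.swap (P.pr i).1 (P.pr i).2) j)
  triv : ∀ e ∈ L.R.inn, e.2.2 = []

/-- The relation between an element and a permutation. -/
def Rel (P : L.PairLabel n) (h : GG) (σ : Equiv.Perm (Fin n)) :
    Prop :=
  ∀ i, apt h (L.R.fixP.get i) = L.R.fixP.get (P.pmap σ i)

variable {P} (hP : P.Valid)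

include hP

theorem pmap_one (i : Fin L.R.fixP.length) : P.pmap 1 i = i := hP.left i

theorem pmap_mul (σ τ : Equiv.Perm (Fin n)) (i : Fin L.R.fixP.length) :
    P.pmap (σ * τ) i = P.pmap σ (P.pmap τ i) := by
  unfold pmap
  rcases hP.right _ _ (τ.injective.ne (hP.ne i)) with h | h
  · rw [h]; rfl
  · rw [h]; exact hP.comm _ _

theorem rel_one : P.Rel 1 1 := fun i => by rw [apt_one, pmap_one hP]

theorem rel_mul {g h : GG} {σ τ : Equiv.Perm (Fin n)} (hg : P.Rel g σ) (hh : P.Rel h τ) :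
    P.Rel (g * h) (σ * τ) := fun i => by rw [apt_mul, hh, hg, pmap_mul hP]

theorem rel_inv {g : GG} {σ : Equiv.Perm (Fin n)} (hg : P.Rel g σ) : P.Rel g⁻¹ σ⁻¹ := fun i => by
  have h := hg (P.pmap σ⁻¹ i)
  rw [← pmap_mul hP, mul_inv_cancel, pmap_one hP] at h
  rw [← h, ← apt_mul, inv_mul_cancel, apt_one]

variable (hL : L.Valid) (hnd : L.R.fixP.Nodup)

include hL

theorem rel_gen (i : Fin L.R.fixP.length) :
    P.Rel (trN (L.R.fixP.get i)) (Equiv.swap (P.pr i).1 (P.pr i).2) := fun j => by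
  have hi : (i : ℕ) < L.R.fixs.length := lt_of_lt_of_eq i.2 (List.length_map _)
  have e : L.R.fixP.get i = pe (L.R.fixE i) := by
    show (L.R.fixs.map pe)[(i : ℕ)]'(by rw [List.length_map]; exact hi) = _
    rw [List.getElem_map, Rigid.fixE, List.getD_eq_getElem _ _ hi]
  rw [← hP.act, (Rigid.good_fix hL.rigid hi).1.apt_eq (fix_lt hL (List.get_mem _ _)), e]
  rfl

theorem exists_rel {h : GG} (hh : h ∈ L.K) : ∃ σ, P.Rel h σ := by
  induction hh using Subgroup.closure_induction with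
  | mem d hd =>
    obtain ⟨p, hp, rfl⟩ := hd
    obtain ⟨i, rfl⟩ := List.mem_iff_get.1 hp
    exact ⟨_, rel_gen hP hL i⟩
  | one => exact ⟨1, rel_one hP⟩
  | mul a b _ _ ha hb =>
    obtain ⟨s, hs⟩ := ha
    obtain ⟨t, ht⟩ := hb
    exact ⟨s * t, rel_mul hP hs ht⟩
  | inv a _ ha =>
    obtain ⟨s, hs⟩ := ha
    exact ⟨s⁻¹, rel_inv hP hs⟩

include hnd

theorem rel_unique {h : GG} {σ τ : Equiv.Perm (Fin n)} (hs : P.Rel h σ) (ht : P.Rel h τ) : σ = τ := by
  have : τ⁻¹ * σ = 1 := hP.inj _ fun i => by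
    have h1 : P.pmap σ i = P.pmap τ i := List.nodup_iff_injective_get.1 hnd ((hs i).symm.trans (ht i))
    rw [pmap_mul hP, h1, ← pmap_mul hP, inv_mul_cancel, pmap_one hP]
  exact (inv_mul_eq_one.1 this).symm

omit hnd in
theorem eq_one_of_rel {h : GG} (hh : h ∈ L.K) (hr : P.Rel h 1) : h = 1 := by
  have hx : Commute h L.x := (F_commute hL (x_mem_F hL) hh).symm
  have hfix : ∀ c ∈ L.R.fixP, apt h c = c := fun c hc => by
    obtain ⟨i, rfl⟩ := List.mem_iff_get.1 hc
    rw [hr i, pmap_one hP]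
  obtain ⟨-, e, he, j, hj⟩ := Rigid.classify hL.rigid (k := 1) (Or.inl rfl)
    (by rw [pow_one]; exact hx) fun c hc => hfix _ (List.mem_map.2 ⟨_, by
      rw [Rigid.fixE, List.getD_eq_getElem _ _ ((Rigid.base' hL.rigid).2.2.2.2.2.1 c hc)]
      exact List.getElem_mem _, rfl⟩)
  rw [hP.triv e he, show L.R.esW [] = [] from rfl, el_nil, mul_one] at hj
  subst hj
  have : L.R.x ^ j ∈ L.F ⊓ L.K := ⟨L.F.pow_mem (x_mem_F hL) j, hh⟩
  rwa [F_inf_K hL, Subgroup.mem_bot] at this

theorem nonempty_iso : Nonempty (L.K ≃* Equiv.Perm (Fin n)) := by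
  choose f hf using fun h : L.K => exists_rel hP hL h.2
  let φ : L.K →* Equiv.Perm (Fin n) := MonoidHom.mk' f fun a b =>
    rel_unique hP hL hnd (hf (a * b)) (rel_mul hP (hf a) (hf b))
  refine ⟨MulEquiv.ofBijective φ ⟨(injective_iff_map_eq_one φ).2 fun h hh => ?_, ?_⟩⟩
  · exact Subtype.ext (eq_one_of_rel hP hL h.2 (hh ▸ hf h))
  · rw [← MonoidHom.range_eq_top, eq_top_iff, ← Equiv.Perm.closure_isSwap, Subgroup.closure_le]
    rintro σ ⟨a, b, hab, rfl⟩
    refine ⟨⟨trN (L.R.fixP.get (P.idx a b)), Subgroup.subset_closure ⟨_, List.get_mem _ _, rfl⟩⟩, ?_⟩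
    refine rel_unique hP hL hnd (hf _) (fun j => ?_)
    rw [rel_gen hP hL (P.idx a b) j]
    rcases hP.right a b hab with h | h
    · rw [h]
    · rw [h, Equiv.swap_comm]

end PairLabel

end LocalCert

end Cfsg.Agent.Fi23Local

namespace Cfsg.Agent.Fi23Local.LocalCert.PairLabel

/-- Permutations fixing every pair fix every point. -/
theorem inj_of {L : LocalCert} {n : ℕ} (P : L.PairLabel n) (hn : 3 ≤ n)
    (hright : ∀ a b, a ≠ b → P.pr (P.idx a b) = (a, b) ∨ P.pr (P.idx a b) = (b, a))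
    (σ : Equiv.Perm (Fin n)) (h : ∀ i, P.pmap σ i = i) : σ = 1 := by
  have key : ∀ a b : Fin n, a ≠ b → σ a = a ∨ σ a = b := by
    intro a b hab
    have h1 := h (P.idx a b)
    unfold pmap at h1
    rcases hright a b hab with e | e <;> rw [e] at h1
    · have e1 := hright (σ a) (σ b) (σ.injective.ne hab)
      rw [h1, e] at e1
      rcases e1 with e1 | e1 <;> simp only [Prod.mk.injEq] at e1
      · exact Or.inl e1.1.symm
      · exact Or.inr e1.2.symm
    · have e1 := hright (σ b) (σ a) (σ.injective.ne hab.symm)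
      rw [h1, e] at e1
      rcases e1 with e1 | e1 <;> simp only [Prod.mk.injEq] at e1
      · exact Or.inl e1.2.symm
      · exact Or.inr e1.1.symm
  refine Equiv.ext fun a => ?_
  by_contra hne
  change σ a ≠ a at hne
  obtain ⟨c, hc1, hc2⟩ : ∃ c : Fin n, c ≠ a ∧ c ≠ σ a := by
    by_contra hcon
    push Not at hcon
    have : (Finset.univ : Finset (Fin n)) ⊆ {a, σ a} := fun c _ => by
      by_cases hca : c = a
      · simp [hca]
      · simp [hcon c hca]
    have := Finset.card_le_card this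
    have h2 := Finset.card_le_two (a := a) (b := σ a)
    simp at this
    omega
  rcases key a c hc1.symm with h1 | h1
  · exact hne h1
  · exact hc2 h1.symm

end Cfsg.Agent.Fi23Local.LocalCert.PairLabel
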