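/-! Moves back to the pinned fixed cosets of the element of order 5 of the presented Fi23. -/

set_option autoImplicit false

namespace Cfsg.Agent.Fi23Local.P5

/-- For each pinned coset and each fixed coset the transpositions carrying the latter to the former. -/
def moves : List (List (List Nat)) :=
  [
    [[], [6], [7], [8], [9], [10], [1], [2], [3], [4], [5], [7, 1], [8, 1], [9, 1], [10, 1], [8, 2], [9, 2], [10, 2], [9, 3], [10, 3], [10, 4]],
    [[], [0], [11, 0], [12, 0], [13, 0], [14, 0], [], [11], [12], [13], [14], [], [], [], [], [], [], [], [], [], []],
    [[], [], [], [], [], [], [], [], [], [], [], [], [15], [16], [17], [], [], [], [], [], []],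
    [[], [], [], [], [], [], [], [], [], [], [], [], [], [], [], [], [18], [19], [], [], []],
    [[], [], [], [], [], [], [], [], [], [], [], [], [], [], [], [], [], [], [], [20], []],
    [[], [], [], [], [], [], [], [], [], [], [], [], [], [], [], [], [], [], [], [], []]]

end Cfsg.Agent.Fi23Local.P5
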