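import Cfsg.Agent.Lib.Fi23Local.Cert5
import Cfsg.Agent.Lib.Fi23Local.Moves5
import Cfsg.Agent.Lib.Fi23Local.PairIso

/-! The normaliser of a subgroup of order 5 in the presented Fi23. -/

set_option autoImplicit false
set_option maxRecDepth 100000

namespace Cfsg.Agent.Fi23Local.P5

open Cfsg.Agent.CosetCert
open Cfsg.Agent.FischerPresented

/-- The certificate with the normalising element. -/
noncomputable def L : LocalCert where
  R := R
  yw := yw
  e := 4
  k0 := 2

theorem L_valid : L.Valid := ⟨valid, by decide +kernel, show Nat.Prime 5 by norm_num⟩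

theorem moves_ok : L.movesOK moves = true := by decide +kernel

theorem hdec {g : GG} (hg : g ∈ Subgroup.normalizer ((Subgroup.zpowers L.x : Subgroup GG) : Set GG)) :
    ∃ f ∈ L.F, ∃ h ∈ L.K, g = f * h := LocalCert.decompose L_valid moves_ok hg

theorem fixP_length : L.R.fixP.length = labels.length := by rw [Rigid.fixP, List.length_map]; rfl

/-- Pairs labelling the fixed cosets. -/
noncomputable def lab : L.PairLabel 7 where
  pr := fun i => (Fin.ofNat 7 (labels.getD i (0, 1)).1, Fin.ofNat 7 (labels.getD i (0, 1)).2)
  idx := fun a b => Fin.cast fixP_length.symm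
    (⟨labels.findIdx (fun t => Nat.beq t.1 (min (a : ℕ) b) && Nat.beq t.2 (max (a : ℕ) b)) % labels.length,
      Nat.mod_lt _ (by decide)⟩ : Fin labels.length)

theorem lab_valid : lab.Valid := by
  have hright : ∀ a b, a ≠ b → lab.pr (lab.idx a b) = (a, b) ∨ lab.pr (lab.idx a b) = (b, a) := by decide +kernel
  exact ⟨by decide +kernel, by decide +kernel, by decide +kernel, hright,
    fun σ hσ => LocalCert.PairLabel.inj_of lab (by norm_num) hright σ hσ, by decide +kernel, by decide +kernel⟩

theorem K_iso : Nonempty (L.K ≃* Equiv.Perm (Fin 7)) :=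
  LocalCert.PairLabel.nonempty_iso lab_valid L_valid (by decide +kernel)

end Cfsg.Agent.Fi23Local.P5
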