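import Cfsg.Agent.Lib.Fi23Local.Sylow5

/-!
The centraliser and the order of the normaliser of a Sylow 5-subgroup of the presented Fi23.
-/

set_option autoImplicit false
set_option maxRecDepth 100000

namespace Cfsg.Agent.Fi23Local.P5

open Cfsg.Agent.CosetCert
open Cfsg.Agent.FischerPresented

/-- The index of a pair among the fixed cosets. -/
noncomputable def pairI (a b : Fin 7) : ℕ := lab.idx a b

/-- The transposition commuting with the Sylow group. -/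
noncomputable def dd : GG := el (L.R.esW [pairI 5 6])

/-- An element squaring the five-cycle. -/
noncomputable def ww : GG := el (L.R.esW [pairI 1 2, pairI 1 4, pairI 1 3])

/-- The permutation of the five-cycle. -/
def cP : Equiv.Perm (Fin 7) := Equiv.swap 3 4 * Equiv.swap 2 3 * Equiv.swap 1 2 * Equiv.swap 0 1

/-- The permutation squaring it. -/
def wP : Equiv.Perm (Fin 7) := Equiv.swap 1 3 * Equiv.swap 1 4 * Equiv.swap 1 2

theorem esW_rel : ∀ es : List ℕ, (∀ i ∈ es, i < L.R.fixs.length) → ∀ σ : Equiv.Perm (Fin 7),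
    (allBelow (fun j => Nat.beq (act (L.R.esW es) (pe (L.R.fixE j)))
      (pe (L.R.fixE (lab.idx (σ (lab.pr (Fin.cast fixP_length.symm ⟨j % labels.length, Nat.mod_lt _ (by decide)⟩)).1)
        (σ (lab.pr (Fin.cast fixP_length.symm ⟨j % labels.length, Nat.mod_lt _ (by decide)⟩)).2))))) labels.length) = true →
    lab.Rel (el (L.R.esW es)) σ := by
  intro es hes σ h i
  have hil : (i : ℕ) < labels.length := lt_of_lt_of_eq i.2 fixP_length
  have hi := allBelow_spec h hil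
  rw [Nat.beq_eq] at hi
  have hget : ∀ k : Fin L.R.fixP.length, L.R.fixP.get k = pe (L.R.fixE k) := fun k => by
    show (L.R.fixs.map pe)[(k : ℕ)]'(by rw [List.length_map]; exact lt_of_lt_of_eq k.2 (List.length_map _)) = _
    rw [List.getElem_map, Rigid.fixE, List.getD_eq_getElem _ _ (lt_of_lt_of_eq k.2 (List.length_map _))]
  have hcast : (Fin.cast fixP_length.symm ⟨(i : ℕ) % labels.length, Nat.mod_lt _ (by decide)⟩ : Fin L.R.fixP.length) = i :=
    Fin.ext (Nat.mod_eq_of_lt hil)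
  rw [hcast] at hi
  rw [hget, hget, apt_el (LocalCert.esW_mem L_valid hes).1 (hget i ▸ LocalCert.fix_lt L_valid (List.get_mem _ _)), hi]
  rfl

theorem pair_lt (a b : Fin 7) : pairI a b < L.R.fixs.length := lt_of_lt_of_eq (lab.idx a b).2 (List.length_map _)

theorem mem_rel :
    (cc ∈ L.K ∧ lab.Rel cc cP) ∧ (dd ∈ L.K ∧ lab.Rel dd (Equiv.swap 5 6)) ∧ (ww ∈ L.K ∧ lab.Rel ww wP) := by
  have h1 : ∀ i ∈ ccI, i < L.R.fixs.length := fun i hi => Nat.blt_eq.mp (List.all_eq_true.1 ccI_ok i hi)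
  have h2 : ∀ i ∈ [pairI 5 6], i < L.R.fixs.length := fun i hi => List.mem_singleton.1 hi ▸ pair_lt _ _
  have h3 : ∀ i ∈ [pairI 1 2, pairI 1 4, pairI 1 3], i < L.R.fixs.length := fun i hi => by
    simp only [List.mem_cons, List.not_mem_nil, or_false] at hi
    rcases hi with rfl | rfl | rfl <;> exact pair_lt _ _
  exact ⟨⟨cc_mem, esW_rel _ h1 _ (by decide +kernel)⟩,
    ⟨(LocalCert.esW_mem L_valid h2).2, esW_rel _ h2 _ (by decide +kernel)⟩,
    ⟨(LocalCert.esW_mem L_valid h3).2, esW_rel _ h3 _ (by decide +kernel)⟩⟩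

theorem nodup : L.R.fixP.Nodup := by decide +kernel

theorem eq_of_rel {g h : GG} (hg : g ∈ L.K) (hh : h ∈ L.K) {σ : Equiv.Perm (Fin 7)} (h1 : lab.Rel g σ)
    (h2 : lab.Rel h σ) : g = h := by
  have h3 := LocalCert.PairLabel.rel_mul lab_valid (LocalCert.PairLabel.rel_inv lab_valid h2) h1
  rw [inv_mul_cancel] at h3
  exact (inv_mul_eq_one.1 (LocalCert.PairLabel.eq_one_of_rel lab_valid L_valid (mul_mem (inv_mem hh) hg) h3)).symm

theorem rel_pow {g : GG} {σ : Equiv.Perm (Fin 7)} (h : lab.Rel g σ) : ∀ n : ℕ, lab.Rel (g ^ n) (σ ^ n)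
  | 0 => by rw [pow_zero, pow_zero]; exact LocalCert.PairLabel.rel_one lab_valid
  | n + 1 => by rw [pow_succ, pow_succ]; exact LocalCert.PairLabel.rel_mul lab_valid (rel_pow h n) h

theorem perm_centralizer (σ : Equiv.Perm (Fin 7)) (h : σ * cP = cP * σ) :
    ∃ i : Fin 5, ∃ j : Fin 2, σ = cP ^ (i : ℕ) * Equiv.swap (5 : Fin 7) 6 ^ (j : ℕ) := by
  have hc : ∀ a, cP (σ a) = σ (cP a) := fun a => (Equiv.congr_fun h a).symm
  have h0 : ∀ a : Fin 7, cP a ≠ a → ∃ i : Fin 5, (cP ^ (i : ℕ)) 0 = a := by decide +kernel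
  obtain ⟨i, hi⟩ := h0 (σ 0) (fun e => by
    rw [hc] at e
    exact absurd (σ.injective e) (by decide +kernel))
  set τ := (cP ^ (i : ℕ))⁻¹ * σ with hτ
  have hτc : ∀ a, cP (τ a) = τ (cP a) := by
    intro a
    have h1 : cP * τ = τ * cP := by
      rw [hτ, ← mul_assoc, (Commute.self_pow cP (i : ℕ)).inv_right.eq, mul_assoc, ← h, mul_assoc]
    exact Equiv.congr_fun h1 a
  have hτ0 : τ 0 = 0 := by
    rw [hτ, Equiv.Perm.mul_apply, ← hi, ← Equiv.Perm.mul_apply, inv_mul_cancel, Equiv.Perm.one_apply]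
  clear_value τ
  have hne : ∀ n : Fin 5, (cP ^ (n : ℕ)) 0 ≠ 5 ∧ (cP ^ (n : ℕ)) 0 ≠ 6 := by decide +kernel
  have hswap : ∀ n : Fin 5, Equiv.swap (5 : Fin 7) 6 ((cP ^ (n : ℕ)) 0) = (cP ^ (n : ℕ)) 0 := by decide +kernel
  have hlow : ∀ n : ℕ, τ ((cP ^ n) 0) = (cP ^ n) 0 := by
    intro n
    induction n with
    | zero => simpa using hτ0
    | succ n ih => rw [pow_succ', Equiv.Perm.mul_apply, ← hτc, ih]
  have hsix : ∀ a : Fin 7, a = 5 ∨ a = 6 ∨ ∃ n : Fin 5, (cP ^ (n : ℕ)) 0 = a := by decide +kernel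
  have hfive : τ 5 = 5 ∨ τ 5 = 6 := by
    rcases hsix (τ 5) with e | e | ⟨n, e⟩
    · exact Or.inl e
    · exact Or.inr e
    · have := τ.injective ((hlow n).trans e)
      exact absurd this (hne n).1
  have hτ' : τ = 1 ∨ τ = Equiv.swap 5 6 := by
    rcases hfive with e5 | e5
    · refine Or.inl (Equiv.ext fun a => ?_)
      rcases hsix a with rfl | rfl | ⟨n, rfl⟩
      · exact e5
      · rcases hsix (τ 6) with e | e | ⟨n, e⟩
        · exact absurd (τ.injective (e.trans e5.symm)) (by decide)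
        · exact e
        · exact absurd (τ.injective ((hlow n).trans e)).symm (Ne.symm (hne n).2)
      · exact hlow n
    · refine Or.inr (Equiv.ext fun a => ?_)
      rcases hsix a with rfl | rfl | ⟨n, rfl⟩
      · rw [e5, Equiv.swap_apply_left]
      · rcases hsix (τ 6) with e | e | ⟨n, e⟩
        · rw [e, Equiv.swap_apply_right]
        · exact absurd (τ.injective (e.trans e5.symm)) (by decide)
        · exact absurd (τ.injective ((hlow n).trans e)).symm (Ne.symm (hne n).2)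
      · rw [hlow n, hswap]
  rcases hτ' with e | e
  · exact ⟨i, 0, by simp [← e, hτ]⟩
  · exact ⟨i, 1, by simp [← e, hτ]⟩

/-- The elements of `K` commuting with the five-cycle. -/
theorem K_centralizer {k : GG} (hk : k ∈ L.K) (h : Commute k cc) :
    ∃ i : Fin 5, ∃ j : Fin 2, k = cc ^ (i : ℕ) * dd ^ (j : ℕ) := by
  obtain ⟨⟨hc, hcr⟩, ⟨hd, hdr⟩, -⟩ := mem_rel
  obtain ⟨σ, hσ⟩ := LocalCert.PairLabel.exists_rel lab_valid L_valid hk
  have hcomm : σ * cP = cP * σ := LocalCert.PairLabel.rel_unique lab_valid L_valid nodup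
    (h.eq ▸ LocalCert.PairLabel.rel_mul lab_valid hσ hcr) (LocalCert.PairLabel.rel_mul lab_valid hcr hσ)
  obtain ⟨i, j, e⟩ := perm_centralizer σ hcomm
  exact ⟨i, j, eq_of_rel hk (mul_mem (pow_mem hc _) (pow_mem hd _)) (e ▸ hσ)
    (LocalCert.PairLabel.rel_mul lab_valid (rel_pow hcr i) (rel_pow hdr j))⟩

theorem dd_cc : Commute cc dd := by
  obtain ⟨⟨hc, hcr⟩, ⟨hd, hdr⟩, -⟩ := mem_rel
  refine eq_of_rel (mul_mem hc hd) (mul_mem hd hc) (LocalCert.PairLabel.rel_mul lab_valid hcr hdr) ?_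
  have : Equiv.swap (5 : Fin 7) 6 * cP = cP * Equiv.swap 5 6 := by decide +kernel
  exact this ▸ LocalCert.PairLabel.rel_mul lab_valid hdr hcr

theorem ww_cc : ww * cc * ww⁻¹ = cc ^ 2 := by
  obtain ⟨⟨hc, hcr⟩, -, ⟨hw, hwr⟩⟩ := mem_rel
  refine eq_of_rel (mul_mem (mul_mem hw hc) (inv_mem hw)) (pow_mem hc _)
    (LocalCert.PairLabel.rel_mul lab_valid (LocalCert.PairLabel.rel_mul lab_valid hwr hcr)
      (LocalCert.PairLabel.rel_inv lab_valid hwr)) ?_
  have : wP * cP * wP⁻¹ = cP ^ 2 := by decide +kernel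
  exact this ▸ rel_pow hcr 2

theorem X_inf_K {u : GG} (hu : u ∈ Subgroup.zpowers L.x) (hk : u ∈ L.K) : u = 1 := by
  have : u ∈ L.F ⊓ L.K := ⟨LocalCert.X_le_F L_valid hu, hk⟩
  rwa [LocalCert.F_inf_K L_valid, Subgroup.mem_bot] at this

/-- The centraliser of the element in normal form. -/
theorem centralizer_x {g : GG} (h : Commute g L.x) : ∃ a : Fin 5, ∃ k ∈ L.K, g = L.x ^ (a : ℕ) * k := by
  have hg : g ∈ Subgroup.centralizer ((Subgroup.zpowers L.x : Subgroup GG) : Set GG) :=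
    Subgroup.mem_centralizer_iff.2 fun z hz => by
      obtain ⟨j, rfl⟩ := Subgroup.mem_zpowers_iff.1 hz
      exact (h.zpow_right j).symm.eq
  have hN := Subgroup.centralizer_le_normalizer _ hg
  obtain ⟨f, hf, k, hk, rfl⟩ := hdec hN
  have hkC : k ∈ Subgroup.centralizer ((Subgroup.zpowers L.x : Subgroup GG) : Set GG) :=
    Subgroup.mem_centralizer_iff.2 fun z hz => LocalCert.F_commute L_valid (LocalCert.X_le_F L_valid hz) hk
  have hfX : f ∈ Subgroup.zpowers L.x := by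
    rw [← LocalCert.F_inf_centralizer L_valid]
    refine ⟨hf, ?_⟩
    have := mul_mem hg (inv_mem hkC)
    rwa [mul_inv_cancel_right] at this
  obtain ⟨j, rfl⟩ := Subgroup.mem_zpowers_iff.1 hfX
  have h5 : L.x ^ ((5 : ℕ) : ℤ) = 1 := by rw [zpow_natCast]; exact Rigid.x_pow_m L_valid.rigid
  refine ⟨⟨(j % 5).toNat, by omega⟩, k, hk, ?_⟩
  congr 1
  show L.x ^ j = L.x ^ (j % 5).toNat
  rw [← zpow_natCast L.x, Int.toNat_of_nonneg (Int.emod_nonneg _ (by norm_num))]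
  conv_lhs => rw [← Int.emod_add_mul_ediv j 5, zpow_add, zpow_mul]
  rw [show (5 : ℤ) = ((5 : ℕ) : ℤ) from rfl, h5, one_zpow, mul_one]

theorem E_comm {u v : GG} (hu : u ∈ E) (hv : v ∈ E) : Commute u v := by
  obtain ⟨a, b, -, -, rfl⟩ := mem_E.1 hu
  obtain ⟨c, d, -, -, rfl⟩ := mem_E.1 hv
  have h := x_comm_cc
  exact ((((Commute.refl L.x).pow_pow a c).mul_right (h.pow_pow a d)).mul_left
    (((h.pow_pow c b).symm).mul_right ((Commute.refl cc).pow_pow b d)))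

theorem E_pow {u : GG} (hu : u ∈ E) : u ^ 5 = 1 := by
  obtain ⟨a, b, -, -, rfl⟩ := mem_E.1 hu
  rw [(x_comm_cc.pow_pow a b).mul_pow, ← pow_mul, ← pow_mul, Nat.mul_comm a, Nat.mul_comm b, pow_mul, pow_mul, cc_pow,
    show L.x ^ 5 = 1 from Rigid.x_pow_m L_valid.rigid, one_pow, one_pow, one_mul]

theorem x_mem_E : L.x ∈ E := Subgroup.subset_closure (Or.inl rfl)

theorem cc_mem_E : cc ∈ E := Subgroup.subset_closure (Or.inr rfl)

theorem dd_comm_E {u : GG} (hu : u ∈ E) : Commute u dd := by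
  obtain ⟨a, b, -, -, rfl⟩ := mem_E.1 hu
  have hd := mem_rel.2.1.1
  exact ((show Commute L.x dd from LocalCert.F_commute L_valid (LocalCert.x_mem_F L_valid) hd).pow_left a).mul_left
    (dd_cc.pow_left b)

theorem centralizer_E : E ⊔ Subgroup.zpowers dd = Subgroup.centralizer (E : Set GG) := by
  refine le_antisymm (sup_le (fun u hu => Subgroup.mem_centralizer_iff.2 fun v hv => (E_comm hv hu).eq)
    (Subgroup.zpowers_le.2 (Subgroup.mem_centralizer_iff.2 fun v hv => (dd_comm_E hv).eq))) fun g hg => ?_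
  have hx : Commute g L.x := (Subgroup.mem_centralizer_iff.1 hg _ x_mem_E).symm
  obtain ⟨a, k, hk, rfl⟩ := centralizer_x hx
  have hcc : Commute k cc := by
    have h1 : Commute (L.x ^ (a : ℕ) * k) cc := (Subgroup.mem_centralizer_iff.1 hg _ cc_mem_E).symm
    have := ((x_comm_cc.pow_left (a : ℕ)).inv_left).mul_left h1
    rwa [inv_mul_cancel_left] at this
  obtain ⟨i, j, rfl⟩ := K_centralizer hk hcc
  rw [← mul_assoc]
  exact Subgroup.mul_mem_sup (mul_mem (pow_mem x_mem_E _) (pow_mem cc_mem_E _)) (pow_mem (Subgroup.mem_zpowers _) _)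

theorem dd_props : dd ∈ Fi23.D ∧ E ⊓ Subgroup.zpowers dd = ⊥ := by
  have hi := pair_lt 5 6
  obtain ⟨⟨hlt, -, hel⟩, -⟩ := Rigid.good_fix L_valid.rigid hi
  have hdd : dd = trN (pe (L.R.fixE (pairI 5 6))) := by
    rw [dd, Rigid.esW, List.flatMap_cons, List.flatMap_nil, List.append_nil]
    exact hel
  refine ⟨hdd ▸ trN_mem hlt, ?_⟩
  rw [eq_bot_iff]
  rintro u ⟨hu, hu'⟩
  rw [Subgroup.mem_bot]
  have h2 : orderOf u ∣ 2 := by
    obtain ⟨j, rfl⟩ := Subgroup.mem_zpowers_iff.1 hu'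
    have hsq : dd ^ 2 = 1 := by
      rw [sq, hdd]
      conv_lhs => arg 1; rw [← trN_inv hlt]
      exact inv_mul_cancel _
    exact orderOf_dvd_of_pow_eq_one (by rw [← zpow_natCast, ← zpow_mul, mul_comm, zpow_mul, zpow_natCast, hsq, one_zpow])
  have h5 : orderOf u ∣ 5 := orderOf_dvd_of_pow_eq_one (E_pow hu)
  exact orderOf_eq_one_iff.1 (Nat.dvd_one.1 ((Nat.dvd_gcd h2 h5).trans (by norm_num)))

theorem x_conj_of_mem {u : GG} (hu : u ∈ E) (hu1 : u ≠ 1) :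
    ∃ n ∈ Subgroup.normalizer (E : Set GG), n * L.x * n⁻¹ = u := by
  haveI := Fi23.order_facts.1
  haveI : Fact (Nat.Prime 5) := ⟨by norm_num⟩
  -- conjugate in the whole group
  have hY : Nat.card (Subgroup.zpowers u) = 5 := by
    rw [Nat.card_zpowers, orderOf_eq_prime (E_pow hu) hu1]
  obtain ⟨g, hg⟩ := sub_conj hY (Subgroup.zpowers_le.2 hu)
  obtain ⟨j, hj⟩ : ∃ j : ℕ, j < 5 ∧ g * L.x ^ j * g⁻¹ = u := by
    have hmem : u ∈ (Subgroup.zpowers L.x).map (MulAut.conj g).toMonoidHom := hg ▸ Subgroup.mem_zpowers u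
    obtain ⟨z, hz, e⟩ := hmem
    obtain ⟨n, rfl⟩ := ((isOfFinOrder_of_finite L.x).mem_powers_iff_mem_zpowers).2 hz
    refine ⟨n % 5, Nat.mod_lt _ (by norm_num), ?_⟩
    rw [← pow_eq_pow_mod _ (show L.x ^ 5 = 1 from Rigid.x_pow_m L_valid.rigid)]
    exact e
  have hj0 : j ≠ 0 := fun h0 => hu1 (by rw [← hj.2, h0, pow_zero, mul_one, mul_inv_cancel])
  obtain ⟨i, hi⟩ : ∃ i : ℕ, 2 ^ i % 5 = j := by
    obtain ⟨hj5, -⟩ := hj
    interval_cases j
    · exact absurd rfl hj0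
    · exact ⟨0, rfl⟩
    · exact ⟨1, rfl⟩
    · exact ⟨3, rfl⟩
    · exact ⟨2, rfl⟩
  have hgy : g * L.y ^ i * L.x * (g * L.y ^ i)⁻¹ = u := by
    have h1 := LocalCert.y_pow_mul L_valid i 1
    rw [pow_one, one_mul] at h1
    calc g * L.y ^ i * L.x * (g * L.y ^ i)⁻¹ = g * (L.y ^ i * L.x) * (L.y ^ i)⁻¹ * g⁻¹ := by group
      _ = g * L.x ^ (2 ^ i) * g⁻¹ := by rw [h1, show L.k0 = 2 from rfl]; group
      _ = u := by rw [pow_eq_pow_mod _ (show L.x ^ 5 = 1 from Rigid.x_pow_m L_valid.rigid), hi, hj.2]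
  set g' := g * L.y ^ i
  -- move inside the centraliser of u
  let C := Subgroup.centralizer ({u} : Set GG)
  set E' := E.map (MulAut.conj g').toMonoidHom with hE'
  have h1 : E ≤ C := fun v hv => Subgroup.mem_centralizer_singleton_iff.2 (E_comm hv hu).eq
  have h2 : E' ≤ C := by
    rintro _ ⟨v, hv, rfl⟩
    refine Subgroup.mem_centralizer_singleton_iff.2 ?_
    show MulAut.conj g' v * u = u * MulAut.conj g' v
    rw [← hgy]
    show MulAut.conj g' v * MulAut.conj g' L.x = MulAut.conj g' L.x * MulAut.conj g' v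
    rw [← map_mul, ← map_mul, (E_comm hv x_mem_E).eq]
  have hsyl : ∀ S : Subgroup GG, Nat.card S = 25 → S ≤ C → ∃ P : Sylow 5 C, (P : Subgroup C) = S.subgroupOf C := by
    intro S hS hle
    have hcard : Nat.card (S.subgroupOf C) = 25 := by rw [Nat.card_congr (Subgroup.subgroupOfEquivOfLe hle).toEquiv, hS]
    obtain ⟨Q, hQ⟩ := (IsPGroup.of_card (p := 5) (n := 2) (G := S.subgroupOf C) (by rw [hcard]; norm_num)).exists_le_sylow
    refine ⟨Q, (Subgroup.eq_of_le_of_card_ge hQ ?_).symm⟩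
    obtain ⟨n, hn⟩ := IsPGroup.iff_card.1 Q.2
    have hdvd : Nat.card (Q : Subgroup C) ∣ Nat.card GG := (Subgroup.card_subgroup_dvd_card _).trans (Subgroup.card_subgroup_dvd_card C)
    rw [hn, hcard]
    rw [hn, card_GG] at hdvd
    by_contra hlt
    have h3 : 5 ^ 3 ∣ 5 ^ n := pow_dvd_pow 5 (by
      by_contra h'
      interval_cases n <;> simp at hlt)
    exact absurd (h3.trans hdvd) (by norm_num)
  obtain ⟨P₁, hP₁⟩ := hsyl E card_E h1
  obtain ⟨P₂, hP₂⟩ := hsyl E' (by rw [hE', Subgroup.card_map_of_injective (MulAut.conj g').injective, card_E]) h2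
  obtain ⟨c, hc⟩ := MulAction.exists_smul_eq C P₂ P₁
  have hEE : E.map (MulAut.conj ((c : GG) * g')).toMonoidHom = E := by
    refine Subgroup.eq_of_le_of_card_ge ?_ (by rw [Subgroup.card_map_of_injective (MulAut.conj _).injective])
    rintro _ ⟨v, hv, rfl⟩
    have hm : c * ⟨MulAut.conj g' v, h2 ⟨v, hv, rfl⟩⟩ * c⁻¹ ∈ (P₁ : Subgroup C) := by
      rw [← hc, Sylow.coe_subgroup_smul, hP₂]
      exact ⟨_, (show (⟨MulAut.conj g' v, h2 ⟨v, hv, rfl⟩⟩ : C) ∈ E'.subgroupOf C from ⟨v, hv, rfl⟩), rfl⟩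
    rw [hP₁, Subgroup.mem_subgroupOf] at hm
    convert hm using 1
    simp [mul_assoc]
  refine ⟨(c : GG) * g', Subgroup.mem_normalizer_iff.2 fun v => ?_, ?_⟩
  · conv_rhs => rw [← hEE]
    constructor
    · exact fun hv => ⟨v, hv, rfl⟩
    · rintro ⟨w, hw, e'⟩
      simp only [MulEquiv.coe_toMonoidHom, MulAut.conj_apply] at e'
      rwa [← mul_left_cancel (mul_right_cancel e')]
  · calc (c : GG) * g' * L.x * ((c : GG) * g')⁻¹ = c * (g' * L.x * g'⁻¹) * (c : GG)⁻¹ := by group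
      _ = u := by rw [hgy, Subgroup.mem_centralizer_singleton_iff.1 c.2, mul_inv_cancel_right]

/-- The stabiliser of the element in the normaliser. -/
noncomputable def st (t : (Fin 5 × Fin 5) × (Fin 2 × Fin 4)) : GG :=
  L.x ^ (t.1.1 : ℕ) * (cc ^ (t.1.2 : ℕ) * dd ^ (t.2.1 : ℕ) * ww ^ (t.2.2 : ℕ))

theorem ww_pow_cc : ∀ n : ℕ, ww ^ n * cc * (ww ^ n)⁻¹ = cc ^ (2 ^ n)
  | 0 => by simp
  | n + 1 => by
    calc ww ^ (n + 1) * cc * (ww ^ (n + 1))⁻¹ = ww * (ww ^ n * cc * (ww ^ n)⁻¹) * ww⁻¹ := by rw [pow_succ']; group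
      _ = (ww * cc * ww⁻¹) ^ (2 ^ n) := by rw [ww_pow_cc n, conj_pow]
      _ = cc ^ (2 ^ (n + 1)) := by rw [ww_cc, ← pow_mul, pow_succ']

theorem st_mem (t : (Fin 5 × Fin 5) × (Fin 2 × Fin 4)) :
    st t ∈ Subgroup.normalizer (E : Set GG) ∧ Commute (st t) L.x := by
  haveI := Fi23.order_facts.1
  obtain ⟨⟨hc, -⟩, ⟨hd, -⟩, ⟨hw, -⟩⟩ := mem_rel
  have hk : cc ^ (t.1.2 : ℕ) * dd ^ (t.2.1 : ℕ) * ww ^ (t.2.2 : ℕ) ∈ L.K :=
    mul_mem (mul_mem (pow_mem hc _) (pow_mem hd _)) (pow_mem hw _)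
  refine ⟨?_, ((Commute.refl L.x).pow_left _).mul_left (LocalCert.F_commute L_valid (LocalCert.x_mem_F L_valid) hk).symm⟩
  have hN : ∀ u : GG, Commute u L.x → (∃ n : ℕ, u * cc * u⁻¹ = cc ^ n) → u ∈ Subgroup.normalizer (E : Set GG) := by
    intro u hux ⟨n, hn⟩
    have hle : E.map (MulAut.conj u).toMonoidHom ≤ E := by
      rw [E, MonoidHom.map_closure, Subgroup.closure_le]
      rintro _ ⟨v, hv, rfl⟩
      rcases hv with rfl | rfl
      · show u * L.x * u⁻¹ ∈ E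
        rw [hux.eq, mul_inv_cancel_right]; exact x_mem_E
      · show u * cc * u⁻¹ ∈ E
        rw [hn]; exact pow_mem cc_mem_E _
    have heq := Subgroup.eq_of_le_of_card_ge hle (by rw [Subgroup.card_map_of_injective (MulAut.conj u).injective])
    refine Subgroup.mem_normalizer_iff.2 fun v => ?_
    conv_rhs => rw [← heq]
    constructor
    · exact fun hv => ⟨v, hv, rfl⟩
    · rintro ⟨w, hw', e'⟩
      simp only [MulEquiv.coe_toMonoidHom, MulAut.conj_apply] at e'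
      rwa [← mul_left_cancel (mul_right_cancel e')]
  refine mul_mem (pow_mem (hN _ (Commute.refl _) ⟨1, by rw [x_comm_cc.eq, mul_inv_cancel_right, pow_one]⟩) _)
    (mul_mem (mul_mem (pow_mem (Subgroup.le_normalizer cc_mem_E) _) (pow_mem (hN _ ?_ ⟨1, ?_⟩) _))
      (pow_mem (hN _ ?_ ⟨2, ww_cc⟩) _))
  · exact (LocalCert.F_commute L_valid (LocalCert.x_mem_F L_valid) hd).symm
  · rw [dd_cc.symm.eq, mul_inv_cancel_right, pow_one]
  · exact (LocalCert.F_commute L_valid (LocalCert.x_mem_F L_valid) hw).symm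

theorem st_surj {g : GG} (hg : g ∈ Subgroup.normalizer (E : Set GG)) (hx : Commute g L.x) : ∃ t, st t = g := by
  obtain ⟨a, k, hk, rfl⟩ := centralizer_x hx
  obtain ⟨⟨hc, hcr⟩, -, ⟨hw, -⟩⟩ := mem_rel
  have hm : k * cc * k⁻¹ ∈ E := by
    have := (Subgroup.mem_normalizer_iff.1 hg cc).1 cc_mem_E
    have e : L.x ^ (a : ℕ) * k * cc * (L.x ^ (a : ℕ) * k)⁻¹ = k * cc * k⁻¹ := by
      have hcom : Commute (L.x ^ (a : ℕ)) (k * cc * k⁻¹) :=
        (show Commute L.x (k * cc * k⁻¹) from LocalCert.F_commute L_valid (LocalCert.x_mem_F L_valid)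
          (mul_mem (mul_mem hk hc) (inv_mem hk))).pow_left _
      calc L.x ^ (a : ℕ) * k * cc * (L.x ^ (a : ℕ) * k)⁻¹ = L.x ^ (a : ℕ) * (k * cc * k⁻¹) * (L.x ^ (a : ℕ))⁻¹ := by group
        _ = k * cc * k⁻¹ := by rw [hcom.eq, mul_inv_cancel_right]
    rwa [e] at this
  obtain ⟨c, b, -, hb, e⟩ := mem_E.1 hm
  have hxa : L.x ^ c = 1 := X_inf_K (pow_mem (Subgroup.mem_zpowers _) _) (by
    have : L.x ^ c = k * cc * k⁻¹ * (cc ^ b)⁻¹ := by rw [e, mul_inv_cancel_right]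
    rw [this]; exact mul_mem (mul_mem (mul_mem hk hc) (inv_mem hk)) (inv_mem (pow_mem hc _)))
  rw [hxa, one_mul] at e
  obtain ⟨n, hn⟩ : ∃ n : Fin 4, 2 ^ (n : ℕ) % 5 = b := by
    interval_cases b
    · exfalso
      rw [pow_zero, mul_inv_eq_one, mul_eq_left] at e
      exact cc_ne_one e
    · exact ⟨0, rfl⟩
    · exact ⟨1, rfl⟩
    · exact ⟨3, rfl⟩
    · exact ⟨2, rfl⟩
  have hcm : Commute ((ww ^ (n : ℕ))⁻¹ * k) cc := by
    have h1 : k * cc * k⁻¹ = ww ^ (n : ℕ) * cc * (ww ^ (n : ℕ))⁻¹ := by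
      rw [ww_pow_cc, e, ← hn, ← pow_eq_pow_mod _ cc_pow]
    calc (ww ^ (n : ℕ))⁻¹ * k * cc = (ww ^ (n : ℕ))⁻¹ * (k * cc * k⁻¹) * k := by group
      _ = cc * ((ww ^ (n : ℕ))⁻¹ * k) := by rw [h1]; group
  obtain ⟨i, j, e2⟩ := K_centralizer (mul_mem (inv_mem (pow_mem hw _)) hk) hcm
  have hk' : k = ww ^ (n : ℕ) * (cc ^ (i : ℕ) * dd ^ (j : ℕ)) := by rw [← e2, mul_inv_cancel_left]
  -- bring the cycle power to the left
  have hdw : Commute dd ww := by
    obtain ⟨-, ⟨hd, hdr⟩, ⟨_, hwr⟩⟩ := mem_rel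
    refine eq_of_rel (mul_mem hd hw) (mul_mem hw hd) (LocalCert.PairLabel.rel_mul lab_valid hdr hwr) ?_
    have : wP * Equiv.swap (5 : Fin 7) 6 = Equiv.swap 5 6 * wP := by decide +kernel
    exact this ▸ LocalCert.PairLabel.rel_mul lab_valid hwr hdr
  refine ⟨((a, ⟨(2 ^ (n : ℕ) * (i : ℕ)) % 5, Nat.mod_lt _ (by norm_num)⟩), (j, n)), ?_⟩
  rw [st, hk']
  congr 1
  show cc ^ ((2 ^ (n : ℕ) * (i : ℕ)) % 5) * dd ^ (j : ℕ) * ww ^ (n : ℕ) = _
  have h3 : ww ^ (n : ℕ) * cc ^ (i : ℕ) = cc ^ (2 ^ (n : ℕ) * (i : ℕ)) * ww ^ (n : ℕ) := by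
    rw [pow_mul, ← ww_pow_cc, conj_pow, inv_mul_cancel_right]
  rw [← pow_eq_pow_mod _ cc_pow, mul_assoc, (hdw.pow_pow _ _).eq, ← mul_assoc, ← h3, mul_assoc]

theorem st_inj : Function.Injective st := by
  rintro ⟨⟨a, b⟩, ⟨c, d⟩⟩ ⟨⟨a', b'⟩, ⟨c', d'⟩⟩ h
  obtain ⟨⟨hc, hcr⟩, ⟨hd, hdr⟩, ⟨hw, hwr⟩⟩ := mem_rel
  simp only [st] at h
  have hA : (L.x ^ (a' : ℕ))⁻¹ * L.x ^ (a : ℕ) =
      cc ^ (b' : ℕ) * dd ^ (c' : ℕ) * ww ^ (d' : ℕ) * (cc ^ (b : ℕ) * dd ^ (c : ℕ) * ww ^ (d : ℕ))⁻¹ := by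
    rw [eq_mul_inv_iff_mul_eq, mul_assoc, inv_mul_eq_iff_eq_mul, h]
  have hk : ∀ p q r : ℕ, cc ^ p * dd ^ q * ww ^ r ∈ L.K := fun p q r =>
    mul_mem (mul_mem (pow_mem hc _) (pow_mem hd _)) (pow_mem hw _)
  have h1 := X_inf_K (mul_mem (inv_mem (pow_mem (Subgroup.mem_zpowers _) _)) (pow_mem (Subgroup.mem_zpowers _) _))
    (hA ▸ mul_mem (hk _ _ _) (inv_mem (hk _ _ _)))
  rw [h1, eq_comm, mul_inv_eq_one] at hA
  have hrel := fun p q r : ℕ => LocalCert.PairLabel.rel_mul lab_valid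
    (LocalCert.PairLabel.rel_mul lab_valid (rel_pow hcr p) (rel_pow hdr q)) (rel_pow hwr r)
  have hperm := LocalCert.PairLabel.rel_unique lab_valid L_valid nodup (hrel b c d) (hA ▸ hrel b' c' d')
  have key : ∀ u v : Fin 5 × Fin 2 × Fin 4, cP ^ (u.1 : ℕ) * Equiv.swap (5 : Fin 7) 6 ^ (u.2.1 : ℕ) * wP ^ (u.2.2 : ℕ) =
      cP ^ (v.1 : ℕ) * Equiv.swap (5 : Fin 7) 6 ^ (v.2.1 : ℕ) * wP ^ (v.2.2 : ℕ) → u = v := by decide +kernel
  have h2 := key (b, c, d) (b', c', d') hperm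
  have h3 : (a : ℕ) % 5 = (a' : ℕ) % 5 := by
    have := inv_mul_eq_one.1 h1
    rw [pow_eq_pow_iff_modEq, LocalCert.orderOf_x L_valid] at this
    exact Nat.ModEq.symm this
  rw [Nat.mod_eq_of_lt a.2, Nat.mod_eq_of_lt a'.2] at h3
  simp only [Prod.mk.injEq] at h2 ⊢
  exact ⟨⟨Fin.ext h3, h2.1⟩, h2.2.1, h2.2.2⟩

theorem card_normalizer : Nat.card (Subgroup.normalizer (E : Set GG)) = 4800 := by
  haveI := Fi23.order_facts.1
  classical
  haveI : Fintype GG := Fintype.ofFinite GG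
  let N := Subgroup.normalizer (E : Set GG)
  let tgt := {u : GG // u ∈ E ∧ u ≠ 1}
  choose c hc hcx using fun u : tgt => x_conj_of_mem u.2.1 u.2.2
  let f : tgt × ((Fin 5 × Fin 5) × (Fin 2 × Fin 4)) → N := fun p => ⟨c p.1 * st p.2, mul_mem (hc p.1) (st_mem p.2).1⟩
  have hb : Function.Bijective f := by
    constructor
    · rintro ⟨u, t⟩ ⟨u', t'⟩ h
      have h' : c u * st t = c u' * st t' := congrArg Subtype.val h
      have key : ∀ (u : tgt) t, c u * st t * L.x * (c u * st t)⁻¹ = u.1 := fun u t => by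
        calc c u * st t * L.x * (c u * st t)⁻¹ = c u * (st t * L.x * (st t)⁻¹) * (c u)⁻¹ := by group
          _ = u.1 := by rw [(st_mem t).2.eq, mul_inv_cancel_right, hcx]
      obtain rfl : u = u' := Subtype.ext ((key u t).symm.trans ((by rw [h']) : _ = c u' * st t' * L.x * (c u' * st t')⁻¹) |>.trans (key u' t'))
      exact Prod.ext rfl (st_inj (mul_left_cancel h'))
    · rintro ⟨g, hg⟩
      have hu : g * L.x * g⁻¹ ∈ E := (Subgroup.mem_normalizer_iff.1 hg _).1 x_mem_E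
      have hu1 : g * L.x * g⁻¹ ≠ 1 := fun e => LocalCert.x_ne_one L_valid (conj_eq_one_iff.1 e)
      set u : tgt := ⟨_, hu, hu1⟩
      obtain ⟨t, ht⟩ := st_surj (g := (c u)⁻¹ * g) (mul_mem (inv_mem (hc u)) hg) (by
        have h1 : c u * L.x * (c u)⁻¹ = g * L.x * g⁻¹ := hcx u
        calc (c u)⁻¹ * g * L.x = (c u)⁻¹ * (g * L.x * g⁻¹) * g := by group
          _ = L.x * ((c u)⁻¹ * g) := by rw [← h1]; group)
      exact ⟨(u, t), Subtype.ext (by show c u * st t = g; rw [ht, mul_inv_cancel_left])⟩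
  rw [← Nat.card_eq_of_bijective f hb, Nat.card_prod, Nat.card_prod, Nat.card_prod, Nat.card_prod]
  have ht : Nat.card tgt = 24 := by
    have h1 : (Finset.univ.filter fun u : GG => u ∈ E).card = 25 := by
      rw [← card_E, ← Nat.card_eq_finsetCard]; exact Nat.card_congr (Equiv.subtypeEquivRight fun u => by simp)
    have h2 : Nat.card tgt = ((Finset.univ.filter fun u : GG => u ∈ E).erase 1).card := by
      rw [← Nat.card_eq_finsetCard]; exact Nat.card_congr (Equiv.subtypeEquivRight fun u => by simp [and_comm])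
    rw [h2, Finset.card_erase_of_mem (by simp [one_mem]), h1]
  rw [ht]
  simp

end Cfsg.Agent.Fi23Local.P5
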