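import Cfsg.Agent.Lib.Fi23Local.Classify

/-!
Normaliser and centraliser of the cyclic group of a certified element of the presented Fi23.
-/

set_option autoImplicit false
set_option maxRecDepth 100000

namespace Cfsg.Agent.Fi23Local

open Cfsg.Agent.CosetCert
open Cfsg.Agent.FischerPresented

/-- A certificate with a normalising element and the exponents it leaves. -/
structure LocalCert where
  R : Rigid
  yw : List ℕ
  e : ℕ
  k0 : ℕ

theorem allBelow_of' {f : ℕ → Bool} : ∀ {n : ℕ}, (∀ j < n, f j = true) → allBelow f n = true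
  | 0, _ => rfl
  | n + 1, h => by
    have h1 := h n (by omega)
    have h2 : allBelow f n = true := allBelow_of' fun j hj => h j (by omega)
    simp only [allBelow] at h2 ⊢
    simp [h1, h2]

namespace LocalCert

variable (L : LocalCert)

/-- The checks. -/
noncomputable def locOK : Bool :=
  Nat.blt 1 L.e && (wok L.yw && ((L.R.fixP.all fun f => Nat.beq (act L.yw f) f) &&
    (sameW (L.R.xw ++ L.yw) (L.yw ++ rep L.k0 L.R.xw) && (sameW (rep L.e L.yw) [] &&
    (Nat.beq (L.k0 ^ L.e % L.R.m) 1 &&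
    (allBelow (fun b => Nat.beq b 0 || !(Nat.beq (L.k0 ^ b % L.R.m) 1)) L.e &&
    (allBelow (fun k => Nat.beq k 0 || !(allBelow (fun i => !(Nat.beq (k * L.k0 ^ i % L.R.m) 1 ||
      (Nat.beq (k * L.k0 ^ i % L.R.m) L.R.kb && !(Nat.beq L.R.kb 0)))) L.e)) L.R.m &&
    (L.R.inn.all fun e => e.2.2.all fun i => Nat.blt i L.R.fixs.length))))))))

/-- The element. -/
noncomputable abbrev x : GG := L.R.x

/-- The normalising element. -/
noncomputable def y : GG := el L.yw

/-- The Frobenius part of the normaliser. -/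
noncomputable def F : Subgroup GG := Subgroup.closure {L.x, L.y}

/-- The transpositions centralising the element generate this. -/
noncomputable def K : Subgroup GG := Subgroup.closure (trN '' {p | p ∈ L.R.fixP})

/-- All conditions. -/
structure Valid : Prop where
  rigid : L.R.Valid
  loc : L.locOK = true
  prime : L.R.m.Prime

variable {L}

section

variable (hL : L.Valid)

include hL

theorem loc' :
    1 < L.e ∧ wok L.yw = true ∧ (∀ f ∈ L.R.fixP, act L.yw f = f) ∧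
    sameW (L.R.xw ++ L.yw) (L.yw ++ rep L.k0 L.R.xw) = true ∧ sameW (rep L.e L.yw) [] = true ∧
    L.k0 ^ L.e % L.R.m = 1 ∧ (∀ b < L.e, b ≠ 0 → L.k0 ^ b % L.R.m ≠ 1) ∧
    (∀ k < L.R.m, k ≠ 0 → ∃ i < L.e, k * L.k0 ^ i % L.R.m = 1 ∨
      (k * L.k0 ^ i % L.R.m = L.R.kb ∧ L.R.kb ≠ 0)) ∧
    (∀ e ∈ L.R.inn, ∀ i ∈ e.2.2, i < L.R.fixs.length) := by
  have h := hL.loc
  simp only [locOK, Bool.and_eq_true, List.all_eq_true, Nat.blt_eq, Nat.beq_eq] at h
  obtain ⟨h1, h2, h3, h4, h5, h6, h7, h8, h9⟩ := h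
  refine ⟨h1, h2, h3, h4, h5, h6, fun b hb hb0 he => ?_, fun k hk hk0 => ?_, h9⟩
  · have := allBelow_spec h7 hb
    simp [hb0, he] at this
  · have := allBelow_spec h8 hk
    rw [Bool.or_eq_true, Nat.beq_eq, Bool.not_eq_true'] at this
    by_contra hcon
    push Not at hcon
    have hall : ∀ i < L.e, (!(Nat.beq (k * L.k0 ^ i % L.R.m) 1 ||
        (Nat.beq (k * L.k0 ^ i % L.R.m) L.R.kb && !(Nat.beq L.R.kb 0)))) = true := by
      intro i hi
      obtain ⟨a, b⟩ := hcon i hi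
      rw [Bool.not_eq_true', Bool.eq_false_iff]
      intro hh
      simp only [Bool.or_eq_true, Bool.and_eq_true, Nat.beq_eq, Bool.not_eq_true'] at hh
      rcases hh with hh | ⟨hh, hh'⟩
      · exact a hh
      · rw [b hh, Nat.beq_refl] at hh'
        exact Bool.noConfusion hh'
    have := this.resolve_left hk0
    rw [allBelow_of' hall] at this
    exact Bool.noConfusion this

theorem x_ne_one : L.x ≠ 1 := by
  intro h
  obtain ⟨-, -, -, -, -, -, hq, -⟩ := Rigid.base' hL.rigid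
  exact (Rigid.good_rep hL.rigid hq).2 (by rw [show L.R.x = 1 from h, apt_one])

theorem orderOf_x : orderOf L.x = L.R.m := by
  have := Fact.mk hL.prime
  exact orderOf_eq_prime (Rigid.x_pow_m hL.rigid) (x_ne_one hL)

theorem card_X : Nat.card (Subgroup.zpowers L.x) = L.R.m := by
  rw [Nat.card_zpowers, orderOf_x hL]

theorem y_mul_x : L.y * L.x = L.x ^ L.k0 * L.y := by
  have := el_eq (loc' hL).2.2.2.1
  rwa [el_append, el_append, el_rep] at this

theorem y_pow_e : L.y ^ L.e = 1 := by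
  rw [y, ← el_rep, el_eq (loc' hL).2.2.2.2.1, el_nil]

theorem y_pow_mul (b c : ℕ) : L.y ^ b * L.x ^ c = L.x ^ (c * L.k0 ^ b) * L.y ^ b := by
  have h1 : ∀ c, L.y * L.x ^ c = L.x ^ (c * L.k0) * L.y := by
    intro c
    induction c with
    | zero => simp
    | succ c ih => rw [pow_succ, ← mul_assoc, ih, mul_assoc, y_mul_x hL, ← mul_assoc, ← pow_add, Nat.succ_mul]
  induction b generalizing c with
  | zero => simp
  | succ b ih => rw [pow_succ, mul_assoc, h1, ← mul_assoc, ih, mul_assoc, mul_assoc, pow_succ' L.k0]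

theorem mem_F {g : GG} : g ∈ L.F ↔ ∃ a b : ℕ, g = L.x ^ a * L.y ^ b := by
  constructor
  · intro h
    induction h using Subgroup.closure_induction'' with
    | mem g hg =>
      rcases hg with rfl | rfl
      · exact ⟨1, 0, by simp⟩
      · exact ⟨0, 1, by simp⟩
    | inv_mem g hg =>
      rcases hg with rfl | rfl
      · refine ⟨L.R.m - 1, 0, ?_⟩
        rw [pow_zero, mul_one, inv_eq_of_mul_eq_one_right]
        rw [← pow_succ', Nat.sub_add_cancel hL.prime.one_le]
        exact Rigid.x_pow_m hL.rigid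
      · refine ⟨0, L.e - 1, ?_⟩
        rw [pow_zero, one_mul, inv_eq_of_mul_eq_one_right]
        rw [← pow_succ', Nat.sub_add_cancel (loc' hL).1.le]
        exact y_pow_e hL
    | one => exact ⟨0, 0, by simp⟩
    | mul g h _ _ hg hh =>
      obtain ⟨a, b, rfl⟩ := hg
      obtain ⟨c, d, rfl⟩ := hh
      refine ⟨a + c * L.k0 ^ b, b + d, ?_⟩
      rw [pow_add, pow_add, mul_assoc (L.x ^ a), ← mul_assoc (L.y ^ b), y_pow_mul hL]
      simp only [mul_assoc]
  · rintro ⟨a, b, rfl⟩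
    exact L.F.mul_mem (L.F.pow_mem (Subgroup.subset_closure (Or.inl rfl)) a)
      (L.F.pow_mem (Subgroup.subset_closure (Or.inr rfl)) b)

theorem x_mem_F : L.x ∈ L.F := Subgroup.subset_closure (Or.inl rfl)

theorem X_le_F : Subgroup.zpowers L.x ≤ L.F := Subgroup.zpowers_le.2 (x_mem_F hL)

theorem y_pow_of_comm {a b : ℕ} (h : Commute (L.x ^ a * L.y ^ b) L.x) : L.y ^ b = 1 := by
  obtain ⟨he, -, -, -, -, hk, hord, -⟩ := loc' hL
  have h' : L.x ^ (a + 1 * L.k0 ^ b) * L.y ^ b = L.x ^ (1 + a) * L.y ^ b := by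
    have := h.eq
    rw [mul_assoc, ← pow_one L.x, ← pow_mul, one_mul, y_pow_mul hL, ← mul_assoc, ← mul_assoc, ← pow_add, ← pow_add] at this
    exact this
  rw [mul_left_inj, pow_eq_pow_iff_modEq, orderOf_x hL, one_mul, Nat.add_comm 1 a] at h'
  have h2 : L.k0 ^ b % L.R.m = 1 := by
    have h2 : L.k0 ^ b % L.R.m = 1 % L.R.m := Nat.ModEq.add_left_cancel' a h'
    rw [h2, Nat.mod_eq_of_lt hL.prime.one_lt]
  have h3 : L.k0 ^ (b % L.e) % L.R.m = 1 := by
    rw [← Nat.mod_add_div b L.e, pow_add, pow_mul, Nat.mul_mod, Nat.pow_mod (L.k0 ^ L.e), hk, one_pow,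
      Nat.mod_eq_of_lt hL.prime.one_lt, mul_one, Nat.mod_mod] at h2
    exact h2
  have hb : b % L.e = 0 := by
    by_contra hb
    exact hord _ (Nat.mod_lt _ (lt_trans one_pos he)) hb h3
  rw [← Nat.mod_add_div b L.e, hb, Nat.zero_add, pow_mul, y_pow_e hL, one_pow]

theorem F_inf_centralizer : L.F ⊓ Subgroup.centralizer ((Subgroup.zpowers L.x : Subgroup GG) : Set GG) =
    Subgroup.zpowers L.x := by
  refine le_antisymm ?_ (le_inf (X_le_F hL) ?_)
  · rintro g ⟨hg, hc⟩
    obtain ⟨a, b, rfl⟩ := (mem_F hL).1 hg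
    rw [y_pow_of_comm hL (a := a) (b := b) (Subgroup.mem_centralizer_iff.1 hc L.x (Subgroup.mem_zpowers _)).symm, mul_one]
    exact Subgroup.pow_mem _ (Subgroup.mem_zpowers _) a
  · intro g hg
    rw [Subgroup.mem_centralizer_iff]
    intro h hh
    obtain ⟨i, rfl⟩ := Subgroup.mem_zpowers_iff.1 hg
    obtain ⟨j, rfl⟩ := Subgroup.mem_zpowers_iff.1 hh
    exact (Commute.refl L.x).zpow_zpow j i

theorem card_F : Nat.card L.F = L.R.m * L.e := by
  obtain ⟨he, -⟩ := loc' hL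
  let f : Fin L.R.m × Fin L.e → L.F := fun p =>
    ⟨L.x ^ (p.1 : ℕ) * L.y ^ (p.2 : ℕ), (mem_F hL).2 ⟨_, _, rfl⟩⟩
  have key : ∀ {a a' b b' : ℕ}, b ≤ b' → L.x ^ a * L.y ^ b = L.x ^ a' * L.y ^ b' →
      L.y ^ (b' - b) = 1 := by
    intro a a' b b' hb h
    rw [← Nat.sub_add_cancel hb, pow_add, ← mul_assoc, mul_left_inj] at h
    refine y_pow_of_comm hL (a := a') ?_
    rw [← h]
    exact (Commute.refl L.x).pow_left a
  have hy : ∀ n < L.e, L.y ^ n = 1 → n = 0 := by
    intro n hn h1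
    by_contra h0
    refine (loc' hL).2.2.2.2.2.2.1 n hn h0 ?_
    have h2 := y_pow_mul hL n 1
    rw [h1, one_mul, mul_one, one_mul, pow_eq_pow_iff_modEq, orderOf_x hL] at h2
    rw [← (h2 : 1 % L.R.m = L.k0 ^ n % L.R.m), Nat.mod_eq_of_lt hL.prime.one_lt]
  have hf : Function.Bijective f := by
    constructor
    · rintro ⟨a, b⟩ ⟨a', b'⟩ h
      have h' : L.x ^ (a : ℕ) * L.y ^ (b : ℕ) = L.x ^ (a' : ℕ) * L.y ^ (b' : ℕ) := congrArg Subtype.val h
      have hbb : b = b' := by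
        rcases le_total (b : ℕ) (b' : ℕ) with hb | hb
        · have := hy _ (lt_of_le_of_lt (Nat.sub_le _ _) b'.2) (key hb h')
          exact Fin.ext (by omega)
        · have := hy _ (lt_of_le_of_lt (Nat.sub_le _ _) b.2) (key hb h'.symm)
          exact Fin.ext (by omega)
      subst hbb
      rw [mul_left_inj, pow_eq_pow_iff_modEq, orderOf_x hL, Nat.ModEq, Nat.mod_eq_of_lt a.2,
        Nat.mod_eq_of_lt a'.2] at h'
      rw [Fin.ext h']
    · rintro ⟨g, hg⟩
      obtain ⟨a, b, rfl⟩ := (mem_F hL).1 hg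
      refine ⟨(⟨a % L.R.m, Nat.mod_lt _ hL.prime.pos⟩, ⟨b % L.e, Nat.mod_lt _ (lt_trans one_pos he)⟩), ?_⟩
      refine Subtype.ext ?_
      show L.x ^ (a % L.R.m) * L.y ^ (b % L.e) = _
      show _ = L.x ^ a * L.y ^ b
      rw [← pow_mod_orderOf L.x a, orderOf_x hL]
      congr 1
      conv_rhs => rw [← Nat.mod_add_div b L.e, pow_add, pow_mul, y_pow_e hL, one_pow, mul_one]
  rw [← Nat.card_eq_of_bijective f hf, Nat.card_prod, Nat.card_fin, Nat.card_fin]

theorem fix_lt {p : ℕ} (hp : p ∈ L.R.fixP) : p < 31671 := by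
  obtain ⟨i, hi, rfl⟩ := Rigid.fixP_mem hL.rigid hp
  exact (Rigid.good_fix hL.rigid hi).1.1

theorem fix_x_iff {p : ℕ} (hp : p < 31671) : apt L.x p = p ↔ p ∈ L.R.fixP := by
  refine ⟨fun h => ?_, fun h => Rigid.apt_x_fix hL.rigid h⟩
  obtain ⟨hm, hw, -, -, hrep, -, -, hcov, -⟩ := Rigid.base' hL.rigid
  rcases hcov p hp with hf | ⟨r, hr, j, hj, e⟩
  · exact hf
  · exfalso
    obtain ⟨hg, hne⟩ := Rigid.good_rep hL.rigid (hrep r hr)
    rw [← apt_el (wok_rep hw j) hg.1, el_rep, show el L.R.xw = L.R.x from rfl] at e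
    refine hne (apt_injective (L.R.x ^ j) ?_)
    rw [← apt_mul, ← pow_succ, pow_succ', apt_mul, ← e]
    exact h

theorem D_inter : Fi23.D ∩ (Subgroup.centralizer ((Subgroup.zpowers L.x : Subgroup GG) : Set GG) : Set GG) =
    trN '' {p | p ∈ L.R.fixP} := by
  ext d
  constructor
  · rintro ⟨hd, hc⟩
    obtain ⟨p, hp, rfl⟩ := exists_trN hd
    exact ⟨p, (fix_x_iff hL hp).1 ((apt_fix_iff _ hp).2
      (Subgroup.mem_centralizer_iff.1 hc L.x (Subgroup.mem_zpowers _))), rfl⟩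
  · rintro ⟨p, hp, rfl⟩
    refine ⟨trN_mem (fix_lt hL hp), Subgroup.mem_centralizer_iff.2 fun h hh => ?_⟩
    obtain ⟨j, rfl⟩ := Subgroup.mem_zpowers_iff.1 hh
    exact (((apt_fix_iff _ (fix_lt hL hp)).1 ((fix_x_iff hL (fix_lt hL hp)).2 hp)).zpow_left j).eq

theorem commute_K {g h : GG} (hg : ∀ f ∈ L.R.fixP, Commute g (trN f)) (hh : h ∈ L.K) : Commute g h := by
  induction hh using Subgroup.closure_induction with
  | mem d hd => obtain ⟨p, hp, rfl⟩ := hd; exact hg p hp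
  | one => exact Commute.one_right _
  | mul a b _ _ ha hb => exact ha.mul_right hb
  | inv a _ ha => exact ha.inv_right

theorem F_commute {g h : GG} (hg : g ∈ L.F) (hh : h ∈ L.K) : g * h = h * g := by
  have hx : ∀ f ∈ L.R.fixP, Commute L.x (trN f) := fun f hf =>
    (apt_fix_iff _ (fix_lt hL hf)).1 (Rigid.apt_x_fix hL.rigid hf)
  have hy : ∀ f ∈ L.R.fixP, Commute L.y (trN f) := fun f hf => by
    refine (apt_fix_iff _ (fix_lt hL hf)).1 ?_
    rw [y, apt_el (loc' hL).2.1 (fix_lt hL hf)]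
    exact (loc' hL).2.2.1 f hf
  obtain ⟨a, b, rfl⟩ := (mem_F hL).1 hg
  exact (((commute_K hL hx hh).pow_left a).mul_left ((commute_K hL hy hh).pow_left b)).eq

theorem F_inf_K : L.F ⊓ L.K = ⊥ := by
  rw [eq_bot_iff]
  rintro g ⟨hg, hk⟩
  obtain ⟨he, -, -, -, -, -, hord, -⟩ := loc' hL
  obtain ⟨a, b, rfl⟩ := (mem_F hL).1 hg
  have hc : Commute (L.x ^ a * L.y ^ b) L.x := (F_commute hL (x_mem_F hL) hk).symm
  rw [y_pow_of_comm hL hc, mul_one] at hk ⊢
  have h2 : L.y * L.x ^ a = L.x ^ a * L.y := F_commute hL (Subgroup.subset_closure (Or.inr rfl)) hk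
  have h3 := y_pow_mul hL 1 a
  rw [pow_one, pow_one, h2, mul_left_inj, pow_eq_pow_iff_modEq, orderOf_x hL] at h3
  rw [Subgroup.mem_bot, ← orderOf_dvd_iff_pow_eq_one, orderOf_x hL]
  by_contra hna
  refine hord 1 he one_ne_zero ?_
  rw [pow_one]
  have h4 : 1 ≡ L.k0 [MOD L.R.m] := Nat.ModEq.cancel_left_of_coprime (c := a)
    ((Nat.Prime.coprime_iff_not_dvd hL.prime).2 hna) (by rw [mul_one]; exact h3)
  rw [← (h4 : 1 % L.R.m = L.k0 % L.R.m), Nat.mod_eq_of_lt hL.prime.one_lt]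

theorem esW_mem {es : List ℕ} (h : ∀ i ∈ es, i < L.R.fixs.length) :
    wok (L.R.esW es) = true ∧ el (L.R.esW es) ∈ L.K := by
  induction es with
  | nil => exact ⟨rfl, L.K.one_mem⟩
  | cons a l ih =>
    obtain ⟨hw, hk⟩ := ih fun i hi => h i (List.mem_cons_of_mem _ hi)
    have ha := (Rigid.good_fix hL.rigid (h a List.mem_cons_self)).1
    rw [Rigid.esW, List.flatMap_cons]
    refine ⟨wok_append.2 ⟨ha.2.1, hw⟩, ?_⟩
    rw [el_append]
    refine L.K.mul_mem hk (Subgroup.subset_closure ⟨_, List.mem_map.2 ⟨_, ?_, rfl⟩, ha.2.2.symm⟩)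
    rw [Rigid.fixE, List.getD_eq_getElem _ _ (h a List.mem_cons_self)]
    exact List.getElem_mem _

/-- An element of the normaliser fixing the pinned cosets lies in the product. -/
theorem decompose_fix {g : GG} (hg : g ∈ Subgroup.normalizer ((Subgroup.zpowers L.x : Subgroup GG) : Set GG))
    (hch : ∀ i ∈ L.R.chI, apt g (pe (L.R.fixE i)) = pe (L.R.fixE i)) :
    ∃ f ∈ L.F, ∃ h ∈ L.K, g = f * h := by
  obtain ⟨j, hj⟩ := Subgroup.mem_zpowers_iff.1 ((Subgroup.mem_normalizer_iff.1 hg L.x).1 (Subgroup.mem_zpowers _))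
  have hfin : IsOfFinOrder L.x := by
    haveI := Fi23.order_facts.1
    exact isOfFinOrder_of_finite _
  obtain ⟨n, hn⟩ : ∃ n : ℕ, L.x ^ n = L.x ^ j := by
    obtain ⟨n, hn⟩ := (hfin.mem_powers_iff_mem_zpowers).2 ⟨j, rfl⟩
    exact ⟨n, hn⟩
  rw [← hn, ← pow_mod_orderOf, orderOf_x hL] at hj
  have hk0 : n % L.R.m ≠ 0 := by
    intro h0
    rw [h0, pow_zero] at hj
    exact x_ne_one hL (by
      calc L.x = g⁻¹ * (g * L.x * g⁻¹) * g := by group
        _ = 1 := by rw [← hj]; group)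
  obtain ⟨i, -, hi⟩ := (loc' hL).2.2.2.2.2.2.2.1 _ (Nat.mod_lt _ hL.prime.pos) hk0
  have hexp : L.y ^ i * g * L.x = L.x ^ (n % L.R.m * L.k0 ^ i % L.R.m) * (L.y ^ i * g) := by
    rw [← pow_eq_pow_mod _ (Rigid.x_pow_m hL.rigid)]
    calc L.y ^ i * g * L.x = L.y ^ i * (g * L.x * g⁻¹) * g := by group
      _ = L.y ^ i * L.x ^ (n % L.R.m) * g := by rw [hj]
      _ = _ := by rw [y_pow_mul hL, mul_assoc]
  have hfixy : ∀ c ∈ L.R.chI, apt (L.y ^ i * g) (pe (L.R.fixE c)) = pe (L.R.fixE c) := by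
    intro c hc
    have hlt := (Rigid.base' hL.rigid).2.2.2.2.2.1 c hc
    have hgood := (Rigid.good_fix hL.rigid hlt).1
    have hmem : pe (L.R.fixE c) ∈ L.R.fixP := List.mem_map.2 ⟨_, by
      rw [Rigid.fixE, List.getD_eq_getElem _ _ hlt]; exact List.getElem_mem _, rfl⟩
    have h1 : apt L.y (pe (L.R.fixE c)) = pe (L.R.fixE c) := by
      rw [y, apt_el (loc' hL).2.1 hgood.1]; exact (loc' hL).2.2.1 _ hmem
    rw [apt_mul, hch c hc]
    exact (apt_fix_iff _ hgood.1).2 (((apt_fix_iff _ hgood.1).1 h1).pow_left i)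
  obtain ⟨-, e, he, t, ht⟩ := Rigid.classify hL.rigid hi hexp hfixy
  have hes := (esW_mem hL ((loc' hL).2.2.2.2.2.2.2.2 e he)).2
  have hfF : (L.y ^ i)⁻¹ * L.x ^ t ∈ L.F :=
    L.F.mul_mem (L.F.inv_mem (L.F.pow_mem (Subgroup.subset_closure (Or.inr rfl)) i)) (L.F.pow_mem (x_mem_F hL) t)
  refine ⟨_, hfF, _, hes, ?_⟩
  rw [mul_assoc, ← ht]
  group

theorem conj_pow_mem (b : ℕ) {h : GG} (hh : h ∈ Subgroup.zpowers L.x) :
    L.y ^ b * h * (L.y ^ b)⁻¹ ∈ Subgroup.zpowers L.x := by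
  obtain ⟨n, rfl⟩ := Subgroup.mem_zpowers_iff.1 hh
  rw [← conj_zpow]
  refine Subgroup.zpow_mem _ ?_ n
  have h1 := y_pow_mul hL b 1
  rw [pow_one, one_mul] at h1
  rw [h1, mul_inv_cancel_right]
  exact Subgroup.pow_mem _ (Subgroup.mem_zpowers _) _

theorem F_sup_K (hdec : ∀ g ∈ Subgroup.normalizer ((Subgroup.zpowers L.x : Subgroup GG) : Set GG),
    ∃ f ∈ L.F, ∃ h ∈ L.K, g = f * h) : L.F ⊔ L.K = Subgroup.normalizer ((Subgroup.zpowers L.x : Subgroup GG) : Set GG) := by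
  refine le_antisymm (sup_le ?_ ?_) fun g hg => ?_
  · refine (Subgroup.closure_le _).2 ?_
    rintro g (rfl | rfl)
    · exact Subgroup.le_normalizer (Subgroup.mem_zpowers _)
    · rw [SetLike.mem_coe, Subgroup.mem_normalizer_iff]
      intro h
      refine ⟨fun hh => by simpa using conj_pow_mem hL 1 hh, fun hh => ?_⟩
      have h1 := conj_pow_mem hL (L.e - 1) hh
      have hy : L.y ^ (L.e - 1) * L.y = 1 := by
        rw [← pow_succ, Nat.sub_add_cancel (loc' hL).1.le]
        exact y_pow_e hL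
      rwa [eq_inv_of_mul_eq_one_left hy, show L.y⁻¹ * (L.y * h * L.y⁻¹) * L.y⁻¹⁻¹ = h by group] at h1
  · refine le_trans ?_ (Subgroup.centralizer_le_normalizer _)
    intro h hh
    rw [Subgroup.mem_centralizer_iff]
    intro z hz
    exact F_commute hL (X_le_F hL hz) hh
  · obtain ⟨f, hf, h, hh, rfl⟩ := hdec _ hg
    exact Subgroup.mul_mem_sup hf hh

theorem centralizer_eq (hdec : ∀ g ∈ Subgroup.normalizer ((Subgroup.zpowers L.x : Subgroup GG) : Set GG),
    ∃ f ∈ L.F, ∃ h ∈ L.K, g = f * h) : Subgroup.centralizer ((Subgroup.zpowers L.x : Subgroup GG) : Set GG) =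
    Subgroup.zpowers L.x ⊔ L.K := by
  refine le_antisymm (fun g hg => ?_) (sup_le ?_ ?_)
  · obtain ⟨f, hf, h, hh, rfl⟩ := hdec _ (Subgroup.centralizer_le_normalizer _ hg)
    refine Subgroup.mul_mem_sup ?_ hh
    rw [← F_inf_centralizer hL]
    refine ⟨hf, ?_⟩
    have hhC : h ∈ Subgroup.centralizer ((Subgroup.zpowers L.x : Subgroup GG) : Set GG) :=
      Subgroup.mem_centralizer_iff.2 fun z hz => F_commute hL (X_le_F hL hz) hh
    have := Subgroup.mul_mem _ hg (Subgroup.inv_mem _ hhC)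
    rwa [mul_inv_cancel_right] at this
  · exact le_of_eq (F_inf_centralizer hL).symm |>.trans inf_le_right
  · exact fun h hh => Subgroup.mem_centralizer_iff.2 fun z hz => F_commute hL (X_le_F hL hz) hh

end

variable (L)

/-- A candidate image of a pinned coset has the pattern of that coset. -/
noncomputable def patOK (i a : ℕ) : Bool :=
  let c := fun l => L.R.fixE (L.R.chI.getD l 0)
  allBelow (fun l => !(Nat.beq a (pe (c l))) &&
    decide (Nat.beq (act (tW (c l)) a) a = Nat.beq (act (tW (c l)) (pe (c i))) (pe (c i)))) i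

/-- A move back to a pinned coset. -/
noncomputable def moveOK (i a : ℕ) (es : List ℕ) : Bool :=
  (es.all fun j => Nat.blt j L.R.fixs.length) && (Nat.beq (act (L.R.esW es) a) (L.R.chP i) &&
    allBelow (fun l => Nat.beq (act (L.R.esW es) (L.R.chP l)) (L.R.chP l)) i)

/-- Every pattern admits a move. -/
noncomputable def movesOK (moves : List (List (List ℕ))) : Bool :=
  allBelow (fun i => (allBelow (fun l => !(Nat.beq (L.R.chP i) (L.R.chP l))) i) &&
    allBelow (fun j => !(L.patOK i (pe (L.R.fixE j))) ||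
      L.moveOK i (pe (L.R.fixE j)) ((moves.getD i []).getD j [])) L.R.fixs.length) L.R.chI.length

variable {L}

section

variable (hL : L.Valid) {moves : List (List (List ℕ))} (hM : L.movesOK moves = true)

include hL

theorem chP_good {l : ℕ} (hl : l < L.R.chI.length) :
    L.R.chI.getD l 0 < L.R.fixs.length ∧ L.R.chP l ∈ L.R.fixP := by
  have h : L.R.chI.getD l 0 < L.R.fixs.length := by
    rw [List.getD_eq_getElem _ _ hl]; exact (Rigid.base' hL.rigid).2.2.2.2.2.1 _ (List.getElem_mem hl)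
  refine ⟨h, List.mem_map.2 ⟨_, ?_, rfl⟩⟩
  rw [Rigid.fixE, List.getD_eq_getElem _ _ h]
  exact List.getElem_mem _

include hM

theorem exists_pinned {g : GG} (hg : g ∈ Subgroup.normalizer ((Subgroup.zpowers L.x : Subgroup GG) : Set GG)) :
    ∀ n, n ≤ L.R.chI.length → ∃ h ∈ L.K, ∀ l < n, apt (h * g) (L.R.chP l) = L.R.chP l := by
  intro n
  induction n with
  | zero => exact fun _ => ⟨1, L.K.one_mem, fun l hl => absurd hl (Nat.not_lt_zero l)⟩
  | succ n ih =>
    intro hn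
    obtain ⟨h, hh, hfix⟩ := ih (Nat.le_of_succ_le hn)
    have hck := allBelow_spec hM hn
    rw [Bool.and_eq_true] at hck
    have hp := fix_lt hL (chP_good hL hn).2
    set a := apt (h * g) (L.R.chP n) with ha
    have hafix : a ∈ L.R.fixP := by
      rw [← fix_x_iff hL (ha ▸ apt_lt _ hp), ha, ← apt_mul]
      have hcx : Commute L.x h := F_commute hL (x_mem_F hL) hh
      obtain ⟨j, hj⟩ := Subgroup.mem_zpowers_iff.1
        ((Subgroup.mem_normalizer_iff''.1 hg L.x).1 (Subgroup.mem_zpowers _))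
      rw [show L.x * (h * g) = h * g * (g⁻¹ * L.x * g) by rw [← mul_assoc, hcx.eq]; group, apt_mul]
      refine congrArg (apt _) ?_
      rw [apt_fix_iff _ hp, ← hj]
      exact ((apt_fix_iff _ hp).1 (Rigid.apt_x_fix hL.rigid (chP_good hL hn).2)).zpow_left j
    have hpat : L.patOK n a = true := by
      refine allBelow_of' fun l hl => ?_
      have hl' := lt_trans hl hn
      have hgd := (Rigid.good_fix hL.rigid (chP_good hL hl').1).1
      rw [Bool.and_eq_true, Bool.not_eq_true', decide_eq_true_eq]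
      refine ⟨?_, ?_⟩
      · rw [Bool.eq_false_iff, Ne, Nat.beq_eq, ha]
        intro he
        have h1 := allBelow_spec hck.1 hl
        rw [apt_injective _ (he.trans (hfix l hl).symm), Nat.beq_refl] at h1
        exact Bool.noConfusion h1
      · show Nat.beq (act (tW (L.R.fixE (L.R.chI.getD l 0))) a) a =
          Nat.beq (act (tW (L.R.fixE (L.R.chI.getD l 0))) (L.R.chP n)) (L.R.chP n)
        rw [show act (tW (L.R.fixE (L.R.chI.getD l 0))) a = _ from hgd.apt_eq (ha ▸ apt_lt _ hp),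
          show act (tW (L.R.fixE (L.R.chI.getD l 0))) (L.R.chP n) = _ from hgd.apt_eq hp, Bool.eq_iff_iff, Nat.beq_eq, Nat.beq_eq, ha]
        conv_lhs => rw [show (pe (L.R.fixE (L.R.chI.getD l 0)) : ℕ) = L.R.chP l from rfl, ← hfix l hl,
          ← apt_tapp _ (fix_lt hL (chP_good hL hl').2)]
        exact ⟨apt_injective _, congrArg _⟩
    obtain ⟨j, hj, hja⟩ := Rigid.fixP_mem hL.rigid hafix
    have hes := allBelow_spec hck.2 hj
    rw [hja, hpat, Bool.not_true, Bool.false_or] at hes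
    generalize (moves.getD n []).getD j [] = es at hes
    simp only [moveOK, Bool.and_eq_true, List.all_eq_true, Nat.blt_eq, Nat.beq_eq] at hes
    obtain ⟨hmem, hto, hkeep⟩ := hes
    obtain ⟨hw, hel⟩ := esW_mem hL hmem
    refine ⟨el (L.R.esW es) * h, L.K.mul_mem hel hh, fun l hl => ?_⟩
    rw [mul_assoc, apt_mul]
    rcases Nat.lt_succ_iff_lt_or_eq.1 hl with hl | rfl
    · rw [hfix l hl, apt_el hw (fix_lt hL (chP_good hL (lt_trans hl hn)).2)]
      exact Nat.eq_of_beq_eq_true (allBelow_spec hkeep hl)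
    · rw [← ha, apt_el hw (fix_lt hL hafix), hto]

theorem decompose {g : GG} (hg : g ∈ Subgroup.normalizer ((Subgroup.zpowers L.x : Subgroup GG) : Set GG)) :
    ∃ f ∈ L.F, ∃ h ∈ L.K, g = f * h := by
  obtain ⟨h, hh, hfix⟩ := exists_pinned hL hM hg _ le_rfl
  have hhN : h ∈ Subgroup.normalizer ((Subgroup.zpowers L.x : Subgroup GG) : Set GG) :=
    Subgroup.centralizer_le_normalizer _ (Subgroup.mem_centralizer_iff.2 fun z hz =>
      F_commute hL (X_le_F hL hz) hh)
  obtain ⟨f, hf, k, hk, e⟩ := decompose_fix hL (mul_mem hhN hg) fun i hi => by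
    obtain ⟨l, hl, rfl⟩ := List.getElem_of_mem hi
    have := hfix l hl
    rwa [Rigid.chP, List.getD_eq_getElem _ _ hl] at this
  refine ⟨f, hf, h⁻¹ * k, mul_mem (inv_mem hh) hk, ?_⟩
  calc g = h⁻¹ * (h * g) := by group
    _ = h⁻¹ * (f * k) := by rw [e]
    _ = f * (h⁻¹ * k) := by rw [← mul_assoc, ← mul_assoc, F_commute hL hf (inv_mem hh)]

end

end LocalCert

end Cfsg.Agent.Fi23Local
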